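import Mathlib

/-!
# Conjugacy to the `q`-th power in a rank one group of characteristic three

`G = R H ∪ R H w R` with `R` a 3-group, `H` abelian of exponent dividing `q - 1`: every
irreducible module in characteristic three is determined by the character of `H` on a vector fixed
by `R` and by whether the invariant functionals vanish on that vector, so it is isomorphic to its
Frobenius twist; hence `a ^ q` is conjugate to `a` as soon as the centraliser of `a ^ q` has order
prime to three (`notes/walter-fieldpart-h17.md`, section 3).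
-/

set_option autoImplicit false
set_option linter.unusedSectionVars false
set_option linter.style.haveILetI false

namespace Cfsg.Agent.Walter.Field.Curtis

open Subgroup

universe u

variable {G : Type u} [Group G] [Finite G]

/-- The decomposition data. -/
structure Bruhat (R H : Subgroup G) (w : G) (n : ℕ) : Prop where
  pgroup : IsPGroup 3 ↥R
  ne_bot : R ≠ ⊥
  norm : H ≤ normalizer (R : Set G)
  comm : ∀ a ∈ H, ∀ b ∈ H, Commute a b
  pow : ∀ h ∈ H, h ^ (3 ^ n - 1) = 1
  w_sq : w * w = 1
  w_inv : ∀ h ∈ H, w * h * w = h⁻¹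
  split : ∀ g : G, (∃ r ∈ R, ∃ h ∈ H, g = r * h) ∨ ∃ r ∈ R, ∃ h ∈ H, ∃ r' ∈ R, g = r * h * w * r'
  apart : ∀ r ∈ R, ∀ r' ∈ R, ∀ h ∈ H, w * r * w = r' * h → r = 1

variable {k : Type} [Field k] [CharP k 3]

section Fixed

variable {V : Type*} [AddCommGroup V] [Module k V]

/-- A 3-group fixes a nonzero vector in characteristic three. -/
theorem exists_fixed [Nontrivial V] (ρ : Representation k G V) {R : Subgroup G} (hR : IsPGroup 3 ↥R) :
    ∃ v : V, v ≠ 0 ∧ ∀ r ∈ R, ρ r v = v := by
  classical
  haveI : Fact (Nat.Prime 3) := ⟨Nat.prime_three⟩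
  obtain ⟨x, hx⟩ := exists_ne (0 : V)
  have h3 : ∀ y : V, (3 : ℕ) • y = 0 := fun y => by
    rw [← Nat.cast_smul_eq_nsmul k, CharP.cast_eq_zero, zero_smul]
  letI : Module (ZMod 3) V := AddCommGroup.zmodModule h3
  let W : Submodule (ZMod 3) V := Submodule.span (ZMod 3) (Set.range fun r : R => ρ (r : G) x)
  haveI : Module.Finite (ZMod 3) W := Module.Finite.iff_fg.2 (Submodule.fg_span (Set.finite_range _))
  haveI : Finite W := Module.finite_of_finite (ZMod 3)
  have hstab : ∀ (r : R), ∀ y ∈ W, ρ (r : G) y ∈ W := by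
    intro r y hy
    induction hy using Submodule.span_induction with
    | mem z hz =>
      obtain ⟨s, rfl⟩ := hz
      exact Submodule.subset_span ⟨r * s, by simp [map_mul]⟩
    | zero => rw [map_zero]; exact zero_mem _
    | add a b _ _ ha hb => rw [map_add]; exact add_mem ha hb
    | smul c a _ ha => rw [ZMod.map_smul]; exact W.smul_mem c ha
  let act : MulAction R W :=
    { smul := fun r y => ⟨ρ (r : G) y.1, hstab r y.1 y.2⟩
      one_smul := fun y => Subtype.ext (by show ρ ((1 : R) : G) y.1 = y.1; simp)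
      mul_smul := fun r s y => Subtype.ext (by
        show ρ ((r * s : R) : G) y.1 = ρ (r : G) (ρ (s : G) y.1); simp [map_mul]) }
  have hxW : x ∈ W := Submodule.subset_span ⟨1, by simp⟩
  have hdvd : 3 ∣ Nat.card W := by
    rw [Module.natCard_eq_pow_finrank (K := ZMod 3) (V := W), Nat.card_zmod]
    refine dvd_pow_self 3 fun h0 => hx ?_
    have := (Submodule.finrank_eq_zero.1 h0)
    rw [this, Submodule.mem_bot] at hxW
    exact hxW
  obtain ⟨b, hb, hne⟩ := hR.exists_fixed_point_of_prime_dvd_card_of_fixed_point W hdvd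
    (a := 0) (fun r => Subtype.ext (map_zero _))
  exact ⟨b.1, fun h => hne (Subtype.ext h.symm), fun r hr => congrArg Subtype.val (hb ⟨r, hr⟩)⟩

/-- A nonzero functional invariant under a 3-group. -/
theorem exists_invariant [FiniteDimensional k V] [Nontrivial V] (ρ : Representation k G V)
    {R : Subgroup G} (hR : IsPGroup 3 ↥R) :
    ∃ f : Module.Dual k V, f ≠ 0 ∧ ∀ r ∈ R, ∀ x, f (ρ r x) = f x := by
  obtain ⟨f, hf, hinv⟩ := exists_fixed ρ.dual hR
  refine ⟨f, hf, fun r hr x => ?_⟩
  have h := congrArg (fun φ => φ x) (hinv r⁻¹ (inv_mem hr))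
  simpa [Representation.dual_apply, Module.Dual.transpose_apply] using h

end Fixed

/-- No invariant subspace. -/
def Irr {V : Type*} [AddCommGroup V] [Module k V] (ρ : Representation k G V) : Prop :=
  ∀ W : Submodule k V, (∀ g, ∀ x ∈ W, ρ g x ∈ W) → W = ⊥ ∨ W = ⊤

variable {R H : Subgroup G} {w : G} {n : ℕ}

section Weight

variable {V : Type*} [AddCommGroup V] [Module k V]

/-- Every invariant functional vanishes on `v`. -/
def Killed (ρ : Representation k G V) (R : Subgroup G) (v : V) : Prop :=
  ∀ f : Module.Dual k V, (∀ r ∈ R, ∀ x, f (ρ r x) = f x) → f v = 0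

/-- A vector fixed by `R` with weight `μ` on `H`. -/
structure Weight (ρ : Representation k G V) (R H : Subgroup G) (μ : G → k) (v : V) : Prop where
  ne : v ≠ 0
  fixed : ∀ r ∈ R, ρ r v = v
  eigen : ∀ h ∈ H, ρ h v = μ h • v

open scoped Classical in
/-- The sum over `R w`. -/
noncomputable def opSum (ρ : Representation k G V) (R : Subgroup G) (w : G) : V →ₗ[k] V :=
  letI := Fintype.ofFinite ↥R
  ∑ r : R, ρ ((r : G) * w)

theorem exists_weight [IsAlgClosed k] [FiniteDimensional k V] [Nontrivial V] (ρ : Representation k G V)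
    (hB : Bruhat R H w n) :
    ∃ μ : G → k, ∃ v : V, Weight ρ R H μ v := by
  classical
  let F : Submodule k V :=
    { carrier := {v | ∀ r ∈ R, ρ r v = v}
      add_mem' := fun ha hb r hr => by rw [map_add, ha r hr, hb r hr]
      zero_mem' := fun r _ => map_zero _
      smul_mem' := fun c v hv r hr => by rw [map_smul, hv r hr] }
  let P : ℕ → Prop := fun d => ∃ W : Submodule k V, W ≤ F ∧ W ≠ ⊥ ∧ Module.finrank k W = d ∧
    ∀ h ∈ H, ∀ x ∈ W, ρ h x ∈ W
  have hex : ∃ d, P d := by
    obtain ⟨v, hv, hfix⟩ := exists_fixed ρ hB.pgroup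
    refine ⟨_, F, le_rfl, fun e => hv ((Submodule.eq_bot_iff _).1 e v hfix), rfl, fun h hh x hx r hr => ?_⟩
    have hm : h⁻¹ * r * h ∈ R := (mem_normalizer_iff''.1 (hB.norm hh) r).1 hr
    rw [← Module.End.mul_apply, ← map_mul, show r * h = h * (h⁻¹ * r * h) by group, map_mul,
      Module.End.mul_apply, hx _ hm]
  obtain ⟨W, hWF, hW0, hWd, hWH⟩ := Nat.find_spec hex
  haveI : Nontrivial W := Submodule.nontrivial_iff_ne_bot.2 hW0
  have hscal : ∀ h ∈ H, ∃ c : k, ∀ x ∈ W, ρ h x = c • x := by
    intro h hh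
    obtain ⟨c, hc⟩ := Module.End.exists_eigenvalue ((ρ h).restrict (hWH h hh) : Module.End k W)
    obtain ⟨y, hy, hy0⟩ := hc.exists_hasEigenvector
    refine ⟨c, ?_⟩
    let W' : Submodule k V := W ⊓ LinearMap.ker (ρ h - c • (LinearMap.id : V →ₗ[k] V))
    have hmem : ∀ x, x ∈ W' ↔ x ∈ W ∧ ρ h x = c • x := fun x => by
      simp [W', sub_eq_zero]
    have hyW : (y : V) ∈ W' := (hmem _).2 ⟨y.2,
      congrArg Subtype.val (Module.End.mem_eigenspace_iff.1 hy)⟩
    have hW' : W' = W := by
      by_contra hne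
      have hlt : Module.finrank k W' < Nat.find hex := hWd ▸
        Submodule.finrank_lt_finrank_of_lt (lt_of_le_of_ne inf_le_left hne)
      refine Nat.find_min hex hlt ⟨W', inf_le_left.trans hWF, fun e => hy0 ?_, rfl, ?_⟩
      · exact Subtype.ext ((Submodule.eq_bot_iff _).1 e _ hyW)
      · intro g hg x hx
        obtain ⟨h1, h2⟩ := (hmem x).1 hx
        refine (hmem _).2 ⟨hWH g hg x h1, ?_⟩
        rw [← Module.End.mul_apply, ← map_mul, (hB.comm h hh g hg).eq, map_mul, Module.End.mul_apply, h2,
          map_smul]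
    intro x hx
    exact ((hmem x).1 (hW'.symm ▸ hx)).2
  choose c hc using hscal
  obtain ⟨v, hv, hv0⟩ := (Submodule.ne_bot_iff _).1 hW0
  exact ⟨fun g => if hg : g ∈ H then c g hg else 0, v, hv0, hWF hv,
    fun h hh => by simp only [dif_pos hh]; exact hc h hh v hv⟩

theorem weight_pow (ρ : Representation k G V) (hB : Bruhat R H w n) {μ : G → k} {v : V}
    (hv : Weight ρ R H μ v) {h : G} (hh : h ∈ H) : μ h ^ (3 ^ n) = μ h := by
  have hpow : ∀ m : ℕ, ρ (h ^ m) v = μ h ^ m • v := by
    intro m
    induction m with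
    | zero => simp
    | succ i ih =>
      rw [pow_succ', map_mul, Module.End.mul_apply, ih, map_smul, hv.eigen h hh, smul_smul, ← pow_succ]
  have h1 := hpow (3 ^ n - 1)
  rw [hB.pow h hh, map_one, Module.End.one_apply] at h1
  have : μ h ^ (3 ^ n - 1) = 1 := by
    have h2 : (μ h ^ (3 ^ n - 1) - 1) • v = 0 := by rw [sub_smul, ← h1, one_smul, sub_self]
    exact sub_eq_zero.1 ((smul_eq_zero.1 h2).resolve_right hv.ne)
  calc μ h ^ 3 ^ n = μ h ^ (3 ^ n - 1) * μ h := by
        rw [← pow_succ, Nat.sub_add_cancel (Nat.one_le_pow _ _ (by norm_num))]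
    _ = μ h := by rw [this, one_mul]

/-- A weight vector which is killed, or annihilated by the sum over `R w`. -/
structure Good (ρ : Representation k G V) (R H : Subgroup G) (w : G) (μ : G → k) (v : V) : Prop
    extends Weight ρ R H μ v where
  good : Killed ρ R v ∨ opSum ρ R w v = 0

theorem exists_good [IsAlgClosed k] [FiniteDimensional k V] [Nontrivial V] (ρ : Representation k G V)
    (hB : Bruhat R H w n) : ∃ μ : G → k, ∃ v : V, Good ρ R H w μ v := by
  classical
  haveI : Fact (Nat.Prime 3) := ⟨Nat.prime_three⟩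
  letI := Fintype.ofFinite ↥R
  obtain ⟨μ, v, hv⟩ := exists_weight ρ hB
  by_cases hS : opSum ρ R w v = 0
  · exact ⟨μ, v, hv, Or.inr hS⟩
  have hS' : opSum ρ R w v = ∑ r : R, ρ ((r : G) * w) v := by
    simp only [opSum, LinearMap.sum_apply]
  have hinv : ∀ h ∈ H, h⁻¹ ∈ H := fun h hh => inv_mem hh
  refine ⟨fun h => μ h⁻¹, opSum ρ R w v, ⟨hS, fun s hs => ?_, fun h hh => ?_⟩, Or.inl ?_⟩
  · rw [hS', map_sum]
    refine Fintype.sum_equiv (Equiv.mulLeft ⟨s, hs⟩) _ _ fun r => ?_
    rw [← Module.End.mul_apply, ← map_mul, ← mul_assoc]; rfl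
  · rw [hS', map_sum, Finset.smul_sum]
    have hn : ∀ r : R, h * (r : G) * h⁻¹ ∈ R := fun r =>
      (mem_normalizer_iff.1 (hB.norm hh) r).1 r.2
    let e : R ≃ R :=
      { toFun := fun r => ⟨h * r * h⁻¹, hn r⟩
        invFun := fun r => ⟨h⁻¹ * r * h, (mem_normalizer_iff''.1 (hB.norm hh) r).1 r.2⟩
        left_inv := fun r => Subtype.ext (by simp [mul_assoc])
        right_inv := fun r => Subtype.ext (by simp [mul_assoc]) }
    refine Fintype.sum_equiv e _ _ fun r => ?_
    have hwh : h * w = w * h⁻¹ := by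
      rw [← hB.w_inv h hh, ← mul_assoc, ← mul_assoc, hB.w_sq, one_mul]
    have hval : (e r : G) = h * r * h⁻¹ := rfl
    rw [← map_smul, ← hv.eigen h⁻¹ (hinv h hh), hval]
    simp only [← Module.End.mul_apply, ← map_mul]
    congr 2
    simp only [mul_assoc]
    rw [← hwh, inv_mul_cancel_left]
  · intro f hf
    rw [hS', map_sum, Finset.sum_congr rfl fun (r : R) _ => show f (ρ ((r : G) * w) v) = f (ρ w v) by
      rw [map_mul, Module.End.mul_apply, hf r r.2], Finset.sum_const, Finset.card_univ,
      ← Nat.card_eq_fintype_card]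
    obtain ⟨m, hm⟩ := hB.pgroup.exists_card_eq
    have hm0 : m ≠ 0 := fun e => hB.ne_bot (Subgroup.card_eq_one.1 (by simpa [e] using hm))
    rw [hm, ← Nat.cast_smul_eq_nsmul k, Nat.cast_pow, CharP.cast_eq_zero, zero_pow hm0, zero_smul]

/-- The value of an invariant functional on `ρ w v`, when it is one on `v` and the sum vanishes. -/
theorem top_value (ρ : Representation k G V) (hB : Bruhat R H w n) (μ : G → k) :
    (∀ v : V, Weight ρ R H μ v → opSum ρ R w v = 0 → ∀ f : Module.Dual k V,
      (∀ r ∈ R, ∀ x, f (ρ r x) = f x) → f v = 1 →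
      1 + (∑ᶠ r : {r : R // r ≠ 1},
        Classical.epsilon (fun c : k => ∃ r₁ ∈ R, ∃ h ∈ H, ∃ r₂ ∈ R,
          w * (r.1 : G) * w = r₁ * h * w * r₂ ∧ c = μ h⁻¹)) * f (ρ w v) = 0) := by
  classical
  intro v hv hS f hf hf1
  letI := Fintype.ofFinite ↥R
  rw [finsum_eq_sum_of_fintype]
  have h0 : f (ρ w (opSum ρ R w v)) = 0 := by rw [hS, map_zero, map_zero]
  simp only [opSum, LinearMap.sum_apply, map_sum] at h0
  rw [Fintype.sum_eq_add_sum_subtype_ne _ (1 : R)] at h0
  refine Eq.trans ?_ h0
  congr 1
  · rw [← Module.End.mul_apply, ← map_mul, OneMemClass.coe_one, one_mul, hB.w_sq, map_one]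
    exact hf1.symm
  rw [Finset.sum_mul]
  refine Finset.sum_congr rfl fun r _ => ?_
  obtain ⟨r₁, h₁, h, hh, r₂, h₂, he⟩ : ∃ r₁ ∈ R, ∃ h ∈ H, ∃ r₂ ∈ R, w * (r.1 : G) * w = r₁ * h * w * r₂ := by
    rcases hB.split (w * (r.1 : G) * w) with ⟨a, ha, h, hh, e⟩ | h'
    · exact absurd (Subtype.ext (hB.apart _ r.1.2 a ha h hh e)) r.2
    · exact h'
  obtain ⟨a₁, ha₁, g, hg, a₂, ha₂, hd, hc⟩ := Classical.epsilon_spec
    (p := fun c : k => ∃ r₁ ∈ R, ∃ h ∈ H, ∃ r₂ ∈ R,
      w * (r.1 : G) * w = r₁ * h * w * r₂ ∧ c = μ h⁻¹) ⟨μ h⁻¹, r₁, h₁, h, hh, r₂, h₂, he, rfl⟩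
  rw [hc, ← Module.End.mul_apply, ← map_mul, ← mul_assoc, hd]
  have hgw : g * w = w * g⁻¹ := by
    rw [← hB.w_inv g hg, ← mul_assoc, ← mul_assoc, hB.w_sq, one_mul]
  simp only [map_mul, Module.End.mul_apply, hv.fixed a₂ ha₂, hf a₁ ha₁]
  rw [← Module.End.mul_apply, ← map_mul, hgw, map_mul, Module.End.mul_apply, hv.eigen g⁻¹ (inv_mem hg),
    map_smul, map_smul, smul_eq_mul]

end Weight

section Iso

variable {V V' : Type*} [AddCommGroup V] [Module k V] [AddCommGroup V'] [Module k V']
  [FiniteDimensional k V] [FiniteDimensional k V']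

/-- Irreducible modules with the same data have the same traces. -/
theorem trace_eq {ρ : Representation k G V} {ρ' : Representation k G V'} (hirr : Irr ρ) (hirr' : Irr ρ')
    (hB : Bruhat R H w n) {μ : G → k} {v : V} {v' : V'} (hv : Good ρ R H w μ v) (hv' : Good ρ' R H w μ v')
    (hk : Killed ρ R v ↔ Killed ρ' R v') (g : G) :
    LinearMap.trace k V (ρ g) = LinearMap.trace k V' (ρ' g) := by
  classical
  haveI : Nontrivial V := nontrivial_of_ne v 0 hv.ne
  haveI : Nontrivial V' := nontrivial_of_ne v' 0 hv'.ne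
  let σ : G → V × V' →ₗ[k] V × V' := fun g => (ρ g).prodMap (ρ' g)
  let U : Submodule k (V × V') := Submodule.span k (Set.range fun g => (ρ g v, ρ' g v'))
  have hU : ∀ g, ∀ x ∈ U, σ g x ∈ U := by
    intro g x hx
    induction hx using Submodule.span_induction with
    | mem z hz =>
      obtain ⟨a, rfl⟩ := hz
      exact Submodule.subset_span ⟨g * a, by simp [σ, map_mul]⟩
    | zero => rw [map_zero]; exact zero_mem _
    | add a b _ _ ha hb => rw [map_add]; exact add_mem ha hb
    | smul c a _ ha => rw [map_smul]; exact U.smul_mem c ha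
  have hvU : (v, v') ∈ U := Submodule.subset_span ⟨1, by simp⟩
  by_cases hfull : U = ⊤
  · exfalso
    -- two invariant functionals would map `U` into a line
    have key : ∀ f : Module.Dual k V, ∀ f' : Module.Dual k V', f ≠ 0 → f' ≠ 0 →
        (∀ r ∈ R, ∀ x, f (ρ r x) = f x) → (∀ r ∈ R, ∀ x, f' (ρ' r x) = f' x) →
        ∀ p q : k, (∃ c : k, f v = c * p ∧ f' v' = c * q) →
          (∃ c : k, f (ρ w v) = c * p ∧ f' (ρ' w v') = c * q) → False := by
      intro f f' hf0 hf0' hf hf' p q h1 h2
      have hline : ∀ x ∈ U, ∃ c : k, f x.1 = c * p ∧ f' x.2 = c * q := by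
        intro x hx
        induction hx using Submodule.span_induction with
        | mem z hz =>
          obtain ⟨a, rfl⟩ := hz
          show ∃ c : k, f (ρ a v) = c * p ∧ f' (ρ' a v') = c * q
          rcases hB.split a with ⟨r, hr, h, hh, rfl⟩ | ⟨r, hr, h, hh, r', hr', rfl⟩
          · obtain ⟨c, e1, e2⟩ := h1
            refine ⟨μ h * c, ?_, ?_⟩ <;>
              simp only [map_mul, Module.End.mul_apply, hf r hr, hf' r hr, hv.eigen h hh, hv'.eigen h hh,
                map_smul, smul_eq_mul, e1, e2, mul_assoc]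
          · obtain ⟨c, e1, e2⟩ := h2
            have hgw : h * w = w * h⁻¹ := by
              rw [← hB.w_inv h hh, ← mul_assoc, ← mul_assoc, hB.w_sq, one_mul]
            refine ⟨μ h⁻¹ * c, ?_, ?_⟩
            · rw [mul_assoc (r : G) h w, hgw]
              simp only [map_mul, Module.End.mul_apply, hf r hr, hv.fixed r' hr',
                hv.eigen _ (inv_mem hh), map_smul, smul_eq_mul, e1, mul_assoc]
            · rw [mul_assoc (r : G) h w, hgw]
              simp only [map_mul, Module.End.mul_apply, hf' r hr, hv'.fixed r' hr',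
                hv'.eigen _ (inv_mem hh), map_smul, smul_eq_mul, e2, mul_assoc]
        | zero => exact ⟨0, by simp, by simp⟩
        | add a b _ _ ha hb =>
          obtain ⟨c, e1, e2⟩ := ha
          obtain ⟨d, d1, d2⟩ := hb
          exact ⟨c + d, by simp [e1, d1, add_mul], by simp [e2, d2, add_mul]⟩
        | smul s a _ ha =>
          obtain ⟨c, e1, e2⟩ := ha
          exact ⟨s * c, by simp [e1, mul_assoc], by simp [e2, mul_assoc]⟩
      obtain ⟨a, ha⟩ := LinearMap.surjective hf0 1
      obtain ⟨b, hb⟩ := LinearMap.surjective hf0' 1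
      obtain ⟨c, c1, c2⟩ := hline (a, 0) (hfull ▸ Submodule.mem_top)
      obtain ⟨d, d1, d2⟩ := hline (0, b) (hfull ▸ Submodule.mem_top)
      rw [ha] at c1; rw [map_zero] at c2 d1; rw [hb] at d2
      rcases mul_eq_zero.1 c2.symm with e | e
      · rw [e, zero_mul] at c1; exact one_ne_zero c1
      · rw [e, mul_zero] at d2; exact one_ne_zero d2
    by_cases hkill : Killed ρ R v
    · obtain ⟨f, hf0, hf⟩ := exists_invariant ρ hB.pgroup
      obtain ⟨f', hf0', hf'⟩ := exists_invariant ρ' hB.pgroup
      exact key f f' hf0 hf0' hf hf' (f (ρ w v)) (f' (ρ' w v'))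
        ⟨0, by rw [hkill f hf, zero_mul], by rw [hk.1 hkill f' hf', zero_mul]⟩ ⟨1, by simp, by simp⟩
    · have hkill' : ¬ Killed ρ' R v' := fun h => hkill (hk.2 h)
      simp only [Killed, not_forall] at hkill hkill'
      obtain ⟨f, hf, hfv⟩ := hkill
      obtain ⟨f', hf', hfv'⟩ := hkill'
      have hS := hv.good.resolve_left fun h => hfv (h f hf)
      have hS' := hv'.good.resolve_left fun h => hfv' (h f' hf')
      have e1 := top_value ρ hB μ v hv.toWeight hS ((f v)⁻¹ • f)
        (fun r hr x => by simp [hf r hr x]) (by simp [hfv])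
      have e2 := top_value ρ' hB μ v' hv'.toWeight hS' ((f' v')⁻¹ • f')
        (fun r hr x => by simp [hf' r hr x]) (by simp [hfv'])
      refine key ((f v)⁻¹ • f) ((f' v')⁻¹ • f') ?_ ?_ (fun r hr x => by simp [hf r hr x])
        (fun r hr x => by simp [hf' r hr x]) 1 1 ⟨1, by simp [hfv], by simp [hfv']⟩
        ⟨((f v)⁻¹ • f) (ρ w v), by simp, ?_⟩
      · intro h; exact hfv (by simpa [hfv] using LinearMap.congr_fun h v)
      · intro h; exact hfv' (by simpa [hfv'] using LinearMap.congr_fun h v')
      · rw [mul_one]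
        have hne : ∀ s b : k, 1 + s * b = 0 → s ≠ 0 := fun s b h hs => by
          rw [hs, zero_mul, add_zero] at h; exact one_ne_zero h
        exact (mul_left_cancel₀ (hne _ _ e1) (add_left_cancel (e1.trans e2.symm))).symm
  · -- `U` is the graph of an isomorphism
    have h0 : ∀ x : V, (x, (0 : V')) ∈ U → x = 0 := by
      intro x hx
      let W : Submodule k V := U.comap (LinearMap.inl k V V')
      rcases hirr W (fun g y hy => by simpa [W, σ] using hU g (y, 0) hy) with e | e
      · exact (Submodule.eq_bot_iff _).1 e x hx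
      · exfalso
        have hl : ∀ y : V, (y, (0 : V')) ∈ U := fun y => by
          have : y ∈ W := e ▸ Submodule.mem_top
          exact this
        let W' : Submodule k V' := U.comap (LinearMap.inr k V V')
        rcases hirr' W' (fun g y hy => by simpa [W', σ] using hU g (0, y) hy) with e' | e'
        · refine hv'.ne ((Submodule.eq_bot_iff _).1 e' v' ?_)
          show ((0 : V), v') ∈ U
          simpa using U.sub_mem hvU (hl v)
        · refine hfull (Submodule.eq_top_iff'.2 fun z => ?_)
          have : ((0 : V), z.2) ∈ U := by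
            have : z.2 ∈ W' := e' ▸ Submodule.mem_top
            exact this
          simpa using U.add_mem (hl z.1) this
    have h0' : ∀ y : V', ((0 : V), y) ∈ U → y = 0 := by
      intro y hy
      let W' : Submodule k V' := U.comap (LinearMap.inr k V V')
      rcases hirr' W' (fun g z hz => by simpa [W', σ] using hU g (0, z) hz) with e | e
      · exact (Submodule.eq_bot_iff _).1 e y hy
      · exfalso
        refine hv.ne (h0 v ?_)
        have : v' ∈ W' := e ▸ Submodule.mem_top
        simpa using U.sub_mem hvU (show ((0 : V), v') ∈ U from this)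
    let p : U →ₗ[k] V := (LinearMap.fst k V V').comp U.subtype
    let p' : U →ₗ[k] V' := (LinearMap.snd k V V').comp U.subtype
    have hp : Function.Bijective p := by
      refine ⟨(injective_iff_map_eq_zero p).2 fun x hx => Subtype.ext (Prod.ext hx ?_), ?_⟩
      · refine h0' _ ?_
        have e : ((0 : V), x.1.2) = x.1 := Prod.ext hx.symm rfl
        rw [e]; exact x.2
      · refine LinearMap.range_eq_top.1 ((hirr (LinearMap.range p) ?_).resolve_left ?_)
        · rintro g _ ⟨x, rfl⟩; exact ⟨⟨_, hU g x.1 x.2⟩, rfl⟩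
        · exact fun e => hv.ne ((Submodule.eq_bot_iff _).1 e v ⟨⟨_, hvU⟩, rfl⟩)
    have hp' : Function.Bijective p' := by
      refine ⟨(injective_iff_map_eq_zero p').2 fun x hx => Subtype.ext (Prod.ext ?_ hx), ?_⟩
      · refine h0 _ ?_
        have e : (x.1.1, (0 : V')) = x.1 := Prod.ext rfl hx.symm
        rw [e]; exact x.2
      · refine LinearMap.range_eq_top.1 ((hirr' (LinearMap.range p') ?_).resolve_left ?_)
        · rintro g _ ⟨x, rfl⟩; exact ⟨⟨_, hU g x.1 x.2⟩, rfl⟩
        · exact fun e => hv'.ne ((Submodule.eq_bot_iff _).1 e v' ⟨⟨_, hvU⟩, rfl⟩)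
    let L : V ≃ₗ[k] V' := (LinearEquiv.ofBijective p hp).symm.trans (LinearEquiv.ofBijective p' hp')
    rw [← LinearMap.trace_conj' (ρ g) L]
    congr 1
    refine LinearMap.ext fun y => ?_
    obtain ⟨x, rfl⟩ := hp'.2 y
    have hL : ∀ z : U, L (p z) = p' z := fun z => by
      show LinearEquiv.ofBijective p' hp' ((LinearEquiv.ofBijective p hp).symm (p z)) = p' z
      rw [LinearEquiv.ofBijective_symm_apply_apply]; rfl
    rw [LinearEquiv.conj_apply, LinearMap.comp_apply, LinearMap.comp_apply, LinearEquiv.coe_coe,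
      LinearEquiv.coe_coe, show L.symm (p' x) = p x from L.symm_apply_eq.2 (hL x).symm]
    exact hL ⟨_, hU g x.1 x.2⟩

end Iso


section Twist

variable [IsAlgClosed k]

theorem trace_pow_three_pow {ι : Type} [Fintype ι] [DecidableEq ι] [Nonempty ι] (M : Matrix ι ι k) (j : ℕ) :
    Matrix.trace (M ^ 3 ^ j) = Matrix.trace M ^ 3 ^ j := by
  haveI : Fact (Nat.Prime 3) := ⟨Nat.prime_three⟩
  have one : ∀ N : Matrix ι ι k, Matrix.trace (N ^ 3) = Matrix.trace N ^ 3 := fun N => by
    have h : Polynomial.expand k 3 (N ^ 3).charpoly = N.charpoly ^ 3 := by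
      unfold Matrix.charpoly
      rw [AlgHom.map_det, ← Matrix.coe_detMonoidHom,
        ← (Matrix.detMonoidHom : Matrix ι ι (Polynomial k) →* Polynomial k).map_pow]
      apply congr_arg Matrix.det
      refine matPolyEquiv.injective ?_
      rw [map_pow, Matrix.matPolyEquiv_charmatrix, sub_pow_char_of_commute, ← Polynomial.C_pow]
      · exact (id (matPolyEquiv_eq_X_pow_sub_C 3 N) :)
      · exact (Polynomial.C N).commute_X
    rw [← Polynomial.map_frobenius_expand, Polynomial.map_expand] at h
    rw [Matrix.trace_eq_neg_charpoly_coeff, Matrix.trace_eq_neg_charpoly_coeff,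
      Polynomial.expand_injective (by norm_num) h, Polynomial.coeff_map, ← frobenius_def, map_neg]
  induction j with
  | zero => simp
  | succ i ih => rw [pow_succ, pow_mul, one, ih, ← pow_mul]

/-- In an irreducible module `a` and `a ^ q` have the same trace. -/
theorem trace_irr {V : Type*} [AddCommGroup V] [Module k V] [FiniteDimensional k V] [Nontrivial V]
    {ρ : Representation k G V} (hirr : Irr ρ) (hB : Bruhat R H w n) (a : G) :
    LinearMap.trace k V (ρ (a ^ 3 ^ n)) = LinearMap.trace k V (ρ a) := by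
  classical
  haveI : Fact (Nat.Prime 3) := ⟨Nat.prime_three⟩
  obtain ⟨μ, v, hv⟩ := exists_good ρ hB
  letI := Fintype.ofFinite ↥R
  let b := Module.finBasis k V
  haveI : Nonempty (Fin (Module.finrank k V)) := Fin.pos_iff_nonempty.1 Module.finrank_pos
  let s : k ≃+* k := iterateFrobeniusEquiv k 3 n
  have hs : ∀ x : k, s x = x ^ 3 ^ n := fun x => iterateFrobeniusEquiv_def k 3 n x
  -- semilinear change of coordinates
  let φ : V → V := fun x => b.equivFun.symm fun i => s (b.equivFun x i)
  let ψ : V → V := fun x => b.equivFun.symm fun i => s.symm (b.equivFun x i)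
  have hφψ : ∀ x, φ (ψ x) = x := fun x => b.equivFun.injective (funext fun i => by simp only [φ, ψ, LinearEquiv.apply_symm_apply, RingEquiv.apply_symm_apply, RingEquiv.symm_apply_apply])
  have hψφ : ∀ x, ψ (φ x) = x := fun x => b.equivFun.injective (funext fun i => by simp only [φ, ψ, LinearEquiv.apply_symm_apply, RingEquiv.apply_symm_apply, RingEquiv.symm_apply_apply])
  have φadd : ∀ x y, φ (x + y) = φ x + φ y := fun x y => b.equivFun.injective (funext fun i => by
    simp only [φ, LinearEquiv.apply_symm_apply, map_add, Pi.add_apply])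
  have φsmul : ∀ (c : k) x, φ (c • x) = s c • φ x := fun c x => b.equivFun.injective (funext fun i => by
    simp only [φ, LinearEquiv.apply_symm_apply, map_smul, Pi.smul_apply, smul_eq_mul, map_mul])
  have ψadd : ∀ x y, ψ (x + y) = ψ x + ψ y := fun x y => b.equivFun.injective (funext fun i => by
    simp only [ψ, LinearEquiv.apply_symm_apply, map_add, Pi.add_apply])
  have ψsmul : ∀ (c : k) x, ψ (c • x) = s.symm c • ψ x := fun c x => b.equivFun.injective (funext fun i => by
    simp only [ψ, LinearEquiv.apply_symm_apply, map_smul, Pi.smul_apply, smul_eq_mul, map_mul])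
  have φ0 : φ 0 = 0 := b.equivFun.injective (funext fun i => by simp only [φ, LinearEquiv.apply_symm_apply, map_zero, Pi.zero_apply])
  let ρ' : Representation k G V :=
    { toFun := fun g =>
        { toFun := fun x => φ (ρ g (ψ x))
          map_add' := fun x y => by rw [ψadd, map_add, φadd]
          map_smul' := fun c x => by
            rw [ψsmul, map_smul, φsmul, RingEquiv.apply_symm_apply, RingHom.id_apply] }
      map_one' := LinearMap.ext fun x => by simp [hφψ]
      map_mul' := fun g h => LinearMap.ext fun x => by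
        show φ (ρ (g * h) (ψ x)) = φ (ρ g (ψ (φ (ρ h (ψ x)))))
        rw [hψφ, map_mul, Module.End.mul_apply] }
  have hρ' : ∀ g x, ρ' g (φ x) = φ (ρ g x) := fun g x => by
    show φ (ρ g (ψ (φ x))) = _
    rw [hψφ]
  have hirr' : Irr ρ' := by
    intro W hW
    let W₀ : Submodule k V :=
      { carrier := {x | φ x ∈ W}
        add_mem' := fun {x y} hx hy => by
          show φ (x + y) ∈ W
          rw [φadd]; exact W.add_mem hx hy
        zero_mem' := by show φ 0 ∈ W; rw [φ0]; exact W.zero_mem
        smul_mem' := fun c x hx => by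
          show φ (c • x) ∈ W
          rw [φsmul]; exact W.smul_mem _ hx }
    rcases hirr W₀ (fun g x hx => by show φ (ρ g x) ∈ W; rw [← hρ']; exact hW g _ hx) with e | e
    · refine Or.inl ((Submodule.eq_bot_iff _).2 fun x hx => ?_)
      have h1 : ψ x ∈ W₀ := by show φ (ψ x) ∈ W; rw [hφψ]; exact hx
      rw [← hφψ x, (Submodule.eq_bot_iff _).1 e _ h1, φ0]
    · refine Or.inr (Submodule.eq_top_iff'.2 fun x => ?_)
      have h1 : ψ x ∈ W₀ := e ▸ Submodule.mem_top
      have h2 : φ (ψ x) ∈ W := h1
      rwa [hφψ] at h2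
  have hk : Killed ρ' R (φ v) ↔ Killed ρ R v := by
    constructor
    · intro h f hf
      let f' : Module.Dual k V :=
        { toFun := fun x => s (f (ψ x))
          map_add' := fun x y => by rw [ψadd, map_add, map_add]
          map_smul' := fun c x => by
            rw [ψsmul, map_smul, smul_eq_mul, map_mul, RingEquiv.apply_symm_apply, RingHom.id_apply,
              smul_eq_mul] }
      have h1 := h f' fun r hr x => by
        show s (f (ψ (φ (ρ r (ψ x))))) = s (f (ψ x))
        rw [hψφ, hf r hr]
      have h2 : s (f (ψ (φ v))) = 0 := h1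
      rw [hψφ] at h2
      exact s.map_eq_zero_iff.1 h2
    · intro h f hf
      let f' : Module.Dual k V :=
        { toFun := fun x => s.symm (f (φ x))
          map_add' := fun x y => by rw [φadd, map_add, map_add]
          map_smul' := fun c x => by
            rw [φsmul, map_smul, smul_eq_mul, map_mul, RingEquiv.symm_apply_apply, RingHom.id_apply,
              smul_eq_mul] }
      have h1 : s.symm (f (φ v)) = 0 := h f' fun r hr x => by
        show s.symm (f (φ (ρ r x))) = s.symm (f (φ x))
        rw [← hρ', hf r hr]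
      exact s.symm.map_eq_zero_iff.1 h1
  have hv' : Good ρ' R H w μ (φ v) := by
    refine ⟨⟨fun e => hv.ne ?_, fun r hr => by rw [hρ', hv.fixed r hr], fun h hh => ?_⟩, ?_⟩
    · have h0 := hψφ (0 : V)
      rw [φ0] at h0
      rw [← hψφ v, e, h0]
    · rw [hρ', hv.eigen h hh, φsmul, hs, weight_pow ρ hB hv.toWeight hh]
    · refine hv.good.imp hk.2 fun h => ?_
      simp only [opSum, LinearMap.sum_apply] at h ⊢
      simp only [hρ']
      let Φ : V →+ V := { toFun := φ, map_zero' := φ0, map_add' := φadd }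
      show ∑ x : R, Φ (ρ ((x : G) * w) v) = 0
      rw [← map_sum, h, map_zero]
  rw [trace_eq hirr hirr' hB hv hv' hk.symm a]
  have hA : ∀ g, LinearMap.toMatrix b b (ρ' g) = (LinearMap.toMatrix b b (ρ g)).map s := fun g => by
    ext i j
    rw [Matrix.map_apply, LinearMap.toMatrix_apply, LinearMap.toMatrix_apply]
    have hb : φ (b j) = b j := b.equivFun.injective (funext fun l => by
      simp only [φ, LinearEquiv.apply_symm_apply]
      by_cases hl : j = l
      · subst hl; simp [Module.Basis.equivFun_apply]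
      · simp [Module.Basis.equivFun_apply, hl])
    conv_lhs => rw [← hb, hρ']
    rw [← Module.Basis.equivFun_apply, ← Module.Basis.equivFun_apply]
    simp only [φ, LinearEquiv.apply_symm_apply]
  rw [LinearMap.trace_eq_matrix_trace k b (ρ' a), hA, LinearMap.trace_eq_matrix_trace k b,
    map_pow, ← LinearMap.toMatrix_pow, trace_pow_three_pow]
  simp only [Matrix.trace, Matrix.diag, Matrix.map_apply]
  rw [← map_sum, hs]

end Twist

section All

variable [IsAlgClosed k]

/-- The trace is additive along an invariant subspace. -/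
theorem trace_split {V : Type*} [AddCommGroup V] [Module k V] [FiniteDimensional k V]
    (W : Submodule k V) (f : V →ₗ[k] V) (hf : ∀ x ∈ W, f x ∈ W) :
    LinearMap.trace k V f = LinearMap.trace k W (f.restrict hf) +
      LinearMap.trace k (V ⧸ W) (W.mapQ W f hf) := by
  classical
  let bW := Module.finBasis k W
  let bQ := Module.finBasis k (V ⧸ W)
  let b := Module.Basis.sumQuot bW bQ
  rw [LinearMap.trace_eq_matrix_trace k b, LinearMap.trace_eq_matrix_trace k bW,
    LinearMap.trace_eq_matrix_trace k bQ]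
  simp only [Matrix.trace, Matrix.diag, Fintype.sum_sum_type, LinearMap.toMatrix_apply]
  congr 1
  · refine Finset.sum_congr rfl fun i _ => ?_
    rw [Module.Basis.sumQuot_inl, Module.Basis.sumQuot_repr_inl_of_mem _ _ _ (hf _ (bW i).2)]
    rfl
  · refine Finset.sum_congr rfl fun j _ => ?_
    rw [Module.Basis.sumQuot_repr_inr]
    congr 2
    show W.mkQ (f (b (Sum.inr j))) = W.mapQ W f hf (bQ j)
    rw [← Module.Basis.sumQuot_inr bW bQ j]
    rfl

/-- In every module, with a commuting operator. -/
theorem trace_all (hB : Bruhat R H w n) (a : G) : ∀ (d : ℕ) {V : Type u} [AddCommGroup V] [Module k V]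
    [FiniteDimensional k V] (ρ : Representation k G V) (f : V →ₗ[k] V), Module.finrank k V ≤ d →
      (∀ g x, f (ρ g x) = ρ g (f x)) →
      LinearMap.trace k V (ρ (a ^ 3 ^ n) ∘ₗ f) = LinearMap.trace k V (ρ a ∘ₗ f) := by
  intro d
  induction d with
  | zero =>
    intro V _ _ _ ρ f hd _
    haveI : Subsingleton V := Module.finrank_zero_iff.1 (Nat.le_zero.1 hd)
    congr 1; ext x; exact Subsingleton.elim _ _
  | succ d ih =>
    intro V _ _ _ ρ f hd hf
    rcases subsingleton_or_nontrivial V with h | h
    · congr 1; ext x; exact Subsingleton.elim _ _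
    by_cases hex : ∃ W : Submodule k V, W ≠ ⊥ ∧ W ≠ ⊤ ∧ (∀ g, ∀ x ∈ W, ρ g x ∈ W) ∧ ∀ x ∈ W, f x ∈ W
    · obtain ⟨W, h0, h1, hW, hWf⟩ := hex
      let ρW : Representation k G W :=
        { toFun := fun g => (ρ g).restrict (hW g)
          map_one' := LinearMap.ext fun x => Subtype.ext (by simp)
          map_mul' := fun g g' => LinearMap.ext fun x => Subtype.ext (by simp [map_mul]) }
      let ρQ : Representation k G (V ⧸ W) :=
        { toFun := fun g => W.mapQ W (ρ g) (hW g)
          map_one' := Submodule.linearMap_qext _ (LinearMap.ext fun x => by simp)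
          map_mul' := fun g g' => Submodule.linearMap_qext _ (LinearMap.ext fun x => by simp [map_mul]) }
      have hlt : Module.finrank k W < Module.finrank k V := Submodule.finrank_lt h1
      have hq : Module.finrank k (V ⧸ W) < Module.finrank k V := by
        have := W.finrank_quotient_add_finrank
        have : 0 < Module.finrank k W := Nat.pos_of_ne_zero fun e => h0 (Submodule.finrank_eq_zero.1 e)
        omega
      have e1 := ih ρW (f.restrict hWf) (by omega) fun g x => Subtype.ext (hf g x)
      have e2 := ih ρQ (W.mapQ W f hWf) (by omega) fun g x => by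
        obtain ⟨y, rfl⟩ := Submodule.Quotient.mk_surjective W x
        simp [ρQ, hf]
      have key : ∀ g, LinearMap.trace k V (ρ g ∘ₗ f) = LinearMap.trace k W (ρW g ∘ₗ f.restrict hWf) +
          LinearMap.trace k (V ⧸ W) (ρQ g ∘ₗ W.mapQ W f hWf) := fun g => by
        rw [trace_split W (ρ g ∘ₗ f) fun x hx => hW g _ (hWf x hx)]
        congr 2
        exact Submodule.linearMap_qext _ (LinearMap.ext fun x => rfl)
      rw [key, key, e1, e2]
    · push Not at hex
      obtain ⟨c, hc⟩ := Module.End.exists_eigenvalue (f : Module.End k V)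
      have hscal : ∀ x, f x = c • x := by
        obtain ⟨y, hy, hy0⟩ := hc.exists_hasEigenvector
        let E : Submodule k V := LinearMap.ker (f - c • (LinearMap.id : V →ₗ[k] V))
        have hE : ∀ x, x ∈ E ↔ f x = c • x := fun x => by simp [E, sub_eq_zero]
        have hEtop : E = ⊤ := by
          by_contra hne
          obtain ⟨x, hx, hx'⟩ := hex E
            (fun e => hy0 ((Submodule.eq_bot_iff _).1 e y ((hE y).2 (Module.End.mem_eigenspace_iff.1 hy))))
            hne fun g x hx => (hE _).2 (by rw [hf, (hE x).1 hx, map_smul])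
          exact hx' ((hE _).2 (by rw [(hE x).1 hx, map_smul, (hE x).1 hx]))
        exact fun x => (hE x).1 (hEtop ▸ Submodule.mem_top)
      have hirr : Irr ρ := fun W hW => by
        by_contra hne
        push Not at hne
        obtain ⟨x, hx, hx'⟩ := hex W hne.1 hne.2 hW
        exact hx' (by rw [hscal]; exact W.smul_mem c hx)
      have hcomp : ∀ g, LinearMap.trace k V (ρ g ∘ₗ f) = c * LinearMap.trace k V (ρ g) := fun g => by
        rw [show ρ g ∘ₗ f = c • ρ g from LinearMap.ext fun x => by simp [hscal], map_smul, smul_eq_mul]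
      rw [hcomp, hcomp, trace_irr hirr hB a]

end All

/-- **Conjugacy to the `q`-th power.** -/
theorem isConj_pow (hB : Bruhat R H w n) (a : G)
    (ha : ¬ 3 ∣ Nat.card (centralizer ({a ^ 3 ^ n} : Set G))) : IsConj a (a ^ 3 ^ n) := by
  classical
  haveI : Fact (Nat.Prime 3) := ⟨Nat.prime_three⟩
  letI := Fintype.ofFinite G
  let k := AlgebraicClosure (ZMod 3)
  haveI : CharP k 3 := charP_of_injective_algebraMap (algebraMap (ZMod 3) k).injective 3
  set c := a ^ 3 ^ n with hc
  let ρ : Representation k G (G → k) :=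
    { toFun := fun g => LinearMap.funLeft k k fun x => g⁻¹ * x
      map_one' := LinearMap.ext fun f => funext fun x => by simp [LinearMap.funLeft_apply]
      map_mul' := fun g g' => LinearMap.ext fun f => funext fun x => by
        simp [LinearMap.funLeft_apply, mul_assoc] }
  let f : (G → k) →ₗ[k] (G → k) := LinearMap.funLeft k k fun x => x * c
  have hf : ∀ g φ, f (ρ g φ) = ρ g (f φ) := fun g φ => funext fun x => by
    simp [f, ρ, LinearMap.funLeft_apply, mul_assoc]
  have htr : ∀ g, LinearMap.trace k (G → k) (ρ g ∘ₗ f) =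
      ((Finset.univ.filter fun x : G => g⁻¹ * x * c = x).card : k) := fun g => by
    rw [LinearMap.trace_eq_matrix_trace k (Pi.basisFun k G), Matrix.trace]
    simp only [Matrix.diag, LinearMap.toMatrix_apply, Pi.basisFun_repr, Pi.basisFun_apply,
      LinearMap.comp_apply]
    rw [← Finset.sum_boole]
    refine Finset.sum_congr rfl fun x _ => ?_
    simp [ρ, f, LinearMap.funLeft_apply, Pi.single_apply]
  have h := trace_all hB a _ ρ f le_rfl hf
  rw [htr, htr, ← hc] at h
  have hne : ((Finset.univ.filter fun x : G => c⁻¹ * x * c = x).card : k) ≠ 0 := by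
    rw [show (Finset.univ.filter fun x : G => c⁻¹ * x * c = x).card =
      Nat.card (centralizer ({c} : Set G)) from ?_, Ne, CharP.cast_eq_zero_iff k 3]
    · exact ha
    · rw [← Fintype.card_subtype, ← Nat.card_eq_fintype_card]
      refine Nat.card_congr (Equiv.subtypeEquivRight fun x => ?_)
      rw [mem_centralizer_singleton_iff, mul_assoc, inv_mul_eq_iff_eq_mul]
  have hex : (Finset.univ.filter fun x : G => a⁻¹ * x * c = x).Nonempty := by
    by_contra he
    rw [Finset.not_nonempty_iff_eq_empty.1 he, Finset.card_empty, Nat.cast_zero] at h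
    exact hne h
  obtain ⟨x, hx⟩ := hex
  have hx' : a⁻¹ * x * c = x := (Finset.mem_filter.1 hx).2
  refine isConj_iff.2 ⟨x⁻¹, ?_⟩
  rw [inv_inv]
  calc x⁻¹ * a * x = x⁻¹ * a * (a⁻¹ * x * c) := by rw [hx']
    _ = c := by group

end Cfsg.Agent.Walter.Field.Curtis
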