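import Cfsg.Agent.Lib.Walter.Field.Local
import Cfsg.Agent.Lib.Walter.Field.Curtis
import Cfsg.Agent.Lib.SEAbelian.ZJ
import Cfsg.Agent.Lib.Coprime.Basic

/-!
# The split `(B, N)`-pair of a simple group of Ree order

`G` has abelian Sylow 2-subgroups, `C(t) = C₂ × PSL₂(q)` with `q = 3 ^ n`, and order
`q³(q³ + 1)(q - 1)`: the normaliser of a Sylow 3-subgroup has index `q³ + 1` and a 3-subgroup
regular on the other cosets (`notes/walter-fieldpart-h17.md`, section 2).
-/

set_option autoImplicit false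
set_option linter.unusedSectionVars false
set_option linter.style.haveILetI false

namespace Cfsg.Agent.Walter.Field

open Subgroup

universe u v

variable {G : Type u} [Group G] [Finite G] {X : Type v} [Group X] [Finite X]

/-- The hypotheses. -/
structure ReeData (t : G) (φ : X →* G) (n : ℕ) (U H : Subgroup X) (w : X) : Prop where
  emb : Emb t φ
  simple : IsSimpleGroup X
  split : SplitFacts X n U H w
  odd_n : Odd n
  one_lt : 1 < n
  card_G : Nat.card G = (3 ^ n) ^ 3 * ((3 ^ n) ^ 3 + 1) * (3 ^ n - 1)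
  torus : ∀ v : X, orderOf v = 2 → Nat.card (centralizer ({v} : Set X)) = 3 ^ n + 1

variable {t : G} {φ : X →* G} {n : ℕ} {U H : Subgroup X} {w : X}

namespace ReeData

variable (D : ReeData t φ n U H w)
include D

theorem exists_half : ∃ s, 3 ^ n = 4 * s + 3 ∧ Nat.card H = 2 * s + 1 ∧ ¬ 3 ∣ 2 * s + 1 ∧
    0 < s := by
  obtain ⟨k, hk⟩ := D.odd_n
  have h4 : 3 ^ n % 4 = 3 := by
    rw [hk, pow_succ, pow_mul, Nat.mul_mod, Nat.pow_mod]; norm_num
  have h9 : 3 ^ 2 ≤ 3 ^ n := Nat.pow_le_pow_right (by norm_num) D.one_lt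
  have h3 : 3 ∣ 3 ^ n := dvd_pow_self 3 (by omega)
  have hH := D.split.H_card
  exact ⟨3 ^ n / 4, by omega, by omega, by omega, by omega⟩

theorem three_conj {x : X} (hx : x ^ 3 = 1) : ∃ c : X, c * x * c⁻¹ ∈ U := by
  haveI : Fact (Nat.Prime 3) := ⟨Nat.prime_three⟩
  obtain ⟨s, hs, -, h3, -⟩ := D.exists_half
  have hX : Nat.card X = 3 ^ n * ((2 * s + 1) * (4 * s + 4)) := by
    have h := D.split.card_X
    rw [hs, show 4 * s + 3 - 1 = 4 * s + 2 by omega] at h
    rw [hs]; linarith [show (4 * s + 3) * ((4 * s + 2) * (4 * s + 3 + 1)) =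
      2 * ((4 * s + 3) * ((2 * s + 1) * (4 * s + 4))) by ring]
  have hfac : (Nat.card X).factorization 3 = n := by
    have hne : ¬ 3 ∣ (2 * s + 1) * (4 * s + 4) := fun h => by
      rcases (Nat.Prime.dvd_mul Nat.prime_three).1 h with h | h
      · exact h3 h
      · have h3n : 3 ∣ 3 ^ n := dvd_pow_self 3 (by have := D.one_lt; omega)
        omega
    rw [hX, Nat.factorization_mul (by positivity) (by positivity), Finsupp.add_apply,
      Nat.factorization_eq_zero_of_not_dvd hne, Nat.Prime.factorization_pow Nat.prime_three]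
    simp
  let S : Sylow 3 X := Sylow.ofCard U (by rw [hfac, D.split.U_card])
  have hp : IsPGroup 3 (zpowers x) := by
    rcases (Nat.dvd_prime Nat.prime_three).1 (orderOf_dvd_of_pow_eq_one hx) with h | h
    · exact IsPGroup.of_card (n := 0) (by rw [Nat.card_zpowers, h, pow_zero])
    · exact IsPGroup.of_card (n := 1) (by rw [Nat.card_zpowers, h, pow_one])
  obtain ⟨P, hP⟩ := hp.exists_le_sylow
  obtain ⟨c, hc⟩ := MulAction.exists_smul_eq X P S
  refine ⟨c, ?_⟩
  have h1 : c * x * c⁻¹ ∈ ((c • P : Sylow 3 X) : Subgroup X) := ⟨x, hP (mem_zpowers x), rfl⟩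
  rw [hc] at h1
  exact h1

theorem odd_N {y : X} (hy : y ∈ normalizer (U : Set X)) : Odd (orderOf y) :=
  D.split.odd_normalizer.of_dvd_nat (orderOf_dvd_natCard _ hy)

theorem w_not_mem : w ∉ normalizer (U : Set X) := fun h => by
  have := D.odd_N h
  rw [D.split.w_ord] at this
  exact absurd this (by decide)

theorem w_sq : w * w = 1 := mul_self_of_two D.split.w_ord

theorem noReal : NoReal G 3 := by
  refine D.emb.noReal_of (fun s x hs hsx hx => ?_) ⟨1, rfl⟩
  by_contra h1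
  obtain ⟨c, hc⟩ := D.three_conj hx
  have hne : c * x * c⁻¹ ≠ 1 := fun h => h1 (conj_eq_one_iff.1 h)
  have hmem : c * s * c⁻¹ * (c * x * c⁻¹) * (c * s * c⁻¹)⁻¹ ∈ U := by
    rw [show c * s * c⁻¹ * (c * x * c⁻¹) * (c * s * c⁻¹)⁻¹ = c * (s * x * s⁻¹) * c⁻¹ by group, hsx,
      ← conj_inv]
    exact inv_mem hc
  have h2 := D.odd_N (D.split.U_ti _ hc hne _ hmem)
  rw [← MulAut.conj_apply, MulEquiv.orderOf_eq, hs] at h2
  exact absurd h2 (by decide)

theorem cent_H {h : X} (hh : h ∈ H) (h1 : h ≠ 1) {y : X} (hy : Commute y h) :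
    Odd (orderOf y) ∧ (y ^ 3 = 1 → y = 1) := by
  obtain ⟨s, hs, hH, h3, -⟩ := D.exists_half
  have hd : orderOf h ∣ 2 * s + 1 := hH ▸ orderOf_dvd_natCard H hh
  have hne : ∀ m, orderOf h ∣ m → Nat.Coprime (2 * s + 1) m → False := fun m hm hc =>
    h1 (orderOf_eq_one_iff.1 (Nat.eq_one_of_dvd_coprimes hc hd hm))
  refine ⟨?_, fun hy3 => ?_⟩
  · by_contra ho
    obtain ⟨m, hm⟩ := even_iff_two_dvd.1 (Nat.not_odd_iff_even.1 ho)
    have hm0 : 0 < m := by have := orderOf_pos y; omega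
    have hv : orderOf (y ^ m) = 2 := by
      rw [orderOf_pow' _ hm0.ne', hm, Nat.gcd_mul_left_left, Nat.mul_div_cancel _ hm0]
    refine hne (3 ^ n + 1) ?_ ?_
    · rw [← D.torus _ hv]
      exact orderOf_dvd_natCard _ (mem_centralizer_singleton_iff.2 (hy.symm.pow_right m).eq)
    · rw [hs, show 4 * s + 3 + 1 = 2 + (2 * s + 1) * 2 by ring, Nat.coprime_add_mul_left_right]
      exact Nat.coprime_two_right.2 ⟨s, rfl⟩
  · by_contra hy1
    obtain ⟨c, hc⟩ := D.three_conj hy3
    have hh' : c * h * c⁻¹ ∈ U := D.split.U_cent _ hc (fun e => hy1 (conj_eq_one_iff.1 e)) _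
      (hy.symm.map (MulAut.conj c).toMonoidHom)
    have hd' : orderOf h ∣ 3 ^ n := by
      rw [← D.split.U_card, ← MulEquiv.orderOf_eq (MulAut.conj c) h, MulAut.conj_apply]
      exact orderOf_dvd_natCard U hh'
    exact hne _ hd' ((Nat.prime_three.coprime_iff_not_dvd.2 h3).symm.pow_right n)

theorem three_cent_H {h : X} (hh : h ∈ H) (h1 : h ≠ 1) :
    ¬ 3 ∣ Nat.card (centralizer ({φ h} : Set G)) := by
  haveI : Fact (Nat.Prime 3) := ⟨Nat.prime_three⟩
  exact D.emb.not_dvd_centralizer (by norm_num) D.noReal (fun y hy => D.cent_H hh h1 hy)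
    D.split.w_ord (D.split.w_inv h hh)

/-- `⟨t⟩ × B`. -/
def borelT (_D : ReeData t φ n U H w) : Subgroup G :=
  (normalizer (U : Set X)).map φ ⊔ zpowers t

theorem card_borelT : ∃ s, 3 ^ n = 4 * s + 3 ∧
    Nat.card D.borelT = 3 ^ n * (2 * s + 1) * 2 := by
  obtain ⟨s, hs, hH, h3, -⟩ := D.exists_half
  refine ⟨s, hs, ?_⟩
  have hn : zpowers t ≤ normalizer (((normalizer (U : Set X)).map φ : Subgroup G) : Set G) :=
    zpowers_le.2 (EqualOrderConj.mem_normalizer_of_conj_mem (by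
      rintro _ ⟨x, hx, rfl⟩
      exact ⟨x, hx, by rw [← (D.emb.comm x).eq, mul_inv_cancel_right]⟩))
  have hN : Nat.card (normalizer (U : Set X)) = 3 ^ n * (2 * s + 1) := by
    let f : U × H → normalizer (U : Set X) := fun p =>
      ⟨(p.1 : X) * p.2, mul_mem (le_normalizer p.1.2) (D.split.H_norm p.2.2)⟩
    have hb : Function.Bijective f := by
      refine ⟨?_, fun g => ?_⟩
      · rintro ⟨a, b⟩ ⟨a', b'⟩ e
        have e' : (a : X) * b = a' * b' := congrArg Subtype.val e
        have e'' : ((a'⁻¹ * a : U) : X) = ((b' * b⁻¹ : H) : X) := by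
          push_cast
          rw [eq_mul_inv_iff_mul_eq, mul_assoc, e', inv_mul_cancel_left]
        have h1 : ((a'⁻¹ * a : U) : X) = 1 := by
          have d1 : orderOf ((a'⁻¹ * a : U) : X) ∣ 3 ^ n :=
            D.split.U_card ▸ orderOf_dvd_natCard U (a'⁻¹ * a).2
          have d2 : orderOf ((a'⁻¹ * a : U) : X) ∣ 2 * s + 1 :=
            hH ▸ orderOf_dvd_natCard H (e'' ▸ (b' * b⁻¹).2)
          exact orderOf_eq_one_iff.1 (Nat.eq_one_of_dvd_coprimes
            ((Nat.prime_three.coprime_iff_not_dvd.2 h3).pow_left n) d1 d2)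
        have ha : a' = a := inv_mul_eq_one.1 (Subtype.ext h1)
        subst ha
        exact Prod.ext rfl (Subtype.ext (mul_left_cancel e'))
      · obtain ⟨a, ha, b, hb, e⟩ := D.split.borel g g.2
        exact ⟨(⟨a, ha⟩, ⟨b, hb⟩), Subtype.ext e.symm⟩
    rw [← Nat.card_congr (Equiv.ofBijective f hb), Nat.card_prod, D.split.U_card, hH]
  rw [borelT, Coprime.card_sup_of_disjoint hn, card_map_of_injective D.emb.inj, hN, Nat.card_zpowers,
    D.emb.ht]
  refine disjoint_def.2 fun {g} h1 h2 => ?_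
  obtain ⟨x, -, rfl⟩ := h1
  obtain ⟨i, hi⟩ := h2
  rcases Int.even_or_odd i with ⟨j, rfl⟩ | ⟨j, rfl⟩
  · simp only at hi
    rw [← hi, ← two_mul, zpow_mul, zpow_two, mul_self_of_two D.emb.ht, one_zpow]
  · simp only at hi
    rw [zpow_add, zpow_mul, zpow_two, mul_self_of_two D.emb.ht, one_zpow, one_mul, zpow_one] at hi
    exact absurd hi.symm (D.emb.t_not x)

theorem phiU_pgroup : IsPGroup 3 (U.map φ) :=
  (IsPGroup.of_card D.split.U_card).map φ

theorem mem_borelT {x : X} (hx : x ∈ normalizer (U : Set X)) : φ x ∈ D.borelT :=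
  mem_sup_left (mem_map_of_mem _ hx)

theorem t_mem_borelT : t ∈ D.borelT := mem_sup_right (mem_zpowers t)

/-- The 3-subgroups normalised by `⟨t⟩ × B`. -/
def Fam (_D : ReeData t φ n U H w) (P : Subgroup G) : Prop :=
  IsPGroup 3 P ∧ P ≠ ⊥ ∧ (normalizer (U : Set X)).map φ ⊔ zpowers t ≤ normalizer (P : Set G)

theorem meet {P : Subgroup G} (hP : D.Fam P) {g : G} (hg : g ∈ normalizer (P : Set G))
    (hc : Commute g t) : g ∈ D.borelT := by
  haveI : Fact (Nat.Prime 3) := ⟨Nat.prime_three⟩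
  obtain ⟨hp, hne, hB⟩ := hP
  obtain ⟨x, hx⟩ := D.emb.split g hc
  have hxP : φ x ∈ normalizer (P : Set G) := by
    rcases hx with hx | hx
    · exact hx ▸ hg
    · have := mul_mem hg (inv_mem (hB (mem_sup_right (mem_zpowers t))))
      rwa [hx, mul_inv_cancel_right] at this
  by_cases hxN : x ∈ normalizer (U : Set X)
  · rcases hx with rfl | rfl
    exacts [D.mem_borelT hxN, mul_mem (D.mem_borelT hxN) D.t_mem_borelT]
  exfalso
  obtain ⟨a, ha, b, hb, e⟩ := (D.split.cover x).resolve_left hxN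
  have hwP : φ w ∈ normalizer (P : Set G) := by
    have h1 := mul_mem (mul_mem (inv_mem (hB (D.mem_borelT (le_normalizer ha)))) hxP)
      (inv_mem (hB (D.mem_borelT hb)))
    rw [← map_inv, ← map_inv, ← map_mul, ← map_mul, e] at h1
    simpa [mul_assoc] using h1
  have hall : ∀ y : X, φ y ∈ normalizer (P : Set G) := by
    intro y
    rcases D.split.cover y with h | ⟨a, ha, b, hb, e⟩
    · exact hB (D.mem_borelT h)
    · rw [e, map_mul, map_mul]
      exact mul_mem (mul_mem (hB (D.mem_borelT (le_normalizer ha))) hwP) (hB (D.mem_borelT hb))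
  haveI := D.simple
  have hn : (P.comap φ).Normal := ⟨fun y hy z => by
    show φ (z * y * z⁻¹) ∈ P
    rw [map_mul, map_mul, map_inv]
    exact (mem_normalizer_iff.1 (hall z) _).1 hy⟩
  rcases hn.eq_bot_or_eq_top with h0 | h0
  · refine hne (pgroup_eq_bot (by norm_num) D.noReal hp D.emb.ht
      (by rw [orderOf_injective φ D.emb.inj, D.split.w_ord]) (D.emb.comm w).symm
      (fun e => D.emb.t_not w e.symm) (hB (mem_sup_right (mem_zpowers t))) hwP fun z hz hzt => ?_)
    have ho : Odd (orderOf z) := by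
      obtain ⟨k, hk⟩ := hp ⟨z, hz⟩
      exact ((by decide : Odd 3).pow).of_dvd_nat (orderOf_dvd_of_pow_eq_one (congrArg Subtype.val hk))
    obtain ⟨y, hy⟩ := D.emb.mem_range hzt ho
    have : y ∈ P.comap φ := by rw [mem_comap, ← hy]; exact hz
    rw [h0, mem_bot] at this
    rw [hy, this, map_one]
  · have hwmem : φ w ∈ P := (h0.symm ▸ mem_top w : w ∈ P.comap φ)
    obtain ⟨k, hk⟩ := hp ⟨φ w, hwmem⟩
    have : orderOf (φ w) ∣ 3 ^ k := orderOf_dvd_of_pow_eq_one (congrArg Subtype.val hk)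
    rw [orderOf_injective φ D.emb.inj, D.split.w_ord] at this
    exact absurd (Nat.prime_two.dvd_of_dvd_pow this) (by norm_num)

/-- The odd part of the normaliser of a member of the family. -/
theorem exists_odd_part {P : Subgroup G} (hP : D.Fam P) :
    ∃ W : Subgroup G, W ≤ normalizer (P : Set G) ∧ Odd (Nat.card W) ∧
      normalizer (P : Set G) ≤ normalizer (W : Set G) ∧
      Nat.card (normalizer (P : Set G)) = 2 * Nat.card W ∧
      (∀ g ∈ normalizer (P : Set G), Odd (orderOf g) → g ∈ W) := by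
  haveI : Fact (Nat.Prime 2) := ⟨Nat.prime_two⟩
  set M := normalizer (P : Set G) with hM
  have htM : t ∈ M := hP.2.2 (mem_sup_right (mem_zpowers t))
  have h2 : 2 ∣ Nat.card M := by
    have h := orderOf_dvd_natCard M htM
    rwa [D.emb.ht] at h
  have h4 : ¬ 4 ∣ Nat.card M := by
    intro h4
    obtain ⟨Q, hQ⟩ := (IsPGroup.of_card (n := 1) (G := zpowers (⟨t, htM⟩ : M)) (by
      rw [Nat.card_zpowers, orderOf_mk, D.emb.ht, pow_one])).exists_le_sylow
    have h4Q : 4 ∣ Nat.card (Q : Subgroup M) := Q.pow_dvd_card_of_pow_dvd_card (n := 2) h4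
    have hle : (Q : Subgroup M).map M.subtype ≤ D.borelT := by
      rintro _ ⟨y, hy, rfl⟩
      exact D.meet hP y.2 (D.emb.two _ (Q.2.map M.subtype) y ⟨y, hy, rfl⟩ t
        ⟨_, hQ (mem_zpowers _), rfl⟩)
    have h := card_dvd_of_le hle
    rw [card_subtype] at h
    obtain ⟨s, hs, hc⟩ := D.card_borelT
    rw [hc, hs] at h
    obtain ⟨c, hc'⟩ := h4Q.trans h
    have : ((4 * s + 3) * (2 * s + 1) * 2) % 4 = 0 := by omega
    have : ((4 * s + 3) * (2 * s + 1)) % 2 = 1 := by
      rw [Nat.mul_mod]; simp [Nat.add_mod, Nat.mul_mod]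
    omega
  obtain ⟨W, hWn, hWodd, hWc, hWmem⟩ := exists_odd_index_two h2 h4
  refine ⟨W.map M.subtype, map_subtype_le W, (card_subtype M W).symm ▸ hWodd, fun g hg => ?_,
    by rw [card_subtype]; exact hWc, fun g hg ho => ?_⟩
  · refine EqualOrderConj.mem_normalizer_of_conj_mem ?_
    rintro _ ⟨y, hy, rfl⟩
    exact ⟨⟨g, hg⟩ * y * (⟨g, hg⟩ : M)⁻¹, hWn.conj_mem y hy _, rfl⟩
  · exact ⟨⟨g, hg⟩, hWmem _ (by rwa [orderOf_mk]), rfl⟩

theorem factorization_card_G : (Nat.card G).factorization 3 = 3 * n := by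
  obtain ⟨s, hs, -, h3, -⟩ := D.exists_half
  have hne : ¬ 3 ∣ ((3 ^ n) ^ 3 + 1) * (3 ^ n - 1) := fun h => by
    have hd : 3 ∣ (3 ^ n) ^ 3 := dvd_pow (dvd_pow_self 3 (by have := D.one_lt; omega)) (by norm_num)
    rcases (Nat.Prime.dvd_mul Nat.prime_three).1 h with h | h
    · exact absurd ((Nat.dvd_add_right hd).1 h) (by norm_num)
    · omega
  rw [D.card_G, mul_assoc, Nat.factorization_mul (by positivity) (by intro e; exact hne (by rw [e]; exact dvd_zero 3)),
    Finsupp.add_apply, Nat.factorization_eq_zero_of_not_dvd hne, ← pow_mul,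
    Nat.Prime.factorization_pow Nat.prime_three]
  simp [mul_comm]

theorem exists_member : ∃ P : Subgroup G, D.Fam P ∧
    3 ^ (3 * n) ∣ Nat.card (normalizer (P : Set G)) := by
  haveI : Fact (Nat.Prime 3) := ⟨Nat.prime_three⟩
  obtain ⟨s, hs, hH, h3, hs0⟩ := D.exists_half
  have hU : D.Fam (U.map φ) := by
    refine ⟨D.phiU_pgroup, fun e => ?_, sup_le ?_ ?_⟩
    · have h := card_map_of_injective (K := U) D.emb.inj
      rw [e, card_bot, D.split.U_card] at h
      omega
    · rintro _ ⟨x, hx, rfl⟩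
      refine EqualOrderConj.mem_normalizer_of_conj_mem ?_
      rintro _ ⟨y, hy, rfl⟩
      exact ⟨x * y * x⁻¹, (mem_normalizer_iff.1 hx y).1 hy, by simp⟩
    · refine zpowers_le.2 (EqualOrderConj.mem_normalizer_of_conj_mem ?_)
      rintro _ ⟨y, hy, rfl⟩
      exact ⟨y, hy, by rw [← (D.emb.comm y).eq, mul_inv_cancel_right]⟩
  obtain ⟨P, hP, hmax⟩ := Set.exists_max_image {P | D.Fam P}
    (fun P => (Nat.card (normalizer (P : Set G))).factorization 3) (Set.toFinite _) ⟨_, hU⟩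
  set M := normalizer (P : Set G) with hM
  obtain ⟨W, hWM, hWodd, hMW, hMc, hWmem⟩ := D.exists_odd_part hP
  have hBW : ∀ x ∈ normalizer (U : Set X), φ x ∈ W := fun x hx =>
    hWmem _ (hP.2.2 (D.mem_borelT hx)) (by rw [orderOf_injective φ D.emb.inj]; exact D.odd_N hx)
  have htM : t ∈ M := hP.2.2 (mem_sup_right (mem_zpowers t))
  have hsol : Group.IsSolvable W := S0205.result hWodd
  obtain ⟨R₀, hR₀⟩ := Coprime.exists_invariant_sylow 3 (zpowers_le.2 (hMW htM) : zpowers t ≤ _)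
    (by rw [Nat.card_zpowers, D.emb.ht]; exact Nat.coprime_two_left.2 hWodd) (Or.inr hsol)
  set R := (R₀ : Subgroup W).map W.subtype with hR
  have hRW : R ≤ W := map_subtype_le _
  have hRp : IsPGroup 3 R := R₀.2.map _
  have htR : t ∈ normalizer (R : Set G) := hR₀ (mem_zpowers t)
  have hRcard : Nat.card R = 3 ^ (Nat.card M).factorization 3 := by
    rw [hR, card_subtype, R₀.card_eq_multiplicity, hMc,
      Nat.factorization_mul two_ne_zero Nat.card_pos.ne', Finsupp.add_apply,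
      Nat.factorization_eq_zero_of_not_dvd (by norm_num : ¬ 3 ∣ 2), zero_add]
  have hUW : U.map φ ≤ W := fun g hg => by
    obtain ⟨x, hx, rfl⟩ := hg; exact hBW x (le_normalizer hx)
  have hR1 : R ≠ ⊥ := by
    intro e
    have h1 : 3 ∣ Nat.card W := by
      have h := card_dvd_of_le hUW
      rw [card_map_of_injective D.emb.inj, D.split.U_card] at h
      exact (dvd_pow_self 3 (by have := D.one_lt; omega)).trans h
    have h2 := R₀.dvd_card_of_dvd_card h1
    rw [← card_subtype W (R₀ : Subgroup W), ← hR, e, card_bot] at h2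
    exact absurd h2 (by norm_num)
  set Z := Cfsg.centerThompsonOf 3 R with hZ
  have hZR : Z ≤ R := SEAbelian.zj_le R
  have hsyl : SETwoClosed.IsSyl 3 R W := by
    refine ⟨hRW, hRp, fun Q hRQ hQW hQ => ?_⟩
    have h1 : Q.subgroupOf W = (R₀ : Subgroup W) := R₀.3
      (hQ.of_equiv (subgroupOfEquivOfLe hQW).symm) fun x hx => hRQ ⟨x, hx, rfl⟩
    rw [hR, ← h1, subgroupOf_map_subtype, inf_eq_left.2 hQW]
  have hab2 : PLocal.Quadratic.AbelianTwo G := fun T => ⟨⟨fun a b =>
    Subtype.ext (D.emb.two _ T.2 a a.2 b b.2)⟩⟩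
  set O := (Cfsg.pPrimeCore 3 W).map W.subtype with hO
  have hOcop : ¬ 3 ∣ Nat.card O := by
    rw [hO, card_subtype]; exact PLocal.Cores.not_dvd_card_pPrimeCore (by norm_num)
  have hOW : O ≤ W := map_subtype_le _
  have hWO : ∀ g ∈ normalizer (W : Set G), ∀ o ∈ O, g * o * g⁻¹ ∈ O := by
    rintro g hg _ ⟨o, ho, rfl⟩
    let e : W ≃* W :=
      { toFun := fun x => ⟨g * x * g⁻¹, (mem_normalizer_iff.1 hg x).1 x.2⟩
        invFun := fun x => ⟨g⁻¹ * x * g, (mem_normalizer_iff''.1 hg x).1 x.2⟩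
        left_inv := fun x => Subtype.ext (by simp [mul_assoc])
        right_inv := fun x => Subtype.ext (by simp [mul_assoc])
        map_mul' := fun x y => Subtype.ext (by simp [mul_assoc]) }
    refine ⟨e o, ?_, rfl⟩
    have := PLocal.Cores.map_pPrimeCore_equiv (p := 3) e
    rw [← this]
    exact ⟨o, ho, rfl⟩
  have hOt : ∀ o ∈ O, Commute o t → o = 1 := by
    intro o ho hot
    obtain ⟨x, hx⟩ := D.emb.mem_range hot (hWodd.of_dvd_nat (orderOf_dvd_natCard W (hOW ho)))
    have hxN : x ∈ normalizer (U : Set X) := by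
      obtain ⟨y, hy, z, hz, e⟩ := (Coprime.mem_sup_of_le_normalizer (show zpowers t ≤ _ from
        zpowers_le.2 (EqualOrderConj.mem_normalizer_of_conj_mem (by
          rintro _ ⟨y, hy, rfl⟩
          exact ⟨y, hy, by rw [← (D.emb.comm y).eq, mul_inv_cancel_right]⟩)))).1
        (D.meet hP (hWM (hOW ho)) hot : o ∈ (normalizer (U : Set X)).map φ ⊔ zpowers t)
      obtain ⟨y, hy', rfl⟩ := hy
      obtain ⟨i, rfl⟩ := hz
      rcases Int.even_or_odd i with ⟨j, rfl⟩ | ⟨j, rfl⟩
      · simp only [← two_mul, zpow_mul, zpow_two, mul_self_of_two D.emb.ht, one_zpow, mul_one] at e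
        rwa [D.emb.inj (e.trans hx)] at hy'
      · exfalso
        simp only [zpow_add, zpow_mul, zpow_two, mul_self_of_two D.emb.ht, one_zpow, one_mul,
          zpow_one] at e
        refine D.emb.t_not (y⁻¹ * x) ?_
        rw [map_mul, map_inv, ← hx, ← e, inv_mul_cancel_left]
    by_contra ho1
    have hcop : (Nat.card U).Coprime (Nat.card O) := by
      rw [D.split.U_card]; exact (Nat.prime_three.coprime_iff_not_dvd.2 hOcop).pow_left n
    have hne : U ≠ ⊥ := fun e => by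
      have := D.split.U_card
      rw [e, card_bot] at this
      omega
    obtain ⟨a, ha, ha1⟩ := U.bot_or_exists_ne_one.resolve_left hne
    have hz : a * x * a⁻¹ * x⁻¹ ∈ U := by
      rw [mul_assoc a x, mul_assoc a]
      exact mul_mem ha ((mem_normalizer_iff.1 hxN a⁻¹).1 (inv_mem ha))
    have hzO : φ (a * x * a⁻¹ * x⁻¹) ∈ O := by
      rw [map_mul, map_mul, map_mul, map_inv, map_inv, ← hx]
      exact mul_mem (hWO _ (le_normalizer (hUW (mem_map_of_mem _ ha))) o ho) (inv_mem ho)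
    have hone : a * x * a⁻¹ * x⁻¹ = 1 := orderOf_eq_one_iff.1 (Nat.eq_one_of_dvd_coprimes hcop
      (orderOf_dvd_natCard U hz) (by
        rw [← orderOf_injective φ D.emb.inj]; exact orderOf_dvd_natCard O hzO))
    have hxU : x ∈ U := D.split.U_cent a ha ha1 x (by
      have h := mul_inv_eq_one.1 hone
      exact (mul_inv_eq_iff_eq_mul.1 h).symm)
    refine ho1 (orderOf_eq_one_iff.1 (Nat.eq_one_of_dvd_coprimes hcop ?_ (orderOf_dvd_natCard O ho)))
    rw [hx, orderOf_injective φ D.emb.inj]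
    exact orderOf_dvd_natCard U hxU
  have htZ : t ∈ normalizer (Z : Set G) := SEAbelian.normalizer_le_zj R htR
  have hBZ : ∀ x ∈ normalizer (U : Set X), φ x ∈ normalizer (Z : Set G) := by
    intro x hx
    obtain ⟨o, ho, m, hm, hom⟩ := SEAbelian.zj_cover hab2 (by norm_num) hsol hsyl (hBW x hx)
    have hm' : t * m * t⁻¹ ∈ normalizer (Z : Set G) := mul_mem (mul_mem htZ hm.2) (inv_mem htZ)
    have hot : t * o * t⁻¹ = o⁻¹ := by
      let ψ : O →* O :=
        { toFun := fun y => ⟨t * y * t⁻¹, hWO t (hMW htM) y y.2⟩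
          map_one' := Subtype.ext (by simp)
          map_mul' := fun y z => Subtype.ext (by simp [mul_assoc]) }
      have hψ : MonoidHom.FixedPointFree ψ := fun y hy => Subtype.ext (hOt y y.2
        (mul_inv_eq_iff_eq_mul.1 (congrArg Subtype.val hy : t * (y : G) * t⁻¹ = y)).symm)
      exact congrArg Subtype.val (congrFun (MonoidHom.FixedPointFree.coe_eq_inv_of_involutive hψ
        (fun y => Subtype.ext (by
          show t * (t * (y : G) * t⁻¹) * t⁻¹ = y
          have ht2 := mul_self_of_two D.emb.ht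
          rw [inv_eq_of_mul_eq_one_right ht2, ← mul_assoc, ← mul_assoc, ht2, one_mul, mul_assoc, ht2,
            mul_one]))) ⟨o, ho⟩)
    have he : o⁻¹ * (t * m * t⁻¹) = o * m := by
      rw [← hot, conj_mul, hom, ← (D.emb.comm x).eq, mul_inv_cancel_right, ← hom]
      -- `t` fixes `φ x`
    have ho2 : o * o ∈ normalizer (Z : Set G) := by
      have : o * o = t * m * t⁻¹ * m⁻¹ := by
        calc o * o = o * (o * m) * m⁻¹ := by group
          _ = o * (o⁻¹ * (t * m * t⁻¹)) * m⁻¹ := by rw [he]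
          _ = t * m * t⁻¹ * m⁻¹ := by group
      rw [this]; exact mul_mem hm' (inv_mem hm.2)
    have ho1 : o ∈ normalizer (Z : Set G) := by
      obtain ⟨k, hk⟩ := hWodd.of_dvd_nat (orderOf_dvd_natCard W (hOW ho))
      have e : o = (o * o) ^ (k + 1) := by
        rw [← pow_two, ← pow_mul, show 2 * (k + 1) = orderOf o + 1 by omega, pow_succ, pow_orderOf_eq_one,
          one_mul]
      rw [e]; exact pow_mem ho2 _
    rw [← hom]; exact mul_mem ho1 hm.2
  have hZfam : D.Fam Z := by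
    refine ⟨hRp.to_le hZR, SEAbelian.zj_ne_bot hRp hR1, sup_le ?_ (zpowers_le.2 htZ)⟩
    rintro _ ⟨x, hx, rfl⟩
    exact hBZ x hx
  refine ⟨Z, hZfam, ?_⟩
  obtain ⟨S, hS⟩ := hRp.exists_le_sylow
  have hRN : R ≤ normalizer (Z : Set G) := le_normalizer.trans (SEAbelian.normalizer_le_zj R)
  by_cases hRS : R = (S : Subgroup G)
  · have h := card_dvd_of_le hRN
    rwa [hRS, S.card_eq_multiplicity, D.factorization_card_G] at h
  exfalso
  haveI := S.2.isNilpotent
  have hlt : R.subgroupOf S < ⊤ := lt_top_iff_ne_top.2 fun e =>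
    hRS (le_antisymm hS (subgroupOf_eq_top.1 e))
  have hgrow := Group.normalizerCondition_of_isNilpotent (G := (S : Subgroup G)) (R.subgroupOf S) hlt
  set Q := (normalizer ((R.subgroupOf S : Subgroup (S : Subgroup G)) : Set (S : Subgroup G))).map
    (S : Subgroup G).subtype with hQ
  have hQN : Q ≤ normalizer (Z : Set G) := by
    rintro _ ⟨y, hy, rfl⟩
    refine SEAbelian.normalizer_le_zj R (EqualOrderConj.mem_normalizer_of_conj_mem fun r hr => ?_)
    exact (mem_normalizer_iff.1 hy ⟨r, hS hr⟩).1 hr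
  obtain ⟨b, hb⟩ := ((S.2.to_subgroup (normalizer
    ((R.subgroupOf S : Subgroup (S : Subgroup G)) : Set (S : Subgroup G))))).exists_card_eq
  have hQc : Nat.card Q = 3 ^ b := by rw [hQ, card_subtype, hb]
  have hlt' : Nat.card R < Nat.card Q := by
    rw [hQc, ← hb, ← Nat.card_congr (subgroupOfEquivOfLe hS).toEquiv]
    exact lt_of_not_ge fun h => hgrow.ne (eq_of_le_of_card_ge hgrow.le h)
  have hd := card_dvd_of_le hQN
  rw [hQc] at hd hlt'
  have h1 := (Nat.Prime.pow_dvd_iff_le_factorization Nat.prime_three Nat.card_pos.ne').1 hd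
  have h2 := hmax Z hZfam
  rw [hRcard] at hlt'
  have h3' := (Nat.pow_lt_pow_iff_right (by norm_num : 1 < 3)).1 hlt'
  omega

/-- The `(B, N)`-pair. -/
theorem exists_bn : ∃ M R : Subgroup G, Nat.card M = (3 ^ n) ^ 3 * (3 ^ n - 1) ∧
    Curtis.Bruhat R (H.map φ ⊔ zpowers t) (φ w) n ∧
    ∀ a ∈ M, a ≠ 1 → (∃ k, a ^ 3 ^ k = 1) → centralizer ({a} : Set G) ≤ M := by
  haveI : Fact (Nat.Prime 3) := ⟨Nat.prime_three⟩
  obtain ⟨s, hs, hH, h3, hs0⟩ := D.exists_half
  obtain ⟨Z, hZ, hdvd⟩ := D.exists_member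
  set M := normalizer (Z : Set G) with hM
  obtain ⟨W, hWM, hWodd, hMW, hMc, hWmem⟩ := D.exists_odd_part hZ
  have htM : t ∈ M := hZ.2.2 (mem_sup_right (mem_zpowers t))
  have hw : orderOf (φ w) = 2 := by rw [orderOf_injective φ D.emb.inj, D.split.w_ord]
  have hw2 := mul_self_of_two hw
  have hwi : (φ w)⁻¹ = φ w := inv_eq_of_mul_eq_one_right hw2
  have hwt : φ w * t * φ w = t := by
    rw [(D.emb.comm w).eq, mul_assoc, hw2, mul_one]
  -- no 3-element in `M ∩ M^w`
  have hinter : ∀ g ∈ M, φ w * g * φ w ∈ M → (∃ k, g ^ 3 ^ k = 1) → g = 1 := by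
    intro g hg hgw hp
    obtain ⟨k, hk⟩ := hp
    let O := W ⊓ W.comap (MulAut.conj (φ w)).toMonoidHom
    have hmem : ∀ x, x ∈ O ↔ x ∈ W ∧ φ w * x * φ w ∈ W := fun x => by simp [O, mem_inf, hwi]
    have hog : Odd (orderOf g) :=
      ((by decide : Odd 3).pow).of_dvd_nat (orderOf_dvd_of_pow_eq_one hk)
    have hgO : g ∈ O := by
      refine (hmem g).2 ⟨hWmem g hg hog, hWmem _ hgw ?_⟩
      have e : φ w * g * φ w = MulAut.conj (φ w) g := by rw [MulAut.conj_apply, hwi]
      rwa [e, MulEquiv.orderOf_eq]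
    have hno : ¬ 3 ∣ Nat.card O := by
      refine not_dvd_of_four (by norm_num) D.noReal
        (hWodd.of_dvd_nat (card_dvd_of_le inf_le_left)) D.emb.ht hw (D.emb.comm w).symm
        (fun e => D.emb.t_not w e.symm) ?_ ?_ ?_
      · refine EqualOrderConj.mem_normalizer_of_conj_mem fun x hx => ?_
        obtain ⟨h1, h2⟩ := (hmem x).1 hx
        refine (hmem _).2 ⟨(mem_normalizer_iff.1 (hMW htM) x).1 h1, ?_⟩
        have e : φ w * (t * x * t⁻¹) * φ w = t * (φ w * x * φ w) * t⁻¹ := by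
          rw [← mul_assoc, ← mul_assoc, (D.emb.comm w).eq]
          simp only [mul_assoc]
          rw [((D.emb.comm w).inv_right).eq.symm]
        rw [e]; exact (mem_normalizer_iff.1 (hMW htM) _).1 h2
      · refine EqualOrderConj.mem_normalizer_of_conj_mem fun x hx => ?_
        obtain ⟨h1, h2⟩ := (hmem x).1 hx
        rw [hwi]
        refine (hmem _).2 ⟨h2, ?_⟩
        simpa [← mul_assoc, hw2, mul_assoc _ (φ w) (φ w)] using h1
      · intro x hx hxt hx3
        obtain ⟨h1, h2⟩ := (hmem x).1 hx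
        have ho : Odd (orderOf x) := hWodd.of_dvd_nat (orderOf_dvd_natCard W h1)
        obtain ⟨y, rfl⟩ := D.emb.mem_range hxt ho
        have hy3 : y ^ 3 = 1 := D.emb.inj (by rw [map_pow, map_one]; exact hx3)
        have hN : ∀ z : X, φ z ∈ M → z ^ 3 = 1 → z ∈ U := fun z hz hz3 => by
          have hmeet := D.meet hZ hz (D.emb.comm z)
          have hoz : orderOf (φ z) ∣ 3 := orderOf_dvd_of_pow_eq_one (by rw [← map_pow, hz3, map_one])
          obtain ⟨a, ha, b, hb, e⟩ := (Coprime.mem_sup_of_le_normalizer (show zpowers t ≤ _ from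
            zpowers_le.2 (EqualOrderConj.mem_normalizer_of_conj_mem (by
              rintro _ ⟨a, ha, rfl⟩
              exact ⟨a, ha, by rw [← (D.emb.comm a).eq, mul_inv_cancel_right]⟩)))).1
            (hmeet : φ z ∈ (normalizer (U : Set X)).map φ ⊔ zpowers t)
          obtain ⟨a, ha', rfl⟩ := ha
          obtain ⟨i, rfl⟩ := hb
          rcases Int.even_or_odd i with ⟨j, rfl⟩ | ⟨j, rfl⟩
          · simp only [← two_mul, zpow_mul, zpow_two, mul_self_of_two D.emb.ht, one_zpow, mul_one] at e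
            exact D.split.three_mem z ((D.emb.inj e) ▸ ha') hz3
          · exfalso
            simp only [zpow_add, zpow_mul, zpow_two, mul_self_of_two D.emb.ht, one_zpow, one_mul,
              zpow_one] at e
            refine D.emb.t_not (a⁻¹ * z) ?_
            rw [map_mul, map_inv, ← e, inv_mul_cancel_left]
        have hy : y ∈ U := hN y (hWM h1) hy3
        have hy' : w * y * w⁻¹ ∈ U := by
          refine hN _ ?_ (by rw [conj_pow, hy3, mul_one, mul_inv_cancel])
          rw [map_mul, map_mul, map_inv, hwi]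
          exact hWM h2
        by_contra h
        exact D.w_not_mem (D.split.U_ti y hy (fun e => h (by rw [e, map_one])) w hy')
    obtain ⟨j, -, hj⟩ := (Nat.dvd_prime_pow Nat.prime_three).1 (orderOf_dvd_of_pow_eq_one hk)
    refine orderOf_eq_one_iff.1 (Nat.eq_one_of_dvd_coprimes
      ((Nat.prime_three.coprime_iff_not_dvd.2 hno).pow_left j) (hj ▸ dvd_rfl)
      (orderOf_dvd_natCard O hgO))
  -- a Sylow 3-subgroup
  have hW3 : 3 ^ (3 * n) ∣ Nat.card W :=
    ((Nat.coprime_primes Nat.prime_three Nat.prime_two).2 (by norm_num)).pow_left _ |>.dvd_of_dvd_mul_left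
      (hMc ▸ hdvd)
  obtain ⟨R₀⟩ : Nonempty (Sylow 3 W) := inferInstance
  set R := (R₀ : Subgroup W).map W.subtype with hR
  have hRW : R ≤ W := map_subtype_le _
  have hRp : IsPGroup 3 R := R₀.2.map _
  obtain ⟨a, ha⟩ := hRp.exists_card_eq
  have hRc : Nat.card R = (3 ^ n) ^ 3 := by
    have h1 : 3 ^ (3 * n) ∣ Nat.card R := by
      rw [hR, card_subtype]; exact R₀.pow_dvd_card_of_pow_dvd_card hW3
    have h2 := (Nat.Prime.pow_dvd_iff_le_factorization Nat.prime_three Nat.card_pos.ne').1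
      (ha ▸ R.card_subgroup_dvd_card)
    rw [D.factorization_card_G] at h2
    rw [ha] at h1 ⊢
    have := (Nat.pow_dvd_pow_iff_le_right (by norm_num : 1 < 3)).1 h1
    rw [← pow_mul, show n * 3 = a by omega]
  have hR3 : ∀ r ∈ R, ∃ k, r ^ 3 ^ k = 1 := fun r hr => by
    obtain ⟨k, hk⟩ := hRp ⟨r, hr⟩
    exact ⟨k, congrArg Subtype.val hk⟩
  have hwM : φ w ∉ M := fun h => by
    obtain ⟨s', hs', hc⟩ := D.card_borelT
    have hmeet := D.meet hZ h (D.emb.comm w)
    obtain ⟨a, ha, b, hb, e⟩ := (Coprime.mem_sup_of_le_normalizer (show zpowers t ≤ _ from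
      zpowers_le.2 (EqualOrderConj.mem_normalizer_of_conj_mem (by
        rintro _ ⟨a, ha, rfl⟩
        exact ⟨a, ha, by rw [← (D.emb.comm a).eq, mul_inv_cancel_right]⟩)))).1
      (hmeet : φ w ∈ (normalizer (U : Set X)).map φ ⊔ zpowers t)
    obtain ⟨a, ha', rfl⟩ := ha
    obtain ⟨i, rfl⟩ := hb
    rcases Int.even_or_odd i with ⟨j, rfl⟩ | ⟨j, rfl⟩
    · simp only [← two_mul, zpow_mul, zpow_two, mul_self_of_two D.emb.ht, one_zpow, mul_one] at e
      exact D.w_not_mem ((D.emb.inj e) ▸ ha')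
    · simp only [zpow_add, zpow_mul, zpow_two, mul_self_of_two D.emb.ht, one_zpow, one_mul,
        zpow_one] at e
      refine D.emb.t_not (a⁻¹ * w) ?_
      rw [map_mul, map_inv, ← e, inv_mul_cancel_left]
  -- counting cosets
  let f : Option R → G ⧸ M := fun o => o.elim (QuotientGroup.mk 1)
    fun r => QuotientGroup.mk ((r : G) * φ w)
  have hf : Function.Injective f := by
    rintro (_ | r) (_ | r') h
    · rfl
    · exfalso
      have h' := QuotientGroup.eq.1 h
      rw [inv_one, one_mul] at h'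
      have := mul_mem (inv_mem (hWM (hRW r'.2))) h'
      rw [inv_mul_cancel_left] at this
      exact hwM this
    · exfalso
      have h' := inv_mem (QuotientGroup.eq.1 h)
      rw [mul_inv_rev, inv_inv, inv_one, one_mul] at h'
      have := mul_mem (inv_mem (hWM (hRW r.2))) h'
      rw [inv_mul_cancel_left] at this
      exact hwM this
    · have h' := QuotientGroup.eq.1 h
      have h1 := hinter _ (mul_mem (inv_mem (hWM (hRW r.2))) (hWM (hRW r'.2))) (by
        convert h' using 1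
        rw [mul_inv_rev, hwi]; group) (hR3 _ (mul_mem (inv_mem r.2) r'.2))
      exact congrArg some (Subtype.ext (inv_mul_eq_one.1 h1))
  have hBc : 3 ^ n * (3 ^ n - 1) ∣ Nat.card M := by
    obtain ⟨s', hs', hc⟩ := D.card_borelT
    rw [show 3 ^ n * (3 ^ n - 1) = Nat.card D.borelT by
      rw [hc, hs', show 4 * s' + 3 - 1 = (2 * s' + 1) * 2 by omega]; ring]
    exact card_dvd_of_le hZ.2.2
  have hMdvd : (3 ^ n) ^ 3 * (3 ^ n - 1) ∣ Nat.card M := by
    refine Nat.Coprime.mul_dvd_of_dvd_of_dvd ?_ (by rw [← pow_mul, mul_comm n 3]; exact hdvd)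
      ((dvd_mul_left _ _).trans hBc)
    rw [← pow_mul]
    exact (Nat.prime_three.coprime_iff_not_dvd.2 (by omega)).pow_left _
  have hidx : (3 ^ n) ^ 3 + 1 ≤ Nat.card (G ⧸ M) := by
    have := Nat.card_le_card_of_injective f hf
    rwa [Finite.card_option, hRc] at this
  have hprod : Nat.card (G ⧸ M) * Nat.card M = (3 ^ n) ^ 3 * (3 ^ n - 1) * ((3 ^ n) ^ 3 + 1) := by
    rw [← card_eq_card_quotient_mul_card_subgroup, D.card_G]; ring
  have hMcard : Nat.card M = (3 ^ n) ^ 3 * (3 ^ n - 1) := by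
    refine le_antisymm ?_ (Nat.le_of_dvd Nat.card_pos hMdvd)
    have h1 : ((3 ^ n) ^ 3 + 1) * Nat.card M ≤ ((3 ^ n) ^ 3 + 1) * ((3 ^ n) ^ 3 * (3 ^ n - 1)) := by
      rw [mul_comm ((3 ^ n) ^ 3 + 1) (_ * _), ← hprod]
      exact Nat.mul_le_mul_right _ hidx
    exact Nat.le_of_mul_le_mul_left h1 (by positivity)
  have hbij : Function.Bijective f := by
    refine (Nat.bijective_iff_injective_and_card f).2 ⟨hf, ?_⟩
    rw [Finite.card_option, hRc]
    rw [hMcard, mul_comm (Nat.card (G ⧸ M))] at hprod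
    exact (Nat.eq_of_mul_eq_mul_left (by
      have : 0 < (3 ^ n) ^ 3 * (3 ^ n - 1) := hMcard ▸ Nat.card_pos
      exact this) hprod).symm
  -- `R` is normal in `W`: count the conjugates of `H`
  have hBW : ∀ x ∈ normalizer (U : Set X), φ x ∈ W := fun x hx =>
    hWmem _ (hZ.2.2 (D.mem_borelT hx)) (by rw [orderOf_injective φ D.emb.inj]; exact D.odd_N hx)
  have hWcard : Nat.card W = (3 ^ n) ^ 3 * (2 * s + 1) := by
    have : (3 ^ n) ^ 3 * (3 ^ n - 1) = 2 * ((3 ^ n) ^ 3 * (2 * s + 1)) := by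
      rw [show 3 ^ n - 1 = 2 * (2 * s + 1) by omega]; ring
    rw [← hM] at hMc
    omega
  set H' := H.map φ with hH'
  have hH'W : H' ≤ W := fun g hg => by
    obtain ⟨x, hx, rfl⟩ := hg; exact hBW x (D.split.H_norm hx)
  have hH'c : Nat.card H' = 2 * s + 1 := by rw [hH', card_map_of_injective D.emb.inj, hH]
  have hH'comm : ∀ a ∈ H', ∀ b ∈ H', Commute a b := by
    rintro _ ⟨a, ha, rfl⟩ _ ⟨b, hb, rfl⟩
    exact (show Commute a b from D.split.H_comm a ha b hb).map φ
  have hcentW : ∀ h ∈ H', h ≠ 1 → ∀ g ∈ W, Commute g h → g ∈ H' := by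
    rintro _ ⟨x, hx, rfl⟩ hne g hg hc
    have hx1 : x ≠ 1 := fun e => hne (by rw [e, map_one])
    set C := W ⊓ centralizer ({φ x} : Set G) with hC
    have hle : H' ≤ C := fun y hy => mem_inf.2 ⟨hH'W hy, mem_centralizer_singleton_iff.2
      (hH'comm y hy _ (mem_map_of_mem _ hx)).eq⟩
    have hd : Nat.card C ∣ (3 ^ n) ^ 3 * (2 * s + 1) := hWcard ▸ card_dvd_of_le inf_le_left
    have h3C : ¬ 3 ∣ Nat.card C := fun h => D.three_cent_H hx hx1 (h.trans (card_dvd_of_le inf_le_right))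
    have hd' : Nat.card C ∣ 2 * s + 1 := by
      rw [← pow_mul] at hd
      exact ((Nat.prime_three.coprime_iff_not_dvd.2 h3C).symm.pow_right _).dvd_of_dvd_mul_left hd
    have := eq_of_le_of_card_ge hle (by rw [hH'c]; exact Nat.le_of_dvd (by omega) hd')
    exact this.symm ▸ mem_inf.2 ⟨hg, mem_centralizer_singleton_iff.2 hc.eq⟩
  have hti : ∀ h ∈ H', h ≠ 1 → ∀ g ∈ W, g * h * g⁻¹ ∈ H' → g ∈ H' := by
    intro h hh hne g hg hgh
    have hne' : g * h * g⁻¹ ≠ 1 := fun e => hne (conj_eq_one_iff.1 e)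
    have hnorm : g ∈ normalizer (H' : Set G) := by
      refine EqualOrderConj.mem_normalizer_of_conj_mem fun y hy => ?_
      exact hcentW _ hgh hne' _ (W.mul_mem (W.mul_mem hg (hH'W hy)) (W.inv_mem hg))
        ((hH'comm y hy h hh).map (MulAut.conj g).toMonoidHom)
    set N := W ⊓ normalizer (H' : Set G) with hN
    suffices h3N : ¬ 3 ∣ Nat.card N by
      have hle : H' ≤ N := le_inf hH'W le_normalizer
      have hd : Nat.card N ∣ (3 ^ n) ^ 3 * (2 * s + 1) := hWcard ▸ card_dvd_of_le inf_le_left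
      have hd' : Nat.card N ∣ 2 * s + 1 := by
        rw [← pow_mul] at hd
        exact ((Nat.prime_three.coprime_iff_not_dvd.2 h3N).symm.pow_right _).dvd_of_dvd_mul_left hd
      have := eq_of_le_of_card_ge hle (by rw [hH'c]; exact Nat.le_of_dvd (by omega) hd')
      exact this.symm ▸ mem_inf.2 ⟨hg, hnorm⟩
    intro hdvd3
    obtain ⟨⟨z, hzW, hzN⟩, hz⟩ := exists_prime_orderOf_dvd_card' (G := N) 3 hdvd3
    replace hz : orderOf z = 3 := (Subgroup.orderOf_coe _).trans hz
    have htH' : ∀ y ∈ H', Commute t y := by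
      rintro _ ⟨y, -, rfl⟩; exact (D.emb.comm y).symm
    have hk : z⁻¹ * (t * z * t⁻¹) ∈ H' := by
      refine hcentW h hh hne _
        (W.mul_mem (W.inv_mem hzW) ((mem_normalizer_iff.1 (hMW htM) z).1 hzW)) ?_
      have hzh : z * h * z⁻¹ ∈ H' := (mem_normalizer_iff.1 hzN h).1 hh
      have e1 : t * z * t⁻¹ * h * (t * z * t⁻¹)⁻¹ = z * h * z⁻¹ := by
        calc t * z * t⁻¹ * h * (t * z * t⁻¹)⁻¹ = t * (z * (t⁻¹ * h * t) * z⁻¹) * t⁻¹ := by group
          _ = t * (z * h * z⁻¹) * t⁻¹ := by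
            rw [((htH' h hh).inv_left).eq, mul_assoc h, inv_mul_cancel, mul_one]
          _ = z * h * z⁻¹ := by rw [(htH' _ hzh).eq, mul_inv_cancel_right]
      refine mul_inv_eq_iff_eq_mul.1 ?_
      calc z⁻¹ * (t * z * t⁻¹) * h * (z⁻¹ * (t * z * t⁻¹))⁻¹
          = z⁻¹ * (t * z * t⁻¹ * h * (t * z * t⁻¹)⁻¹) * z := by group
        _ = h := by rw [e1]; group
    set k := z⁻¹ * (t * z * t⁻¹) with hkdef
    have hk1 : k = 1 := by
      have hkk : k * k = 1 := by
        have e : t * k * t⁻¹ = k⁻¹ := by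
          have ht2 := mul_self_of_two D.emb.ht
          have hti' : t⁻¹ = t := inv_eq_of_mul_eq_one_right ht2
          calc t * k * t⁻¹ = (t * z * t⁻¹)⁻¹ * (t * t * z * (t⁻¹ * t⁻¹)) := by rw [hkdef]; group
            _ = k⁻¹ := by rw [hti', ht2, one_mul, mul_one, hkdef, hti']; group
        rw [(htH' k hk).eq, mul_inv_cancel_right] at e
        exact eq_inv_iff_mul_eq_one.1 e
      have hd : orderOf k ∣ Nat.gcd 2 (2 * s + 1) := Nat.dvd_gcd
        (orderOf_dvd_of_pow_eq_one (by rw [pow_two, hkk])) (hH'c ▸ orderOf_dvd_natCard H' hk)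
      rw [Nat.coprime_two_left.2 ⟨s, rfl⟩, Nat.dvd_one, orderOf_eq_one_iff] at hd
      exact hd
    have hzt : Commute z t := by
      have h' : t * z * t⁻¹ = z := (inv_mul_eq_one.1 (hkdef ▸ hk1)).symm
      exact (mul_inv_eq_iff_eq_mul.1 h').symm
    obtain ⟨x, hx⟩ := D.emb.mem_range hzt (by rw [hz]; decide)
    obtain ⟨y, hy, rfl⟩ := hh
    have hy1 : y ≠ 1 := fun e => hne (by rw [e, map_one])
    have hx3 : x ^ 3 = 1 := D.emb.inj (by
      rw [map_pow, ← hx, map_one, ← hz, pow_orderOf_eq_one])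
    have hyx : x * y * x⁻¹ ∈ H := by
      obtain ⟨b, hb, e⟩ := (mem_normalizer_iff.1 hzN (φ y)).1 (mem_map_of_mem _ hy)
      rw [hx, ← map_inv, ← map_mul, ← map_mul] at e
      exact D.emb.inj e ▸ hb
    have hxy : x * y * x⁻¹ * y⁻¹ = 1 := by
      -- the commutator lies in `U` and in `H`
      have hxN : x ∈ normalizer (U : Set X) := by
        have hm := D.meet hZ (hWM (hzW)) hzt
        rw [hx] at hm
        obtain ⟨a, ha, b, hb, e⟩ := (Coprime.mem_sup_of_le_normalizer (show zpowers t ≤ _ from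
          zpowers_le.2 (EqualOrderConj.mem_normalizer_of_conj_mem (by
            rintro _ ⟨a, ha, rfl⟩
            exact ⟨a, ha, by rw [← (D.emb.comm a).eq, mul_inv_cancel_right]⟩)))).1
          (hm : φ x ∈ (normalizer (U : Set X)).map φ ⊔ zpowers t)
        obtain ⟨a, ha', rfl⟩ := ha
        obtain ⟨i, rfl⟩ := hb
        rcases Int.even_or_odd i with ⟨j, rfl⟩ | ⟨j, rfl⟩
        · simp only [← two_mul, zpow_mul, zpow_two, mul_self_of_two D.emb.ht, one_zpow, mul_one] at e
          exact (D.emb.inj e) ▸ ha'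
        · exfalso
          simp only [zpow_add, zpow_mul, zpow_two, mul_self_of_two D.emb.ht, one_zpow, one_mul,
            zpow_one] at e
          refine D.emb.t_not (a⁻¹ * x) ?_
          rw [map_mul, map_inv, ← e, inv_mul_cancel_left]
      have hxU : x ∈ U := D.split.three_mem x hxN hx3
      have h1 : x * y * x⁻¹ * y⁻¹ ∈ U := by
        rw [mul_assoc x y, mul_assoc x]
        exact mul_mem hxU ((mem_normalizer_iff.1 (D.split.H_norm hy) x⁻¹).1 (inv_mem hxU))
      exact orderOf_eq_one_iff.1 (Nat.eq_one_of_dvd_coprimes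
        ((Nat.prime_three.coprime_iff_not_dvd.2 h3).pow_left n)
        (D.split.U_card ▸ orderOf_dvd_natCard U h1)
        (hH ▸ orderOf_dvd_natCard H (mul_mem hyx (inv_mem hy))))
    have := (D.cent_H hy hy1 (show Commute x y from
      mul_inv_eq_iff_eq_mul.1 (mul_inv_eq_one.1 hxy))).2 hx3
    rw [hx, this, map_one, orderOf_one] at hz
    exact absurd hz (by norm_num)
  have hRnorm : normalizer (R : Set G) ≥ W := by
    classical
    let T₃ : Set G := {g | g ∈ W ∧ ¬ ∃ a ∈ W, ∃ h ∈ H', h ≠ 1 ∧ g = a * h * a⁻¹}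
    have hsub : ∀ g ∈ W, (∃ k, g ^ 3 ^ k = 1) → g ∈ T₃ := by
      rintro g hg ⟨k, hk⟩
      refine ⟨hg, fun ⟨a, _, h, hh, hne, e⟩ => hne ?_⟩
      have d1 : orderOf h ∣ 3 ^ k := by
        rw [← MulEquiv.orderOf_eq (MulAut.conj a), MulAut.conj_apply, ← e]
        exact orderOf_dvd_of_pow_eq_one hk
      exact orderOf_eq_one_iff.1 (Nat.eq_one_of_dvd_coprimes
        ((Nat.prime_three.coprime_iff_not_dvd.2 h3).pow_left k) d1 (hH'c ▸ orderOf_dvd_natCard H' hh))
    let Q := W ⧸ H'.subgroupOf W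
    let g : Q × {h : H' // h ≠ 1} → {x : W // (x : G) ∉ T₃} := fun p =>
      ⟨⟨(p.1.out : G) * (p.2.1 : G) * (p.1.out : G)⁻¹,
          W.mul_mem (W.mul_mem p.1.out.2 (hH'W p.2.1.2)) (W.inv_mem p.1.out.2)⟩,
        fun hx => hx.2 ⟨_, p.1.out.2, _, p.2.1.2, fun e => p.2.2 (Subtype.ext e), rfl⟩⟩
    have hg : Function.Injective g := by
      rintro ⟨a, h⟩ ⟨b, k⟩ e
      have e' : (a.out : G) * (h.1 : G) * (a.out : G)⁻¹ = (b.out : G) * (k.1 : G) * (b.out : G)⁻¹ :=
        congrArg (fun z : {x : W // (x : G) ∉ T₃} => ((z : W) : G)) e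
      have e'' : ((b.out : G)⁻¹ * a.out) * (h.1 : G) * ((b.out : G)⁻¹ * a.out)⁻¹ = k.1 := by
        calc _ = (b.out : G)⁻¹ * ((a.out : G) * (h.1 : G) * (a.out : G)⁻¹) * b.out := by group
          _ = _ := by rw [e']; group
      have hm : (b.out : G)⁻¹ * a.out ∈ H' := hti _ h.1.2 (fun e => h.2 (Subtype.ext e)) _
        (W.mul_mem (W.inv_mem b.out.2) a.out.2) (e''.symm ▸ k.1.2)
      have hab : b = a := by
        rw [← QuotientGroup.out_eq' a, ← QuotientGroup.out_eq' b, QuotientGroup.eq]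
        exact hm
      subst hab
      refine Prod.ext rfl (Subtype.ext (Subtype.ext ?_))
      simpa using e'
    have hcardT : Nat.card {x : W // (x : G) ∈ T₃} ≤ (3 ^ n) ^ 3 := by
      have h1 := Nat.card_le_card_of_injective g hg
      rw [Nat.card_prod] at h1
      classical
      letI := Fintype.ofFinite ↥H'
      letI := Fintype.ofFinite ↥W
      have h2 : Nat.card {h : H' // h ≠ 1} = 2 * s := by
        rw [Nat.card_eq_fintype_card, Fintype.card_subtype_compl, Fintype.card_subtype_eq,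
          ← Nat.card_eq_fintype_card, hH'c]
        omega
      have h3' : Nat.card Q * (2 * s + 1) = (3 ^ n) ^ 3 * (2 * s + 1) := by
        rw [← hWcard, ← hH'c, ← Nat.card_congr (subgroupOfEquivOfLe hH'W).toEquiv]
        exact (card_eq_card_quotient_mul_card_subgroup _).symm
      have hQ : Nat.card Q = (3 ^ n) ^ 3 := Nat.eq_of_mul_eq_mul_right (by omega) h3'
      have h4 : Nat.card {x : W // (x : G) ∈ T₃} + Nat.card {x : W // (x : G) ∉ T₃} = Nat.card W := by
        rw [Nat.card_eq_fintype_card, Nat.card_eq_fintype_card, Fintype.card_subtype_compl,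
          Nat.card_eq_fintype_card]
        have := Fintype.card_subtype_le fun x : W => (x : G) ∈ T₃
        omega
      rw [hQ, h2] at h1
      rw [hWcard, mul_add, mul_one] at h4
      omega
    let e : R → {x : W // (x : G) ∈ T₃} := fun r => ⟨⟨r, hRW r.2⟩, hsub _ (hRW r.2) (hR3 r r.2)⟩
    have he : Function.Bijective e := by
      have hi : Function.Injective e := fun r r' h =>
        Subtype.ext (congrArg (fun z : {x : W // (x : G) ∈ T₃} => ((z : W) : G)) h)
      refine (Nat.bijective_iff_injective_and_card e).2 ⟨hi, ?_⟩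
      exact le_antisymm (Nat.card_le_card_of_injective e hi) (hRc.symm ▸ hcardT)
    intro a ha
    refine EqualOrderConj.mem_normalizer_of_conj_mem fun r hr => ?_
    obtain ⟨k, hk⟩ := hR3 r hr
    have hm : a * r * a⁻¹ ∈ W := W.mul_mem (W.mul_mem ha (hRW hr)) (W.inv_mem ha)
    obtain ⟨r', hr'⟩ := he.2 ⟨⟨_, hm⟩, hsub _ hm ⟨k, by rw [conj_pow, hk, mul_one, mul_inv_cancel]⟩⟩
    have : (r' : G) = a * r * a⁻¹ :=
      congrArg (fun z : {x : W // (x : G) ∈ T₃} => ((z : W) : G)) hr'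
    exact this ▸ r'.2
  set Hc := H.map φ ⊔ zpowers t with hHc
  have hHcM : Hc ≤ M := sup_le (hH'W.trans hWM) (zpowers_le.2 htM)
  have hHcomm : ∀ a ∈ Hc, ∀ b ∈ Hc, Commute a b := by
    have hn : zpowers t ≤ normalizer (H' : Set G) :=
      zpowers_le.2 (EqualOrderConj.mem_normalizer_of_conj_mem (by
        rintro _ ⟨y, hy, rfl⟩
        exact ⟨y, hy, by rw [← (D.emb.comm y).eq, mul_inv_cancel_right]⟩))
    intro a ha b hb
    obtain ⟨x, hx, _, ⟨i, rfl⟩, rfl⟩ := (Coprime.mem_sup_of_le_normalizer hn).1 ha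
    obtain ⟨y, hy, _, ⟨j, rfl⟩, rfl⟩ := (Coprime.mem_sup_of_le_normalizer hn).1 hb
    have htc : ∀ z ∈ H', Commute z t := by rintro _ ⟨z, -, rfl⟩; exact D.emb.comm z
    exact ((hH'comm x hx y hy).mul_right ((htc x hx).zpow_right j)).mul_left
      ((((htc y hy).symm).zpow_left i).mul_right (Commute.zpow_zpow (Commute.refl t) i j))
  have hHcc : Nat.card Hc = 3 ^ n - 1 := by
    have hn : zpowers t ≤ normalizer (H' : Set G) :=
      zpowers_le.2 (EqualOrderConj.mem_normalizer_of_conj_mem (by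
        rintro _ ⟨x, hx, rfl⟩
        exact ⟨x, hx, by rw [← (D.emb.comm x).eq, mul_inv_cancel_right]⟩))
    rw [hHc, Coprime.card_sup_of_coprime hn (by
      rw [hH'c, Nat.card_zpowers, D.emb.ht]; exact Nat.coprime_two_right.2 ⟨s, rfl⟩), hH'c,
      Nat.card_zpowers, D.emb.ht]
    omega
  have hMsplit : ∀ g ∈ M, ∃ r ∈ R, ∃ h ∈ Hc, g = r * h := by
    let f' : R × Hc → M := fun p => ⟨(p.1 : G) * p.2, mul_mem (hWM (hRW p.1.2)) (hHcM p.2.2)⟩
    have hb : Function.Bijective f' := by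
      refine (Nat.bijective_iff_injective_and_card f').2 ⟨?_, by rw [Nat.card_prod, hRc, hHcc, hMcard]⟩
      rintro ⟨a, b⟩ ⟨a', b'⟩ e
      have e' : (a : G) * b = a' * b' := congrArg Subtype.val e
      have e'' : ((a'⁻¹ * a : R) : G) = ((b' * b⁻¹ : Hc) : G) := by
        push_cast
        rw [eq_mul_inv_iff_mul_eq, mul_assoc, e', inv_mul_cancel_left]
      have hcop : (Nat.card R).Coprime (Nat.card Hc) := by
        rw [hRc, hHcc, ← pow_mul]
        exact (Nat.prime_three.coprime_iff_not_dvd.2 (by omega)).pow_left _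
      have ha : a' = a := inv_mul_eq_one.1 (Subtype.ext (orderOf_eq_one_iff.1
        (Nat.eq_one_of_dvd_coprimes hcop (orderOf_dvd_natCard R (a'⁻¹ * a).2)
          (e'' ▸ orderOf_dvd_natCard Hc (b' * b⁻¹).2))))
      subst ha
      exact Prod.ext rfl (Subtype.ext (mul_left_cancel e'))
    intro g hg
    obtain ⟨⟨a, b⟩, e⟩ := hb.2 ⟨g, hg⟩
    exact ⟨a, a.2, b, b.2, (congrArg Subtype.val e).symm⟩
  have hwinv : ∀ h ∈ Hc, φ w * h * φ w = h⁻¹ := by
    intro h hh
    rw [hHc] at hh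
    obtain ⟨a, ha, b, hb, rfl⟩ := (Coprime.mem_sup_of_le_normalizer (show zpowers t ≤ _ from
      zpowers_le.2 (EqualOrderConj.mem_normalizer_of_conj_mem (by
        rintro _ ⟨x, hx, rfl⟩
        exact ⟨x, hx, by rw [← (D.emb.comm x).eq, mul_inv_cancel_right]⟩)))).1 hh
    obtain ⟨x, hx, rfl⟩ := ha
    have h1 : φ w * φ x * φ w = (φ x)⁻¹ := by
      rw [← map_inv, ← D.split.w_inv x hx, map_mul, map_mul, map_inv, hwi]
    have hbt : Commute b (φ w) := by
      obtain ⟨i, rfl⟩ := hb; exact (D.emb.comm w).symm.zpow_left i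
    have hb2 : b⁻¹ = b := by
      obtain ⟨i, rfl⟩ := hb
      show (t ^ i)⁻¹ = t ^ i
      rw [← inv_zpow, inv_eq_of_mul_eq_one_right (mul_self_of_two D.emb.ht)]
    rw [mul_inv_rev, hb2, ← h1]
    have hxb : Commute b (φ x) := by
      obtain ⟨i, rfl⟩ := hb; exact (D.emb.comm x).symm.zpow_left i
    simp only [← mul_assoc]
    rw [hbt.eq, mul_assoc (φ w) b (φ x), hxb.eq, ← mul_assoc]
  refine ⟨M, R, hMcard, ⟨hRp, fun e => ?_, ?_, hHcomm, fun h hh => ?_, hw2, hwinv, fun g => ?_,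
    fun r hr r' hr' h hh e => ?_⟩, fun a haM ha1 hu3 g hg => ?_⟩
  · rw [e, card_bot] at hRc
    have h1 : 1 < (3 ^ n) ^ 3 := Nat.one_lt_pow (by norm_num) (by omega)
    omega
  · rw [hHc]
    refine sup_le (hH'W.trans hRnorm) (zpowers_le.2 (EqualOrderConj.mem_normalizer_of_conj_mem
      fun r hr => ?_))
    -- `t` permutes the 3-elements of `W`
    obtain ⟨r₁, h₁, h₂, hh₂, e⟩ := hMsplit _ (mul_mem (mul_mem htM (hWM (hRW hr))) (inv_mem htM))
    have hmW : t * r * t⁻¹ ∈ W := (mem_normalizer_iff.1 (hMW htM) r).1 (hRW hr)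
    obtain ⟨k, hk⟩ := hR3 r hr
    have hr₁W : r₁ ∈ W := hRW h₁
    have hh₂W : h₂ ∈ W := by
      have := W.mul_mem (W.inv_mem hr₁W) hmW
      rwa [e, inv_mul_cancel_left] at this
    -- in the quotient by `R` the 3-element is trivial
    haveI hn : (R.subgroupOf W).Normal := (normal_subgroupOf_iff_le_normalizer hRW).2 hRnorm
    have hnd : ¬ 3 ∣ Nat.card (W ⧸ R.subgroupOf W) := by
      intro h3'
      have hmul := card_eq_card_quotient_mul_card_subgroup (R.subgroupOf W)
      rw [Nat.card_congr (subgroupOfEquivOfLe hRW).toEquiv, hRc, hWcard, mul_comm] at hmul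
      exact h3 (Nat.eq_of_mul_eq_mul_right (by positivity) hmul ▸ h3')
    have hq : (QuotientGroup.mk' (R.subgroupOf W) ⟨_, hmW⟩) = 1 := by
      refine orderOf_eq_one_iff.1 (Nat.eq_one_of_dvd_coprimes
        ((Nat.prime_three.coprime_iff_not_dvd.2 hnd).pow_left k) ?_ (orderOf_dvd_natCard _))
      refine (orderOf_map_dvd _ _).trans (orderOf_dvd_of_pow_eq_one (Subtype.ext ?_))
      show (t * r * t⁻¹) ^ 3 ^ k = 1
      rw [conj_pow, hk, mul_one, mul_inv_cancel]
    have : (⟨_, hmW⟩ : W) ∈ R.subgroupOf W := (QuotientGroup.eq_one_iff _).1 hq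
    exact this
  · rw [← hHcc]
    exact orderOf_dvd_iff_pow_eq_one.1 (orderOf_dvd_natCard Hc hh)
  · obtain ⟨o, ho⟩ := hbij.2 (QuotientGroup.mk g)
    rcases o with _ | r
    · exact Or.inl (hMsplit g (by simpa using QuotientGroup.eq.1 ho))
    · obtain ⟨r₁, h₁, h₂, hh₂, e⟩ := hMsplit _ (inv_mem (QuotientGroup.eq.1 ho))
      refine Or.inr ⟨r, r.2, h₂, hh₂, r₁⁻¹, inv_mem h₁, ?_⟩
      have e1 : h₂ * φ w = φ w * h₂⁻¹ := by
        rw [← hwinv h₂ hh₂, ← mul_assoc, ← mul_assoc, hw2, one_mul]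
      have e2 : ((r : G) * φ w)⁻¹ * g = h₂⁻¹ * r₁⁻¹ := by rw [← mul_inv_rev, ← e, inv_inv]
      calc g = (r : G) * φ w * (((r : G) * φ w)⁻¹ * g) := by group
        _ = r * (φ w * h₂⁻¹) * r₁⁻¹ := by rw [e2]; group
        _ = r * h₂ * φ w * r₁⁻¹ := by rw [← e1, ← mul_assoc]
  · exact hinter r (hWM (hRW hr)) (e ▸ mul_mem (hWM (hRW hr')) (hHcM hh)) (hR3 r hr)
  · by_contra hgM
    obtain ⟨o, ho⟩ := hbij.2 (QuotientGroup.mk g)
    rcases o with _ | r
    · exact hgM (by simpa using QuotientGroup.eq.1 ho)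
    · have hm := QuotientGroup.eq.1 ho
      have hc : Commute g (a) := mem_centralizer_singleton_iff.1 hg
      have hrM : (r : G) ∈ M := hWM (hRW r.2)
      set y := (r : G)⁻¹ * a * r with hy
      set m := ((r : G) * φ w)⁻¹ * g with hmdef
      have hge : g = r * φ w * m := by rw [hmdef]; group
      have hyw : φ w * y * φ w = m * a * m⁻¹ := by
        calc φ w * y * φ w = (φ w) * (r : G)⁻¹ * (g * a * g⁻¹) * r * φ w := by
              rw [hc.eq, mul_inv_cancel_right, hy]; group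
          _ = φ w * φ w * (m * a * m⁻¹) * ((φ w)⁻¹ * φ w) := by rw [hge]; group
          _ = m * a * m⁻¹ := by rw [hw2, inv_mul_cancel, one_mul, mul_one]
      obtain ⟨k, hk⟩ := hu3
      have h1 := hinter y (mul_mem (mul_mem (inv_mem hrM) haM) hrM)
        (hyw ▸ mul_mem (mul_mem hm haM) (inv_mem hm)) ⟨k, by
          rw [hy, show (r : G)⁻¹ * a * r = (r : G)⁻¹ * a * ((r : G)⁻¹)⁻¹ by group, conj_pow, hk,
            mul_one, mul_inv_cancel]⟩
      refine ha1 ?_
      calc a = r * y * (r : G)⁻¹ := by rw [hy]; group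
        _ = 1 := by rw [h1, mul_one, mul_inv_cancel]

end ReeData

end Cfsg.Agent.Walter.Field
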