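import Cfsg.Agent.Lib.Walter.Field.TorusRee
import Cfsg.Agent.S0343
import Cfsg.Agent.S0253

/-!
# Every prime outside `C(t) = C₂ × PSL₂(q)` has a scalar

`TorusFact`: Ree order by `scalar`, and the order of the Janko group directly
(`notes/walter-fieldpart-h17.md`, section 4).
-/

set_option autoImplicit false
set_option linter.unusedSectionVars false
set_option linter.style.haveILetI false

namespace Cfsg.Agent.Walter.Field

open Subgroup

universe u v

theorem alt5_odd_cent : ∀ x : alternatingGroup (Fin 5), (x ^ 3 = 1 ∨ x ^ 5 = 1) → x ≠ 1 →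
    ∀ y : alternatingGroup (Fin 5), x * y = y * x → y * y = 1 → y = 1 := by
  decide +kernel

theorem alt5_odd_real : ∀ x : alternatingGroup (Fin 5), (x ^ 3 = 1 ∨ x ^ 5 = 1) →
    ∃ w : alternatingGroup (Fin 5), w * w = 1 ∧ w ≠ 1 ∧ w * x * w⁻¹ = x⁻¹ := by
  decide +kernel

theorem pow_eight {r : ℕ} (h : r = 7 ∨ r = 11 ∨ r = 19) :
    ∀ x : ZMod r, x ^ 8 = 1 → x = 1 ∨ x = -1 := by
  rcases h with rfl | rfl | rfl <;> decide

/-- A subgroup with the full `l`-part of the order meets every class of elements of order `l`. -/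
theorem exists_conj_mem {K : Type*} [Group K] [Finite K] (A : Subgroup K) {l m : ℕ} [Fact l.Prime]
    (hm : Nat.card K = Nat.card A * m) (hlm : ¬ l ∣ m) {y : K} (hy : orderOf y = l) :
    ∃ d : K, d * y * d⁻¹ ∈ A := by
  obtain ⟨P₀⟩ : Nonempty (Sylow l A) := inferInstance
  have hm0 : m ≠ 0 := fun h => hlm (h ▸ dvd_zero l)
  let P : Sylow l K := Sylow.ofCard ((P₀ : Subgroup A).map A.subtype) (by
    rw [card_subtype, P₀.card_eq_multiplicity, hm, Nat.factorization_mul Nat.card_pos.ne' hm0,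
      Finsupp.add_apply, Nat.factorization_eq_zero_of_not_dvd hlm, add_zero])
  obtain ⟨Q, hQ⟩ := (IsPGroup.of_card (n := 1) (G := zpowers y) (p := l) (by
    rw [Nat.card_zpowers, hy, pow_one])).exists_le_sylow
  obtain ⟨d, hd⟩ := MulAction.exists_smul_eq K Q P
  have h1 : d * y * d⁻¹ ∈ (P : Subgroup K) := hd ▸ ⟨y, hQ (mem_zpowers y), rfl⟩
  obtain ⟨x, -, hx⟩ := h1
  exact ⟨d, hx ▸ x.2⟩

variable {G : Type u} [Group G] [Finite G] {X : Type v} [Group X] [Finite X] {t : G} {φ : X →* G}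
variable {r : ℕ} [hr : Fact r.Prime]

theorem dvd_centralizer_conj {u : G} (c : G) (h : r ∣ Nat.card (centralizer ({u} : Set G))) :
    r ∣ Nat.card (centralizer ({c * u * c⁻¹} : Set G)) := by
  obtain ⟨⟨b, hb⟩, hbo⟩ := exists_prime_orderOf_dvd_card' (G := centralizer ({u} : Set G)) r h
  rw [orderOf_mk] at hbo
  have hc : Commute (c * b * c⁻¹) (c * u * c⁻¹) :=
    Commute.map (show Commute b u from mem_centralizer_singleton_iff.1 hb) (MulAut.conj c).toMonoidHom
  rw [← hbo, ← MulEquiv.orderOf_eq (MulAut.conj c) b, MulAut.conj_apply]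
  exact orderOf_dvd_natCard _ (mem_centralizer_singleton_iff.2 hc.eq)

/-- Freeness is a question about the elements of odd prime order of `X`. -/
theorem free_of_prime (hE : Emb t φ)
    (h : ∀ x : X, (orderOf x).Prime → orderOf x ≠ 2 → ¬ r ∣ Nat.card (centralizer ({φ x} : Set G))) :
    Free G t r := by
  intro k hkt hko a ha ha1 hka
  by_contra hk1
  set l := (orderOf k).minFac with hl
  have hlp : l.Prime := Nat.minFac_prime (fun e => hk1 (orderOf_eq_one_iff.1 e))
  obtain ⟨m, hm⟩ := Nat.minFac_dvd (orderOf k)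
  rw [← hl] at hm
  have hm0 : m ≠ 0 := fun e => (orderOf_pos k).ne' (by rw [hm, e, mul_zero])
  have ho : orderOf (k ^ m) = l := by
    rw [orderOf_pow' _ hm0, hm, Nat.gcd_mul_left_left, Nat.mul_div_cancel _ (Nat.pos_of_ne_zero hm0)]
  obtain ⟨x, hx⟩ := hE.mem_range (hkt.pow_left m) (hko.of_dvd_nat (orderOf_pow_dvd _))
  have hxo : orderOf x = l := by rw [← orderOf_injective φ hE.inj, ← hx, ho]
  refine h x (hxo ▸ hlp) (fun e => ?_) ?_
  · rw [hxo] at e
    rw [hm, e] at hko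
    exact Nat.not_even_iff_odd.2 hko (even_iff_two_dvd.2 (dvd_mul_right 2 m))
  · rw [← hx]
    exact (dvd_orderOf_pElt hr.out ha ha1).trans
      (orderOf_dvd_natCard _ (mem_centralizer_singleton_iff.2 ((hka.pow_left m).symm.eq)))

/-- A nontrivial `r`-element has a centralizer of odd order. -/
theorem centralizer_odd (hE : Emb t φ) (hrC : ¬ r ∣ Nat.card (centralizer ({t} : Set G))) {a : G}
    (ha : IsPGroup r ↥(zpowers a)) (ha1 : a ≠ 1) : Odd (Nat.card (centralizer ({a} : Set G))) := by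
  haveI : Fact (Nat.Prime 2) := ⟨Nat.prime_two⟩
  by_contra h
  obtain ⟨⟨i, hi⟩, hio⟩ := exists_prime_orderOf_dvd_card' (G := centralizer ({a} : Set G)) 2
    (even_iff_two_dvd.1 (Nat.not_odd_iff_even.1 h))
  rw [orderOf_mk] at hio
  obtain ⟨c, hc⟩ := isConj_iff.1 (hE.fused i hio)
  have h1 : Commute (c⁻¹ * a * c) t := by
    have h2 : Commute a i := (mem_centralizer_singleton_iff.1 hi : Commute i a).symm
    have := h2.map (MulAut.conj c⁻¹).toMonoidHom
    simpa [← hc, mul_assoc] using this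
  have h2 : orderOf (c⁻¹ * a * c) = orderOf a := by
    simpa using MulEquiv.orderOf_eq (MulAut.conj c⁻¹) a
  exact hrC ((dvd_orderOf_pElt hr.out ha ha1).trans
    (h2 ▸ orderOf_dvd_natCard _ (mem_centralizer_singleton_iff.2 h1.eq)))

/-- If some element inverts a central element of a Sylow subgroup, a Sylow subgroup is inverted by `t`. -/
theorem exists_inverted_sylow (hE : Emb t φ) (hrC : ¬ r ∣ Nat.card (centralizer ({t} : Set G)))
    (hfree : Free G t r) {a g : G} (ha : IsPGroup r ↥(zpowers a)) (ha1 : a ≠ 1)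
    (hga : g * a * g⁻¹ = a⁻¹) {P : Sylow r G} (hP : ∀ b ∈ (P : Subgroup G), Commute b a) :
    ∃ P : Sylow r G, ∀ b ∈ (P : Subgroup G), t * b * t⁻¹ = b⁻¹ := by
  obtain ⟨s, o, ho, hso⟩ := Nat.exists_eq_two_pow_mul_odd (orderOf_pos g).ne'
  set i := g ^ o with hi
  have h2 : g ^ 2 * a * (g ^ 2)⁻¹ = a := by
    calc g ^ 2 * a * (g ^ 2)⁻¹ = g * (g * a * g⁻¹) * g⁻¹ := by rw [pow_two]; group
      _ = (g * a * g⁻¹)⁻¹ := by rw [hga]; nth_rw 2 [← hga]; group
      _ = a := by rw [hga, inv_inv]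
  have hc2 : Commute (g ^ 2) a := mul_inv_eq_iff_eq_mul.1 h2
  have hia : i * a * i⁻¹ = a⁻¹ := by
    obtain ⟨d, hd⟩ := ho
    calc i * a * i⁻¹ = g * ((g ^ 2) ^ d * a * ((g ^ 2) ^ d)⁻¹) * g⁻¹ := by
          rw [hi, hd, pow_succ', ← pow_mul]; group
      _ = a⁻¹ := by rw [(hc2.pow_left d).eq, mul_inv_cancel_right, hga]
  have hi2 : i ^ 2 = 1 := by
    have hd1 : orderOf (i ^ 2) ∣ Nat.card (centralizer ({a} : Set G)) := by
      refine orderOf_dvd_natCard _ (mem_centralizer_singleton_iff.2 ?_)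
      rw [hi, ← pow_mul, mul_comm o, pow_mul]
      exact (hc2.pow_left o).eq
    have hd2 : orderOf (i ^ 2) ∣ 2 ^ s := (orderOf_pow_dvd 2).trans (orderOf_dvd_of_pow_eq_one (by
      rw [hi, ← pow_mul, mul_comm, ← hso, pow_orderOf_eq_one]))
    exact orderOf_eq_one_iff.1 (Nat.eq_one_of_dvd_coprimes
      ((Nat.coprime_two_left.2 (centralizer_odd hE hrC ha ha1)).pow_left s) hd2 hd1)
  have hi1 : i ≠ 1 := by
    intro e
    rw [e, one_mul, inv_one, mul_one] at hia
    have hd : orderOf a ∣ 2 := orderOf_dvd_of_pow_eq_one (by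
      rw [pow_two]; nth_rw 1 [hia]; exact inv_mul_cancel a)
    have hr2 : r = 2 := (Nat.prime_dvd_prime_iff_eq hr.out Nat.prime_two).1
      ((dvd_orderOf_pElt hr.out ha ha1).trans hd)
    have h : orderOf t ∣ Nat.card (centralizer ({t} : Set G)) :=
      orderOf_dvd_natCard _ (mem_centralizer_singleton_iff.2 rfl)
    rw [hE.ht, ← hr2] at h
    exact hrC h
  obtain ⟨c, hc⟩ := isConj_iff.1 (hE.fused i (orderOf_eq_prime hi2 hi1))
  set b := c⁻¹ * a * c with hb
  have htb : t * b * t⁻¹ = b⁻¹ := by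
    calc t * b * t⁻¹ = c⁻¹ * (c * t * c⁻¹ * a * (c * t * c⁻¹)⁻¹) * c := by rw [hb]; group
      _ = b⁻¹ := by rw [hc, hia, hb]; group
  have hb1 : b ≠ 1 := fun e => ha1 (by
    have : a = c * b * c⁻¹ := by rw [hb]; group
    rw [this, e, mul_one, mul_inv_cancel])
  obtain ⟨k, hk⟩ := pElt_pow ha
  have hbp : IsPGroup r ↥(zpowers b) := pElt_of_pow hr.out (i := k) (by
    rw [hb, show c⁻¹ * a * c = c⁻¹ * a * c⁻¹⁻¹ by group, conj_pow, hk, mul_one, mul_inv_cancel])
  obtain ⟨-, hinv, -⟩ := centralizer_inverted hE hrC hfree hbp hb1 htb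
  refine ⟨c⁻¹ • P, fun z hz => hinv z ?_⟩
  obtain ⟨y, hy, rfl⟩ := hz
  refine mem_centralizer_singleton_iff.2 ?_
  have := Commute.map (hP y hy) (MulAut.conj c⁻¹).toMonoidHom
  simpa [hb, mul_assoc] using this.eq

section Ree

variable {n : ℕ} {U H : Subgroup X} {w : X}

/-- The order of the torus outside `C(t)`. -/
theorem ReeData.dvd_torus (D : ReeData t φ n U H w) (hr2 : r ≠ 2) (hrX : ¬ r ∣ Nat.card X) :
    r ≠ 3 ∧ ∃ Q₁, Q₁ * (3 ^ n + 1) = (3 ^ n) ^ 3 + 1 ∧
      Q₁ ∣ ((3 ^ n) ^ 2) ^ 2 + (3 ^ n) ^ 2 + 1 ∧ ¬ r ∣ 3 ^ n ∧ ¬ r ∣ 3 ^ n - 1 ∧ ¬ r ∣ 3 ^ n + 1 := by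
  obtain ⟨s, hs, -, -, -⟩ := D.exists_half
  have h2X : ∀ d, d ∣ 3 ^ n * ((3 ^ n - 1) * (3 ^ n + 1)) → ¬ r ∣ d := fun d hd h => by
    rw [← D.split.card_X] at hd
    rcases (Nat.Prime.dvd_mul hr.out).1 (h.trans hd) with h' | h'
    · exact hr2 ((Nat.prime_dvd_prime_iff_eq hr.out Nat.prime_two).1 h')
    · exact hrX h'
  have hq := h2X _ (dvd_mul_right _ _)
  have hn1 := D.one_lt
  refine ⟨fun e => hq (by rw [e]; exact dvd_pow_self 3 (by omega)), 16 * s ^ 2 + 20 * s + 7, ?_,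
    ⟨16 * s ^ 2 + 28 * s + 13, ?_⟩, hq, h2X _ ((dvd_mul_right _ _).trans (dvd_mul_left _ _)),
    h2X _ ((dvd_mul_left _ _).trans (dvd_mul_left _ _))⟩
  · rw [hs]; ring
  · rw [hs]; ring

variable [IsSimpleGroup G]

/-- Odd elements of `C(t)` act freely on the tori. -/
theorem ree_free {r' : ℕ} (S : JT.Setup G X) (D : ReeData S.t S.embK n U H w)
    (hK : JT.Loc.KFacts X r') (hr' : 4 * r' = 3 ^ n + 1)
    (hab : ∀ P : Sylow 2 G, ∀ a b : P, a * b = b * a) (hr2 : r ≠ 2) (hrG : r ∣ Nat.card G)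
    (hrX : ¬ r ∣ Nat.card X) (hrC : ¬ r ∣ Nat.card (centralizer ({S.t} : Set G)))
    {M : Subgroup G} (hMc : Nat.card M = (3 ^ n) ^ 3 * (3 ^ n - 1))
    (hMcent : ∀ a ∈ M, a ≠ 1 → (∃ k, a ^ 3 ^ k = 1) → centralizer ({a} : Set G) ≤ M) :
    Free G S.t r ∧ ∀ u : G, orderOf u = 3 → ¬ r ∣ Nat.card (centralizer ({u} : Set G)) := by
  haveI : Fact (Nat.Prime 3) := ⟨Nat.prime_three⟩
  obtain ⟨hr3, Q₁, hQ₁, -, hq, hq1, hqp⟩ := D.dvd_torus hr2 hrX
  obtain ⟨s, hs, hHc, -, -⟩ := D.exists_half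
  have hrM : ¬ r ∣ Nat.card M := by
    rw [hMc]
    intro h
    rcases (Nat.Prime.dvd_mul hr.out).1 h with h | h
    · exact hq (hr.out.dvd_of_dvd_pow h)
    · exact hq1 h
  have hr5 : r ≠ 5 := by
    rintro rfl
    have h1 : 5 ∣ (3 ^ n) ^ 3 + 1 := by
      have h := hrG
      rw [D.card_G] at h
      rcases (Nat.Prime.dvd_mul hr.out).1 h with h | h
      · rcases (Nat.Prime.dvd_mul hr.out).1 h with h | h
        · exact absurd (hr.out.dvd_of_dvd_pow h) hq
        · exact h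
      · exact absurd h hq1
    rw [Nat.dvd_iff_mod_eq_zero] at h1 hqp
    rw [Nat.add_mod, Nat.pow_mod] at h1
    have h5 : 3 ^ n % 5 < 5 := Nat.mod_lt _ (by norm_num)
    rw [Nat.add_mod] at hqp
    interval_cases hq5 : 3 ^ n % 5 <;> simp_all
  have hthree : ∀ u : G, orderOf u = 3 → ¬ r ∣ Nat.card (centralizer ({u} : Set G)) := by
    intro u hu h
    obtain ⟨c, hc⟩ := exists_conj_mem M (m := (3 ^ n) ^ 3 + 1) (by rw [hMc, D.card_G]; ring)
      (fun h3 => by
        have : 3 ∣ (3 ^ n) ^ 3 := dvd_pow (dvd_pow_self 3 (by have := D.one_lt; omega)) (by norm_num)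
        omega) hu
    have ho : orderOf (c * u * c⁻¹) = 3 := by
      rw [← MulAut.conj_apply, MulEquiv.orderOf_eq, hu]
    have hne : c * u * c⁻¹ ≠ 1 := fun e => by rw [e, orderOf_one] at ho; exact absurd ho (by norm_num)
    exact hrM ((dvd_centralizer_conj c h).trans (card_dvd_of_le (hMcent _ hc hne
      ⟨1, by rw [pow_one, ← ho, pow_orderOf_eq_one]⟩)))
  refine ⟨free_of_prime D.emb fun x hxp hx2 => ?_, hthree⟩
  haveI : Fact (orderOf x).Prime := ⟨hxp⟩
  by_cases hx3 : orderOf x = 3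
  · exact hthree _ (by rw [orderOf_injective _ D.emb.inj, hx3])
  have h2 : ¬ orderOf x ∣ 2 := fun h => hx2 ((Nat.prime_dvd_prime_iff_eq hxp Nat.prime_two).1 h)
  have h3 : ¬ orderOf x ∣ 3 ^ n := fun h =>
    hx3 ((Nat.prime_dvd_prime_iff_eq hxp Nat.prime_three).1 (hxp.dvd_of_dvd_pow h))
  have hXd : orderOf x ∣ 3 ^ n * ((3 ^ n - 1) * (3 ^ n + 1)) :=
    D.split.card_X ▸ (orderOf_dvd_natCard x).mul_left 2
  rcases (Nat.Prime.dvd_mul hxp).1 hXd with h | h
  · exact absurd h h3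
  rcases (Nat.Prime.dvd_mul hxp).1 h with h | h
  · -- in the torus `H`
    have hnp : ¬ orderOf x ∣ 3 ^ n + 1 := fun h' => h2 (by
      have := Nat.dvd_sub h' h
      rwa [show 3 ^ n + 1 - (3 ^ n - 1) = 2 by omega] at this)
    obtain ⟨c, hc⟩ := exists_conj_mem H (m := 3 ^ n * (3 ^ n + 1))
      (by
        refine Nat.eq_of_mul_eq_mul_left (show 0 < 2 by norm_num) ?_
        rw [D.split.card_X, ← mul_assoc 2, D.split.H_card]; ring)
      (fun h' => (Nat.Prime.dvd_mul hxp).1 h' |>.elim h3 hnp) (y := x) rfl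
    intro hdvd
    have hne : c * x * c⁻¹ ≠ 1 := fun e => hxp.ne_one (orderOf_eq_one_iff.2 (conj_eq_one_iff.1 e))
    refine D.emb.not_dvd_centralizer hr2 (p := r) (D.emb.noReal_of (fun _ z _ _ hz => ?_)
      (hr.out.odd_of_ne_two hr2)) (k := c * x * c⁻¹)
      (fun y hy => ⟨(D.cent_H hc hne hy).1, fun hy1 => ?_⟩) D.split.w_ord (D.split.w_inv _ hc) ?_
    · by_contra h1; exact hrX (orderOf_eq_prime hz h1 ▸ orderOf_dvd_natCard z)
    · by_contra h1; exact hrX (orderOf_eq_prime hy1 h1 ▸ orderOf_dvd_natCard y)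
    · rw [map_mul, map_mul, map_inv]
      exact dvd_centralizer_conj _ hdvd
  · -- in the torus at an involution
    have hnm : ¬ orderOf x ∣ 3 ^ n - 1 := fun h' => h2 (by
      have := Nat.dvd_sub h h'
      rwa [show 3 ^ n + 1 - (3 ^ n - 1) = 2 by omega] at this)
    have hKm : Nat.card X = r' * (2 * (3 ^ n * (3 ^ n - 1))) := by
      refine Nat.eq_of_mul_eq_mul_left (show 0 < 2 by norm_num) ?_
      rw [D.split.card_X, ← hr']; ring
    obtain ⟨u, A, s', hP, hxA⟩ := JT.Loc.exists_torus_of_commute S hK hab hxp hx2 hKm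
      (fun h' => (Nat.Prime.dvd_mul hxp).1 h' |>.elim h2
        (fun h'' => (Nat.Prime.dvd_mul hxp).1 h'' |>.elim h3 hnm))
      S.ht (y := S.embK x) (orderOf_injective _ D.emb.inj x) (D.emb.comm x)
    have hx1 : S.embK x ≠ 1 := fun e => hxp.ne_one (by
      rw [← orderOf_injective _ D.emb.inj x, e, orderOf_one])
    have hcase := (JT.Loc.pair_centHyp hab hP hxA
      (JT.Loc.pair_cent S hK hab hP _ hxA hx1)).cases_structure
    intro hdvd
    obtain ⟨⟨a, ha⟩, hao⟩ := exists_prime_orderOf_dvd_card'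
      (G := centralizer ({S.embK x} : Set G)) r hdvd
    rw [orderOf_mk] at hao
    have hax : Commute a (S.embK x) := mem_centralizer_singleton_iff.1 ha
    rcases hcase with hperm | ⟨-, f, -, hker⟩
    · classical
      -- `a` permutes the three involutions
      let T : Finset G := {S.t, u, S.t * u}
      have hT : T.card ≤ 3 := Finset.card_le_three
      have hmem : ∀ i : ℕ, a ^ i * S.t * (a ^ i)⁻¹ ∈ JT.Loc.vset S.t u := by
        intro i
        induction i with
        | zero => rw [pow_zero, one_mul, inv_one, mul_one]; exact Or.inr (Or.inl rfl)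
        | succ i ih =>
          rw [show a ^ (i + 1) * S.t * (a ^ (i + 1))⁻¹ = a * (a ^ i * S.t * (a ^ i)⁻¹) * a⁻¹ by
            rw [pow_succ']; group]
          exact hperm a hax _ ih
      have hmaps : Set.MapsTo (fun i => a ^ i * S.t * (a ^ i)⁻¹) (Finset.range 4 : Finset ℕ) T := by
        intro i _
        rcases hmem i with h | h | h | h
        · exact absurd (conj_eq_one_iff.1 h) (JT.Loc.invol_ne_one S.ht)
        all_goals simp [T, h]
      obtain ⟨i, hi, j, hj, hne, hij⟩ :=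
        Finset.exists_ne_map_eq_of_card_lt_of_maps_to (by rw [Finset.card_range]; omega) hmaps
      rw [Finset.mem_range] at hi hj
      wlog hlt : i < j generalizing i j
      · exact this j hj i hi hne.symm hij.symm (by omega)
      obtain ⟨d, rfl⟩ := Nat.exists_eq_add_of_le hlt.le
      have hd : Commute (a ^ d) S.t := mul_inv_eq_iff_eq_mul.1 (by
        calc a ^ d * S.t * (a ^ d)⁻¹
            = (a ^ i)⁻¹ * (a ^ (i + d) * S.t * (a ^ (i + d))⁻¹) * a ^ i := by
              rw [pow_add]; group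
          _ = S.t := by rw [← hij]; group)
      have hr5' : 5 ≤ r := hr.out.five_le_of_ne_two_of_ne_three hr2 hr3
      have hcop : r.Coprime d := hr.out.coprime_iff_not_dvd.2 fun h => by
        have := Nat.le_of_dvd (by omega) h
        omega
      refine hrC ?_
      have ho : orderOf (a ^ d) = r := by rw [Nat.Coprime.orderOf_pow (hao ▸ hcop), hao]
      rw [← ho]
      exact orderOf_dvd_natCard _ (mem_centralizer_singleton_iff.2 hd.eq)
    · -- `a` lies in the torus
      have hfa : f ⟨a, ha⟩ = 1 := orderOf_eq_one_iff.1 (Nat.eq_one_of_dvd_coprimes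
        (show r.Coprime 60 from hr.out.coprime_iff_not_dvd.2 fun h => by
          rcases (Nat.Prime.dvd_mul hr.out).1 (show r ∣ 4 * 15 by simpa using h) with h | h
          · exact hr2 ((Nat.prime_dvd_prime_iff_eq hr.out Nat.prime_two).1
              (hr.out.dvd_of_dvd_pow (show r ∣ 2 ^ 2 by simpa using h)))
          · rcases (Nat.Prime.dvd_mul hr.out).1 (show r ∣ 3 * 5 by simpa using h) with h | h
            · exact hr3 ((Nat.prime_dvd_prime_iff_eq hr.out Nat.prime_three).1 h)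
            · exact hr5 ((Nat.prime_dvd_prime_iff_eq hr.out Nat.prime_five).1 h))
        ((orderOf_map_dvd f _).trans (by rw [orderOf_mk, hao]))
        ((_root_.orderOf_dvd_natCard _).trans (by rw [nat_card_alternatingGroup, Nat.card_fin]; decide)))
      have haA : a ∈ A := by
        have : (⟨a, ha⟩ : centralizer ({S.embK x} : Set G)) ∈ f.ker := hfa
        rw [hker] at this
        exact this
      refine hrX ?_
      rw [← hao, hKm]
      exact ((orderOf_dvd_natCard A haA).trans (by rw [hP.card])).mul_right _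

/-- The scalar in a group of Ree order. -/
theorem ree_torus {r' : ℕ} (S : JT.Setup G X) (D : ReeData S.t S.embK n U H w)
    (hK : JT.Loc.KFacts X r') (hr' : 4 * r' = 3 ^ n + 1)
    (hab : ∀ P : Sylow 2 G, ∀ a b : P, a * b = b * a) (hrG : r ∣ Nat.card G)
    (hrC : ¬ r ∣ Nat.card (centralizer ({S.t} : Set G))) :
    ∃ j, Scalar G S.t r j := by
  haveI : Fact (Nat.Prime 3) := ⟨Nat.prime_three⟩
  have hXC : Nat.card (centralizer ({S.t} : Set G)) = 2 * Nat.card X := by
    rw [Nat.card_congr S.e.toEquiv, Nat.card_prod]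
    simp
  have hr2 : r ≠ 2 := fun e => hrC (e ▸ hXC ▸ dvd_mul_right 2 _)
  have hrX : ¬ r ∣ Nat.card X := fun h => hrC (hXC ▸ h.mul_left 2)
  obtain ⟨M, R, hMc, hB, hMcent⟩ := D.exists_bn
  obtain ⟨hfree, hthree⟩ := ree_free S D hK hr' hab hr2 hrG hrX hrC hMc hMcent
  obtain ⟨hr3, Q₁, hQ₁, hQj, hq, hq1, hqp⟩ := D.dvd_torus hr2 hrX
  have hpoly : ∀ a : G, IsPGroup r ↥(zpowers a) → a ^ (((3 ^ n) ^ 2) ^ 2 + (3 ^ n) ^ 2 + 1) = 1 := by
    intro a ha
    refine orderOf_dvd_iff_pow_eq_one.1 (Dvd.dvd.trans ?_ hQj)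
    obtain ⟨i, hi⟩ := pElt_pow ha
    obtain ⟨e, -, he⟩ := (Nat.dvd_prime_pow hr.out).1 (orderOf_dvd_of_pow_eq_one hi)
    have hcop : ∀ {d : ℕ}, ¬ r ∣ d → (orderOf a).Coprime d := fun h =>
      he ▸ (hr.out.coprime_iff_not_dvd.2 h).pow_left e
    have h1 : orderOf a ∣ (3 ^ n) ^ 3 * ((3 ^ n) ^ 3 + 1) * (3 ^ n - 1) :=
      D.card_G ▸ orderOf_dvd_natCard a
    rw [← hQ₁] at h1
    exact (hcop hqp).dvd_of_dvd_mul_right ((Nat.Coprime.pow_right 3 (hcop hq)).dvd_of_dvd_mul_left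
      ((hcop hq1).dvd_of_dvd_mul_right h1))
  have hconj1 : ∀ a : G, IsPGroup r ↥(zpowers a) → IsConj a (a ^ 3 ^ n) := by
    intro a ha
    by_cases ha1 : a = 1
    · rw [ha1, one_pow]
    refine Curtis.isConj_pow hB a fun h => ?_
    obtain ⟨⟨u, hu⟩, huo⟩ := exists_prime_orderOf_dvd_card'
      (G := centralizer ({a ^ 3 ^ n} : Set G)) 3 h
    rw [orderOf_mk] at huo
    refine hthree u huo ?_
    obtain ⟨i, hi⟩ := pElt_pow ha
    have hc : Nat.Coprime (orderOf a) (3 ^ n) := by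
      obtain ⟨e, -, he⟩ := (Nat.dvd_prime_pow hr.out).1 (orderOf_dvd_of_pow_eq_one hi)
      rw [he]; exact (hr.out.coprime_iff_not_dvd.2 hq).pow_left e
    refine (dvd_orderOf_pElt hr.out ha ha1).trans ?_
    rw [← Nat.Coprime.orderOf_pow hc]
    exact orderOf_dvd_natCard _
      (mem_centralizer_singleton_iff.2 ((mem_centralizer_singleton_iff.1 hu).symm))
  have hconj : ∀ a : G, IsPGroup r ↥(zpowers a) → IsConj a (a ^ (3 ^ n) ^ 2) := by
    intro a ha
    have ha' : IsPGroup r ↥(zpowers (a ^ 3 ^ n)) :=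
      ha.to_le (zpowers_le.2 (pow_mem (mem_zpowers a) _))
    have h := (hconj1 a ha).trans (hconj1 _ ha')
    rwa [← pow_mul, ← pow_two] at h
  have hj1 : ¬ (3 ^ n) ^ 2 ≡ 1 [MOD r] := by
    intro h
    have h1 : r ∣ (3 ^ n) ^ 2 - 1 := (Nat.modEq_iff_dvd' (Nat.one_le_pow _ _ (by positivity))).1 h.symm
    rw [show (3 ^ n) ^ 2 - 1 = (3 ^ n + 1) * (3 ^ n - 1) by rw [← Nat.sq_sub_sq, one_pow]] at h1
    exact (Nat.Prime.dvd_mul hr.out).1 h1 |>.elim hqp hq1
  have hinv : ∃ P : Sylow r G, ∀ b ∈ (P : Subgroup G), S.t * b * S.t⁻¹ = b⁻¹ := by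
    obtain ⟨P⟩ : Nonempty (Sylow r G) := inferInstance
    haveI : Nontrivial (P : Subgroup G) := Finite.one_lt_card_iff_nontrivial.1
      (lt_of_lt_of_le hr.out.one_lt (Nat.le_of_dvd Nat.card_pos (P.dvd_card_of_dvd_card hrG)))
    haveI := P.2.center_nontrivial
    obtain ⟨⟨a, ha⟩, ha1⟩ := exists_ne (1 : Subgroup.center (P : Subgroup G))
    have hap : IsPGroup r ↥(zpowers (a : G)) := P.2.to_le (zpowers_le.2 a.2)
    have hap1 : IsPGroup r ↥(zpowers ((a : G) ^ 3 ^ n)) :=
      hap.to_le (zpowers_le.2 (pow_mem (mem_zpowers _) _))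
    have hap2 : IsPGroup r ↥(zpowers (((a : G) ^ 3 ^ n) ^ 3 ^ n)) :=
      hap1.to_le (zpowers_le.2 (pow_mem (mem_zpowers _) _))
    have h := ((hconj1 _ hap).trans (hconj1 _ hap1)).trans (hconj1 _ hap2)
    obtain ⟨i, hi⟩ := pElt_pow hap
    have hord : orderOf (a : G) ∣ (3 ^ n) ^ 3 + 1 := by
      obtain ⟨e, -, he⟩ := (Nat.dvd_prime_pow hr.out).1 (orderOf_dvd_of_pow_eq_one hi)
      have h1 : orderOf (a : G) ∣ (3 ^ n) ^ 3 * ((3 ^ n) ^ 3 + 1) * (3 ^ n - 1) :=
        D.card_G ▸ orderOf_dvd_natCard (a : G)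
      have hcop : ∀ {d : ℕ}, ¬ r ∣ d → (orderOf (a : G)).Coprime d := fun h =>
        he ▸ (hr.out.coprime_iff_not_dvd.2 h).pow_left e
      exact (Nat.Coprime.pow_right 3 (hcop hq)).dvd_of_dvd_mul_left ((hcop hq1).dvd_of_dvd_mul_right h1)
    have hneg : (((a : G) ^ 3 ^ n) ^ 3 ^ n) ^ 3 ^ n = (a : G)⁻¹ := eq_inv_of_mul_eq_one_left (by
      rw [← pow_mul, ← pow_mul, ← pow_succ, show 3 ^ n * (3 ^ n * 3 ^ n) = (3 ^ n) ^ 3 by ring]
      exact orderOf_dvd_iff_pow_eq_one.1 hord)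
    rw [hneg] at h
    obtain ⟨g, hg⟩ := isConj_iff.1 h
    refine exists_inverted_sylow D.emb hrC hfree hap (fun e => ha1 ?_) hg (P := P) fun b hb => ?_
    · exact Subtype.ext (Subtype.ext e)
    · exact congrArg Subtype.val (Subgroup.mem_center_iff.1 ha ⟨b, hb⟩)
  refine ⟨(3 ^ n) ^ 2, hj1, ⟨3, by decide, fun a ha => ?_⟩, hfree, hconj,
    fun P hP hinv k hkt hko hkP a ha ha1 hka =>
      D.scalar hr2 hrX hrC hfree hj1 hpoly hconj hP hinv hkt hko hkP ha ha1 hka, hinv⟩
  have h := hpoly a ha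
  set j := (3 ^ n) ^ 2
  calc a ^ (j ^ 3) = a ^ (j ^ 3) * a ^ (j ^ 2 + j + 1) := by rw [h, mul_one]
    _ = a ^ ((j ^ 2 + j + 1) * j) * a := by rw [← pow_add, ← pow_succ]; congr 1; ring
    _ = a := by rw [pow_mul, h, one_pow, one_mul]

end Ree

/-- The scalar in a group of order `175560`. -/
theorem janko_torus [IsSimpleGroup G] (hE : Emb t φ)
    (hG : Nat.card G = 175560) (e : X ≃* alternatingGroup (Fin 5))
    (hrG : r ∣ Nat.card G) (hrC : ¬ r ∣ Nat.card (centralizer ({t} : Set G))) :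
    ∃ j, Scalar G t r j := by
  classical
  have hX : Nat.card X = 60 := by
    rw [Nat.card_congr e.toEquiv, nat_card_alternatingGroup, Nat.card_fin]; decide
  have hd2 : 2 ∣ Nat.card (centralizer ({t} : Set G)) := by
    have := orderOf_dvd_natCard (centralizer ({t} : Set G)) (mem_centralizer_singleton_iff.2 rfl : t ∈ _)
    rwa [hE.ht] at this
  have hdX : 60 ∣ Nat.card (centralizer ({t} : Set G)) := by
    have h := card_dvd_of_le (show (⊤ : Subgroup X).map φ ≤ centralizer ({t} : Set G) by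
      rintro _ ⟨x, -, rfl⟩; exact mem_centralizer_singleton_iff.2 (hE.comm x).eq)
    rwa [card_map_of_injective hE.inj, card_top, hX] at h
  have hr2 : r ≠ 2 := fun h => hrC (h ▸ hd2)
  have hrX : ¬ r ∣ Nat.card X := fun h => hrC ((hX ▸ h).trans hdX)
  have hcases : r = 7 ∨ r = 11 ∨ r = 19 := by
    have h1 : r ∣ 1463 := by
      rw [hG, show 175560 = 60 * (2 * 1463) by rfl] at hrG
      rcases (Nat.Prime.dvd_mul hr.out).1 hrG with h | h
      · exact absurd h (hX ▸ hrX)
      · rcases (Nat.Prime.dvd_mul hr.out).1 h with h | h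
        · exact absurd ((Nat.prime_dvd_prime_iff_eq hr.out Nat.prime_two).1 h) hr2
        · exact h
    rw [show 1463 = 7 * (11 * 19) by rfl] at h1
    rcases (Nat.Prime.dvd_mul hr.out).1 h1 with h | h
    · exact Or.inl ((Nat.prime_dvd_prime_iff_eq hr.out (by norm_num)).1 h)
    · rcases (Nat.Prime.dvd_mul hr.out).1 h with h | h
      · exact Or.inr (Or.inl ((Nat.prime_dvd_prime_iff_eq hr.out (by norm_num)).1 h))
      · exact Or.inr (Or.inr ((Nat.prime_dvd_prime_iff_eq hr.out (by norm_num)).1 h))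
  -- freeness
  have hreal : NoReal G r := hE.noReal_of (fun _ z _ _ hz => by
    by_contra h1; exact hrX (orderOf_eq_prime hz h1 ▸ orderOf_dvd_natCard z)) (hr.out.odd_of_ne_two hr2)
  have hfree : Free G t r := free_of_prime hE fun x hxp hx2 => by
    have hx35 : e x ^ 3 = 1 ∨ e x ^ 5 = 1 := by
      rcases JT.Loc.alt5_exp (e x) with h | h | h
      · refine absurd ((Nat.prime_dvd_prime_iff_eq hxp Nat.prime_two).1 ?_) hx2
        rw [← e.orderOf_eq]
        exact orderOf_dvd_of_pow_eq_one (by rw [pow_two, h])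
      · exact Or.inl h
      · exact Or.inr h
    have hx1 : e x ≠ 1 := fun h => hxp.ne_one (by rw [← e.orderOf_eq, h, orderOf_one])
    obtain ⟨w, hw2, hw1, hwx⟩ := alt5_odd_real _ hx35
    have hcent := alt5_odd_cent _ hx35 hx1
    refine hE.not_dvd_centralizer hr2 hreal (k := x) (fun y hy => ⟨?_, fun hy1 => ?_⟩)
      (w := e.symm w) ?_ (e.injective (by simp [hwx]))
    · rw [← e.orderOf_eq]
      rcases JT.Loc.alt5_exp (e y) with h | h | h
      · rw [hcent (e y) (show e x * e y = e y * e x from (hy.symm.map e.toMonoidHom).eq) h, orderOf_one]; exact odd_one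
      · exact (by decide : Odd 3).of_dvd_nat (orderOf_dvd_of_pow_eq_one h)
      · exact (by decide : Odd 5).of_dvd_nat (orderOf_dvd_of_pow_eq_one h)
    · by_contra h1; exact hrX (orderOf_eq_prime hy1 h1 ▸ orderOf_dvd_natCard y)
    · rw [e.symm.orderOf_eq]; exact orderOf_eq_prime (by rw [pow_two, hw2]) hw1
  -- a Sylow subgroup of order `r`
  obtain ⟨P₀⟩ : Nonempty (Sylow r G) := inferInstance
  have hfac : (Nat.card G).factorization r = 1 := by
    rw [hG]
    have hne : ¬ r ^ 2 ∣ 175560 ∧ r ∣ 175560 := by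
      rcases hcases with rfl | rfl | rfl <;> norm_num
    have h1 := (Nat.Prime.pow_dvd_iff_le_factorization hr.out (show (175560 : ℕ) ≠ 0 by norm_num) (k := 1)).1
      (by rw [pow_one]; exact hne.2)
    have h2 : ¬ 2 ≤ (175560 : ℕ).factorization r := fun h =>
      hne.1 ((Nat.Prime.pow_dvd_iff_le_factorization hr.out (by norm_num)).2 h)
    omega
  have hP₀ : Nat.card (P₀ : Subgroup G) = r := by rw [P₀.card_eq_multiplicity, hfac, pow_one]
  obtain ⟨⟨a₀, ha₀⟩, ha₀o⟩ :=
    exists_prime_orderOf_dvd_card' (G := (P₀ : Subgroup G)) r (dvd_of_eq hP₀.symm)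
  rw [orderOf_mk] at ha₀o
  have hzP : zpowers a₀ = P₀ := eq_of_le_of_card_ge (zpowers_le.2 ha₀)
    (by rw [hP₀, Nat.card_zpowers, ha₀o])
  have ha₀p : IsPGroup r ↥(zpowers a₀) := hzP ▸ P₀.2
  have ha₀1 : a₀ ≠ 1 := fun h => hr.out.ne_one (by rw [← ha₀o, h, orderOf_one])
  have hreps : ∀ a : G, IsPGroup r ↥(zpowers a) → ∃ (c : G) (z : ℤ), a = c * a₀ ^ z * c⁻¹ := by
    intro a ha
    obtain ⟨Q, hQ⟩ := ha.exists_le_sylow
    obtain ⟨c, hc⟩ := MulAction.exists_smul_eq G Q P₀
    have h1 : c * a * c⁻¹ ∈ (P₀ : Subgroup G) := hc ▸ ⟨a, hQ (mem_zpowers a), rfl⟩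
    rw [← hzP] at h1
    obtain ⟨z, hz⟩ := h1
    exact ⟨c⁻¹, z, by rw [show a₀ ^ z = c * a * c⁻¹ from hz]; group⟩
  set C := centralizer ({a₀} : Set G) with hC
  set N := normalizer (zpowers a₀ : Set G) with hN
  have hCN : C ≤ N := fun g hg => EqualOrderConj.mem_normalizer_of_conj_mem fun y hy => by
    obtain ⟨z, rfl⟩ := hy
    have hga : Commute g (a₀ ^ z) := Commute.zpow_right (mem_centralizer_singleton_iff.1 hg) z
    show g * a₀ ^ z * g⁻¹ ∈ zpowers a₀
    rw [hga.eq, mul_inv_cancel_right]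
    exact zpow_mem (mem_zpowers a₀) z
  have hC1463 : Nat.card C ∣ 1463 := by
    have h := card_subgroup_dvd_card C
    rw [hG, show 175560 = 120 * 1463 by rfl] at h
    refine Nat.Coprime.dvd_of_dvd_mul_left ?_ h
    have key : ∀ l : ℕ, l.Prime → l ∣ Nat.card C → ¬ l ∣ 120 := by
      intro l hl hlC hl120
      haveI := Fact.mk hl
      obtain ⟨⟨u, hu⟩, huo⟩ := exists_prime_orderOf_dvd_card' (G := C) l hlC
      rw [orderOf_mk] at huo
      have hua : Commute u a₀ := mem_centralizer_singleton_iff.1 hu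
      by_cases hl2 : l = 2
      · obtain ⟨c, hc⟩ := isConj_iff.1 (hE.fused u (huo.trans hl2))
        have h1 : Commute (c⁻¹ * a₀ * c) t := by
          have := hua.symm.map (MulAut.conj c⁻¹).toMonoidHom
          simpa [← hc, mul_assoc] using this
        refine hrC ?_
        rw [← ha₀o, ← MulEquiv.orderOf_eq (MulAut.conj c⁻¹) a₀]
        refine orderOf_dvd_natCard _ (mem_centralizer_singleton_iff.2 ?_)
        simpa using h1.eq
      · have hl2926 : ¬ l ∣ 2926 := by
          intro h'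
          have h'' : l ∣ Nat.gcd 120 2926 := Nat.dvd_gcd hl120 h'
          rw [show Nat.gcd 120 2926 = 2 by rfl] at h''
          exact hl2 ((Nat.prime_dvd_prime_iff_eq hl Nat.prime_two).1 h'')
        obtain ⟨c, hc⟩ := exists_conj_mem φ.range (m := 2926) (by
          rw [hG, MonoidHom.range_eq_map, card_map_of_injective hE.inj, card_top, hX]) hl2926 huo
        obtain ⟨x, hx⟩ := hc
        have hne : c * u * c⁻¹ ≠ 1 := fun h' => hl.ne_one (by
          rw [← huo, conj_eq_one_iff.1 h', orderOf_one])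
        refine hne (hfree _ (hx ▸ hE.comm x) ?_ (c * a₀ * c⁻¹) ?_ ?_
          (hua.map (MulAut.conj c).toMonoidHom))
        · rw [← MulAut.conj_apply, MulEquiv.orderOf_eq, huo]; exact hl.odd_of_ne_two hl2
        · exact pElt_of_pow hr.out (i := 1) (by
            rw [pow_one, conj_pow, ← ha₀o, pow_orderOf_eq_one, mul_one, mul_inv_cancel])
        · exact fun h' => ha₀1 (conj_eq_one_iff.1 h')
    exact Nat.coprime_of_dvd key
  have hrCd : r ∣ Nat.card C := ha₀o ▸ orderOf_dvd_natCard C (mem_centralizer_singleton_iff.2 rfl)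
  have hn := card_sylow_modEq_one r G
  rw [P₀.card_eq_index_normalizer] at hn
  have hNidx : N.index = (normalizer (P₀ : Set G)).index := by rw [hN, hzP]; rfl
  rw [← hNidx] at hn
  have hmem : Nat.card C ∈ Nat.divisors 1463 := Nat.mem_divisors.2 ⟨hC1463, by norm_num⟩
  rw [show Nat.divisors 1463 = {1, 7, 11, 19, 77, 133, 209, 1463} by decide +kernel] at hmem
  simp only [Finset.mem_insert, Finset.mem_singleton] at hmem
  unfold Nat.ModEq at hn
  -- `N` is not the centralizer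
  have hNC : ¬ N ≤ C := by
    intro hNC
    have hle : normalizer ((P₀ : Subgroup G) : Set G) ≤ centralizer ((P₀ : Subgroup G) : Set G) := by
      rw [← hzP]
      intro g hg y hy
      obtain ⟨z, rfl⟩ := hy
      exact (Commute.zpow_right (mem_centralizer_singleton_iff.1 (hNC hg)) z).eq.symm
    have hcomp := MonoidHom.ker_transferSylow_isComplement' P₀ hle
    rcases IsSimpleGroup.eq_bot_or_eq_top_of_normal _
      (inferInstance : (MonoidHom.transferSylow P₀ hle).ker.Normal) with h | h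
    · rw [h] at hcomp
      have := hcomp.card_mul
      rw [card_bot, one_mul, hP₀, hG] at this
      rcases hcases with rfl | rfl | rfl <;> norm_num at this
    · rw [h] at hcomp
      have := hcomp.card_mul
      rw [card_top, hP₀] at this
      have hp := Nat.card_pos (α := G)
      exact hr.out.ne_one (Nat.eq_of_mul_eq_mul_left hp (this.trans (mul_one _).symm))
  -- some element inverts `a₀`
  have hinvC : ∃ g, g * a₀ * g⁻¹ = a₀⁻¹ := by
    set e := (C.subgroupOf N).index with he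
    have hNe : Nat.card N = Nat.card C * e := by
      rw [← (C.subgroupOf N).card_mul_index, Nat.card_congr (subgroupOfEquivOfLe hCN).toEquiv]
    have hedvd : e ∣ r - 1 := by
      have hker : (zpowers a₀).normalizerMonoidHom.ker = C.subgroupOf N := by
        rw [normalizerMonoidHom_ker]
        show (centralizer (zpowers a₀ : Set G)).subgroupOf N = C.subgroupOf N
        rw [show centralizer (zpowers a₀ : Set G) = C by rw [hC, zpowers_eq_closure, centralizer_closure]]
      have key := card_dvd_of_injective _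
        (QuotientGroup.kerLift_injective (zpowers a₀).normalizerMonoidHom)
      rw [← Subgroup.index, hker, IsCyclic.card_mulAut, Nat.card_zpowers, ha₀o, Nat.totient_prime hr.out] at key
      exact key
    have he1 : e ≠ 1 := fun e1 => hNC (subgroupOf_eq_top.1 (index_eq_one.1 e1))
    have hprod : N.index * (Nat.card C * e) = 175560 := by
      rw [← hNe, mul_comm, N.card_mul_index, hG]
    have h2N : 2 ∣ Nat.card N := by
      rw [hNe]
      by_contra h2
      have hee : ¬ 2 ∣ e := fun h => h2 (h.mul_left _)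
      have hemem : e ∈ Nat.divisors (r - 1) := Nat.mem_divisors.2 ⟨hedvd, by have := hr.out.two_le; omega⟩
      rcases hcases with rfl | rfl | rfl
      · rw [show Nat.divisors (7 - 1) = {1, 2, 3, 6} by decide +kernel] at hemem
        simp only [Finset.mem_insert, Finset.mem_singleton] at hemem
        rcases hmem with h | h | h | h | h | h | h | h <;> rw [h] at hprod hrCd <;>
          rcases hemem with h' | h' | h' | h' <;> rw [h'] at hprod hee he1 <;> omega
      · rw [show Nat.divisors (11 - 1) = {1, 2, 5, 10} by decide +kernel] at hemem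
        simp only [Finset.mem_insert, Finset.mem_singleton] at hemem
        rcases hmem with h | h | h | h | h | h | h | h <;> rw [h] at hprod hrCd <;>
          rcases hemem with h' | h' | h' | h' <;> rw [h'] at hprod hee he1 <;> omega
      · rw [show Nat.divisors (19 - 1) = {1, 2, 3, 6, 9, 18} by decide +kernel] at hemem
        simp only [Finset.mem_insert, Finset.mem_singleton] at hemem
        rcases hmem with h | h | h | h | h | h | h | h <;> rw [h] at hprod hrCd <;>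
          rcases hemem with h' | h' | h' | h' | h' | h' <;> rw [h'] at hprod hee he1 <;> omega
    haveI : Fact (Nat.Prime 2) := ⟨Nat.prime_two⟩
    obtain ⟨⟨u, hu⟩, huo⟩ := exists_prime_orderOf_dvd_card' (G := N) 2 h2N
    rw [orderOf_mk] at huo
    refine ⟨u, eq_inv_of_mul_eq_one_right ?_⟩
    have hum : u * a₀ * u⁻¹ ∈ zpowers a₀ := (mem_normalizer_iff.1 hu a₀).1 (mem_zpowers a₀)
    by_contra hne
    have hx : a₀ * (u * a₀ * u⁻¹) ∈ zpowers a₀ := mul_mem (mem_zpowers a₀) hum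
    have hxp : IsPGroup r ↥(zpowers (a₀ * (u * a₀ * u⁻¹))) := ha₀p.to_le (zpowers_le.2 hx)
    have hodd := centralizer_odd hE hrC hxp hne
    have hux : u ∈ centralizer ({a₀ * (u * a₀ * u⁻¹)} : Set G) := by
      refine mem_centralizer_singleton_iff.2 ?_
      have hcm : Commute a₀ (u * a₀ * u⁻¹) := by
        obtain ⟨z, hz⟩ := hum; rw [← hz]; exact (Commute.refl a₀).zpow_right z
      have hu2 := mul_self_of_two huo
      calc u * (a₀ * (u * a₀ * u⁻¹)) = (u * a₀ * u⁻¹) * ((u * u) * a₀ * (u * u)⁻¹) * u := by group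
        _ = (u * a₀ * u⁻¹) * a₀ * u := by rw [hu2, one_mul, inv_one, mul_one]
        _ = a₀ * (u * a₀ * u⁻¹) * u := by rw [hcm.eq]
    have hd := orderOf_dvd_natCard _ hux
    rw [huo] at hd
    exact Nat.not_even_iff_odd.2 hodd (even_iff_two_dvd.2 hd)
  obtain ⟨g₁, hg₁a⟩ := hinvC
  have hg₁ : g₁ ∈ N := EqualOrderConj.mem_normalizer_of_conj_mem fun y hy => by
    obtain ⟨z, rfl⟩ := hy
    show g₁ * a₀ ^ z * g₁⁻¹ ∈ zpowers a₀
    rw [← conj_zpow, hg₁a]
    exact zpow_mem (inv_mem (mem_zpowers a₀)) z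
  have hinvP : ∃ P : Sylow r G, ∀ b ∈ (P : Subgroup G), t * b * t⁻¹ = b⁻¹ :=
    exists_inverted_sylow hE hrC hfree ha₀p ha₀1 hg₁a (P := P₀) fun b hb => by
      rw [← hzP] at hb
      obtain ⟨z, rfl⟩ := hb
      exact (Commute.refl a₀).zpow_left z
  by_cases hno : ∀ g ∈ normalizer (zpowers a₀ : Set G), ∀ i : ℕ, g * a₀ * g⁻¹ = a₀ ^ i → i ^ 8 ≡ 1 [MOD r]
  · -- only signs: Sylow counting
    exfalso
    have hsign : ∀ g ∈ N, g * a₀ * g⁻¹ = a₀ ∨ g * a₀ * g⁻¹ = a₀⁻¹ := by
      intro g hg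
      have hz : g * a₀ * g⁻¹ ∈ zpowers a₀ := (mem_normalizer_iff.1 hg a₀).1 (mem_zpowers a₀)
      rw [mem_zpowers_iff] at hz
      obtain ⟨z, hz⟩ := hz
      obtain ⟨i, hi⟩ : ∃ i : ℕ, a₀ ^ z = a₀ ^ i := by
        refine ⟨(z % (orderOf a₀ : ℤ)).toNat, ?_⟩
        rw [← zpow_natCast, Int.toNat_of_nonneg (Int.emod_nonneg _ (by exact_mod_cast (orderOf_pos a₀).ne')),
          zpow_mod_orderOf]
      have h8 : ((i : ZMod r)) ^ 8 = 1 := by
        have := (ZMod.natCast_eq_natCast_iff _ _ r).2 (hno g hg i (hz.symm.trans hi))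
        simpa using this
      have hpm : (i : ZMod r) = 1 ∨ (i : ZMod r) = -1 := pow_eight hcases _ h8
      rw [← hz, hi]
      rcases hpm with h | h
      · exact Or.inl (pow_eq_self_of_modEq (ha₀o ▸ (ZMod.natCast_eq_natCast_iff _ _ r).1 (by simpa using h)))
      · refine Or.inr (eq_inv_of_mul_eq_one_left ?_)
        rw [← pow_succ]
        refine orderOf_dvd_iff_pow_eq_one.1 (ha₀o.symm ▸ (ZMod.natCast_eq_zero_iff _ _).1 ?_)
        push_cast
        rw [h, neg_add_cancel]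
    have hidx : Nat.card N = 2 * Nat.card C := by
      have h2 : (C.subgroupOf N).index = 2 := by
        have hmemC : ∀ h : G, h ∈ C ↔ h * a₀ * h⁻¹ = a₀ := fun h =>
          mem_centralizer_singleton_iff.trans mul_inv_eq_iff_eq_mul.symm
        have hmul : ∀ b : G, b * g₁ * a₀ * (b * g₁)⁻¹ = (b * a₀ * b⁻¹)⁻¹ := fun b => by
          calc b * g₁ * a₀ * (b * g₁)⁻¹ = b * (g₁ * a₀ * g₁⁻¹) * b⁻¹ := by group
            _ = (b * a₀ * b⁻¹)⁻¹ := by rw [hg₁a]; group
        have hne : a₀⁻¹ ≠ a₀ := fun h => by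
          have hd : orderOf a₀ ∣ 2 := orderOf_dvd_of_pow_eq_one (by
            rw [pow_two]; nth_rw 1 [← h]; exact inv_mul_cancel a₀)
          rw [ha₀o] at hd
          exact hr2 ((Nat.prime_dvd_prime_iff_eq hr.out Nat.prime_two).1 hd)
        refine index_eq_two_iff.2 ⟨⟨g₁, hg₁⟩, fun b => ?_⟩
        simp only [mem_subgroupOf, Subgroup.coe_mul, hmemC, hmul]
        rcases hsign b b.2 with h | h
        · exact Or.inr ⟨h, by rw [h]; exact hne⟩
        · exact Or.inl ⟨by rw [h, inv_inv], by rw [h]; exact hne⟩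
      rw [← (C.subgroupOf N).card_mul_index, h2, Nat.card_congr (subgroupOfEquivOfLe hCN).toEquiv, mul_comm]
    have hprod : N.index * (2 * Nat.card C) = 175560 := by
      rw [← hidx, mul_comm, N.card_mul_index, hG]
    rcases hcases with rfl | rfl | rfl <;>
      rcases hmem with h | h | h | h | h | h | h | h <;> rw [h] at hprod hrCd <;> omega
  · push Not at hno
    obtain ⟨g, -, i, hgi, hi8⟩ := hno
    have hpow : ∀ m : ℕ, g ^ m * a₀ * (g ^ m)⁻¹ = a₀ ^ i ^ m := by
      intro m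
      induction m with
      | zero => simp
      | succ m ih =>
        calc g ^ (m + 1) * a₀ * (g ^ (m + 1))⁻¹ = g ^ m * (g * a₀ * g⁻¹) * (g ^ m)⁻¹ := by
              rw [pow_succ]; group
          _ = (g ^ m * a₀ * (g ^ m)⁻¹) ^ i := by rw [hgi, conj_pow]
          _ = a₀ ^ i ^ (m + 1) := by rw [ih, ← pow_mul, pow_succ]
    have hcop : i.Coprime r := by
      refine ((hr.out.coprime_iff_not_dvd).2 fun h => ha₀1 ?_).symm
      have : g * a₀ * g⁻¹ = 1 := hgi.trans (orderOf_dvd_iff_pow_eq_one.1 (ha₀o ▸ h))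
      exact conj_eq_one_iff.1 this
    obtain ⟨m, hm, hm'⟩ : ∃ m, Odd m ∧ (i ^ 8) ^ m ≡ 1 [MOD r] := by
      refine ⟨(r - 1) / 2, by rcases hcases with rfl | rfl | rfl <;> decide, ?_⟩
      have h := (Nat.ModEq.pow_totient hcop).pow 4
      rw [Nat.totient_prime hr.out, one_pow, ← pow_mul] at h
      rwa [← pow_mul, show 8 * ((r - 1) / 2) = (r - 1) * 4 by
        rcases hcases with rfl | rfl | rfl <;> rfl]
    have hord : ∀ a : G, IsPGroup r ↥(zpowers a) → orderOf a ∣ r := fun a ha => by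
      obtain ⟨c, z, rfl⟩ := hreps a ha
      rw [← MulAut.conj_apply, MulEquiv.orderOf_eq, ← ha₀o]
      exact orderOf_dvd_of_mem_zpowers (zpow_mem (mem_zpowers a₀) z)
    refine ⟨i ^ 8, hi8, ⟨m, hm, fun a ha => pow_eq_self_of_modEq (hm'.of_dvd (hord a ha))⟩, hfree,
      fun a ha => ?_, fun P hP _ k _ _ _ a ha ha1 hka b hb => ?_, hinvP⟩
    · obtain ⟨c, z, rfl⟩ := hreps a ha
      refine isConj_iff.2 ⟨c * g ^ 8 * c⁻¹, ?_⟩
      calc c * g ^ 8 * c⁻¹ * (c * a₀ ^ z * c⁻¹) * (c * g ^ 8 * c⁻¹)⁻¹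
          = c * (g ^ 8 * a₀ ^ z * (g ^ 8)⁻¹) * c⁻¹ := by group
        _ = c * (a₀ ^ z) ^ (i ^ 8) * c⁻¹ := by
            rw [← conj_zpow, hpow 8]
            congr 2
            rw [← zpow_natCast, ← zpow_natCast, ← zpow_mul, ← zpow_mul, mul_comm]
        _ = (c * a₀ ^ z * c⁻¹) ^ (i ^ 8) := conj_pow.symm
    · obtain ⟨s, hs⟩ := hP.exists_card_eq
      have hPle : Nat.card P ≤ r := by
        have h := (Nat.Prime.pow_dvd_iff_le_factorization hr.out Nat.card_pos.ne').1
          (hs ▸ card_subgroup_dvd_card P)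
        rw [hfac] at h
        rw [hs]
        calc r ^ s ≤ r ^ 1 := Nat.pow_le_pow_right hr.out.pos h
          _ = r := pow_one r
      have hao : orderOf a = r := ((Nat.dvd_prime hr.out).1 (hord a (hP.to_le (zpowers_le.2 ha)))).resolve_left
        fun h => ha1 (orderOf_eq_one_iff.1 h)
      have hPz : zpowers a = P := eq_of_le_of_card_ge (zpowers_le.2 ha)
        (by rw [Nat.card_zpowers, hao]; exact hPle)
      rw [← hPz] at hb
      obtain ⟨z, rfl⟩ := hb
      show k * a ^ z * k⁻¹ = (a ^ z) ^ (i ^ 8)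
      rw [← conj_zpow, hka, ← zpow_natCast, ← zpow_natCast, ← zpow_mul, ← zpow_mul, mul_comm]

/-- **Every prime outside `C(t)` has a scalar.** -/
theorem torus_fact : TorusFact.{u, v} := by
  intro T _ _ hs hab2 t K _ _ ht hodd h5 hC r hrp hrT hrC
  haveI := hs
  haveI := Fact.mk hrp
  haveI := Fact.mk Nat.prime_three
  have hab : ∀ P : Sylow 2 T, ∀ a b : P, a * b = b * a :=
    fun P a b => Subtype.ext (hab2 _ P.2 a a.2 b b.2)
  obtain ⟨e⟩ := hC
  let S : JT.Setup T (Matrix.ProjectiveSpecialLinearGroup (Fin 2) K) := ⟨t, ht, e⟩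
  obtain ⟨r', hK, hr'⟩ := JT.Loc.exists_kfacts hodd (by omega) (S.sylow_comm hab)
  have hE : Emb S.t S.embK := by
    refine ⟨hab2, ht, fun a b h => congrArg Prod.snd (JT.Loc.emb_injective S h),
      fun x => JT.Loc.emb_commute S _, fun g hg => ?_, fun x hx => ?_, JT.Loc.fused S hK hab⟩
    · obtain ⟨⟨b, x⟩, rfl⟩ := JT.Loc.emb_surj S hg
      refine ⟨x, ?_⟩
      rcases JT.Loc.z2_cases b with rfl | rfl
      · exact Or.inl rfl
      · refine Or.inr ?_
        show S.emb _ = S.emb (1, x) * S.t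
        rw [← JT.Loc.emb_t S hK, ← map_mul]
        congr 1
        ext <;> simp
    · have h := JT.Loc.emb_injective S (hx.trans (JT.Loc.emb_t S hK).symm)
      exact absurd (show Multiplicative.ofAdd (1 : ZMod 2) = 1 from (congrArg Prod.fst h).symm) (by decide)
  rcases S0343.result hab (by omega : 3 ≤ Fintype.card K) t ht ⟨e⟩ with ⟨m, hm, hq, hcard⟩ | ⟨h45, hJ⟩
  · set n := 2 * m + 1 with hn
    have hnodd : Odd n := ⟨m, rfl⟩
    have h8 : Fintype.card K % 8 = 3 := by
      rw [hq, hn, pow_succ, pow_mul, Nat.mul_mod, Nat.pow_mod]; norm_num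
    haveI : CharP K 3 := charP_of_card_eq_prime_pow hq
    have hr4 : 4 * r' = 3 ^ n + 1 := by
      rcases hr' with ⟨h, -⟩ | ⟨-, h⟩
      · omega
      · rw [← hq]; exact h
    have hL : EqConjOdd.LFacts (Matrix.ProjectiveSpecialLinearGroup (Fin 2) K) (3 ^ n) 3 :=
      hq ▸ EqConjOdd.exists_lfacts hq (Or.inl h8) (by omega)
    obtain ⟨U, H, w, hsplit⟩ := exists_split hnodd hL hK hr4
    have D : ReeData S.t S.embK n U H w := ⟨hE, hL.simple, hsplit, hnodd, by omega, hcard, fun v hv =>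
      (hK.torus v hv).1.trans hr4⟩
    exact ree_torus S D hK hr4 hab hrT hrC
  · have h5' : Fintype.card K = 5 := by
      rcases h45 with h | h
      · rw [h] at hodd; exact absurd hodd (by decide)
      · exact h
    obtain ⟨eA⟩ := S0253.result h5'
    exact janko_torus (t := S.t) hE hJ.2 eA hrT hrC

end Cfsg.Agent.Walter.Field
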