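import Cfsg.Agent.Lib.Walter.Field.Split
import Cfsg.Agent.Lib.SEAbelian.ReduceTools
import Cfsg.Agent.Lib.Coprime.Sylow
import Cfsg.Agent.Lib.Involutions.ThompsonTransfer
import Cfsg.Agent.S0205

/-!
# The four-group argument below an involution centraliser `C₂ × X`

Subgroups of odd order normalised by two commuting involutions, centralisers of elements of odd
order of `C(t)` with a single involution.
-/

set_option autoImplicit false
set_option linter.unusedSectionVars false

namespace Cfsg.Agent.Walter.Field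

open Subgroup

universe u v

variable {G : Type u} [Group G]

/-- `C(t) = φ(X) × ⟨t⟩` and all involutions are conjugate to `t`. -/
structure Emb (t : G) {X : Type v} [Group X] (φ : X →* G) : Prop where
  two : SEAbelian.AbTwo G
  ht : orderOf t = 2
  inj : Function.Injective φ
  comm : ∀ x, Commute (φ x) t
  split : ∀ g, Commute g t → ∃ x, g = φ x ∨ g = φ x * t
  t_not : ∀ x, φ x ≠ t
  fused : ∀ y : G, orderOf y = 2 → IsConj t y

/-- No element of order `p` in the centralizer of an involution is inverted by an involution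
commuting with this one. -/
def NoReal (G : Type u) [Group G] (p : ℕ) : Prop :=
  ∀ i s g : G, orderOf i = 2 → orderOf s = 2 → Commute i s → i ≠ s → Commute g i →
    s * g * s⁻¹ = g⁻¹ → g ^ p = 1 → g = 1

theorem mul_self_of_two {i : G} (h : orderOf i = 2) : i * i = 1 := by
  rw [← pow_two, ← h, pow_orderOf_eq_one]

variable [Finite G]

/-- A `p`-group normalised by two commuting involutions, one of which fixes no nontrivial element,
is trivial. -/
theorem pgroup_eq_bot {p : ℕ} [Fact p.Prime] (hp2 : p ≠ 2) (hreal : NoReal G p) {P : Subgroup G}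
    (hP : IsPGroup p ↥P) {t v : G} (ht : orderOf t = 2) (hv : orderOf v = 2) (htv : Commute t v)
    (hne : t ≠ v) (hPt : t ∈ normalizer (P : Set G)) (hPv : v ∈ normalizer (P : Set G))
    (hfix : ∀ g ∈ P, Commute g t → g = 1) : P = ⊥ := by
  by_contra hbot
  have hnorm : ∀ s : G, s ∈ normalizer (P : Set G) → ∀ g ∈ P, s * g * s⁻¹ ∈ P :=
    fun s hs g hg => (mem_normalizer_iff.1 hs g).1 hg
  have ht2 := mul_self_of_two ht
  have hti : t⁻¹ = t := inv_eq_of_mul_eq_one_right ht2
  let ψ : P →* P :=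
    { toFun := fun x => ⟨t * x * t⁻¹, hnorm t hPt x x.2⟩
      map_one' := Subtype.ext (by simp)
      map_mul' := fun x y => Subtype.ext (by simp [mul_assoc]) }
  have hψ : MonoidHom.FixedPointFree ψ := fun x hx => Subtype.ext (hfix x x.2
    (mul_inv_eq_iff_eq_mul.1 (congrArg Subtype.val hx : t * (x : G) * t⁻¹ = x)).symm)
  have hinv : ∀ g ∈ P, t * g * t⁻¹ = g⁻¹ := fun g hg => congrArg Subtype.val (congrFun
    (MonoidHom.FixedPointFree.coe_eq_inv_of_involutive hψ (fun x => Subtype.ext (by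
      show t * (t * (x : G) * t⁻¹) * t⁻¹ = x
      rw [hti, ← mul_assoc, ← mul_assoc, ht2, one_mul, mul_assoc, ht2, mul_one]))) ⟨g, hg⟩)
  have hab : ∀ a ∈ P, ∀ b ∈ P, a * b = b * a := by
    intro a ha b hb
    have h1 := hinv _ (P.mul_mem ha hb)
    rw [← conj_mul, hinv a ha, hinv b hb, ← mul_inv_rev, inv_inj] at h1
    exact h1.symm
  haveI : Nontrivial P := nontrivial_iff_ne_bot P |>.2 hbot
  obtain ⟨k, hk, hcard⟩ := hP.nontrivial_iff_card.1 inferInstance
  obtain ⟨⟨g, hg⟩, hgo⟩ := exists_prime_orderOf_dvd_card' (G := P) p (hcard ▸ dvd_pow_self p hk.ne')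
  rw [orderOf_mk] at hgo
  have hg1 : g ≠ 1 := fun e => by rw [e, orderOf_one] at hgo; exact Fact.out (p := p.Prime) |>.ne_one hgo.symm
  have hgp : g ^ p = 1 := hgo ▸ pow_orderOf_eq_one g
  have hv2 := mul_self_of_two hv
  have hvi : v⁻¹ = v := inv_eq_of_mul_eq_one_right hv2
  set g' := v * g * v⁻¹ with hg'
  have hg'P : g' ∈ P := hnorm v hPv g hg
  have hgg' : g * g' = 1 := by
    refine hreal v t _ hv ht htv.symm hne.symm ?_ (hinv _ (P.mul_mem hg hg'P)) ?_
    · have e : v * g' * v⁻¹ = g := by rw [hg', hvi, ← mul_assoc, ← mul_assoc, hv2, one_mul,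
        mul_assoc, hv2, mul_one]
      have h1 : v * (g * g') * v⁻¹ = g * g' := by rw [← conj_mul, e, ← hg', hab g' hg'P g hg]
      exact (mul_inv_eq_iff_eq_mul.1 h1).symm
    · have hcomm : Commute g g' := hab g hg g' hg'P
      rw [hcomm.mul_pow, hgp, hg', conj_pow, hgp, mul_one, mul_inv_cancel, mul_one]
  have hvg : v * g * v⁻¹ = g⁻¹ := eq_inv_of_mul_eq_one_right hgg'
  have hi : orderOf (t * v) = 2 := by
    refine orderOf_eq_prime (by rw [htv.mul_pow, pow_two, pow_two, ht2, hv2, one_mul]) fun e => hne ?_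
    calc t = t * v * v⁻¹ := by group
      _ = v := by rw [e, one_mul, hvi]
  have hc : Commute g (t * v) := by
    have h1 : t * v * g * (t * v)⁻¹ = g := by
      rw [show t * v * g * (t * v)⁻¹ = t * (v * g * v⁻¹) * t⁻¹ by group, hvg,
        hinv _ (P.inv_mem hg), inv_inv]
    exact (mul_inv_eq_iff_eq_mul.1 h1).symm
  refine hg1 (hreal (t * v) t g hi ht ((Commute.refl t).mul_left htv.symm) (fun e => ?_) hc
    (hinv g hg) hgp)
  rw [mul_eq_left] at e
  rw [e, orderOf_one] at hv
  exact absurd hv (by norm_num)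

/-- An odd subgroup normalised by two commuting involutions has order prime to `p`, if one of them
fixes no element of order `p` in it. -/
theorem not_dvd_of_four {p : ℕ} [Fact p.Prime] (hp2 : p ≠ 2) (hreal : NoReal G p) {O : Subgroup G}
    (hodd : Odd (Nat.card O)) {t v : G} (ht : orderOf t = 2) (hv : orderOf v = 2) (htv : Commute t v)
    (hne : t ≠ v) (hOt : t ∈ normalizer (O : Set G)) (hOv : v ∈ normalizer (O : Set G))
    (hfix : ∀ g ∈ O, Commute g t → g ^ p = 1 → g = 1) : ¬ p ∣ Nat.card O := by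
  haveI : Fact (Nat.Prime 2) := ⟨Nat.prime_two⟩
  let A := zpowers t ⊔ zpowers v
  have h2 : ∀ i : G, orderOf i = 2 → IsPGroup 2 (zpowers i) := fun i hi =>
    IsPGroup.of_card (n := 1) (by rw [Nat.card_zpowers, hi, pow_one])
  have hA2 : IsPGroup 2 A := (h2 t ht).to_sup_of_normal_right' (h2 v hv) (zpowers_le.2 (by
    refine mem_normalizer_iff.2 fun x => ?_
    have hx : ∀ y ∈ zpowers v, Commute t y := fun y hy => by
      obtain ⟨i, rfl⟩ := hy; exact htv.zpow_right i
    constructor
    · intro h; rw [(hx x h).eq, mul_inv_cancel_right]; exact h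
    · intro h
      have e := (hx _ h).eq
      have : x = t * x * t⁻¹ := by
        calc x = t⁻¹ * (t * x * t⁻¹ * t) := by group
          _ = t⁻¹ * (t * (t * x * t⁻¹)) := by rw [← e]
          _ = t * x * t⁻¹ := by group
      rw [this]; exact h))
  obtain ⟨a, ha⟩ := hA2.exists_card_eq
  obtain ⟨P, hP⟩ := Coprime.exists_invariant_sylow p
    (sup_le (zpowers_le.2 hOt) (zpowers_le.2 hOv) : A ≤ normalizer (O : Set G))
    (by rw [ha]; exact (Nat.coprime_two_left.2 hodd).pow_left a) (Or.inr (S0205.result hodd))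
  have hbot := pgroup_eq_bot hp2 hreal (P.2.map O.subtype) ht hv htv hne
    (hP (mem_sup_left (mem_zpowers t))) (hP (mem_sup_right (mem_zpowers v))) fun g hg hgt => by
      by_contra h1
      obtain ⟨k, hk⟩ := (P.2.map O.subtype) ⟨g, hg⟩
      have hgk : g ^ p ^ k = 1 := congrArg Subtype.val hk
      obtain ⟨j, -, hj⟩ := (Nat.dvd_prime_pow Fact.out).1 (orderOf_dvd_of_pow_eq_one hgk)
      have hj0 : j ≠ 0 := by
        rintro rfl; rw [pow_zero, orderOf_eq_one_iff] at hj; exact h1 hj
      obtain ⟨i, rfl⟩ := Nat.exists_eq_succ_of_ne_zero hj0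
      have h2 := hfix (g ^ p ^ i) (pow_mem (map_subtype_le _ hg) _) (hgt.pow_left _)
        (by rw [← pow_mul, ← pow_succ, ← hj, pow_orderOf_eq_one])
      have h3 : p ^ (i + 1) ∣ p ^ i := hj ▸ orderOf_dvd_of_pow_eq_one h2
      exact absurd ((Nat.pow_dvd_pow_iff_le_right (Fact.out : p.Prime).one_lt).1 h3) (by omega)
  intro hdvd
  have h1 := P.dvd_card_of_dvd_card hdvd
  rw [← card_subtype O (P : Subgroup O), hbot, card_bot] at h1
  exact Fact.out (p := p.Prime) |>.ne_one (Nat.dvd_one.1 h1)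

/-- The normal subgroup of index two. -/
theorem exists_odd_index_two {K : Type*} [Group K] [Finite K] (h2 : 2 ∣ Nat.card K) (h4 : ¬ 4 ∣ Nat.card K) :
    ∃ W : Subgroup K, W.Normal ∧ Odd (Nat.card W) ∧ Nat.card K = 2 * Nat.card W ∧
      ∀ x : K, Odd (orderOf x) → x ∈ W := by
  haveI : Fact (Nat.Prime 2) := ⟨Nat.prime_two⟩
  obtain ⟨S⟩ : Nonempty (Sylow 2 K) := inferInstance
  have hS : Nat.card (S : Subgroup K) = 2 := by
    rw [S.card_eq_multiplicity]
    have h1 := (Nat.Prime.pow_dvd_iff_le_factorization Nat.prime_two Nat.card_pos.ne' (k := 1)).1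
      (by simpa using h2)
    have h3 : ¬ 2 ≤ (Nat.card K).factorization 2 := fun h => h4
      ((Nat.Prime.pow_dvd_iff_le_factorization Nat.prime_two Nat.card_pos.ne' (k := 2)).2 h)
    rw [show (Nat.card K).factorization 2 = 1 by omega, pow_one]
  haveI := isCyclic_of_prime_card (α := (S : Subgroup K)) (p := 2) hS
  obtain ⟨W, hW⟩ := Involutions.ThompsonTransfer.exists_index_two_of_isCyclic_sylow
    (even_iff_two_dvd.2 h2) S inferInstance
  have hcard : Nat.card K = 2 * Nat.card W := by rw [← W.card_mul_index, hW, mul_comm]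
  refine ⟨W, normal_of_index_eq_two hW, Nat.not_even_iff_odd.1 fun he => h4 ?_, hcard, fun x hx => ?_⟩
  · obtain ⟨c, hc⟩ := he
    exact ⟨c, by omega⟩
  · obtain ⟨k, hk⟩ := hx
    have h1 : x ^ 2 ∈ W := sq_mem_of_index_two hW x
    have h3 : x = (x ^ 2) ^ (k + 1) := by
      rw [← pow_mul, show 2 * (k + 1) = orderOf x + 1 by omega, pow_succ, pow_orderOf_eq_one, one_mul]
    rw [h3]; exact pow_mem h1 _

namespace Emb

variable {t : G} {X : Type v} [Group X] {φ : X →* G} (hE : Emb t φ)
include hE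

theorem mem_range {g : G} (hc : Commute g t) (ho : Odd (orderOf g)) : ∃ x, g = φ x := by
  obtain ⟨x, h | h⟩ := hE.split g hc
  · exact ⟨x, h⟩
  · exfalso
    obtain ⟨k, hk⟩ := ho
    have h1 : g ^ (2 * k + 1) = 1 := hk ▸ pow_orderOf_eq_one g
    rw [h, (hE.comm x).mul_pow, pow_succ t, pow_mul t, pow_two, mul_self_of_two hE.ht, one_pow, one_mul,
      ← map_pow] at h1
    refine hE.t_not (x ^ (2 * k + 1))⁻¹ ?_
    rw [map_inv, ← eq_inv_of_mul_eq_one_right h1]

/-- Two commuting involutions and an element of `C(i)`, moved to `t`. -/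
theorem noReal_of {p : ℕ}
    (h : ∀ s x : X, orderOf s = 2 → s * x * s⁻¹ = x⁻¹ → x ^ p = 1 → x = 1) (hp : Odd p) :
    NoReal G p := by
  intro i s g hi hs his hne hgi hsg hgp
  obtain ⟨c, hc⟩ := isConj_iff.1 (hE.fused i hi)
  let f : G →* G := (MulAut.conj c⁻¹).toMonoidHom
  have hinj : Function.Injective f := (MulAut.conj c⁻¹).injective
  have hit : f i = t := by
    show c⁻¹ * i * c⁻¹⁻¹ = t
    rw [← hc]; group
  have hgc : Commute (f g) t := hit ▸ hgi.map f
  have hsc : Commute (f s) t := hit ▸ his.symm.map f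
  have ho : Odd (orderOf (f g)) := by
    rw [orderOf_injective f hinj]
    exact hp.of_dvd_nat (orderOf_dvd_of_pow_eq_one hgp)
  obtain ⟨x, hx⟩ := hE.mem_range hgc ho
  obtain ⟨y, hy⟩ := hE.split _ hsc
  have hconj : y * x * y⁻¹ = x⁻¹ := by
    have e : f s * f g * (f s)⁻¹ = (f g)⁻¹ := by rw [← map_inv, ← map_mul, ← map_mul, hsg, map_inv]
    refine hE.inj ?_
    rw [map_mul, map_mul, map_inv, map_inv, ← hx]
    rcases hy with hy | hy
    · rw [← hy]; exact e
    · rw [hy] at e
      calc φ y * f g * (φ y)⁻¹ = φ y * (t * f g * t⁻¹) * (φ y)⁻¹ := by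
            rw [← hgc.eq, mul_inv_cancel_right]
        _ = (f g)⁻¹ := by rw [← e]; group
  have hxp : x ^ p = 1 := hE.inj (by rw [map_pow, ← hx, ← map_pow, hgp, map_one, map_one])
  have hy2 : y * y = 1 := by
    have e : f s * f s = 1 := by rw [← map_mul, mul_self_of_two hs, map_one]
    refine hE.inj ?_
    rw [map_mul, map_one]
    rcases hy with hy | hy
    · rw [← hy]; exact e
    · rw [hy, (hE.comm y).symm.mul_mul_mul_comm, mul_self_of_two hE.ht, mul_one] at e; exact e
  have hx1 : x = 1 := by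
    by_cases hy1 : y = 1
    · rw [hy1, one_mul, inv_one, mul_one] at hconj
      have h2 : x ^ 2 = 1 := by rw [pow_two]; exact eq_inv_iff_mul_eq_one.1 hconj
      obtain ⟨k, hk⟩ := hp
      rwa [hk, pow_succ, pow_mul, h2, one_pow, one_mul] at hxp
    · exact h y x (orderOf_eq_prime (by rw [pow_two, hy2]) hy1) hconj hxp
  exact hinj (by rw [hx, hx1, map_one, map_one])

/-- The centraliser of an element of odd order with a single involution in `C(t)`. -/
theorem not_dvd_centralizer {p : ℕ} [Fact p.Prime] (hp2 : p ≠ 2) (hreal : NoReal G p) {k : X}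
    (hk : ∀ y : X, Commute y k → Odd (orderOf y) ∧ (y ^ p = 1 → y = 1)) {w : X} (hw : orderOf w = 2)
    (hwk : w * k * w⁻¹ = k⁻¹) : ¬ p ∣ Nat.card (centralizer ({φ k} : Set G)) := by
  classical
  haveI : Fact (Nat.Prime 2) := ⟨Nat.prime_two⟩
  set C := centralizer ({φ k} : Set G) with hC
  have htC : t ∈ C := mem_centralizer_singleton_iff.2 (hE.comm k).symm.eq
  have h2 : 2 ∣ Nat.card C := by
    have h := orderOf_dvd_natCard C htC
    rwa [hE.ht] at h
  have h4 : ¬ 4 ∣ Nat.card C := by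
    intro h4
    obtain ⟨Q, hQ, htQ⟩ : ∃ Q : Sylow 2 C, 4 ∣ Nat.card (Q : Subgroup C) ∧ (⟨t, htC⟩ : C) ∈ (Q : Subgroup C) := by
      obtain ⟨Q, hQ⟩ := (IsPGroup.of_card (n := 1) (G := zpowers (⟨t, htC⟩ : C)) (by
        rw [Nat.card_zpowers, orderOf_mk, hE.ht, pow_one])).exists_le_sylow
      exact ⟨Q, Q.pow_dvd_card_of_pow_dvd_card (n := 2) h4, hQ (mem_zpowers _)⟩
    have hsub : ∀ y : C, y ∈ (Q : Subgroup C) → y = 1 ∨ y = ⟨t, htC⟩ := by
      intro y hy
      have hyt : Commute (y : G) t := hE.two _ (Q.2.map C.subtype) y ⟨y, hy, rfl⟩ t ⟨_, htQ, rfl⟩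
      obtain ⟨x, hx⟩ := hE.split _ hyt
      have hxk : Commute x k := by
        have hyk : Commute (y : G) (φ k) := (mem_centralizer_singleton_iff.1 y.2)
        refine hE.inj ?_
        rw [map_mul, map_mul]
        rcases hx with hx | hx
        · rwa [hx] at hyk
        · rw [hx] at hyk
          have := hyk.mul_left ((hE.comm k).symm.inv_left)
          rwa [mul_inv_cancel_right] at this
      obtain ⟨j, hj⟩ := Q.2 ⟨y, hy⟩
      have hyj : (y : G) ^ 2 ^ j = 1 := congrArg (fun z : (Q : Subgroup C) => ((z : C) : G)) hj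
      have hx1 : x = 1 := by
        have hd : orderOf x ∣ 2 ^ (j + 1) := by
          refine orderOf_dvd_of_pow_eq_one (hE.inj ?_)
          rw [map_pow, map_one]
          rcases hx with hx | hx
          · rw [← hx, pow_succ, pow_mul, hyj, one_pow]
          · have e : φ x ^ 2 ^ (j + 1) = (y : G) ^ 2 ^ (j + 1) := by
              rw [hx, (hE.comm x).mul_pow, pow_succ' 2 j, pow_mul t, pow_two t, mul_self_of_two hE.ht,
                one_pow, mul_one]
            rw [e, pow_succ, pow_mul, hyj, one_pow]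
        exact orderOf_eq_one_iff.1 (Nat.eq_one_of_dvd_coprimes
          ((Nat.coprime_two_left.2 (hk x hxk).1).pow_left (j + 1)).symm dvd_rfl hd)
      rw [hx1, map_one, one_mul] at hx
      exact hx.imp (fun h => Subtype.ext h) fun h => Subtype.ext h
    have hle : Nat.card (Q : Subgroup C) ≤ 2 := by
      have hz : Nat.card (zpowers (⟨t, htC⟩ : C)) = 2 := by rw [Nat.card_zpowers, orderOf_mk, hE.ht]
      refine le_of_le_of_eq ?_ hz
      refine card_le_of_le fun y hy => ?_
      rcases hsub y hy with rfl | rfl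
      exacts [one_mem _, mem_zpowers _]
    have := Nat.le_of_dvd Nat.card_pos hQ
    omega
  obtain ⟨W, hWn, hWodd, hWcard, hWmem⟩ := exists_odd_index_two h2 h4
  let O := W.map C.subtype
  have hOcard : Nat.card O = Nat.card W := card_subtype C W
  have hO : ∀ s : G, s * φ k * s⁻¹ ∈ ({φ k, (φ k)⁻¹} : Set G) → s ∈ normalizer (O : Set G) := by
    intro s hs
    have hsC : ∀ z ∈ C, s * z * s⁻¹ ∈ C := fun z hz => by
      have hz' : Commute z (φ k) := mem_centralizer_singleton_iff.1 hz
      have h1 : Commute (s * z * s⁻¹) (s * φ k * s⁻¹) := hz'.map (MulAut.conj s).toMonoidHom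
      refine mem_centralizer_singleton_iff.2 ?_
      rcases hs with h | h
      · rw [h] at h1; exact h1.eq
      · rw [h] at h1; exact (Commute.inv_right_iff.1 h1).eq
    have hmem : ∀ z ∈ O, s * z * s⁻¹ ∈ O := by
      rintro _ ⟨z, hz, rfl⟩
      refine ⟨⟨s * z * s⁻¹, hsC z z.2⟩, hWmem _ ?_, rfl⟩
      rw [orderOf_mk, ← MulAut.conj_apply, MulEquiv.orderOf_eq, Subgroup.orderOf_coe]
      exact hWodd.of_dvd_nat (orderOf_dvd_natCard W hz)
    exact EqualOrderConj.mem_normalizer_of_conj_mem hmem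
  have hwt : t ≠ φ w := fun e => hE.t_not w e.symm
  have hO' : ¬ p ∣ Nat.card O := by
    refine not_dvd_of_four hp2 hreal (hOcard ▸ hWodd) hE.ht (by rw [orderOf_injective φ hE.inj, hw])
      (hE.comm w).symm hwt (hO t (Or.inl (by rw [← (hE.comm k).eq, mul_inv_cancel_right])))
      (hO (φ w) (Or.inr (show φ w * φ k * (φ w)⁻¹ = (φ k)⁻¹ by
        rw [← map_inv, ← map_mul, ← map_mul, hwk, map_inv]))) ?_
    rintro _ ⟨z, hz, rfl⟩ hzt hzp
    have ho : Odd (orderOf (z : G)) := by
      rw [Subgroup.orderOf_coe]; exact hWodd.of_dvd_nat (orderOf_dvd_natCard W hz)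
    obtain ⟨x, hx⟩ := hE.mem_range hzt ho
    have hxk : Commute x k := hE.inj (by
      rw [map_mul, map_mul, ← hx]; exact mem_centralizer_singleton_iff.1 z.2)
    have hxp : x ^ p = 1 := hE.inj (by rw [map_pow, ← hx, map_one]; exact hzp)
    show (z : G) = 1
    exact hx.trans (by rw [(hk x hxk).2 hxp, map_one])
  rw [hWcard]
  intro hd
  rcases (Nat.Prime.dvd_mul Fact.out).1 hd with h | h
  · exact hp2 ((Nat.prime_dvd_prime_iff_eq Fact.out Nat.prime_two).1 h)
  · exact hO' (hOcard ▸ h)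

end Emb

end Cfsg.Agent.Walter.Field
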