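import Mathlib
import Cfsg.Agent.Lib.SEAbelian.ReduceTools

/-!
# The field part of an involution centraliser: interfaces

Walter cluster, `notes/walter-fieldpart-h17.md`.  `G` is simple with abelian Sylow 2-subgroups and
`C(t) = ⟨t⟩ × E` where `E` has a normal subgroup `E₀ ≅ PSL₂(q)` with trivial centraliser in `E`;
the aim is `C(t) = ⟨t⟩ × E₀`.
-/

set_option autoImplicit false

namespace Cfsg.Agent.Walter.Field

open Subgroup

universe u v

variable {G : Type u} [Group G]

/-- The centraliser of `t` is `⟨t⟩ × (PSL₂(K) extended by automorphisms)`. -/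
structure TwoPSL (t : G) (K : Type v) [Field K] [Fintype K] (E₀ : Subgroup G) : Prop where
  ht : orderOf t = 2
  odd : Odd (Fintype.card K)
  le : E₀ ≤ centralizer ({t} : Set G)
  normal : centralizer ({t} : Set G) ≤ normalizer (E₀ : Set G)
  t_not : t ∉ E₀
  faithful : centralizer ({t} : Set G) ⊓ centralizer (E₀ : Set G) = zpowers t
  iso : Nonempty (↥E₀ ≃* Matrix.ProjectiveSpecialLinearGroup (Fin 2) K)

/-- The order of the field part. -/
noncomputable def outIndex (t : G) (E₀ : Subgroup G) : ℕ :=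
  (zpowers t ⊔ E₀).relIndex (centralizer ({t} : Set G))

/-- An element `x` of prime order `r` of the field part: it centralises a Sylow 2-subgroup
through `t` and lies outside `⟨t⟩ × E₀`. -/
structure FieldElt (t : G) (E₀ : Subgroup G) (x : G) (r : ℕ) : Prop where
  prime : r.Prime
  order : orderOf x = r
  comm : Commute x t
  outside : x ∉ zpowers t ⊔ E₀
  sylow : ∃ S : Sylow 2 G, t ∈ (S : Subgroup G) ∧ ∀ s ∈ (S : Subgroup G), Commute x s

/-- The bound on the 3-part of `C(x)` used for `r = p = 3`. -/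
def XBound (t : G) (E₀ : Subgroup G) (x : G) (q₀ : ℕ) : Prop :=
  ∀ P : Subgroup G, IsPGroup 3 ↥P → P ≤ centralizer ({x} : Set G) →
    Nat.card ↥P ∣ q₀ ^ 3 * outIndex t E₀

/-- The field part is trivial in the simple groups of order below `n`. -/
def FieldBelow (n : ℕ) : Prop :=
  ∀ (T : Type u) [Group T] [Finite T], IsSimpleGroup T → SEAbelian.AbTwo T → Nat.card T < n →
    ∀ (t : T) (K : Type v) [Field K] [Fintype K] (E₀ : Subgroup T), 5 ≤ Fintype.card K →
      TwoPSL t K E₀ → centralizer ({t} : Set T) = zpowers t ⊔ E₀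

/-- The power `j` acts as a scalar on the `r`-tori inverted by `t`. -/
structure Scalar (T : Type u) [Group T] (t : T) (r j : ℕ) : Prop where
  /-- `j` has odd order, not one, modulo `r`. -/
  ne_one : ¬ j ≡ 1 [MOD r]
  odd_order : ∃ m, Odd m ∧ ∀ a : T, IsPGroup r ↥(zpowers a) → a ^ (j ^ m) = a
  /-- Elements of odd order of `C(t)` act freely on the `r`-elements. -/
  free : ∀ k : T, Commute k t → Odd (orderOf k) → ∀ a : T, IsPGroup r ↥(zpowers a) → a ≠ 1 →
    Commute k a → k = 1
  conj : ∀ a : T, IsPGroup r ↥(zpowers a) → IsConj a (a ^ j)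
  scalar : ∀ P : Subgroup T, IsPGroup r ↥P → (∀ b ∈ P, t * b * t⁻¹ = b⁻¹) →
    ∀ k : T, Commute k t → Odd (orderOf k) → k ∈ normalizer (P : Set T) →
      ∀ a ∈ P, a ≠ 1 → k * a * k⁻¹ = a ^ j → ∀ b ∈ P, k * b * k⁻¹ = b ^ j
  /-- A Sylow `r`-subgroup is inverted by `t`. -/
  inv : ∃ P : Sylow r T, ∀ b ∈ (P : Subgroup T), t * b * t⁻¹ = b⁻¹

/-- Every prime outside an involution centraliser `C₂ × PSL₂(q)` has a scalar. -/
def TorusFact : Prop :=
  ∀ (T : Type u) [Group T] [Finite T], IsSimpleGroup T → SEAbelian.AbTwo T →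
    ∀ (t : T) (K : Type v) [Field K] [Fintype K], orderOf t = 2 → Odd (Fintype.card K) →
      5 ≤ Fintype.card K →
      Nonempty (centralizer ({t} : Set T) ≃*
        Multiplicative (ZMod 2) × Matrix.ProjectiveSpecialLinearGroup (Fin 2) K) →
      ∀ r : ℕ, r.Prime → r ∣ Nat.card T → ¬ r ∣ Nat.card (centralizer ({t} : Set T)) →
        ∃ j : ℕ, Scalar T t r j

/-- Step 0 for `r = p = 3` (piece b). -/
def BoundFact : Prop :=
  ∀ (G : Type u) [Group G] [Finite G], IsSimpleGroup G → SEAbelian.AbTwo G →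
    FieldBelow.{u, v} (Nat.card G) →
    ∀ (t : G) (K : Type v) [Field K] [Fintype K] (E₀ : Subgroup G) (x : G) (q₀ : ℕ),
      5 ≤ Fintype.card K → TwoPSL t K E₀ → FieldElt t E₀ x 3 → ringChar K = 3 →
        Fintype.card K = q₀ ^ 3 → XBound t E₀ x q₀

/-- Step 1 (piece c). -/
def ThreeFact : Prop :=
  ∀ (G : Type u) [Group G] [Finite G], IsSimpleGroup G → SEAbelian.AbTwo G →
    ∀ (t : G) (K : Type v) [Field K] [Fintype K] (E₀ : Subgroup G) (x : G) (q₀ : ℕ),
      5 ≤ Fintype.card K → TwoPSL t K E₀ → FieldElt t E₀ x 3 → ringChar K = 3 →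
        Fintype.card K = q₀ ^ 3 → XBound t E₀ x q₀ → False

/-- All the other cases (piece b). -/
def OtherFact : Prop :=
  ∀ (G : Type u) [Group G] [Finite G], IsSimpleGroup G → SEAbelian.AbTwo G →
    FieldBelow.{u, v} (Nat.card G) → TorusFact.{u, v} →
    ∀ (t : G) (K : Type v) [Field K] [Fintype K] (E₀ : Subgroup G) (x : G) (r : ℕ),
      5 ≤ Fintype.card K → TwoPSL t K E₀ → FieldElt t E₀ x r → ¬ (ringChar K = 3 ∧ 3 ∣ outIndex t E₀) → False

end Cfsg.Agent.Walter.Field
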