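import Cfsg.Agent.Lib.Walter.Field.Defs
import Cfsg.Agent.Lib.Walter.Field.Local

/-!
# Scalars on tori inverted by `t`

Centralisers of `r`-elements inverted by `t` are abelian, odd elements of `C(t)` act freely on them and
an element of order three acts as a scalar (`notes/walter-fieldpart-h17.md`, section 4).
-/

set_option autoImplicit false
set_option linter.unusedSectionVars false
set_option linter.style.haveILetI false

namespace Cfsg.Agent.Walter.Field

open Subgroup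

universe u v

variable {G : Type u} [Group G] [Finite G]

/-- Odd elements of `C(t)` act freely on the `r`-elements. -/
def Free (G : Type u) [Group G] (t : G) (r : ℕ) : Prop :=
  ∀ k : G, Commute k t → Odd (orderOf k) → ∀ a : G, IsPGroup r ↥(zpowers a) → a ≠ 1 →
    Commute k a → k = 1

theorem pElt_pow {r : ℕ} {a : G} (h : IsPGroup r ↥(zpowers a)) : ∃ i, a ^ r ^ i = 1 := by
  obtain ⟨i, hi⟩ := h ⟨a, mem_zpowers a⟩
  exact ⟨i, congrArg Subtype.val hi⟩

theorem pElt_of_pow {r : ℕ} (hr : r.Prime) {a : G} {i : ℕ} (h : a ^ r ^ i = 1) :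
    IsPGroup r ↥(zpowers a) := by
  obtain ⟨j, -, hj⟩ := (Nat.dvd_prime_pow hr).1 (orderOf_dvd_of_pow_eq_one h)
  exact IsPGroup.of_card (n := j) (by rw [Nat.card_zpowers, hj])

theorem dvd_orderOf_pElt {r : ℕ} (hr : r.Prime) {a : G} (h : IsPGroup r ↥(zpowers a)) (h1 : a ≠ 1) :
    r ∣ orderOf a := by
  obtain ⟨i, hi⟩ := pElt_pow h
  obtain ⟨j, -, hj⟩ := (Nat.dvd_prime_pow hr).1 (orderOf_dvd_of_pow_eq_one hi)
  rw [hj]
  refine dvd_pow_self r fun h0 => h1 (orderOf_eq_one_iff.1 ?_)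
  rw [hj, h0, pow_zero]

theorem pow_eq_self_of_modEq {a : G} {i : ℕ} (h : i ≡ 1 [MOD orderOf a]) : a ^ i = a :=
  (pow_eq_pow_iff_modEq.2 h).trans (pow_one a)

/-- A power prime to `r` and not `1` moves the `r`-elements. -/
theorem pow_ne_self {r j : ℕ} (hr : r.Prime) (hj : ¬ j ≡ 1 [MOD r]) {a : G}
    (h : IsPGroup r ↥(zpowers a)) (h1 : a ≠ 1) : a ^ j ≠ a := fun e =>
  hj (((pow_eq_pow_iff_modEq (m := 1)).1 (e.trans (pow_one a).symm)).of_dvd
    (dvd_orderOf_pElt hr h h1))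

theorem mem_normalizer_centralizer {g b : G} {j i : ℕ} (hg : g * b * g⁻¹ = b ^ j)
    (hb : (b ^ j) ^ i = b) : g ∈ normalizer (centralizer ({b} : Set G) : Set G) := by
  refine EqualOrderConj.mem_normalizer_of_conj_mem fun z hz => ?_
  have h1 : Commute (g * z * g⁻¹) (g * b * g⁻¹) :=
    Commute.map (show Commute z b from mem_centralizer_singleton_iff.1 hz) (MulAut.conj g).toMonoidHom
  rw [hg] at h1
  have := h1.pow_right i
  rw [hb] at this
  exact mem_centralizer_singleton_iff.2 this.eq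

/-- A group of exponent `l` prime to an abelian `r`-group, extended fixed-point-freely by an element
of order three, does not act freely on it. -/
theorem no_frobenius {r : ℕ} {A : Subgroup G} (hA : ∀ a ∈ A, ∀ b ∈ A, a * b = b * a) {v : G}
    (hv : v ∈ A) (hv1 : v ≠ 1) {Q : Subgroup G} (hQ : ∀ a ∈ Q, ∀ b ∈ Q, a * b = b * a)
    (hQA : Q ≤ normalizer (A : Set G)) (hQ1 : Q ≠ ⊥) (hcop : (Nat.card Q).Coprime (Nat.card A))
    {k : G} (hk : k ^ 3 = 1) (hk1 : k ≠ 1) (hkA : k ∈ normalizer (A : Set G))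
    (hkQ : k ∈ normalizer (Q : Set G)) (hfix : ∀ q ∈ Q, Commute q k → q = 1)
    (hfree : ∀ g ∈ Q ⊔ zpowers k, g ≠ 1 → ∀ a ∈ A, g * a * g⁻¹ = a → a = 1) : False := by
  classical
  letI : CommGroup A := { (inferInstance : Group A) with mul_comm := fun a b => Subtype.ext (hA a a.2 b b.2) }
  haveI := Fintype.ofFinite Q
  have hcA : ∀ g ∈ normalizer (A : Set G), ∀ a ∈ A, g * a * g⁻¹ ∈ A :=
    fun g hg a ha => (mem_normalizer_iff.1 hg a).1 ha
  have hcQ : ∀ q ∈ Q, k * q * k⁻¹ ∈ Q := fun q hq => (mem_normalizer_iff.1 hkQ q).1 hq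
  have hle : Q ⊔ zpowers k ≤ normalizer (A : Set G) := sup_le hQA (zpowers_le.2 hkA)
  -- the action
  let act : ↥(normalizer (A : Set G)) → A →* A := fun g =>
    { toFun := fun a => ⟨g * a * (g : G)⁻¹, hcA g g.2 a a.2⟩
      map_one' := Subtype.ext (by simp)
      map_mul' := fun a b => Subtype.ext (by simp [mul_assoc]) }
  have act_mul : ∀ g h a, act g (act h a) = act (g * h) a := fun g h a =>
    Subtype.ext (by simp [act, mul_assoc])
  let v' : A := ⟨v, hv⟩
  let kN : ↥(normalizer (A : Set G)) := ⟨k, hkA⟩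
  let qN : Q → ↥(normalizer (A : Set G)) := fun q => ⟨q, hQA q.2⟩
  -- each element outside `Q` has order three
  have hthree : ∀ q ∈ Q, (q * k) ^ 3 = 1 := by
    intro q hq
    have h1 := hcQ q hq
    have h2 := hcQ _ h1
    have hm : q * (k * q * k⁻¹) * (k * (k * q * k⁻¹) * k⁻¹) ∈ Q := mul_mem (mul_mem hq h1) h2
    have h3 : k * (k * (k * q * k⁻¹) * k⁻¹) * k⁻¹ = q := by
      calc k * (k * (k * q * k⁻¹) * k⁻¹) * k⁻¹ = k ^ 3 * q * (k ^ 3)⁻¹ := by
            simp only [pow_succ, pow_zero, one_mul]; group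
        _ = q := by rw [hk, one_mul, inv_one, mul_one]
    have hfk : Commute (q * (k * q * k⁻¹) * (k * (k * q * k⁻¹) * k⁻¹)) k := by
      refine (mul_inv_eq_iff_eq_mul.1 ?_).symm
      rw [← conj_mul, ← conj_mul, h3, mul_assoc _ _ q, mul_assoc q, hQ _ hq _ (mul_mem h1 h2)]
      exact (mul_assoc _ _ _).symm
    calc (q * k) ^ 3 = q * (k * q * k⁻¹) * (k * (k * q * k⁻¹) * k⁻¹) * k ^ 3 := by
          simp only [pow_succ, pow_zero, one_mul]; group
      _ = 1 := by rw [hk, hfix _ hm hfk, one_mul]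
  have hqk : ∀ q : Q, (q : G) * k ∈ Q ⊔ zpowers k :=
    fun q => mul_mem (mem_sup_left q.2) (mem_sup_right (mem_zpowers k))
  have hqk1 : ∀ q : Q, (q : G) * k ≠ 1 := fun q e => hk1 (hfix k (by
    have : k = (q : G)⁻¹ := eq_inv_of_mul_eq_one_right e
    rw [this]; exact inv_mem q.2) (Commute.refl k))
  -- orbit products are trivial
  have horb : ∀ q : Q, v' * act (qN q * kN) v' * act (qN q * kN * (qN q * kN)) v' = 1 := by
    intro q
    set g := qN q * kN with hg
    have hg3 : g * (g * g) = 1 := Subtype.ext (by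
      have := hthree q q.2
      simp only [pow_succ, pow_zero, one_mul] at this
      simpa [hg, qN, kN, mul_assoc] using this)
    set p := v' * act g v' * act (g * g) v' with hp
    have hfixp : act g p = p := by
      rw [hp, map_mul, map_mul, act_mul, act_mul, hg3,
        show act 1 v' = v' from Subtype.ext (by simp [act])]
      rw [mul_comm (act g v' * act (g * g) v'), ← mul_assoc]
    refine Subtype.ext (hfree _ (hqk q) (hqk1 q) p p.2 ?_)
    exact congrArg Subtype.val hfixp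
  have hQfix : ∀ q₀ : Q, ∀ w : A, act (qN q₀) (∏ q : Q, act (qN q) w) = ∏ q : Q, act (qN q) w := by
    intro q₀ w
    rw [map_prod]
    refine Fintype.prod_equiv (Equiv.mulLeft q₀) _ _ fun q => ?_
    rw [act_mul]; rfl
  obtain ⟨q₀, hq₀, hq₀1⟩ := Q.bot_or_exists_ne_one.resolve_left hQ1
  have hnorm : ∀ w : A, ∏ q : Q, act (qN q) w = 1 := fun w =>
    Subtype.ext (hfree q₀ (mem_sup_left hq₀) hq₀1 _ (Subtype.prop _)
      (congrArg Subtype.val (hQfix ⟨q₀, hq₀⟩ w)))
  -- the product over all the orbits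
  let σ : Q → Q := fun q => q * ⟨k * q * k⁻¹, hcQ q q.2⟩
  have hσ : Function.Bijective σ := by
    refine Finite.injective_iff_bijective.1 fun q q' e => ?_
    have e' : (q : G) * (k * q * k⁻¹) = q' * (k * q' * k⁻¹) := congrArg Subtype.val e
    set d := (q'⁻¹ : G) * q with hd
    have hdQ : d ∈ Q := mul_mem (inv_mem q'.2) q.2
    have hd' : d * (k * d * k⁻¹) = 1 := by
      calc d * (k * d * k⁻¹) = (q' : G)⁻¹ * (q * (k * (q' : G)⁻¹ * k⁻¹)) * (k * q * k⁻¹) := by
            rw [hd]; group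
        _ = (q' : G)⁻¹ * ((k * (q' : G)⁻¹ * k⁻¹) * q) * (k * q * k⁻¹) := by
            rw [hQ _ q.2 _ (hcQ _ (inv_mem q'.2))]
        _ = ((k * q' * k⁻¹) * q')⁻¹ * (q * (k * q * k⁻¹)) := by group
        _ = 1 := by rw [e', hQ _ q'.2 _ (hcQ _ q'.2), inv_mul_cancel]
    have h1 : k * d * k⁻¹ = d⁻¹ := eq_inv_of_mul_eq_one_right hd'
    have h2 : d = d⁻¹ := by
      calc d = k ^ 3 * d * (k ^ 3)⁻¹ := by rw [hk, one_mul, inv_one, mul_one]
        _ = k * (k * (k * d * k⁻¹) * k⁻¹) * k⁻¹ := by simp only [pow_succ, pow_zero, one_mul]; group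
        _ = k * (k * d⁻¹ * k⁻¹) * k⁻¹ := by rw [h1]
        _ = k * (k * d * k⁻¹)⁻¹ * k⁻¹ := by group
        _ = d⁻¹ := by rw [h1, inv_inv, h1]
    have h3 : d = 1 := hfix d hdQ (mul_inv_eq_iff_eq_mul.1 (h1.trans h2.symm)).symm
    exact Subtype.ext (inv_mul_eq_one.1 h3).symm
  have htotal : v' ^ Nat.card Q = 1 := by
    have h := Finset.prod_eq_one (s := (Finset.univ : Finset Q)) fun q _ => horb q
    rw [Finset.prod_mul_distrib, Finset.prod_mul_distrib, Finset.prod_const, Finset.card_univ] at h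
    have h1 : ∏ q : Q, act (qN q * kN) v' = 1 := by
      rw [← hnorm (act kN v')]
      exact Finset.prod_congr rfl fun q _ => (act_mul _ _ _).symm
    have h2 : ∏ q : Q, act (qN q * kN * (qN q * kN)) v' = 1 := by
      rw [← hnorm (act (kN * kN) v')]
      refine Fintype.prod_equiv (Equiv.ofBijective σ hσ) _ _ fun q => ?_
      rw [act_mul]
      congr 2
      refine Subtype.ext ?_
      show (q : G) * k * (q * k) = (q : G) * (k * q * k⁻¹) * (k * k)
      group
    rw [h1, h2, mul_one, mul_one] at h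
    rwa [Nat.card_eq_fintype_card]
  have hd : orderOf v' ∣ Nat.card A := orderOf_dvd_natCard v'
  exact hv1 (congrArg Subtype.val (orderOf_eq_one_iff.1
    (Nat.eq_one_of_dvd_coprimes hcop (orderOf_dvd_of_pow_eq_one htotal) hd)))

variable {X : Type v} [Group X] [Finite X] {t : G} {φ : X →* G} {r : ℕ} [hr : Fact r.Prime]

/-- The centraliser of a nontrivial `r`-element inverted by `t`. -/
theorem centralizer_inverted (hE : Emb t φ) (hrC : ¬ r ∣ Nat.card (centralizer ({t} : Set G)))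
    (hfree : Free G t r) {b : G} (hb : IsPGroup r ↥(zpowers b)) (hb1 : b ≠ 1)
    (htb : t * b * t⁻¹ = b⁻¹) :
    Odd (Nat.card (centralizer ({b} : Set G))) ∧
      (∀ g ∈ centralizer ({b} : Set G), t * g * t⁻¹ = g⁻¹) ∧
      ∀ g ∈ centralizer ({b} : Set G), ∀ g' ∈ centralizer ({b} : Set G), g * g' = g' * g := by
  haveI : Fact (Nat.Prime 2) := ⟨Nat.prime_two⟩
  set C := centralizer ({b} : Set G) with hC
  have hodd : Odd (Nat.card C) := by
    by_contra h
    obtain ⟨⟨i, hi⟩, hio⟩ := exists_prime_orderOf_dvd_card' (G := C) 2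
      (even_iff_two_dvd.1 (Nat.not_odd_iff_even.1 h))
    rw [orderOf_mk] at hio
    obtain ⟨c, hc⟩ := isConj_iff.1 (hE.fused i hio)
    have h1 : Commute (c⁻¹ * b * c) t := by
      have h2 : Commute b i := (mem_centralizer_singleton_iff.1 hi : Commute i b).symm
      have := h2.map (MulAut.conj c⁻¹).toMonoidHom
      simpa [← hc, mul_assoc] using this
    have h2 : orderOf (c⁻¹ * b * c) = orderOf b := by
      simpa using MulEquiv.orderOf_eq (MulAut.conj c⁻¹) b
    exact hrC ((dvd_orderOf_pElt hr.out hb hb1).trans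
      (h2 ▸ orderOf_dvd_natCard _ (mem_centralizer_singleton_iff.2 h1.eq)))
  have htC : ∀ g ∈ C, t * g * t⁻¹ ∈ C := fun g hg => by
    have h : Commute (t * g * t⁻¹) (t * b * t⁻¹) :=
      Commute.map (show Commute g b from mem_centralizer_singleton_iff.1 hg) (MulAut.conj t).toMonoidHom
    have h' : Commute (t * g * t⁻¹) b⁻¹ := htb ▸ h
    exact mem_centralizer_singleton_iff.2 (Commute.inv_right_iff.1 h').eq
  let ψ : C →* C :=
    { toFun := fun g => ⟨t * g * t⁻¹, htC g g.2⟩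
      map_one' := Subtype.ext (by simp)
      map_mul' := fun x y => Subtype.ext (by simp [mul_assoc]) }
  have hψ : MonoidHom.FixedPointFree ψ := fun g hg => Subtype.ext (hfree g
    (mul_inv_eq_iff_eq_mul.1 (congrArg Subtype.val hg : t * (g : G) * t⁻¹ = g)).symm
    (hodd.of_dvd_nat (orderOf_dvd_natCard C g.2)) b hb hb1 (mem_centralizer_singleton_iff.1 g.2))
  have ht2 := mul_self_of_two hE.ht
  have hti : t⁻¹ = t := inv_eq_of_mul_eq_one_right ht2
  have hinv : ∀ g ∈ C, t * g * t⁻¹ = g⁻¹ := fun g hg => congrArg Subtype.val (congrFun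
    (MonoidHom.FixedPointFree.coe_eq_inv_of_involutive hψ (fun x => Subtype.ext (by
      show t * (t * (x : G) * t⁻¹) * t⁻¹ = x
      rw [hti, ← mul_assoc, ← mul_assoc, ht2, one_mul, mul_assoc, ht2, mul_one]))) ⟨g, hg⟩)
  refine ⟨hodd, hinv, fun g hg g' hg' => ?_⟩
  have h1 := hinv _ (mul_mem hg hg')
  rw [← conj_mul, hinv g hg, hinv g' hg', ← mul_inv_rev, inv_inj] at h1
  exact h1.symm

/-- An element normalising a centraliser inverted by `t` can be moved into `C(t)`. -/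
theorem exists_conj_in_cent (hE : Emb t φ) (hrC : ¬ r ∣ Nat.card (centralizer ({t} : Set G)))
    (hfree : Free G t r) {b g : G} (hb : IsPGroup r ↥(zpowers b)) (hb1 : b ≠ 1)
    (htb : t * b * t⁻¹ = b⁻¹) {j : ℕ} (hgb : g * b * g⁻¹ = b ^ j) (hj3 : b ^ (j ^ 3) = b) :
    ∃ k : G, Commute k t ∧ Odd (orderOf k) ∧ k * b * k⁻¹ = b ^ j := by
  obtain ⟨hodd, hinv, hab⟩ := centralizer_inverted hE hrC hfree hb hb1 htb
  set C := centralizer ({b} : Set G) with hC
  have hbC : b ∈ C := mem_centralizer_singleton_iff.2 rfl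
  have ht2 := mul_self_of_two hE.ht
  -- `g t g⁻¹ t` lies in `C`
  set α := g * t * g⁻¹ * t⁻¹ with hα
  have hαC : α ∈ C := by
    have hti : t⁻¹ = t := inv_eq_of_mul_eq_one_right ht2
    have h1 : (g * t * g⁻¹) * b ^ j * (g * t * g⁻¹)⁻¹ = (b ^ j)⁻¹ := by
      rw [← hgb]
      calc g * t * g⁻¹ * (g * b * g⁻¹) * (g * t * g⁻¹)⁻¹ = g * (t * b * t⁻¹) * g⁻¹ := by group
        _ = (g * b * g⁻¹)⁻¹ := by rw [htb]; group
    have h2 : t * b ^ j * t⁻¹ = (b ^ j)⁻¹ := by rw [← conj_pow, htb, inv_pow]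
    have h3 : α * b ^ j * α⁻¹ = b ^ j := by
      have h2' : t⁻¹ * b ^ j * t = (b ^ j)⁻¹ := by
        calc t⁻¹ * b ^ j * t = t * b ^ j * t⁻¹ := by rw [hti]
          _ = (b ^ j)⁻¹ := h2
      calc α * b ^ j * α⁻¹ = (g * t * g⁻¹) * (t⁻¹ * b ^ j * t) * (g * t * g⁻¹)⁻¹ := by
            rw [hα]; group
        _ = (g * t * g⁻¹) * (b ^ j)⁻¹ * (g * t * g⁻¹)⁻¹ := by rw [h2']
        _ = b ^ j := by rw [← inv_inj, ← conj_inv, inv_inv, h1]
    have h4 : Commute α (b ^ j) := mul_inv_eq_iff_eq_mul.1 h3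
    have h5 := h4.pow_right (j ^ 2)
    rw [← pow_mul, ← pow_succ', hj3] at h5
    exact mem_centralizer_singleton_iff.2 h5.eq
  -- a square root
  obtain ⟨β, hβC, hβ⟩ : ∃ β ∈ C, β * β = α := by
    obtain ⟨s, hs⟩ := hodd.of_dvd_nat (orderOf_dvd_natCard C hαC)
    refine ⟨α ^ (s + 1), pow_mem hαC _, ?_⟩
    rw [← pow_add, show s + 1 + (s + 1) = orderOf α + 1 by omega, pow_succ, pow_orderOf_eq_one, one_mul]
  have hgt : Commute (β⁻¹ * g) t := by
    have h1 : t * β⁻¹ * t⁻¹ = β := by rw [hinv _ (inv_mem hβC), inv_inv]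
    have h2 : g * t * g⁻¹ = α * t := by rw [hα, inv_mul_cancel_right]
    refine mul_inv_eq_iff_eq_mul.1 ?_
    calc β⁻¹ * g * t * (β⁻¹ * g)⁻¹ = β⁻¹ * (g * t * g⁻¹) * β := by group
      _ = β⁻¹ * (β * β) * (t * β * t⁻¹) * t := by rw [h2, hβ]; group
      _ = t := by rw [hinv _ hβC]; group
  set g₁ := β⁻¹ * g with hg₁
  have hg₁b : g₁ * b * g₁⁻¹ = b ^ j := by
    have : Commute β⁻¹ (b ^ j) := Commute.pow_right
      (mem_centralizer_singleton_iff.1 (inv_mem hβC) : Commute β⁻¹ b) j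
    calc g₁ * b * g₁⁻¹ = β⁻¹ * (g * b * g⁻¹) * β := by rw [hg₁]; group
      _ = b ^ j := by rw [hgb, this.eq, inv_mul_cancel_right]
  -- kill the two-part
  obtain ⟨s, o, ho, hso⟩ := Nat.exists_eq_two_pow_mul_odd (orderOf_pos g₁).ne'
  refine ⟨g₁ ^ (4 ^ s), hgt.pow_left _, ?_, ?_⟩
  · refine ho.of_dvd_nat (orderOf_dvd_of_pow_eq_one ?_)
    rw [← pow_mul]
    refine orderOf_dvd_iff_pow_eq_one.1 (show orderOf g₁ ∣ 4 ^ s * o from ?_)
    rw [hso]
    refine mul_dvd_mul_right ?_ o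
    rw [show (4 : ℕ) ^ s = 2 ^ s * 2 ^ s by rw [← mul_pow]; norm_num]
    exact dvd_mul_right _ _
  · have hpow : ∀ i : ℕ, g₁ ^ i * b * (g₁ ^ i)⁻¹ = b ^ j ^ i := by
      intro i
      induction i with
      | zero => simp
      | succ i ih =>
        calc g₁ ^ (i + 1) * b * (g₁ ^ (i + 1))⁻¹ = g₁ ^ i * (g₁ * b * g₁⁻¹) * (g₁ ^ i)⁻¹ := by
              rw [pow_succ]; group
          _ = (g₁ ^ i * b * (g₁ ^ i)⁻¹) ^ j := by rw [hg₁b, conj_pow]
          _ = b ^ j ^ (i + 1) := by rw [ih, ← pow_mul, pow_succ]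
    rw [hpow]
    obtain ⟨c, hc⟩ : ∃ c, 4 ^ s = 3 * c + 1 := ⟨4 ^ s / 3, by
      have : 4 ^ s % 3 = 1 := by rw [Nat.pow_mod]; norm_num
      omega⟩
    have hc' : ∀ c : ℕ, b ^ j ^ (3 * c + 1) = b ^ j := by
      intro c
      induction c with
      | zero => simp
      | succ c ih =>
        rw [show 3 * (c + 1) + 1 = 3 + (3 * c + 1) by ring, pow_add, pow_mul, hj3, ih]
    rw [hc, hc']

end Cfsg.Agent.Walter.Field
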