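import Cfsg.Agent.Lib.Walter.Field.OtherTorDefs
import Cfsg.Agent.Lib.Walter.Field.TorusScalar

/-!
# The torus in the top of `C(x)` for `q₀ ≥ 5`

The top is of Ree type or has the order of `J₁`; `r` divides the number of involutions, hence
`TorusFact` gives a scalar of odd order, and a power of it of prime order is realised in `C_{E₀}(x)`.
-/

set_option autoImplicit false
set_option linter.unusedSectionVars false
set_option linter.style.haveILetI false

namespace Cfsg.Agent.Walter.Field.Other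

open Subgroup

universe u v

section General

variable {G : Type u} [Group G] [Finite G] {X : Type*} [Group X] [Finite X] {t : G} {φ : X →* G}
  {r : ℕ} [hr : Fact r.Prime]

theorem conj_pow_iterate {g b : G} {j : ℕ} (h : g * b * g⁻¹ = b ^ j) (i : ℕ) :
    g ^ i * b * (g ^ i)⁻¹ = b ^ j ^ i := by
  induction i with
  | zero => simp
  | succ i ih =>
    rw [pow_succ' g, show g * g ^ i * b * (g * g ^ i)⁻¹ = g * (g ^ i * b * (g ^ i)⁻¹) * g⁻¹ by group,
      ih, ← conj_pow, h, ← pow_mul, ← pow_succ']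

/-- A scalar of odd order is induced by an element of odd order of `C(t)`. -/
theorem exists_scalar_in_cent (hE : Emb t φ) (hrC : ¬ r ∣ Nat.card (centralizer ({t} : Set G)))
    (hfree : Free G t r) {b g : G} (hb : IsPGroup r ↥(zpowers b)) (hb1 : b ≠ 1)
    (htb : t * b * t⁻¹ = b⁻¹) {j m : ℕ} (hm : Odd m) (hgb : g * b * g⁻¹ = b ^ j) (hjm : b ^ (j ^ m) = b) :
    ∃ k : G, Commute k t ∧ Odd (orderOf k) ∧ k * b * k⁻¹ = b ^ j := by
  obtain ⟨hodd, hinv, -⟩ := centralizer_inverted hE hrC hfree hb hb1 htb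
  set C := centralizer ({b} : Set G) with hC
  have ht2 := mul_self_of_two hE.ht
  have hti : t⁻¹ = t := inv_eq_of_mul_eq_one_right ht2
  set α := g * t * g⁻¹ * t⁻¹ with hα
  have hαC : α ∈ C := by
    have h2 : t⁻¹ * b ^ j * t = (b ^ j)⁻¹ := by
      calc t⁻¹ * b ^ j * t = t * b ^ j * t⁻¹ := by rw [hti]
        _ = (b ^ j)⁻¹ := by rw [← conj_pow, htb, inv_pow]
    have h1 : g * t * g⁻¹ * (b ^ j)⁻¹ * (g * t * g⁻¹)⁻¹ = b ^ j := by
      rw [← hgb]
      calc g * t * g⁻¹ * (g * b * g⁻¹)⁻¹ * (g * t * g⁻¹)⁻¹ = g * (t * b * t⁻¹)⁻¹ * g⁻¹ := by group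
        _ = g * b * g⁻¹ := by rw [htb, inv_inv]
    have h3 : α * b ^ j * α⁻¹ = b ^ j := by
      calc α * b ^ j * α⁻¹ = (g * t * g⁻¹) * (t⁻¹ * b ^ j * t) * (g * t * g⁻¹)⁻¹ := by rw [hα]; group
        _ = b ^ j := by rw [h2, h1]
    have h4 : Commute α (b ^ j) := mul_inv_eq_iff_eq_mul.1 h3
    obtain ⟨d, hd⟩ := hm
    have h5 := h4.pow_right (j ^ (2 * d))
    rw [← pow_mul, ← pow_succ', ← hd, hjm] at h5
    exact mem_centralizer_singleton_iff.2 h5.eq
  obtain ⟨β, hβC, hβ⟩ : ∃ β ∈ C, β * β = α := by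
    obtain ⟨s, hs⟩ := hodd.of_dvd_nat (orderOf_dvd_natCard C hαC)
    refine ⟨α ^ (s + 1), pow_mem hαC _, ?_⟩
    rw [← pow_add, show s + 1 + (s + 1) = orderOf α + 1 by omega, pow_succ, pow_orderOf_eq_one, one_mul]
  have hgt : Commute (β⁻¹ * g) t := by
    have h1 : t * β⁻¹ * t⁻¹ = β := by rw [hinv _ (inv_mem hβC), inv_inv]
    have h2 : g * t * g⁻¹ = α * t := by rw [hα, inv_mul_cancel_right]
    refine mul_inv_eq_iff_eq_mul.1 ?_
    calc β⁻¹ * g * t * (β⁻¹ * g)⁻¹ = β⁻¹ * (g * t * g⁻¹) * β := by group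
      _ = β⁻¹ * (β * β) * (t * β * t⁻¹) * t := by rw [h2, hβ]; group
      _ = t := by rw [hinv _ hβC]; group
  set g₁ := β⁻¹ * g with hg₁
  have hg₁b : g₁ * b * g₁⁻¹ = b ^ j := by
    have : Commute β⁻¹ (b ^ j) := Commute.pow_right
      (mem_centralizer_singleton_iff.1 (inv_mem hβC) : Commute β⁻¹ b) j
    calc g₁ * b * g₁⁻¹ = β⁻¹ * (g * b * g⁻¹) * β := by rw [hg₁]; group
      _ = b ^ j := by rw [hgb, this.eq, inv_mul_cancel_right]
  obtain ⟨s, o, ho, hso⟩ := Nat.exists_eq_two_pow_mul_odd (orderOf_pos g₁).ne'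
  refine ⟨g₁ ^ (m + 1) ^ s, hgt.pow_left _, ho.of_dvd_nat (orderOf_dvd_of_pow_eq_one ?_), ?_⟩
  · rw [← pow_mul]
    refine orderOf_dvd_iff_pow_eq_one.1 ?_
    rw [hso]
    exact mul_dvd_mul_right (pow_dvd_pow_of_dvd (by obtain ⟨d, rfl⟩ := hm; omega) s) o
  · rw [conj_pow_iterate hg₁b]
    obtain ⟨c, hc⟩ : ∃ c, (m + 1) ^ s = m * c + 1 := by
      clear hso
      induction s with
      | zero => exact ⟨0, by simp⟩
      | succ s ih => obtain ⟨c, hc⟩ := ih; exact ⟨c * (m + 1) + 1, by rw [pow_succ, hc]; ring⟩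
    rw [hc]
    clear hc
    induction c with
    | zero => simp
    | succ c ih =>
      rw [show m * (c + 1) + 1 = m + (m * c + 1) by ring, pow_add, pow_mul, hjm, ih]

end General

variable {G : Type u} [Group G] [Finite G] {K : Type v} [Field K] [Fintype K] {t : G} {E₀ : Subgroup G}
  {S : Sylow 2 G}

namespace Elt

variable {D : Elt t K E₀ S}

namespace Simp

variable {T : Subgroup D.Q} (h : D.Simp T)
include h

theorem LQ_le (h5 : 5 ≤ D.q₀) : D.LQ ≤ T := by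
  haveI := h.normal
  letI : Fintype ↥D.K₀ := Fintype.ofFinite _
  obtain ⟨e⟩ := D.iso_LQ
  haveI : IsSimpleGroup ↥D.LQ := e.isSimpleGroup_congr.2 (TimesPSLTwo.psl_simple (by
    rw [← Nat.card_eq_fintype_card]; exact le_trans (by norm_num) h5))
  rw [← subgroupOf_eq_top]
  refine (inferInstance : (T.subgroupOf D.LQ).Normal).eq_bot_or_eq_top.resolve_left fun e0 => ?_
  set iX : ↥D.X := ⟨_, D.S_le D.Sh.memI⟩
  have hi : D.π iX ∈ (D.SQ : Subgroup D.Q) := ⟨iX, mem_subgroupOf.2 D.Sh.memI, rfl⟩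
  have hiL : D.π iX ∈ D.LQ := ⟨iX, mem_subgroupOf.2 D.i_mem_L, rfl⟩
  have h1 : (⟨D.π iX, hiL⟩ : ↥D.LQ) ∈ T.subgroupOf D.LQ := mem_subgroupOf.2 (h.SQ_le hi)
  rw [e0, mem_bot] at h1
  exact D.four_ne.1 (congrArg Subtype.val (D.π_inj_DX
    (mem_subgroupOf.2 (mem_sup_right D.i_mem_L) : iX ∈ D.DX) (congrArg Subtype.val h1)))

/-- `TorusFact` gives the torus. -/
theorem tor (hfb : FieldBelow.{u, v} (Nat.card G)) (hTF : TorusFact.{u, v}) (h5 : 5 ≤ D.q₀)
    (h3 : ringChar K = 3 → D.r ≠ 3) : ∃ a k s j, D.Tor T a k s j := by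
  classical
  haveI := h.normal
  haveI := h.simple
  haveI := Fact.mk D.hr
  obtain ⟨⟨f⟩, -, hN⟩ := h.big hfb h5
  have hL := h.LQ_le h5
  letI : Fintype ↥D.K₀ := Fintype.ofFinite _
  have hcard : Nat.card ↥(centralizer ({h.tT} : Set ↥T)) = 2 * Nat.card ↥D.L := by
    rw [Nat.card_congr f.toEquiv, Nat.card_prod, Nat.card_congr Multiplicative.toAdd, Nat.card_zmod,
      Nat.card_congr D.iso_L.some.toEquiv]
  -- `r` is prime to the centraliser of the involution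
  have hrC : ¬ D.r ∣ Nat.card ↥(centralizer ({h.tT} : Set ↥T)) := by
    rw [hcard, D.two_card_L]
    intro hd'
    have hrN := D.dvd_N
    rcases hN with ⟨m, -, hq, hN⟩ | ⟨hq, hN⟩
    · have hr3 : D.r ≠ 3 := by
        refine h3 ?_
        haveI : CharP K 3 := charP_of_card_eq_prime_pow (f := (2 * m + 1) * D.r)
          (by rw [D.card_K, hq, ← pow_mul])
        exact ringChar.eq K 3
      have hq0 : (D.q₀ : ZMod D.r) ≠ 0 := by
        rw [Ne, CharP.cast_eq_zero_iff (ZMod D.r) D.r, hq]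
        exact fun h0 => hr3 ((Nat.prime_dvd_prime_iff_eq D.hr Nat.prime_three).1 (D.hr.dvd_of_dvd_pow h0))
      have h1 : 1 ≤ D.q₀ := le_trans (by norm_num) h5
      have h2 : D.q₀ ≤ D.q₀ ^ 2 + 1 := le_add_right (Nat.le_self_pow (by norm_num) _)
      rw [hN, ← CharP.cast_eq_zero_iff (ZMod D.r) D.r] at hrN
      rw [← CharP.cast_eq_zero_iff (ZMod D.r) D.r] at hd'
      push_cast [Nat.cast_sub h1, Nat.cast_sub h2] at hrN hd'
      have hN0 : (D.q₀ : ZMod D.r) ^ 2 + 1 - D.q₀ = 0 :=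
        (mul_eq_zero.1 hrN).resolve_left (pow_ne_zero 2 hq0)
      rcases mul_eq_zero.1 ((mul_eq_zero.1 hd').resolve_left hq0) with h6 | h6
      · have h7 : (1 : ZMod D.r) = 0 := by linear_combination hN0 - (D.q₀ : ZMod D.r) * h6
        exact one_ne_zero h7
      · have h7 : ((3 : ℕ) : ZMod D.r) = 0 := by
          push_cast
          linear_combination hN0 - ((D.q₀ : ZMod D.r) - 2) * h6
        rw [CharP.cast_eq_zero_iff (ZMod D.r) D.r] at h7
        exact hr3 ((Nat.prime_dvd_prime_iff_eq D.hr Nat.prime_three).1 h7)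
    · rw [hN] at hrN
      rw [hq] at hd'
      exact D.hr.ne_one (Nat.eq_one_of_dvd_coprimes (show Nat.Coprime 1463 (5 * ((5 - 1) * (5 + 1))) by norm_num)
        hrN hd')
  have hrT : D.r ∣ Nat.card ↥T := by rw [h.card_T]; exact Dvd.dvd.mul_left D.dvd_N _
  have h5' : 5 ≤ Fintype.card ↥D.K₀ := by rw [← Nat.card_eq_fintype_card]; exact h5
  obtain ⟨j, Sc⟩ := hTF ↥T h.simple (D.abTwo_Q.subgroup T) h.tT ↥D.K₀ h.tT_order
    (by rw [← Nat.card_eq_fintype_card]; exact D.q₀_odd) h5' ⟨f⟩ D.r D.hr hrT hrC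
  -- the centraliser of the involution
  set LT := D.LQ.subgroupOf T with hLT
  have hle : LT ≤ centralizer ({h.tT} : Set ↥T) := fun l hl => mem_centralizer_singleton_iff.2
    (Subtype.ext (mem_centralizer_singleton_iff.1 (D.LQ_le_cent (mem_subgroupOf.1 hl))))
  have hCT : T ⊓ centralizer ({D.tq} : Set D.Q) = zpowers D.tq ⊔ D.LQ :=
    (eq_of_le_of_card_ge (le_inf (sup_le (zpowers_le.2 (h.mem _ D.tq_order)) hL)
      (sup_le (zpowers_le.2 (mem_centralizer_singleton_iff.2 rfl)) D.LQ_le_cent))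
      (by rw [← h.card_cent, hcard, ← D.DX_map, D.card_DX_map])).symm
  have hsplit : ∀ g : ↥T, Commute g h.tT → ∃ x : ↥LT, g = LT.subtype x ∨ g = LT.subtype x * h.tT := by
    intro g hg
    have h1 : (g : D.Q) ∈ zpowers D.tq ⊔ D.LQ :=
      hCT.le ⟨g.2, mem_centralizer_singleton_iff.2 (congrArg Subtype.val hg.eq)⟩
    obtain ⟨z, hz, l, hl, e⟩ := mem_sup_cases D.LQ_le_cent h1
    refine ⟨⟨⟨l, hL hl⟩, mem_subgroupOf.2 hl⟩, ?_⟩
    rcases zpow_cases D.tq_order hz with rfl | rfl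
    · exact Or.inl (Subtype.ext (by rw [e, one_mul]; rfl))
    · refine Or.inr (Subtype.ext ?_)
      show (g : D.Q) = l * D.tq
      rw [e, (mem_centralizer_singleton_iff.1 (D.LQ_le_cent hl) : l * D.tq = D.tq * l)]
  have hE : Emb h.tT LT.subtype := by
    refine ⟨D.abTwo_Q.subgroup T, h.tT_order, Subtype.val_injective,
      fun x => mem_centralizer_singleton_iff.1 (hle x.2), hsplit,
      fun x e => D.tq_not_LQ ?_, fun y hy => ?_⟩
    · exact (show ((x : ↥T) : D.Q) = D.tq from congrArg Subtype.val e) ▸ mem_subgroupOf.1 x.2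
    · obtain ⟨u, hu, hut⟩ := h.transitive y (by rw [Subgroup.orderOf_coe]; exact hy)
      exact isConj_iff.2 ⟨⟨u, hu⟩, Subtype.ext hut⟩
  have hfree : Free ↥T h.tT D.r := Sc.free
  -- an inverted element of order `r`
  obtain ⟨P, hP⟩ := Sc.inv
  obtain ⟨⟨a, haP⟩, hao⟩ := exists_prime_orderOf_dvd_card' (G := ↥(P : Subgroup ↥T)) D.r
    (P.dvd_card_of_dvd_card hrT)
  rw [orderOf_mk] at hao
  have hap : IsPGroup D.r ↥(zpowers a) := P.2.to_le (zpowers_le.2 haP)
  have ha1 : a ≠ 1 := fun e => D.hr.ne_one (by rw [← hao, e, orderOf_one])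
  have hai : h.tT * a * h.tT⁻¹ = a⁻¹ := hP a haP
  obtain ⟨g, hg⟩ := isConj_iff.1 (Sc.conj a hap)
  obtain ⟨m, hm, hjm⟩ := Sc.odd_order
  obtain ⟨k, hkt, hko, hka⟩ := exists_scalar_in_cent hE hrC hfree hap ha1 hai hm hg (hjm a hap)
  -- the inverted group over `a`
  obtain ⟨-, hinv, hcomm⟩ := centralizer_inverted hE hrC hfree hap ha1 hai
  let R₀ : Subgroup ↥T :=
    { carrier := {b | b ∈ centralizer ({a} : Set ↥T) ∧ ∃ i : ℕ, b ^ D.r ^ i = 1}
      one_mem' := ⟨one_mem _, 0, one_pow _⟩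
      mul_mem' := fun {b c} hb hc => ⟨mul_mem hb.1 hc.1, by
        obtain ⟨i, hi⟩ := hb.2
        obtain ⟨i', hi'⟩ := hc.2
        refine ⟨i + i', ?_⟩
        rw [(show Commute b c from hcomm b hb.1 c hc.1).mul_pow, pow_add, pow_mul, hi, one_pow, one_mul,
          mul_comm, pow_mul, hi', one_pow]⟩
      inv_mem' := fun {b} hb => ⟨inv_mem hb.1, by
        obtain ⟨i, hi⟩ := hb.2
        exact ⟨i, by rw [inv_pow, hi, inv_one]⟩⟩ }
  have hR₀p : IsPGroup D.r ↥R₀ := fun b => by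
    obtain ⟨i, hi⟩ := b.2.2
    exact ⟨i, Subtype.ext hi⟩
  have hR₀k : k ∈ normalizer (R₀ : Set ↥T) := EqualOrderConj.mem_normalizer_of_conj_mem fun b hb => by
    refine ⟨?_, ?_⟩
    · have h1 : Commute (k * b * k⁻¹) (a ^ j) := by
        rw [← hka]
        exact (show Commute b a from mem_centralizer_singleton_iff.1 hb.1).map (MulAut.conj k).toMonoidHom
      obtain ⟨d, hd⟩ := hm
      have h2 := h1.pow_right (j ^ (2 * d))
      rw [← pow_mul, ← pow_succ', ← hd, hjm a hap] at h2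
      exact mem_centralizer_singleton_iff.2 h2.eq
    · obtain ⟨i, hi⟩ := hb.2
      exact ⟨i, by rw [conj_pow, hi, mul_one, mul_inv_cancel]⟩
  have haR₀ : a ∈ R₀ := ⟨mem_centralizer_singleton_iff.2 rfl, 1, by rw [pow_one, ← hao, pow_orderOf_eq_one]⟩
  have hsc : ∀ b ∈ R₀, k * b * k⁻¹ = b ^ j :=
    Sc.scalar R₀ hR₀p (fun b hb => hinv b hb.1) k hkt hko hR₀k a haR₀ ha1 hka
  -- a power of prime order
  have hamod : ∀ i : ℕ, a ^ i = a ↔ (i : ZMod D.r) = 1 := fun i => by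
    rw [show ((i : ZMod D.r) = 1) ↔ ((i : ZMod D.r) = ((1 : ℕ) : ZMod D.r)) by rw [Nat.cast_one],
      ZMod.natCast_eq_natCast_iff, ← hao, ← pow_eq_pow_iff_modEq, pow_one]
  have hjm' : (j : ZMod D.r) ^ m = 1 := by rw [← Nat.cast_pow]; exact (hamod _).1 (hjm a hap)
  set i₀ := orderOf (j : ZMod D.r) with hi₀
  have hi₀m : i₀ ∣ m := orderOf_dvd_of_pow_eq_one hjm'
  have hi₀1 : i₀ ≠ 1 := fun e => Sc.ne_one (by
    rw [← ZMod.natCast_eq_natCast_iff, Nat.cast_one]; exact orderOf_eq_one_iff.1 e)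
  set s := i₀.minFac with hs
  have hsp : s.Prime := Nat.minFac_prime hi₀1
  have hsi : s ∣ i₀ := Nat.minFac_dvd _
  have hi₀r : i₀ ∣ D.r - 1 := orderOf_dvd_of_pow_eq_one (ZMod.pow_card_sub_one_eq_one fun e => by
    rw [e, zero_pow (by rintro rfl; simp at hm)] at hjm'
    exact zero_ne_one hjm')
  have hi₀pos : 0 < i₀ := Nat.pos_of_ne_zero fun e => by
    rw [e, zero_dvd_iff] at hi₀m
    rw [hi₀m] at hm
    simp at hm
  set k' := k ^ (i₀ / s) with hk'
  set j' := j ^ (i₀ / s) with hj'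
  have hk'sc : ∀ b ∈ R₀, k' * b * k'⁻¹ = b ^ j' := fun b hb => conj_pow_iterate (hsc b hb) _
  have hj'1 : ¬ j' ≡ 1 [MOD D.r] := fun e => by
    rw [← ZMod.natCast_eq_natCast_iff, Nat.cast_one, hj', Nat.cast_pow] at e
    have h1 := Nat.le_of_dvd (Nat.div_pos (Nat.le_of_dvd hi₀pos hsi) hsp.pos) (orderOf_dvd_of_pow_eq_one e)
    have h2 := Nat.div_lt_self hi₀pos hsp.one_lt
    omega
  have hk's : k' ^ s = 1 := by
    rw [hk', ← pow_mul, Nat.div_mul_cancel hsi]
    refine Sc.free _ (hkt.pow_left _) (hko.of_dvd_nat (orderOf_pow_dvd _)) a hap ha1 ?_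
    refine mul_inv_eq_iff_eq_mul.1 ?_
    rw [conj_pow_iterate hka, hamod, Nat.cast_pow, hi₀, pow_orderOf_eq_one]
  have hk'o : orderOf k' = s := ((Nat.dvd_prime hsp).1 (orderOf_dvd_of_pow_eq_one hk's)).resolve_left
    fun e => hj'1 (by
      have h1 := hk'sc a haR₀
      rw [orderOf_eq_one_iff.1 e, one_mul, inv_one, mul_one] at h1
      rw [← ZMod.natCast_eq_natCast_iff, Nat.cast_one]
      exact (hamod j').1 h1.symm)
  have hsodd : Odd s := hm.of_dvd_nat (hsi.trans hi₀m)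
  have hk'L : (k' : D.Q) ∈ D.LQ := by
    obtain ⟨x, hx | hx⟩ := hsplit k' (hkt.pow_left _)
    · rw [hx]; exact mem_subgroupOf.1 x.2
    · exfalso
      have hc : Commute (LT.subtype x) h.tT := hE.comm x
      rw [hx, hc.mul_pow] at hk's
      obtain ⟨d, hd⟩ := hsodd
      rw [hd, pow_succ h.tT, pow_mul h.tT, pow_two, mul_self_of_two h.tT_order, one_pow, one_mul] at hk's
      exact hE.t_not ((x ^ (2 * d + 1))⁻¹) (by rw [map_inv, map_pow]; exact inv_eq_of_mul_eq_one_right hk's)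
  refine ⟨a, k', s, j',
    { simp := h
      not_dvd_L := fun hd' => hrC (hcard ▸ Dvd.dvd.mul_left hd' 2)
      not_dvd_cent := h.card_cent ▸ hrC
      s_prime := hsp
      s_odd := hsodd
      s_dvd := hsi.trans hi₀r
      a_order := by rw [Subgroup.orderOf_coe]; exact hao
      a_inv := congrArg Subtype.val hai
      k_mem := hk'L
      k_order := by rw [Subgroup.orderOf_coe]; exact hk'o
      j_ne := hj'1
      scalar := fun R hR hRT haR hRi _ b hb => ?_
      conj := congrArg Subtype.val (hk'sc a haR₀)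
      free := fun c hc hcs hca => ?_ }⟩
  · have h1 := hRi _ (mul_mem hb haR)
    rw [← conj_mul, hRi _ hb, hRi _ haR, ← _root_.mul_inv_rev, inv_inj] at h1
    obtain ⟨i, hi⟩ := hR ⟨b, hb⟩
    exact congrArg Subtype.val (hk'sc ⟨b, hRT hb⟩ ⟨mem_centralizer_singleton_iff.2 (Subtype.ext h1.symm),
      i, Subtype.ext (congrArg Subtype.val hi :)⟩)
  · exact congrArg Subtype.val (Sc.free ⟨c, hL hc⟩
      (mem_centralizer_singleton_iff.1 (hle (mem_subgroupOf.2 hc)))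
      (by rw [Subgroup.orderOf_mk]; exact hsodd.of_dvd_nat (orderOf_dvd_of_pow_eq_one hcs)) a hap ha1
      (Subtype.ext hca.eq))

end Simp

end Elt

end Cfsg.Agent.Walter.Field.Other
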