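import Cfsg.Agent.Lib.Walter.Field.OtherTorDefs
import Cfsg.Agent.Lib.Classical.GL2

/-!
# The torus in the top of `C(x)` for `q₀ = 3`

The top is `PSL₂(8)`, `r = 7`: an element of order three of `C_{E₀}(x)` normalises a Sylow 7-subgroup
inverted by the involution and is nontrivial on it, as it centralises no such subgroup.
-/

set_option autoImplicit false
set_option linter.unusedSectionVars false
set_option linter.style.haveILetI false

namespace Cfsg.Agent.Walter.Field.Other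

open Subgroup

universe u v

/-- In `PSL₂(8)` some element of order seven is inverted by an involution. -/
theorem exists_inverted_seven {F : Type v} [Field F] [Fintype F] (hF : Fintype.card F = 8) :
    ∃ a w : Matrix.ProjectiveSpecialLinearGroup (Fin 2) F, orderOf a = 7 ∧ orderOf w = 2 ∧
      w * a * w⁻¹ = a⁻¹ := by
  classical
  haveI : Fact (Nat.Prime 2) := ⟨Nat.prime_two⟩
  haveI : Fact (Nat.Prime 7) := ⟨by norm_num⟩
  haveI : CharP F 2 := charP_of_card_eq_prime_pow (f := 3) hF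
  let f : Fˣ →* Matrix.SpecialLinearGroup (Fin 2) F := MonoidHom.mk'
    (fun z => ⟨!![(z : F), 0; 0, ((z⁻¹ : Fˣ) : F)], by simp [Matrix.det_fin_two]⟩)
    fun z z' => Subtype.ext (by
      show _ = !![(z : F), 0; 0, ((z⁻¹ : Fˣ) : F)] * !![(z' : F), 0; 0, ((z'⁻¹ : Fˣ) : F)]
      ext i j
      fin_cases i <;> fin_cases j <;> simp [Matrix.mul_apply, Fin.sum_univ_two, mul_comm])
  let w : Matrix.SpecialLinearGroup (Fin 2) F :=
    ⟨!![0, 1; 1, 0], by rw [Matrix.det_fin_two]; simp [CharTwo.neg_eq]⟩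
  have hw2 : w * w = 1 := Subtype.ext (by
    show !![(0 : F), 1; 1, 0] * !![(0 : F), 1; 1, 0] = 1
    ext i j
    fin_cases i <;> fin_cases j <;> simp [Matrix.mul_apply, Fin.sum_univ_two])
  obtain ⟨z, hz⟩ := exists_prime_orderOf_dvd_card' (G := Fˣ) 7
    (by rw [Nat.card_units, Nat.card_eq_fintype_card, hF])
  have hwf : w * f z = (f z)⁻¹ * w := by
    rw [← map_inv]
    refine Subtype.ext ?_
    show !![(0 : F), 1; 1, 0] * !![(z : F), 0; 0, ((z⁻¹ : Fˣ) : F)] =
      !![((z⁻¹ : Fˣ) : F), 0; 0, (((z⁻¹)⁻¹ : Fˣ) : F)] * !![(0 : F), 1; 1, 0]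
    ext i j
    fin_cases i <;> fin_cases j <;> simp [Matrix.mul_apply, Fin.sum_univ_two]
  have hne : ¬ Commute w (f z) := by
    intro hc
    have h1 : f z = f z⁻¹ := by
      rw [map_inv]
      calc f z = (f z * w) * w := by rw [mul_assoc, hw2, mul_one]
        _ = ((f z)⁻¹ * w) * w := by rw [← hc.eq, hwf]
        _ = (f z)⁻¹ := by rw [mul_assoc, hw2, mul_one]
    have h2 : (z : F) = ((z⁻¹ : Fˣ) : F) := by
      have := congrArg (fun M : Matrix.SpecialLinearGroup (Fin 2) F => (M : Matrix (Fin 2) (Fin 2) F) 0 0) h1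
      exact this
    have h3 : z ^ 2 = 1 := by rw [pow_two]; nth_rw 1 [Units.ext h2]; exact inv_mul_cancel z
    have h4 := orderOf_dvd_of_pow_eq_one h3
    rw [hz] at h4
    exact absurd h4 (by decide)
  set π := QuotientGroup.mk' (center (Matrix.SpecialLinearGroup (Fin 2) F)) with hπ
  have hnot : ∀ g : Matrix.SpecialLinearGroup (Fin 2) F, π g = 1 → g ∈ center _ := fun g hg =>
    (QuotientGroup.eq_one_iff g).1 hg
  refine ⟨π (f z), π w, orderOf_eq_prime ?_ fun e => ?_, orderOf_eq_prime ?_ fun e => ?_, ?_⟩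
  · rw [← map_pow, ← map_pow, ← hz, pow_orderOf_eq_one, map_one, map_one]
  · exact hne (Subgroup.mem_center_iff.1 (hnot _ e) w)
  · rw [pow_two, ← map_mul, hw2, map_one]
  · exact hne (Subgroup.mem_center_iff.1 (hnot _ e) (f z)).symm
  · rw [← map_inv π w, ← map_mul, ← map_mul, hwf, mul_inv_cancel_right, map_inv]

variable {G : Type u} [Group G] [Finite G] {K : Type v} [Field K] [Fintype K] {t : G} {E₀ : Subgroup G}
  {S : Sylow 2 G}

namespace Elt

variable {D : Elt t K E₀ S}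

/-- In `C(tq)` the subgroup `L` has no nontrivial element of order dividing three centralising `S`. -/
theorem eq_one_of_cent_SQ {c : D.Q} (hc : c ∈ D.LQ) (hc3 : c ^ 3 = 1)
    (hcS : ∀ s ∈ (D.SQ : Subgroup D.Q), Commute c s) : c = 1 := by
  obtain ⟨lX, hlX, rfl⟩ := hc
  have hlL : (lX : G) ∈ D.L := mem_subgroupOf.1 hlX
  have h3 : lX ^ 3 = 1 := D.π_inj_DX (pow_mem (mem_subgroupOf.2 (mem_sup_right hlL)) 3)
    (by rw [map_pow]; exact hc3)
  have hcomm : ∀ i ∈ D.L, i ∈ (S : Subgroup G) → Commute (lX : G) i := by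
    intro i hi hiS
    have hπ : Commute (D.π lX) (D.π ⟨i, hi.2⟩) := hcS _ ⟨⟨i, hi.2⟩, mem_subgroupOf.2 hiS, rfl⟩
    have h1 := D.π_inj_DX (g := lX * ⟨i, hi.2⟩ * lX⁻¹ * (⟨i, hi.2⟩ : ↥D.X)⁻¹)
      (mem_subgroupOf.2 (mem_sup_right (mul_mem (mul_mem (mul_mem hlL hi) (inv_mem hlL)) (inv_mem hi))))
      (by rw [map_mul, map_mul, map_mul, map_inv, map_inv, hπ.eq, mul_inv_cancel_right, mul_inv_cancel])
    exact mul_inv_eq_iff_eq_mul.1 (mul_inv_eq_one.1 (congrArg Subtype.val h1))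
  set e : ↥E₀ := ⟨(lX : G), hlL.1⟩
  have h4 := D.Sh.four e (hcomm _ D.i_mem_L D.Sh.memI) (hcomm _ D.j_mem_L D.Sh.memJ)
  have hsq : D.Sh.φ e * D.Sh.φ e = 1 := by
    rcases h4 with h | h | h | h <;> rw [h]
    · exact one_mul 1
    · exact D.Sh.frame.sqI
    · exact D.Sh.frame.sqJ
    · rw [D.Sh.frame.comm.symm.mul_mul_mul_comm, D.Sh.frame.sqI, D.Sh.frame.sqJ, one_mul]
  rw [← map_mul, MulEquiv.map_eq_one_iff] at hsq
  have h5 : (lX : G) * lX = 1 := congrArg Subtype.val hsq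
  have h6 : (lX : G) = 1 := eq_one_of_odd_sq ((show Odd 3 by decide).of_dvd_nat
    (orderOf_dvd_of_pow_eq_one (congrArg Subtype.val h3))) h5
  rw [show lX = 1 from Subtype.ext h6, map_one]

namespace Simp

variable {T : Subgroup D.Q} (h : D.Simp T)
include h

/-- The small case gives the torus. -/
theorem tor_small (h3 : D.q₀ = 3) (hr3 : ringChar K = 3 → D.r ≠ 3) : ∃ a k s j, D.Tor T a k s j := by
  classical
  haveI := h.normal
  haveI := h.simple
  haveI : Fact (Nat.Prime 2) := ⟨Nat.prime_two⟩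
  haveI : Fact (Nat.Prime 3) := ⟨Nat.prime_three⟩
  haveI : Fact (Nat.Prime 7) := ⟨by norm_num⟩
  obtain ⟨hidx, hN, F, iF, iFF, hF8, ⟨φ⟩⟩ := h.small h3
  -- the orders
  have hT504 : Nat.card ↥T = 504 := by
    rw [Nat.card_congr φ.toEquiv]
    have h1 := Forms.DicksonCor.gcd_mul_natCard (F := F)
    rw [hF8, show Nat.gcd 2 (8 - 1) = 1 by decide] at h1
    omega
  have hL : Nat.card ↥D.L = 12 := by
    have := D.two_card_L
    rw [h3] at this
    omega
  set C := centralizer ({D.tq} : Set D.Q) with hC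
  have hC24 : Nat.card ↥C = 24 := by
    have h1 := D.card_cent_Q
    rw [D.card_CX, hL, D.card_O_three h3] at h1
    have h2 : Nat.card ↥(Cfsg.oddCore ↥D.X) = D.r := Nat.dvd_antisymm (D.card_O_three h3 ▸ D.core_card_dvd)
      (by
        have := Subgroup.orderOf_dvd_natCard _ D.x_mem_core
        rwa [Subgroup.orderOf_mk, D.hox] at this)
    rw [h2] at h1
    exact Nat.eq_of_mul_eq_mul_right D.hr.pos h1
  have hT8 : Nat.card ↥(T ⊓ C) = 8 := by
    have h1 := h.card_T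
    rw [hT504, hN, h.card_cent, ← hC] at h1
    omega
  have hSC : (D.SQ : Subgroup D.Q) = T ⊓ C :=
    Subgroup.eq_of_le_of_card_ge (le_inf h.SQ_le fun z hz => mem_centralizer_singleton_iff.2
      (D.abTwo_Q _ D.SQ.2 z hz _ D.tq_mem).eq) (by rw [hT8, D.card_SQ])
  have hr7 : D.r = 7 := by
    have hne : D.r ≠ 3 := by
      refine hr3 ?_
      haveI : CharP K 3 := charP_of_card_eq_prime_pow (f := D.r) (by rw [D.card_K, h3])
      exact ringChar.eq K 3
    have h1 := D.dvd_N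
    rw [hN, show 63 = 3 ^ 2 * 7 by norm_num] at h1
    rcases D.hr.dvd_mul.1 h1 with h2 | h2
    · exact absurd ((Nat.prime_dvd_prime_iff_eq D.hr Nat.prime_three).1 (D.hr.dvd_of_dvd_pow h2)) hne
    · exact (Nat.prime_dvd_prime_iff_eq D.hr (by norm_num)).1 h2
  have hCLQ : C = zpowers D.tq ⊔ D.LQ :=
    (eq_of_le_of_card_ge (sup_le (zpowers_le.2 (mem_centralizer_singleton_iff.2 rfl)) D.LQ_le_cent)
      (by rw [hC24, ← D.DX_map, D.card_DX_map, hL])).symm
  -- an inverted element of order seven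
  obtain ⟨a₀, w₀, ha₀, hw₀, hwa⟩ := exists_inverted_seven hF8
  obtain ⟨u, hu, hut⟩ := h.transitive ((φ.symm w₀ : ↥T) : D.Q)
    (by rw [Subgroup.orderOf_coe, MulEquiv.orderOf_eq, hw₀])
  obtain ⟨aT, haT⟩ : ∃ aT : ↥T, aT = ⟨u, hu⟩⁻¹ * φ.symm a₀ * ⟨u, hu⟩ := ⟨_, rfl⟩
  have haTo : orderOf aT = 7 := by
    rw [haT, show (⟨u, hu⟩ : ↥T)⁻¹ * φ.symm a₀ * ⟨u, hu⟩ = MulAut.conj (⟨u, hu⟩ : ↥T)⁻¹ (φ.symm a₀) by simp,
      MulEquiv.orderOf_eq, MulEquiv.orderOf_eq, ha₀]
  have haTi : h.tT * aT * h.tT⁻¹ = aT⁻¹ := by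
    have h1 : φ.symm w₀ * φ.symm a₀ * (φ.symm w₀)⁻¹ = (φ.symm a₀)⁻¹ := by
      rw [← map_inv, ← map_inv, ← map_mul, ← map_mul, hwa]
    have h2 : φ.symm w₀ = ⟨u, hu⟩ * h.tT * (⟨u, hu⟩ : ↥T)⁻¹ := Subtype.ext hut.symm
    rw [h2] at h1
    calc h.tT * aT * h.tT⁻¹
        = (⟨u, hu⟩ : ↥T)⁻¹ * (⟨u, hu⟩ * h.tT * (⟨u, hu⟩ : ↥T)⁻¹ * φ.symm a₀ *
            (⟨u, hu⟩ * h.tT * (⟨u, hu⟩ : ↥T)⁻¹)⁻¹) * ⟨u, hu⟩ := by rw [haT]; group
      _ = aT⁻¹ := by rw [h1, haT]; group
  set a : D.Q := (aT : D.Q) with ha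
  have hai : D.tq * a * D.tq⁻¹ = a⁻¹ := congrArg Subtype.val haTi
  set Pt : Sylow 7 ↥T := Sylow.ofCard (zpowers aT) (by
    rw [Nat.card_zpowers, haTo, hT504, show 504 = 7 * 72 by norm_num,
      Nat.factorization_mul_apply_of_coprime (by norm_num), Nat.Prime.factorization_self (by norm_num),
      Nat.factorization_eq_zero_of_not_dvd (show ¬ 7 ∣ 72 by norm_num)]
    norm_num) with hPt
  have hPtc : (Pt : Subgroup ↥T) = zpowers aT := rfl
  set NT : Subgroup ↥T := normalizer ((zpowers aT : Subgroup ↥T) : Set ↥T) with hNT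
  have htNT : h.tT ∈ NT := EqualOrderConj.mem_normalizer_of_conj_mem fun b hb => by
    obtain ⟨n, rfl⟩ := mem_zpowers_iff.1 hb
    rw [← conj_zpow, haTi, inv_zpow]
    exact inv_mem (zpow_mem (mem_zpowers _) _)
  have hNT14 : Nat.card ↥NT = 14 := by
    have h1 := NT.card_mul_index
    have h2 : Nat.card (Sylow 7 ↥T) = NT.index := Pt.card_eq_index_normalizer
    have h3' : Nat.card (Sylow 7 ↥T) ∣ 72 := by
      have h4 := (Pt : Subgroup ↥T).card_mul_index
      rw [hPtc, Nat.card_zpowers, haTo, hT504] at h4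
      have h5 := Pt.card_dvd_index
      rwa [hPtc, show (zpowers aT).index = 72 by omega] at h5
    have h4 : Nat.card (Sylow 7 ↥T) % 7 = 1 := card_sylow_modEq_one 7 ↥T
    have h5 : 2 ∣ Nat.card ↥NT := by rw [← h.tT_order]; exact Subgroup.orderOf_dvd_natCard _ htNT
    have h6 : Nat.card (Sylow 7 ↥T) ≠ 1 := fun e => by
      rw [h2, Subgroup.index_eq_one, hNT, normalizer_eq_top_iff] at e
      rcases e.eq_bot_or_eq_top with e' | e'
      · rw [zpowers_eq_bot] at e'; rw [e', orderOf_one] at haTo; omega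
      · have := congrArg (fun H : Subgroup ↥T => Nat.card ↥H) e'
        simp only [Nat.card_zpowers, haTo, Subgroup.card_top, hT504] at this
        omega
    have hall : ∀ n ∈ Nat.divisors 72, n % 7 = 1 → n = 1 ∨ n = 8 ∨ n = 36 := by decide
    rw [← h2, hT504] at h1
    rcases hall _ (Nat.mem_divisors.2 ⟨h3', by norm_num⟩) h4 with e | e | e
    · exact absurd e h6
    · rw [e] at h1; omega
    · rw [e] at h1; omega
  -- no element of order three of `L` centralises `a`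
  have hfree : ∀ c ∈ D.LQ, c ^ 3 = 1 → Commute c a → c = 1 := by
    intro c hc hc3 hca
    by_contra hc1
    have hco : orderOf c = 3 := orderOf_eq_prime hc3 hc1
    have hct : Commute c D.tq := mem_centralizer_singleton_iff.1 (D.LQ_le_cent hc)
    have hF : ∀ s ∈ (D.SQ : Subgroup D.Q), Commute c s → s = 1 ∨ s = D.tq := by
      intro s hs hcs
      by_contra hne
      rw [not_or] at hne
      refine hc1 (eq_one_of_cent_SQ hc hc3 ?_)
      set V := (centralizer ({c} : Set D.Q)).subgroupOf (D.SQ : Subgroup D.Q) with hV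
      have hsV : (⟨s, hs⟩ : ↥(D.SQ : Subgroup D.Q)) ∈ V :=
        mem_subgroupOf.2 (mem_centralizer_singleton_iff.2 hcs.eq.symm)
      have htV : (⟨D.tq, D.tq_mem⟩ : ↥(D.SQ : Subgroup D.Q)) ∈ V :=
        mem_subgroupOf.2 (mem_centralizer_singleton_iff.2 hct.eq.symm)
      have h4 : 4 ∣ Nat.card ↥V := by
        have h8 := V.card_mul_index
        rw [D.card_SQ] at h8
        have hge : 2 < Nat.card ↥V := by
          letI : Fintype ↥V := Fintype.ofFinite _
          rw [Nat.card_eq_fintype_card]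
          refine Fintype.two_lt_card_iff.2 ⟨⟨_, hsV⟩, ⟨_, htV⟩, 1, ?_, ?_, ?_⟩
          · exact fun e => hne.2 (congrArg (fun z : ↥V => ((z : ↥(D.SQ : Subgroup D.Q)) : D.Q)) e)
          · exact fun e => hne.1 (congrArg (fun z : ↥V => ((z : ↥(D.SQ : Subgroup D.Q)) : D.Q)) e)
          · intro e
            have h9 : D.tq = 1 := congrArg (fun z : ↥V => ((z : ↥(D.SQ : Subgroup D.Q)) : D.Q)) e
            have h10 := D.tq_order
            rw [h9, orderOf_one] at h10
            omega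
        have hd : Nat.card ↥V ∣ 8 := ⟨_, h8.symm⟩
        have hd8 : ∀ n ∈ Nat.divisors 8, 2 < n → 4 ∣ n := by decide
        exact hd8 _ (Nat.mem_divisors.2 ⟨hd, by norm_num⟩) hge
      have hfix : ∀ w ∈ (D.SQ : Subgroup D.Q), Commute c w ↔ (∀ hw, (⟨w, hw⟩ : ↥(D.SQ : Subgroup D.Q)) ∈ V) :=
        fun w hw => ⟨fun e _ => mem_subgroupOf.2 (mem_centralizer_singleton_iff.2 e.eq.symm),
          fun e => (mem_centralizer_singleton_iff.1 (mem_subgroupOf.1 (e hw)) : w * c = c * w).symm⟩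
      intro w hw
      by_contra hcw
      have hwV : (⟨w, hw⟩ : ↥(D.SQ : Subgroup D.Q)) ∉ V := fun e => hcw ((hfix w hw).2 fun _ => e)
      have hV2 : V.index = 2 := by
        have h8 := V.card_mul_index
        rw [D.card_SQ] at h8
        obtain ⟨k, hk⟩ := h4
        rw [hk] at h8
        have hk0 : k ≠ 0 := by rintro rfl; simp at h8
        have hi1 : V.index ≠ 1 := fun e => hwV (Subgroup.index_eq_one.1 e ▸ mem_top _)
        have hi0 : V.index ≠ 0 := Subgroup.index_ne_zero_of_finite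
        rcases Nat.lt_or_ge V.index 2 with h9 | h9
        · omega
        · have h11 : 4 * 2 ≤ 4 * k * V.index := Nat.mul_le_mul (Nat.le_mul_of_pos_right 4 (Nat.pos_of_ne_zero hk0)) h9
          have h12 : k = 1 := by
            by_contra hk1
            have : 4 * 2 * 2 ≤ 4 * k * V.index := Nat.mul_le_mul (by omega) h9
            omega
          rw [h12] at h8
          omega
      have hcwS : c * w * c⁻¹ ∈ (D.SQ : Subgroup D.Q) := by
        rw [hSC] at hw ⊢
        refine mem_inf.2 ⟨h.normal.conj_mem _ hw.1 c, mem_centralizer_singleton_iff.2 ?_⟩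
        exact ((hct.mul_left (mem_centralizer_singleton_iff.1 hw.2)).mul_left hct.inv_left).eq
      have hcwV : (⟨_, hcwS⟩ : ↥(D.SQ : Subgroup D.Q)) ∉ V := fun e => hcw (by
        have h5 : Commute c (c * w * c⁻¹) := (hfix _ hcwS).2 fun _ => e
        have h6 := h5.eq
        calc c * w = c⁻¹ * (c * (c * w * c⁻¹)) * c := by group
          _ = c⁻¹ * (c * w * c⁻¹ * c) * c := by rw [h6]
          _ = w * c := by group)
      have hdV : (⟨_, hcwS⟩ : ↥(D.SQ : Subgroup D.Q)) * ⟨w, hw⟩ ∈ V :=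
        (Subgroup.mul_mem_iff_of_index_two hV2).2 (iff_of_false hcwV hwV)
      have hcd : Commute c (c * w * c⁻¹ * w) :=
        (mem_centralizer_singleton_iff.1 (mem_subgroupOf.1 hdV) : c * w * c⁻¹ * w * c = c * (c * w * c⁻¹ * w)).symm
      set d := c * w * c⁻¹ * w with hd
      have hw2 : w * w = 1 := D.SQ_sq hw
      have hstep : c * w * c⁻¹ = d * w := by rw [hd, mul_assoc (c * w * c⁻¹), hw2, mul_one]
      have hcdc : c * d * c⁻¹ = d := by rw [hcd.eq, mul_inv_cancel_right]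
      have h7 : c ^ 3 * w * (c ^ 3)⁻¹ = d * d * d * w := by
        calc c ^ 3 * w * (c ^ 3)⁻¹ = c * (c * (c * w * c⁻¹) * c⁻¹) * c⁻¹ := by rw [pow_succ, pow_two]; group
          _ = c * (c * (d * w) * c⁻¹) * c⁻¹ := by rw [hstep]
          _ = c * ((c * d * c⁻¹) * (c * w * c⁻¹)) * c⁻¹ := by group
          _ = c * (d * (d * w)) * c⁻¹ := by rw [hcdc, hstep]
          _ = (c * d * c⁻¹) * ((c * d * c⁻¹) * (c * w * c⁻¹)) := by group
          _ = d * d * d * w := by rw [hcdc, hstep]; simp only [mul_assoc]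
      rw [hc3, one_mul, inv_one, mul_one] at h7
      have hd2 : d * d = 1 := D.SQ_sq (mul_mem hcwS hw)
      rw [hd2, one_mul] at h7
      refine hcw ?_
      have h8 : c * w * c⁻¹ = w := by rw [hstep]; exact h7.symm
      exact mul_inv_eq_iff_eq_mul.1 h8
    set Cc : Subgroup ↥T := (centralizer ({c} : Set D.Q)).subgroupOf T with hCc
    have haC : aT ∈ Cc := mem_subgroupOf.2 (mem_centralizer_singleton_iff.2 hca.eq.symm)
    have htC : h.tT ∈ Cc := mem_subgroupOf.2 (mem_centralizer_singleton_iff.2 hct.eq.symm)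
    have hnot4 : ¬ 4 ∣ Nat.card ↥Cc := by
      intro h4
      have hp : IsPGroup 2 ↥(zpowers (⟨h.tT, htC⟩ : ↥Cc)) :=
        IsPGroup.of_card (n := 1) (by rw [Nat.card_zpowers, Subgroup.orderOf_mk, h.tT_order, pow_one])
      obtain ⟨R, hR⟩ := hp.exists_le_sylow
      have h4R : 4 ∣ Nat.card ↥(R : Subgroup ↥Cc) := by
        have := R.pow_dvd_card_of_pow_dvd_card (n := 2) (by norm_num; exact h4)
        simpa using this
      have hsub : ∀ z : ↥(R : Subgroup ↥Cc),
          (((z : ↥Cc) : ↥T) : D.Q) = 1 ∨ (((z : ↥Cc) : ↥T) : D.Q) = D.tq := by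
        intro z
        refine hF _ ?_ ((mem_centralizer_singleton_iff.1 (mem_subgroupOf.1 (z : ↥Cc).2) :
          (((z : ↥Cc) : ↥T) : D.Q) * c = c * (((z : ↥Cc) : ↥T) : D.Q))).symm
        rw [hSC]
        refine ⟨(z : ↥Cc).1.2, mem_centralizer_singleton_iff.2 ?_⟩
        have h5 := ((D.abTwo_Q.subgroup T).subgroup Cc) _ R.2 _ z.2 _ (hR (mem_zpowers _))
        exact congrArg (fun w : ↥Cc => ((w : ↥T) : D.Q)) h5.eq
      have hle : (R : Subgroup ↥Cc) ≤ zpowers (⟨h.tT, htC⟩ : ↥Cc) := fun z hz => by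
        rcases hsub ⟨z, hz⟩ with e | e
        · rw [show z = 1 from Subtype.ext (Subtype.ext e)]; exact one_mem _
        · rw [show z = ⟨h.tT, htC⟩ from Subtype.ext (Subtype.ext e)]; exact mem_zpowers _
      have h6 := h4R.trans (card_dvd_of_le hle)
      rw [Nat.card_zpowers, Subgroup.orderOf_mk, h.tT_order] at h6
      exact absurd h6 (by norm_num)
    have h3C : 3 ∣ Nat.card ↥Cc := by
      have hp : IsPGroup 3 ↥(zpowers c) := IsPGroup.of_card (n := 1) (by rw [Nat.card_zpowers, hco, pow_one])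
      obtain ⟨R, hR⟩ := hp.exists_le_sylow
      set RT := (R : Subgroup D.Q) ⊓ T with hRT
      have h27 : 27 ∣ Nat.card ↥(R : Subgroup D.Q) := by
        refine R.pow_dvd_card_of_pow_dvd_card (n := 3) ?_
        rw [← T.card_mul_index, hT504, hidx]
        norm_num
      have hdvd : Nat.card ↥(R : Subgroup D.Q) ∣ Nat.card ↥RT * 3 := by
        have h5 := (T.subgroupOf (R : Subgroup D.Q)).card_mul_index
        rw [← card_subtype (R : Subgroup D.Q), subgroupOf_map_subtype] at h5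
        rw [← h5, hRT, inf_comm]
        refine mul_dvd_mul_left _ ?_
        have h6 : (T.subgroupOf (R : Subgroup D.Q)).index ∣ T.index := Subgroup.relIndex_dvd_index_of_normal T _
        exact h6.trans hidx.dvd
      have h3RT : 3 ∣ Nat.card ↥RT :=
        Nat.dvd_of_mul_dvd_mul_right (by norm_num) ((show 3 * 3 ∣ 27 by norm_num).trans (h27.trans hdvd))
      have hconj : ∀ g ∈ zpowers c, ∀ z ∈ RT, g * z * g⁻¹ ∈ RT := fun g hg z hz =>
        mem_inf.2 ⟨mul_mem (mul_mem (hR hg) hz.1) (inv_mem (hR hg)), h.normal.conj_mem _ hz.2 _⟩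
      letI : MulAction ↥(zpowers c) ↥RT :=
        { smul := fun g z => ⟨(g : D.Q) * z * (g : D.Q)⁻¹, hconj _ g.2 _ z.2⟩
          one_smul := fun z => Subtype.ext (by show (1 : D.Q) * z * (1 : D.Q)⁻¹ = z; simp)
          mul_smul := fun g g' z => Subtype.ext (by
            show (g : D.Q) * g' * z * ((g : D.Q) * g')⁻¹ = g * (g' * z * (g' : D.Q)⁻¹) * (g : D.Q)⁻¹
            group) }
      obtain ⟨z, hz, hz1⟩ := hp.exists_fixed_point_of_prime_dvd_card_of_fixed_point ↥RT h3RT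
        (a := (1 : ↥RT)) (fun g => Subtype.ext (by show (g : D.Q) * 1 * (g : D.Q)⁻¹ = 1; simp))
      have hzc : Commute (z : D.Q) c := (mul_inv_eq_iff_eq_mul.1
        (congrArg Subtype.val (hz ⟨c, mem_zpowers c⟩) : c * (z : D.Q) * c⁻¹ = z)).symm
      have hzC : (⟨(z : D.Q), z.2.2⟩ : ↥T) ∈ Cc := mem_subgroupOf.2 (mem_centralizer_singleton_iff.2 hzc.eq)
      obtain ⟨n, hn⟩ := R.2 ⟨(z : D.Q), z.2.1⟩
      obtain ⟨i, -, hi⟩ := (Nat.dvd_prime_pow Nat.prime_three).1 (orderOf_dvd_of_pow_eq_one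
        (congrArg Subtype.val hn : (z : D.Q) ^ 3 ^ n = 1))
      have hi0 : i ≠ 0 := fun e => hz1 (Subtype.ext (by
        rw [e, pow_zero] at hi
        show (1 : D.Q) = z
        exact (orderOf_eq_one_iff.1 hi).symm))
      have h6 := Subgroup.orderOf_dvd_natCard _ hzC
      rw [Subgroup.orderOf_mk, hi] at h6
      exact (dvd_pow_self 3 hi0).trans h6
    -- `Cc` normalises the Sylow 7-subgroup
    have hleC : (Pt : Subgroup ↥T) ≤ Cc := hPtc ▸ zpowers_le.2 haC
    set Pc := Pt.subtype hleC with hPc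
    have hPcc : Nat.card ↥(Pc : Subgroup ↥Cc) = 7 := by
      rw [hPc, Sylow.coe_subtype, Nat.card_congr (subgroupOfEquivOfLe hleC).toEquiv, hPtc, Nat.card_zpowers, haTo]
    have hCd : Nat.card ↥Cc ∣ 504 := hT504 ▸ Cc.card_subgroup_dvd_card
    have h2C : 2 ∣ Nat.card ↥Cc := by rw [← h.tT_order]; exact Subgroup.orderOf_dvd_natCard _ htC
    have h7C : 7 ∣ Nat.card ↥Cc := by rw [← haTo]; exact Subgroup.orderOf_dvd_natCard _ haC
    have hn1 : Nat.card (Sylow 7 ↥Cc) = 1 := by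
      have h4 : Nat.card (Sylow 7 ↥Cc) % 7 = 1 := card_sylow_modEq_one 7 ↥Cc
      have h5 := (Pc : Subgroup ↥Cc).card_mul_index
      rw [hPcc] at h5
      have h6 := Pc.card_dvd_index
      have hall : ∀ n ∈ Nat.divisors 504, 2 ∣ n → ¬ 4 ∣ n → 7 ∣ n →
          ∀ k ∈ Nat.divisors (n / 7), k % 7 = 1 → k = 1 := by decide +kernel
      refine hall _ (Nat.mem_divisors.2 ⟨hCd, by norm_num⟩) h2C hnot4 h7C _ (Nat.mem_divisors.2 ⟨?_, ?_⟩) h4
      · rwa [show Nat.card ↥Cc / 7 = (Pc : Subgroup ↥Cc).index by omega]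
      · have := Nat.card_pos (α := ↥Cc); omega
    haveI : Subsingleton (Sylow 7 ↥Cc) := (Nat.card_eq_one_iff_unique.1 hn1).1
    have hnormal : (Pc : Subgroup ↥Cc).Normal := Sylow.normal_of_subsingleton Pc
    have hCN : Cc ≤ NT := fun g hg => EqualOrderConj.mem_normalizer_of_conj_mem fun b hb => by
      have h5 := hnormal.conj_mem (⟨b, hleC (hPtc.ge hb)⟩ : ↥Cc)
        (by rw [hPc, Sylow.coe_subtype]; exact mem_subgroupOf.2 (hPtc.ge hb)) ⟨g, hg⟩
      rw [hPc, Sylow.coe_subtype] at h5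
      exact hPtc.le (mem_subgroupOf.1 h5)
    have h14 := h3C.trans (card_dvd_of_le hCN)
    rw [hNT14] at h14
    exact absurd h14 (by norm_num)
  -- the Frattini argument
  have hmapP : (Pt : Subgroup ↥T).map T.subtype = zpowers a := by rw [hPtc, MonoidHom.map_zpowers]; rfl
  set M : Subgroup D.Q := normalizer ((zpowers a : Subgroup D.Q) : Set D.Q) with hM
  obtain ⟨m, hmM, hmT⟩ : ∃ m ∈ M, m ∉ T := by
    by_contra hall
    push Not at hall
    have h1 : M ⊔ T = ⊤ := by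
      have h2 := Pt.normalizer_sup_eq_top
      rwa [hmapP] at h2
    rw [sup_eq_right.2 hall] at h1
    rw [h1, Subgroup.index_top] at hidx
    omega
  have hmem : ∀ g : D.Q, g ∈ M → ∀ hg : g ∈ T, (⟨g, hg⟩ : ↥T) ∈ NT := fun g hg hgT =>
    EqualOrderConj.mem_normalizer_of_conj_mem fun b hb => by
      obtain ⟨n, rfl⟩ := mem_zpowers_iff.1 hb
      have h1 : g * a ^ n * g⁻¹ ∈ zpowers a := (mem_normalizer_iff.1 hg _).1 (zpow_mem (mem_zpowers a) n)
      obtain ⟨i, hi⟩ := mem_zpowers_iff.1 h1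
      exact mem_zpowers_iff.2 ⟨i, Subtype.ext (by
        rw [Subgroup.coe_zpow, Subgroup.coe_mul, Subgroup.coe_mul, Subgroup.coe_inv, Subgroup.coe_zpow]
        exact hi)⟩
  have htM : D.tq ∈ M := EqualOrderConj.mem_normalizer_of_conj_mem fun b hb => by
    obtain ⟨n, rfl⟩ := mem_zpowers_iff.1 hb
    rw [← conj_zpow, hai, inv_zpow]
    exact inv_mem (zpow_mem (mem_zpowers _) _)
  have hwM : m * D.tq * m⁻¹ ∈ M := mul_mem (mul_mem hmM htM) (inv_mem hmM)
  have hwT : m * D.tq * m⁻¹ ∈ T := h.normal.conj_mem _ (h.mem _ D.tq_order) m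
  set wN : ↥NT := ⟨⟨_, hwT⟩, hmem _ hwM hwT⟩
  set tN : ↥NT := ⟨h.tT, htNT⟩
  have hwo : orderOf wN = 2 := by
    rw [Subgroup.orderOf_mk, Subgroup.orderOf_mk, ← MulAut.conj_apply, MulEquiv.orderOf_eq, D.tq_order]
  have hto : orderOf tN = 2 := by rw [Subgroup.orderOf_mk, h.tT_order]
  have hSyl : ∀ z : ↥NT, orderOf z = 2 → ∃ P : Sylow 2 ↥NT, (P : Subgroup ↥NT) = zpowers z := fun z hz =>
    ⟨Sylow.ofCard (zpowers z) (by
      rw [Nat.card_zpowers, hz, hNT14, show 14 = 2 * 7 by norm_num,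
        Nat.factorization_mul_apply_of_coprime (by norm_num), Nat.Prime.factorization_self Nat.prime_two,
        Nat.factorization_eq_zero_of_not_dvd (show ¬ 2 ∣ 7 by norm_num)]
      norm_num), rfl⟩
  obtain ⟨P₁, hP₁⟩ := hSyl tN hto
  obtain ⟨P₂, hP₂⟩ := hSyl wN hwo
  obtain ⟨g, hg⟩ := MulAction.exists_smul_eq ↥NT P₁ P₂
  have hgt : g * tN * g⁻¹ = wN := by
    have h1 : g * tN * g⁻¹ ∈ (P₂ : Subgroup ↥NT) := by
      rw [← hg, Sylow.coe_subgroup_smul]
      exact ⟨tN, hP₁.ge (mem_zpowers _), rfl⟩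
    rcases zpow_cases hwo (hP₂.le h1) with e | e
    · rw [conj_eq_one_iff] at e; rw [e, orderOf_one] at hto; omega
    · exact e
  set n₀ : D.Q := ((g : ↥T) : D.Q)⁻¹ * m with hn₀
  have hn₀C : n₀ ∈ C := mem_centralizer_singleton_iff.2 (by
    have e : ((g : ↥T) : D.Q) * D.tq * ((g : ↥T) : D.Q)⁻¹ = m * D.tq * m⁻¹ :=
      congrArg (fun z : ↥NT => ((z : ↥T) : D.Q)) hgt
    calc n₀ * D.tq = ((g : ↥T) : D.Q)⁻¹ * (m * D.tq * m⁻¹) * m := by rw [hn₀]; group
      _ = D.tq * n₀ := by rw [← e, hn₀]; group)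
  have hgM : ((g : ↥T) : D.Q) ∈ M := EqualOrderConj.mem_normalizer_of_conj_mem fun b hb => by
    obtain ⟨n, rfl⟩ := mem_zpowers_iff.1 hb
    have h1 : (g : ↥T) * aT ^ n * (g : ↥T)⁻¹ ∈ zpowers aT :=
      (mem_normalizer_iff.1 g.2 _).1 (zpow_mem (mem_zpowers aT) n)
    obtain ⟨i, hi⟩ := mem_zpowers_iff.1 h1
    exact mem_zpowers_iff.2 ⟨i, by
      have h2 := congrArg Subtype.val hi
      rwa [Subgroup.coe_zpow, Subgroup.coe_mul, Subgroup.coe_mul, Subgroup.coe_inv, Subgroup.coe_zpow] at h2⟩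
  have hn₀M : n₀ ∈ M := mul_mem (inv_mem hgM) hmM
  have hn₀T : n₀ ∉ T := fun e => hmT (by
    have := mul_mem (SetLike.coe_mem (g : ↥T)) e
    rwa [hn₀, mul_inv_cancel_left] at this)
  set n : D.Q := n₀ ^ 8 with hn
  have hn3 : n ^ 3 = 1 := by
    rw [hn, ← pow_mul]
    refine orderOf_dvd_iff_pow_eq_one.1 ?_
    show orderOf n₀ ∣ 24
    exact hC24 ▸ Subgroup.orderOf_dvd_natCard _ hn₀C
  have hnT : n ∉ T := fun e => hn₀T (by
    have h3' : n₀ ^ 3 ∈ T := hidx ▸ Subgroup.pow_index_mem T n₀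
    have h1 := mul_mem (pow_mem h3' 3) (inv_mem e)
    rwa [← pow_mul, hn, show 3 * 3 = 1 + 8 by norm_num, pow_add, pow_one, mul_inv_cancel_right] at h1)
  have hnL : n ∈ D.LQ := by
    obtain ⟨z, hz, l, hl, e⟩ := mem_sup_cases D.LQ_le_cent (hCLQ.le (pow_mem hn₀C 8))
    have e' : n = z * l := e
    rcases zpow_cases D.tq_order hz with rfl | rfl
    · rw [e', one_mul]; exact hl
    · exfalso
      have hc : Commute D.tq l := (mem_centralizer_singleton_iff.1 (D.LQ_le_cent hl)).symm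
      rw [e', hc.mul_pow, show (3 : ℕ) = 2 + 1 by norm_num, pow_succ D.tq, ← D.tq_order, pow_orderOf_eq_one,
        one_mul] at hn3
      exact D.tq_not_LQ ((eq_inv_of_mul_eq_one_left hn3) ▸ inv_mem (pow_mem hl _))
  obtain ⟨j, hj⟩ : ∃ j : ℕ, n * a * n⁻¹ = a ^ j := by
    have h1 : n * a * n⁻¹ ∈ zpowers a := (mem_normalizer_iff.1 (pow_mem hn₀M 8) _).1 (mem_zpowers a)
    obtain ⟨j, hj⟩ := (isOfFinOrder_of_finite a).mem_powers_iff_mem_zpowers.2 h1
    exact ⟨j, hj.symm⟩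
  have hao : orderOf a = 7 := by rw [ha, Subgroup.orderOf_coe, haTo]
  refine ⟨a, n, 3, j,
    { simp := h
      not_dvd_L := by rw [hr7, hL]; norm_num
      not_dvd_cent := by rw [hr7, hT8]; norm_num
      s_prime := Nat.prime_three
      s_odd := by decide
      s_dvd := by rw [hr7]; norm_num
      a_order := by rw [hr7]; exact hao
      a_inv := hai
      k_mem := hnL
      k_order := orderOf_eq_prime hn3 fun e => hnT (e ▸ one_mem T)
      j_ne := fun e => ?_
      scalar := fun R hR hRT haR hRi _ b hb => ?_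
      conj := hj
      free := hfree }⟩
  · rw [hr7, ← hao] at e
    rw [pow_eq_pow_iff_modEq.2 e, pow_one] at hj
    exact hnT (hfree n hnL hn3 (mul_inv_eq_iff_eq_mul.1 hj) ▸ one_mem T)
  · have hle : zpowers a ≤ R := zpowers_le.2 haR
    have hRz : zpowers a = R := by
      refine eq_of_le_of_card_ge hle ?_
      rw [Nat.card_zpowers, hao]
      haveI : Fact (Nat.Prime D.r) := ⟨D.hr⟩
      obtain ⟨i, hi⟩ := IsPGroup.iff_card.1 hR
      rw [hr7] at hi
      have h1 : 7 ^ i ∣ 7 * 72 := by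
        have h2 := card_dvd_of_le hRT
        rwa [hi, hT504] at h2
      rcases Nat.lt_or_ge i 2 with h2 | h2
      · rw [hi]; exact (Nat.pow_le_pow_right (by norm_num) (Nat.le_of_lt_succ h2)).trans (pow_one 7).le
      · exact absurd ((pow_dvd_pow 7 h2).trans h1) (by norm_num)
    obtain ⟨i, rfl⟩ := mem_zpowers_iff.1 (hRz.ge hb)
    rw [← conj_zpow, hj, ← zpow_natCast, ← zpow_natCast, ← zpow_mul, ← zpow_mul, mul_comm]

end Simp

end Elt

end Cfsg.Agent.Walter.Field.Other
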