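import Cfsg.Agent.Lib.Walter.Field.OtherTools

/-!
# A negated reflection and a homology commuting with it

`t` fixes at most a line of the elementary abelian `r`-group `V`, `k` fixes that line and is the power
`j` on the elements inverted by `t`. Then `t` centralises every solvable group of odd order prime to
`r` normalised by `t` and `k`.
-/

set_option autoImplicit false
set_option linter.unusedSectionVars false
set_option linter.style.haveILetI false

namespace Cfsg.Agent.Walter.Field.Other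

open Subgroup

universe u v

variable {r : ℕ} [hr : Fact r.Prime] {L : Type u} [Group L] [Finite L] {V : Type v} [CommGroup V]
  [Finite V]

/-- `r`-torsion: an integer kills a non-zero vector only if it vanishes modulo `r`. -/
theorem dvd_of_zsmul_eq_zero {M : Type*} [AddCommGroup M] (hexp : ∀ x : M, (r : ℤ) • x = 0) {c : ℤ}
    {x : M} (hx : x ≠ 0) (h : c • x = 0) : (r : ℤ) ∣ c := by
  by_contra hc
  obtain ⟨a, b, hab⟩ : IsCoprime (r : ℤ) c :=
    (Prime.coprime_iff_not_dvd (Nat.prime_iff_prime_int.1 hr.out)).2 hc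
  exact hx (by
    calc x = (1 : ℤ) • x := (one_zsmul x).symm
      _ = 0 := by rw [← hab, add_zsmul, mul_zsmul, mul_zsmul, hexp, h, zsmul_zero, zsmul_zero, add_zero])

theorem eq_zero_of_nsmul_eq_zero {M : Type*} [AddCommGroup M] (hexp : ∀ x : M, (r : ℤ) • x = 0) {n : ℕ}
    (hn : ¬ r ∣ n) {x : M} (h : n • x = 0) : x = 0 := by
  by_contra hx
  exact hn (Int.natCast_dvd_natCast.1 (dvd_of_zsmul_eq_zero hexp hx (by rwa [natCast_zsmul])))

/-- The conjugate of an inverted element of order prime to `r` by `k` cannot commute with it up to a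
fixed element, unless it is trivial. -/
theorem eq_one_of_refl (hr2 : r ≠ 2) (ρ : L →* MulAut V) (hρ : Function.Injective ρ)
    (hexp : ∀ v : V, v ^ r = 1) {t k : L}
    (hfix : ∃ y : V, ∀ v, ρ t v = v → v ∈ zpowers y) (hkfix : ∀ v, ρ t v = v → ρ k v = v)
    {j : ℕ} (hj : ¬ j * j ≡ 1 [MOD r]) (hkinv : ∀ v, ρ t v = v⁻¹ → ρ k v = v ^ j)
    (ht : t * t = 1) {a : L} (hinv : t * a * t⁻¹ = a⁻¹) (ha : Odd (orderOf a)) (har : ¬ r ∣ orderOf a)
    (hzt : Commute (a * (k * a * k⁻¹) * a⁻¹ * (k * a * k⁻¹)⁻¹) t)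
    (hza : Commute (a * (k * a * k⁻¹) * a⁻¹ * (k * a * k⁻¹)⁻¹) a) : a = 1 := by
  classical
  let φ : L →* AddMonoid.End (Additive V) :=
    { toFun := fun g => MonoidHom.toAdditive (ρ g).toMonoidHom
      map_one' := AddMonoidHom.ext fun x => by rw [map_one]; rfl
      map_mul' := fun g h => AddMonoidHom.ext fun x => by rw [map_mul]; rfl }
  have hφ : ∀ (g : L) (x : Additive V), φ g x = Additive.ofMul (ρ g x.toMul) := fun _ _ => rfl
  have hmul : ∀ (g h : L) (x : Additive V), φ g (φ h x) = φ (g * h) x := fun g h x => by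
    rw [map_mul]; rfl
  have hone : ∀ x : Additive V, φ 1 x = x := fun x => by rw [map_one]; rfl
  have hr0 : ∀ x : Additive V, (r : ℤ) • x = 0 := fun x => by
    rw [natCast_zsmul]; exact congrArg Additive.ofMul (hexp x.toMul)
  have hfixV : ∀ x : Additive V, φ t x = x → φ k x = x := fun x hx =>
    congrArg Additive.ofMul (hkfix x.toMul (congrArg Additive.toMul hx))
  have hinvV : ∀ x : Additive V, φ t x = -x → φ k x = (j : ℤ) • x := fun x hx => by
    rw [natCast_zsmul]
    exact congrArg Additive.ofMul (hkinv x.toMul (congrArg Additive.toMul hx))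
  have htt : ∀ x, φ t (φ t x) = x := fun x => by rw [hmul, ht, hone]
  have hai : ∀ x, φ a (φ a⁻¹ x) = x := fun x => by rw [hmul, mul_inv_cancel, hone]
  have hia : ∀ x, φ a⁻¹ (φ a x) = x := fun x => by rw [hmul, inv_mul_cancel, hone]
  have hta : ∀ x, φ t (φ a x) = φ a⁻¹ (φ t x) := fun x => by
    rw [hmul, hmul, ← hinv, inv_mul_cancel_right]
  have hta' : ∀ x, φ t (φ a⁻¹ x) = φ a (φ t x) := fun x => by
    rw [hmul, hmul]
    congr 2
    apply mul_right_cancel (b := t⁻¹)
    rw [mul_inv_cancel_right]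
    calc t * a⁻¹ * t⁻¹ = (t * a * t⁻¹)⁻¹ := by group
      _ = a := by rw [hinv, inv_inv]
  have hr' : ¬ (r : ℤ) ∣ 2 := fun h => hr2 ((Nat.prime_dvd_prime_iff_eq hr.out Nat.prime_two).1
    (Int.natCast_dvd_natCast.1 h))
  obtain ⟨m, hm⟩ := ha
  -- `α² x = x` forces `α x = x`
  have hsq : ∀ x, φ a (φ a x) = x → φ a x = x := by
    intro x hx
    have hp : ∀ i, φ (a ^ (2 * i)) x = x := by
      intro i
      induction i with
      | zero => rw [mul_zero, pow_zero, hone]
      | succ i ih => rw [Nat.mul_succ, pow_add, pow_two, ← hmul, ← hmul, hx, ih]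
    have e : a ^ (2 * (m + 1)) = a := by
      rw [show 2 * (m + 1) = orderOf a + 1 by omega, pow_succ, pow_orderOf_eq_one, one_mul]
    exact e ▸ hp (m + 1)
  have hord : ∀ x w, φ a x = x + w → φ a w = w → w = 0 := by
    intro x w hx hw
    have hp : ∀ i : ℕ, φ (a ^ i) x = x + i • w := by
      intro i
      induction i with
      | zero => rw [pow_zero, hone, zero_nsmul, add_zero]
      | succ i ih =>
        rw [pow_succ', ← hmul, ih, map_add, hx, map_nsmul, hw, succ_nsmul']
        abel
    have h1 := hp (orderOf a)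
    rw [pow_orderOf_eq_one, hone] at h1
    exact eq_zero_of_nsmul_eq_zero hr0 har (left_eq_add.1 h1)
  by_cases hall : ∀ x, φ t x = x → φ a x = x
  · -- every fixed vector is fixed by `a`
    have hinvfix : ∀ x, φ t x = -x → φ a x = x := by
      intro x hx
      have h1 : φ t (φ a x - φ a⁻¹ x) = φ a x - φ a⁻¹ x := by
        rw [map_sub, hta, hta', hx, map_neg, map_neg]; abel
      set w := φ a x - φ a⁻¹ x with hw
      have h2 : φ a w = w := hall w h1
      have h3 : φ (a * a) x = x + w := by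
        rw [← hmul]
        calc φ a (φ a x) = φ a (φ a⁻¹ x + w) := by rw [hw]; congr 1; abel
          _ = x + w := by rw [map_add, hai, h2]
      have hp : ∀ i : ℕ, φ ((a * a) ^ i) x = x + i • w := by
        intro i
        induction i with
        | zero => rw [pow_zero, hone, zero_nsmul, add_zero]
        | succ i ih =>
          rw [pow_succ', ← hmul, ih, map_add, h3, map_nsmul, ← hmul, h2, h2, succ_nsmul']
          abel
      have h4 := hp (orderOf a)
      rw [show (a * a) ^ orderOf a = 1 by rw [(Commute.refl a).mul_pow, pow_orderOf_eq_one, mul_one],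
        hone] at h4
      have hw0 : w = 0 := eq_zero_of_nsmul_eq_zero hr0 har (left_eq_add.1 h4)
      exact hsq x (by rw [hmul, h3, hw0, add_zero])
    refine hρ (MulEquiv.ext fun v => ?_)
    have h2 : φ a ((2 : ℤ) • Additive.ofMul v) = (2 : ℤ) • Additive.ofMul v := by
      have e : (2 : ℤ) • Additive.ofMul v = (Additive.ofMul v + φ t (Additive.ofMul v)) +
          (Additive.ofMul v - φ t (Additive.ofMul v)) := by rw [two_zsmul]; abel
      rw [e, map_add, hall _ (by rw [map_add, htt]; abel), hinvfix _ (by rw [map_sub, htt]; abel)]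
    rw [map_zsmul, ← sub_eq_zero, ← zsmul_sub] at h2
    have h3 : φ a (Additive.ofMul v) - Additive.ofMul v = 0 := by
      by_contra hne
      exact hr' (dvd_of_zsmul_eq_zero hr0 hne h2)
    rw [map_one, MulAut.one_apply]
    exact congrArg Additive.toMul (sub_eq_zero.1 h3)
  · exfalso
    push Not at hall
    obtain ⟨e, he, hae⟩ := hall
    have he0 : e ≠ 0 := fun h => hae (by rw [h, map_zero])
    have hline : ∀ x, φ t x = x → ∃ c : ℤ, x = c • e := by
      obtain ⟨y, hy⟩ := hfix
      obtain ⟨p, hp⟩ := hy e.toMul (congrArg Additive.toMul he)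
      intro x hx
      obtain ⟨q, hq⟩ := hy x.toMul (congrArg Additive.toMul hx)
      have hp' : p • Additive.ofMul y = e := by rw [← ofMul_zpow]; exact congrArg Additive.ofMul hp
      have hq' : q • Additive.ofMul y = x := by rw [← ofMul_zpow]; exact congrArg Additive.ofMul hq
      have hpr : ¬ (r : ℤ) ∣ p := by
        rintro ⟨p', rfl⟩
        exact he0 (by rw [← hp', mul_zsmul, hr0])
      obtain ⟨b₁, b₂, hb⟩ := (Prime.coprime_iff_not_dvd (Nat.prime_iff_prime_int.1 hr.out)).2 hpr
      refine ⟨b₂ * q, ?_⟩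
      rw [← hp', ← hq', ← mul_zsmul]
      conv_lhs => rw [← mul_one q, ← hb, mul_add, add_zsmul, ← mul_assoc, mul_comm (q * b₁) (r : ℤ),
        mul_zsmul, hr0, zero_add]
      congr 1
      ring
    obtain ⟨c, hc⟩ := hline (φ a e + φ a⁻¹ e) (by rw [map_add, hta, hta', he, add_comm])
    set f := φ a e - φ a⁻¹ e with hf
    have hft : φ t f = -f := by rw [hf, map_sub, hta, hta', he]; abel
    have hf0 : f ≠ 0 := fun h => hae (hsq e (by
      rw [show φ a e = φ a⁻¹ e from sub_eq_zero.1 h, hai]))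
    have hα : (2 : ℤ) • φ a e = c • e + f := by rw [← hc, hf, two_zsmul]; abel
    have hα' : φ a⁻¹ e = c • e - φ a e := by rw [← hc]; abel
    have haa : φ a (φ a e) = c • φ a e - e := by
      have h := congrArg (φ a) hc
      rw [map_add, hai, map_zsmul] at h
      rw [← h]; abel
    have hαf : (2 : ℤ) • φ a f = c • f + (c * c - 4) • e := by
      have h1 : φ a f = c • φ a e - e - e := by rw [hf, map_sub, haa, hai]
      have hf2 : f = φ a e - (c • e - φ a e) := by rw [hf, hα']
      rw [h1, hf2]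
      module
    have hδ : ¬ (r : ℤ) ∣ c * c - 4 := by
      intro hd
      obtain ⟨d', hd'⟩ := hd
      have hdf : (c * c - 4) • e = 0 := by rw [hd', mul_zsmul, hr0]
      rw [hdf, add_zero] at hαf
      have hiaa : φ a⁻¹ (φ a⁻¹ e) = c • φ a⁻¹ e - e := by
        have h := congrArg (φ a⁻¹) hc
        rw [map_add, hia, map_zsmul] at h
        rw [← h]; abel
      have hαf' : (2 : ℤ) • φ a⁻¹ f = c • f - (c * c - 4) • e := by
        have h1 : φ a⁻¹ f = e - (c • φ a⁻¹ e - e) := by rw [hf, map_sub, hia, hiaa]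
        rw [h1, hf, hα']
        module
      rw [hdf, sub_zero] at hαf'
      have haf : φ a f = φ a⁻¹ f := by
        by_contra hne
        exact hr' (dvd_of_zsmul_eq_zero hr0 (sub_ne_zero.2 hne)
          (by rw [zsmul_sub, hαf, hαf', sub_self]))
      have haf1 : φ a f = f := hsq f (by
        conv_lhs => rw [haf]
        rw [hai])
      rw [haf1] at hαf
      have hc2 : (r : ℤ) ∣ c - 2 := dvd_of_zsmul_eq_zero hr0 hf0 (by rw [sub_zsmul, ← hαf, add_neg_cancel])
      obtain ⟨c', hc'⟩ := hc2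
      have hce : c • e = (2 : ℤ) • e := by
        rw [show c = (c - 2) + 2 by ring, add_zsmul, hc', mul_zsmul, hr0, zero_add]
      have hg : f = (2 : ℤ) • (φ a e - e) := by
        rw [hce] at hα'
        rw [hf, hα']
        module
      have hgfix : φ a (φ a e - e) = φ a e - e := by
        rw [hg, map_zsmul, ← sub_eq_zero, ← zsmul_sub] at haf1
        by_contra hne
        exact hr' (dvd_of_zsmul_eq_zero hr0 (sub_ne_zero.2 hne) haf1)
      exact hae (sub_eq_zero.1 (hord e (φ a e - e) (by abel) hgfix))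
    -- the conjugate
    set b := k * a * k⁻¹ with hb
    have hkk : ∀ g x, φ (k * g * k⁻¹) (φ k x) = φ k (φ g x) := fun g x => by
      rw [hmul, hmul, inv_mul_cancel_right]
    have hke : φ k e = e := hfixV e he
    have hkf : φ k f = (j : ℤ) • f := hinvV f hft
    have hjf : (j : ℤ) • f ≠ 0 := fun h => hf0 (by
      have h1 : φ k⁻¹ (φ k f) = f := by rw [hmul, inv_mul_cancel, hone]
      rw [← h1, hkf, h, map_zero])
    have hβe : (2 : ℤ) • φ b e = c • e + (j : ℤ) • f := by
      conv_lhs => rw [← hke, hkk, ← map_zsmul, hα, map_add, map_zsmul, hke, hkf]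
    have hβf : (2 : ℤ) • (j : ℤ) • φ b f = c • (j : ℤ) • f + (c * c - 4) • e := by
      conv_lhs => rw [← map_zsmul (φ b), ← hkf, hkk, ← map_zsmul, hαf, map_add, map_zsmul, map_zsmul, hke, hkf]
    set z := a * b * a⁻¹ * b⁻¹ with hz
    obtain ⟨d, hd⟩ := hline (φ z e) (by rw [hmul, ← hzt.eq, ← hmul, he])
    have hzf : φ z f = d • f := by
      have h1 : ∀ g, Commute z g → φ z (φ g e) = d • φ g e := fun g hg => by
        rw [hmul, hg.eq, ← hmul, hd, map_zsmul]
      rw [hf, map_sub, h1 a hza, h1 a⁻¹ hza.inv_right, zsmul_sub]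
    have hab : a * b = z * (b * a) := by rw [hz]; group
    have hL : (4 : ℤ) • φ (a * b) e = (c * c + (j : ℤ) * (c * c - 4)) • e + (c * (1 + j)) • f := by
      rw [← hmul, show (4 : ℤ) • φ a (φ b e) = (2 : ℤ) • φ a ((2 : ℤ) • φ b e) by
        rw [map_zsmul]; module, hβe, map_add, map_zsmul, map_zsmul, zsmul_add,
        smul_comm (2 : ℤ) c, smul_comm (2 : ℤ) (j : ℤ), hα, hαf]
      module
    have hR : (4 : ℤ) • (j : ℤ) • φ (b * a) e =
        ((j : ℤ) * (c * c) + (c * c - 4)) • e + ((j : ℤ) * c * (1 + j)) • f := by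
      rw [← hmul, show (4 : ℤ) • (j : ℤ) • φ b (φ a e) = (2 : ℤ) • (j : ℤ) • φ b ((2 : ℤ) • φ a e) by
        rw [map_zsmul]; module, hα, map_add, map_zsmul,
        zsmul_add, zsmul_add, hβf, smul_comm (j : ℤ) c, smul_comm (2 : ℤ) c, smul_comm (2 : ℤ) (j : ℤ), hβe]
      module
    have hkey : (j : ℤ) • ((c * c + (j : ℤ) * (c * c - 4)) • e + (c * (1 + j)) • f) =
        d • (((j : ℤ) * (c * c) + (c * c - 4)) • e + ((j : ℤ) * c * (1 + j)) • f) := by
      rw [← hL, ← hR, hab, ← hmul]
      have h1 : φ z ((4 : ℤ) • (j : ℤ) • φ (b * a) e) = d • ((4 : ℤ) • (j : ℤ) • φ (b * a) e) := by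
        rw [hR, map_add, map_zsmul, map_zsmul, hd, hzf]
        module
      rw [← h1, map_zsmul, map_zsmul, smul_comm]
    set A : ℤ := (j : ℤ) * (c * c + (j : ℤ) * (c * c - 4)) - d * ((j : ℤ) * (c * c) + (c * c - 4)) with hA
    set B : ℤ := (j : ℤ) * (c * (1 + j)) - d * ((j : ℤ) * c * (1 + j)) with hB
    have hlin : A • e + B • f = 0 := by
      rw [← sub_eq_zero] at hkey
      rw [← hkey, hA, hB]
      module
    have hlin' : A • e - B • f = 0 := by
      have := congrArg (φ t) hlin
      rw [map_add, map_zsmul, map_zsmul, he, hft, map_zero, zsmul_neg] at this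
      rw [sub_eq_add_neg]; exact this
    have hAe : (2 * A) • e = 0 := by
      have h : A • e + B • f + (A • e - B • f) = 0 := by rw [hlin, hlin', add_zero]
      rw [← h]; module
    have hBf : (2 * B) • f = 0 := by
      have h : A • e + B • f - (A • e - B • f) = 0 := by rw [hlin, hlin', sub_zero]
      rw [← h]; module
    have hrp : Prime (r : ℤ) := Nat.prime_iff_prime_int.1 hr.out
    have hA' : (r : ℤ) ∣ A := (hrp.dvd_or_dvd (dvd_of_zsmul_eq_zero hr0 he0 hAe)).resolve_left hr'
    have hB' : (r : ℤ) ∣ B := (hrp.dvd_or_dvd (dvd_of_zsmul_eq_zero hr0 hf0 hBf)).resolve_left hr'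
    have hj0 : ¬ (r : ℤ) ∣ j := fun ⟨j', h⟩ => hjf (by rw [h, mul_zsmul, hr0])
    have hj2 : ¬ (r : ℤ) ∣ (j : ℤ) * j - 1 := fun h => hj
      (Nat.ModEq.symm (Nat.modEq_iff_dvd.2 (by push_cast; exact h)))
    have hj1 : ¬ (r : ℤ) ∣ 1 + j := fun h => hj2 (by
      rw [show (j : ℤ) * j - 1 = (j - 1) * (1 + j) by ring]; exact dvd_mul_of_dvd_right h _)
    have hc0 : ¬ (r : ℤ) ∣ c := by
      rintro ⟨c', hc'⟩
      rw [hc', mul_zsmul, hr0, zero_sub] at haa
      have hp : ∀ i : ℕ, φ ((a * a) ^ i) e = ((-1 : ℤ) ^ i) • e := by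
        intro i
        induction i with
        | zero => rw [pow_zero, pow_zero, hone, one_zsmul]
        | succ i ih =>
          rw [pow_succ', ← hmul, ih, map_zsmul, ← hmul, haa, pow_succ, mul_zsmul, neg_one_zsmul]
      have h := hp (orderOf a)
      rw [show (a * a) ^ orderOf a = 1 by rw [(Commute.refl a).mul_pow, pow_orderOf_eq_one, mul_one],
        hone, Odd.neg_one_pow ⟨m, hm⟩, neg_one_zsmul] at h
      exact hr' (dvd_of_zsmul_eq_zero hr0 he0 (by
        rw [two_zsmul]
        nth_rw 1 [h]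
        rw [neg_add_cancel]))
    have hd1 : (r : ℤ) ∣ 1 - d := by
      rw [hB, show (j : ℤ) * (c * (1 + j)) - d * ((j : ℤ) * c * (1 + j)) =
        (j : ℤ) * c * (1 + j) * (1 - d) by ring] at hB'
      rcases hrp.dvd_or_dvd hB' with h | h
      · rcases hrp.dvd_or_dvd h with h | h
        · exact absurd ((hrp.dvd_or_dvd h).resolve_left hj0) hc0
        · exact absurd h hj1
      · exact h
    have hfin : (r : ℤ) ∣ (c * c - 4) * ((j : ℤ) * j - 1) := by
      have e : (c * c - 4) * ((j : ℤ) * j - 1) = A - (1 - d) * ((j : ℤ) * (c * c) + (c * c - 4)) := by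
        rw [hA]; ring
      rw [e]
      exact dvd_sub hA' (dvd_mul_of_dvd_left hd1 _)
    rcases hrp.dvd_or_dvd hfin with h | h
    exacts [hδ h, hj2 h]

/-- `t` centralises the solvable groups of odd order prime to `r` normalised by `t` and `k`. -/
theorem commute_of_refl (hr2 : r ≠ 2) (ρ : L →* MulAut V) (hρ : Function.Injective ρ)
    (hexp : ∀ v : V, v ^ r = 1) {t k : L}
    (hfix : ∃ y : V, ∀ v, ρ t v = v → v ∈ zpowers y) (hkfix : ∀ v, ρ t v = v → ρ k v = v)
    {j : ℕ} (hj : ¬ j * j ≡ 1 [MOD r]) (hkinv : ∀ v, ρ t v = v⁻¹ → ρ k v = v ^ j)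
    (ht : t * t = 1) (P : Subgroup L) (hodd : Odd (Nat.card ↥P)) (hrP : ¬ r ∣ Nat.card ↥P)
    (htP : t ∈ normalizer (P : Set L)) (hkP : k ∈ normalizer (P : Set L)) :
    ∀ a ∈ P, Commute a t := by
  induction hn : Nat.card ↥P using Nat.strong_induction_on generalizing P with
  | _ N ih =>
  subst hn
  haveI : Group.IsSolvable ↥P := S0205.result hodd
  have hsmall : ∀ z ∈ ⁅P, P⁆, Commute z t := by
    rcases eq_or_ne P ⊥ with rfl | hne
    · intro z hz
      rw [commutator_bot_left, mem_bot] at hz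
      rw [hz]; exact Commute.one_left t
    haveI : Nontrivial ↥P := (nontrivial_iff_ne_bot P).2 hne
    have hle : ⁅P, P⁆ ≤ P := commutator_le.2 fun x hx y hy =>
      mul_mem (mul_mem (mul_mem hx hy) (inv_mem hx)) (inv_mem hy)
    have hlt : ⁅P, P⁆ < P := by
      refine lt_of_le_of_ne hle fun e => ?_
      refine (Group.IsSolvable.commutator_lt_top_of_nontrivial ↥P).ne ?_
      apply map_injective P.subtype_injective
      rw [map_subtype_commutator, e, ← MonoidHom.range_eq_map, Subgroup.range_subtype]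
    have hconj : ∀ g ∈ normalizer (P : Set L), g ∈ normalizer ((⁅P, P⁆ : Subgroup L) : Set L) := by
      intro g hg
      have hP : P.map (MulAut.conj g).toMonoidHom = P := by
        ext y
        constructor
        · rintro ⟨p, hp, rfl⟩
          exact (mem_normalizer_iff.1 hg p).1 hp
        · intro hy
          exact ⟨g⁻¹ * y * g, (mem_normalizer_iff''.1 hg y).1 hy, by simp [mul_assoc]⟩
      refine Subgroup.mem_normalizer_fintype fun y hy => ?_
      have h := mem_map_of_mem (MulAut.conj g).toMonoidHom hy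
      rw [map_commutator, hP] at h
      exact h
    exact ih _ (lt_of_le_of_ne (card_le_of_le hle) fun e => hlt.ne (eq_of_le_of_card_ge hle e.ge)) _
      (hodd.of_dvd_nat (card_dvd_of_le hle)) (fun h => hrP (h.trans (card_dvd_of_le hle)))
      (hconj t htP) (hconj k hkP) rfl
  have htP' : ∀ y ∈ P, t * y * t⁻¹ ∈ P := fun y hy => (mem_normalizer_iff.1 htP y).1 hy
  have hmain : ∀ a ∈ P, Inv t a → a = 1 := by
    intro a ha hai
    have hk : k * a * k⁻¹ ∈ P := (mem_normalizer_iff.1 hkP a).1 ha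
    have hzD : a * (k * a * k⁻¹) * a⁻¹ * (k * a * k⁻¹)⁻¹ ∈ ⁅P, P⁆ := commutator_mem_commutator ha hk
    set z := a * (k * a * k⁻¹) * a⁻¹ * (k * a * k⁻¹)⁻¹
    have hzt := hsmall z hzD
    have hazD : a * z * a⁻¹ ∈ ⁅P, P⁆ := by
      haveI : (⁅P, P⁆.subgroupOf P).Normal := by
        refine normal_subgroupOf_of_le_normalizer ?_
        exact fun g hg => Subgroup.mem_normalizer_fintype fun y hy => by
          have h := mem_map_of_mem (MulAut.conj g).toMonoidHom hy
          rw [map_commutator] at h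
          refine commutator_mono ?_ ?_ h <;>
          · rintro _ ⟨p, hp, rfl⟩
            exact mul_mem (mul_mem hg hp) (inv_mem hg)
      have hzP : z ∈ P := mul_mem (mul_mem (mul_mem ha hk) (inv_mem ha)) (inv_mem hk)
      exact mem_subgroupOf.1 ((inferInstance : (⁅P, P⁆.subgroupOf P).Normal).conj_mem ⟨z, hzP⟩ hzD ⟨a, ha⟩)
    have h1 : t * (a * z * a⁻¹) * t⁻¹ = a * z * a⁻¹ := by
      rw [← (hsmall _ hazD).eq, mul_inv_cancel_right]
    have h2 : t * (a * z * a⁻¹) * t⁻¹ = a⁻¹ * z * a := by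
      rw [show t * (a * z * a⁻¹) * t⁻¹ = (t * a * t⁻¹) * (t * z * t⁻¹) * (t * a * t⁻¹)⁻¹ by group,
        show t * a * t⁻¹ = a⁻¹ from hai, ← hzt.eq, mul_inv_cancel_right, inv_inv]
    have h3 : Commute (a * a) z := by
      show a * a * z = z * (a * a)
      calc a * a * z = a * (a * z * a⁻¹) * a := by group
        _ = a * (a⁻¹ * z * a) * a := by rw [← h2, h1]
        _ = z * (a * a) := by group
    have hao := odd_orderOf hodd ha
    have hza : Commute z a := by
      obtain ⟨m, hm⟩ := hao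
      have e : (a * a) ^ (m + 1) = a := by
        rw [← pow_two, ← pow_mul, show 2 * (m + 1) = orderOf a + 1 by omega, pow_succ,
          pow_orderOf_eq_one, one_mul]
      exact e ▸ (h3.pow_left (m + 1)).symm
    exact eq_one_of_refl hr2 ρ hρ hexp hfix hkfix hj hkinv ht hai hao
      (fun h => hrP (h.trans (orderOf_dvd_natCard P ha))) hzt hza
  intro g hg
  obtain ⟨a, ha, c, -, hai, hct, rfl⟩ := exists_inv_mul ht hodd htP' hg
  rw [hmain a ha hai, one_mul]
  exact hct.symm

end Cfsg.Agent.Walter.Field.Other
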