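import Cfsg.Agent.Techniques.SL2.ZJFusion
import Cfsg.Agent.Lib.PLocal.StableNormal
import Cfsg.Agent.Lib.SEAbelian.ReduceTools
import Cfsg.Agent.Lib.SECore.NoBadBasic

/-!
# Tools for the field part away from the characteristic

An involution acting on a group of odd order, fusion controlled by `N(Z(J(R)))` when the Sylow
2-subgroups are abelian, and two uses of the transfer.
-/

set_option autoImplicit false
set_option linter.unusedSectionVars false
set_option linter.style.haveILetI false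

namespace Cfsg.Agent.Walter.Field.Other

open Subgroup

universe u

variable {G : Type u} [Group G]

/-- `a` is inverted by `t`. -/
def Inv (t a : G) : Prop := t * a * t⁻¹ = a⁻¹

theorem Inv.pow {t a : G} (h : Inv t a) (n : ℕ) : Inv t (a ^ n) := by
  show t * a ^ n * t⁻¹ = (a ^ n)⁻¹
  rw [← conj_pow, show t * a * t⁻¹ = a⁻¹ from h, inv_pow]

theorem Inv.inv {t a : G} (h : Inv t a) : Inv t a⁻¹ := by
  show t * a⁻¹ * t⁻¹ = a⁻¹⁻¹
  rw [inv_inv, show t * a⁻¹ * t⁻¹ = (t * a * t⁻¹)⁻¹ by group, show t * a * t⁻¹ = a⁻¹ from h, inv_inv]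

theorem Inv.map {H : Type*} [Group H] {t a : G} (h : Inv t a) (f : G →* H) : Inv (f t) (f a) := by
  show f t * f a * (f t)⁻¹ = (f a)⁻¹
  rw [← map_inv, ← map_mul, ← map_mul, show t * a * t⁻¹ = a⁻¹ from h, map_inv]

theorem Inv.conj {t a g : G} (h : Inv t a) (hg : Commute g t) : Inv t (g * a * g⁻¹) := by
  show t * (g * a * g⁻¹) * t⁻¹ = (g * a * g⁻¹)⁻¹
  calc t * (g * a * g⁻¹) * t⁻¹ = (t * g) * a * (t * g)⁻¹ := by group
    _ = g * (t * a * t⁻¹) * g⁻¹ := by rw [← hg.eq]; group
    _ = (g * a * g⁻¹)⁻¹ := by rw [show t * a * t⁻¹ = a⁻¹ from h]; group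

theorem eq_one_of_odd_sq {a : G} (ho : Odd (orderOf a)) (h : a * a = 1) : a = 1 := by
  obtain ⟨i, hi⟩ := ho
  have h1 := pow_orderOf_eq_one a
  rwa [hi, pow_succ, pow_mul, pow_two, h, one_pow, one_mul] at h1

theorem Inv.eq_one_of_commute {t a : G} (h : Inv t a) (hc : Commute t a) (ho : Odd (orderOf a)) :
    a = 1 := by
  refine eq_one_of_odd_sq ho ?_
  have h1 : a = a⁻¹ := by rw [← show t * a * t⁻¹ = a⁻¹ from h, hc.eq, mul_inv_cancel_right]
  calc a * a = a * a⁻¹ := by rw [← h1]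
    _ = 1 := mul_inv_cancel a

theorem odd_orderOf {K : Subgroup G} (hK : Odd (Nat.card ↥K)) {a : G} (ha : a ∈ K) : Odd (orderOf a) :=
  hK.of_dvd_nat (K.orderOf_dvd_natCard ha)

/-- An odd group normalised by an involution: inverted times fixed. -/
theorem exists_inv_mul {t : G} (ht : t * t = 1) {K : Subgroup G} (hK : Odd (Nat.card ↥K))
    (hKt : ∀ k ∈ K, t * k * t⁻¹ ∈ K) {g : G} (hg : g ∈ K) :
    ∃ a ∈ K, ∃ c ∈ K, Inv t a ∧ Commute t c ∧ g = a * c := by
  set d := g * (t * g * t⁻¹)⁻¹ with hd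
  have hdK : d ∈ K := mul_mem hg (inv_mem (hKt g hg))
  have hti : t⁻¹ = t := inv_eq_of_mul_eq_one_right ht
  have htt : t * (t * g * t⁻¹) * t⁻¹ = g := by
    rw [hti]
    calc t * (t * g * t) * t = (t * t) * g * (t * t) := by group
      _ = g := by rw [ht, one_mul, mul_one]
  have hinv : Inv t d := by
    show t * d * t⁻¹ = d⁻¹
    calc t * d * t⁻¹ = t * g * t⁻¹ * (t * (t * g * t⁻¹) * t⁻¹)⁻¹ := by rw [hd]; group
      _ = t * g * t⁻¹ * g⁻¹ := by rw [htt]
      _ = d⁻¹ := by rw [hd]; group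
  obtain ⟨i, hi⟩ := odd_orderOf hK hdK
  have ha2 : d ^ (i + 1) * d ^ (i + 1) = d := by
    rw [← pow_add, show i + 1 + (i + 1) = 2 * i + 1 + 1 by ring, ← hi, pow_succ, pow_orderOf_eq_one,
      one_mul]
  set a := d ^ (i + 1) with ha
  have hai : Inv t a := hinv.pow _
  refine ⟨a, pow_mem hdK _, a⁻¹ * g, mul_mem (inv_mem (pow_mem hdK _)) hg, hai, ?_, by group⟩
  show t * (a⁻¹ * g) = a⁻¹ * g * t
  have h1 : t * (a⁻¹ * g) * t⁻¹ = a⁻¹ * g := by
    calc t * (a⁻¹ * g) * t⁻¹ = (t * a * t⁻¹)⁻¹ * (t * g * t⁻¹) := by group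
      _ = a * (t * g * t⁻¹) := by rw [show t * a * t⁻¹ = a⁻¹ from hai, inv_inv]
      _ = a⁻¹ * (a * a) * (t * g * t⁻¹) := by group
      _ = a⁻¹ * g := by rw [ha2, hd]; group
  exact mul_inv_eq_iff_eq_mul.1 h1

theorem inv_mul_unique {t : G} {K : Subgroup G} (hK : Odd (Nat.card ↥K)) {a b c : G}
    (ha : a ∈ K) (hb : b ∈ K) (hia : Inv t a) (hib : Inv t b) (hc : Commute t c) (h : a = b * c) :
    a = b := by
  have hcK : c ∈ K := by
    have := mul_mem (inv_mem hb) ha
    rwa [h, inv_mul_cancel_left] at this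
  have h1 : a⁻¹ = b⁻¹ * c := by
    rw [← show t * a * t⁻¹ = a⁻¹ from hia, h, ← show t * b * t⁻¹ = b⁻¹ from hib,
      show t * (b * c) * t⁻¹ = t * b * t⁻¹ * (t * c * t⁻¹) by group, hc.eq, mul_inv_cancel_right]
  have h2 : b * c * b⁻¹ = c⁻¹ := by
    rw [h, _root_.mul_inv_rev] at h1
    have h1' : b * c⁻¹ * b⁻¹ = c := by rw [mul_assoc, h1, mul_inv_cancel_left]
    calc b * c * b⁻¹ = (b * c⁻¹ * b⁻¹)⁻¹ := by group
      _ = c⁻¹ := by rw [h1']
  have h3 : c = 1 := by
    have h4 : b * b * c * (b * b)⁻¹ = c := by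
      calc b * b * c * (b * b)⁻¹ = b * (b * c * b⁻¹) * b⁻¹ := by group
        _ = b * c⁻¹ * b⁻¹ := by rw [h2]
        _ = (b * c * b⁻¹)⁻¹ := by group
        _ = c := by rw [h2, inv_inv]
    obtain ⟨i, hi⟩ := odd_orderOf hK hb
    have hb2 : Commute (b * b) c := mul_inv_eq_iff_eq_mul.1 h4
    have h5 : Commute b c := by
      have h6 := hb2.pow_left (i + 1)
      rwa [← pow_two, ← pow_mul, show 2 * (i + 1) = 2 * i + 1 + 1 by ring, ← hi, pow_succ,
        pow_orderOf_eq_one, one_mul] at h6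
    refine eq_one_of_odd_sq (odd_orderOf hK hcK) ?_
    rw [h5.eq, mul_inv_cancel_right] at h2
    nth_rw 2 [h2]
    exact mul_inv_cancel c
  rw [h, h3, mul_one]

/-- A coset of a normal subgroup fixed by the involution contains a fixed element. -/
theorem exists_commute_mod {H : Type*} [Group H] {t : G} (ht : t * t = 1) {K : Subgroup G}
    (hK : Odd (Nat.card ↥K)) (hKt : ∀ k ∈ K, t * k * t⁻¹ ∈ K) (f : G →* H) {g : G} (hg : g ∈ K)
    (hf : Commute (f t) (f g)) : ∃ c ∈ K, Commute t c ∧ f c = f g := by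
  obtain ⟨a, ha, c, hc, hai, hct, rfl⟩ := exists_inv_mul ht hK hKt hg
  refine ⟨c, hc, hct, ?_⟩
  have h1 : Commute (f t) (f a) := by
    have h2 := hf.mul_right (hct.map f).inv_right
    rwa [map_mul, mul_inv_cancel_right] at h2
  have h3 : f a = 1 := (hai.map f).eq_one_of_commute h1
    ((odd_orderOf hK ha).of_dvd_nat (orderOf_map_dvd f a))
  rw [map_mul, h3, one_mul]

/-- An inverted element of a quotient has an inverted representative. -/
theorem exists_inv_mod {H : Type*} [Group H] {t : G} (ht : t * t = 1) {K : Subgroup G}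
    (hK : Odd (Nat.card ↥K)) (hKt : ∀ k ∈ K, t * k * t⁻¹ ∈ K) (f : G →* H) {g : G} (hg : g ∈ K)
    (hf : Inv (f t) (f g)) : ∃ a ∈ K, Inv t a ∧ f a = f g := by
  obtain ⟨a, ha, c, hc, hai, hct, rfl⟩ := exists_inv_mul ht hK hKt hg
  refine ⟨a, ha, hai, ?_⟩
  have hK' : Odd (Nat.card ↥(K.map f)) := hK.of_dvd_nat (Subgroup.card_map_dvd _ _)
  exact (inv_mul_unique hK' (mem_map_of_mem f (mul_mem ha hc)) (mem_map_of_mem f ha) hf (hai.map f)
    (hct.map f) (map_mul f a c)).symm

/-- The products of a four group: generation of an odd group by three centralisers. -/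
theorem le_of_four_inv [Finite G] {t w : G} (ht : t * t = 1) (hw : w * w = 1) (hc : Commute t w)
    {P : Subgroup G} (hP : Odd (Nat.card ↥P)) (htP : t ∈ normalizer (P : Set G))
    (hwP : w ∈ normalizer (P : Set G))
    (h1 : ∀ a ∈ P, Commute a w → Inv t a → a = 1)
    (h2 : ∀ a ∈ P, Commute a (t * w) → Inv t a → a = 1) : ∀ a ∈ P, Inv t a → a = 1 := by
  have key : P ≤ centralizer ({t} : Set G) := by
    refine SECore.le_of_four hP ht hw hc htP hwP fun y hy hy' => mem_centralizer_singleton_iff.2 ?_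
    have main : ∀ v : G, Commute t v → v ∈ normalizer (P : Set G) →
        (∀ a ∈ P, Commute a v → Inv t a → a = 1) → Commute y v → Commute y t := by
      intro v htv hvP hv hyv
      have hK : Odd (Nat.card ↥(P ⊓ centralizer ({v} : Set G))) :=
        hP.of_dvd_nat (card_dvd_of_le inf_le_left)
      obtain ⟨a, ha, c, -, hai, hct, rfl⟩ := exists_inv_mul ht hK (fun k hk => ⟨(mem_normalizer_iff.1 htP k).1
          hk.1, mem_centralizer_singleton_iff.2 (((htv.mul_left (mem_centralizer_singleton_iff.1 hk.2 :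
            Commute k v)).mul_left htv.inv_left).eq)⟩)
        (g := y) ⟨hy, mem_centralizer_singleton_iff.2 hyv.eq⟩
      rw [hv a ha.1 (mem_centralizer_singleton_iff.1 ha.2) hai, one_mul]
      exact hct.symm
    rcases hy' with h | h | h
    · exact h.eq
    · exact (main w hc hwP h1 h).eq
    · exact (main (t * w) ((Commute.refl t).mul_right hc) (mul_mem htP hwP) h2 h).eq
  exact fun a ha hai => hai.eq_one_of_commute (mem_centralizer_singleton_iff.1 (key ha) : Commute a t).symm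
    (odd_orderOf hP ha)

section Fusion

open Cfsg Cfsg.Agent.Techniques.Functor Cfsg.Agent.Techniques.KInf Cfsg.Agent.Techniques.SL2

variable [Finite G] {p : ℕ} [hp : Fact p.Prime]

theorem abelianTwo_of_abTwo (h : SEAbelian.AbTwo G) : PLocal.Quadratic.AbelianTwo G :=
  fun T => ⟨⟨fun a b => Subtype.ext (h _ T.2 a a.2 b b.2).eq⟩⟩

/-- With abelian Sylow 2-subgroups `N(Z(J(R)))` controls fusion in `R`. -/
theorem fusion_zj (hp2 : p ≠ 2) (hab : SEAbelian.AbTwo G) (R : Sylow p G) (A : Set G)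
    (hA : A ⊆ (R : Subgroup G)) (g : G) (hg : (fun a => g * a * g⁻¹) '' A ⊆ (R : Subgroup G)) :
    ∃ x ∈ normalizer (centerThompsonAOf (R : Subgroup G) : Set G),
      ∀ a ∈ A, g * a * g⁻¹ = x * a * x⁻¹ := by
  have hab' := abelianTwo_of_abTwo hab
  have h𝓦 : ∀ V ∈ ({ZJFusion.zj.{u}} : Set (∀ (Q : Type u) [Group Q], Subgroup Q)),
      IsCharPFunctor.{u} p V := by
    rintro V rfl
    exact ZJFusion.isCharPFunctor_zj
  have hfc : FC p {ZJFusion.zj.{u}} G := by
    refine fc_of_constrained (G := G) h𝓦 (fun H _ _ hsec hc T => ?_) G (IsSec.refl G)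
    have hH : PLocal.Quadratic.AbelianTwo H := by
      obtain ⟨K, N, hN, ⟨e⟩⟩ := hsec.exists_quotient
      exact ((hab'.subgroup K).of_surjective (f := QuotientGroup.mk' (N.subgroupOf K))
        (QuotientGroup.mk'_surjective _)).of_surjective (f := e.toMonoidHom) e.surjective
    have hn : (inducedFunctor (G := H) ZJFusion.zj.{u} (T : Subgroup H)).Normal := by
      rw [ZJFusion.induced_zj, PLocal.MaxAbelian.centerThompsonA_eq]
      exact PLocal.ZJ.core_normal hp2 hc 0
        (fun V _ hV => PLocal.StableNormal.of_abelianTwo hp2 hH V hV) T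
    intro B k _ hB hc'
    refine Reach.single ?_ hc'
    rw [induced, Set.image_singleton, steps_singleton, SetLike.mem_coe, mem_inf,
      normalizer_eq_top_iff.mpr hn]
    exact ⟨mem_top k, mem_top k⟩
  have h1 := hfc R A g (mem_top g) hA hg
  rw [induced, Set.image_singleton, steps_singleton] at h1
  obtain ⟨x, hx, he⟩ := Reach.exists_mem h1
  have hx' := (mem_inf.mp hx).2
  rw [ZJFusion.induced_zj] at hx'
  exact ⟨x, hx', fun a ha => (he a ha).symm⟩

/-- `Z(J(R))` lies in `R` and contains its centre. -/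
theorem center_le_zj (R : Subgroup G) {z : G} (hz : z ∈ R) (hc : ∀ b ∈ R, Commute z b) :
    z ∈ centerThompsonAOf R := by
  rw [← ZJFusion.induced_zj]
  exact ⟨⟨z, hz⟩, ZJFusion.center_le_core (Subgroup.mem_center_iff.2 fun b =>
    Subtype.ext (hc b b.2).eq.symm), rfl⟩

theorem zj_le (R : Subgroup G) : centerThompsonAOf R ≤ R := by
  rw [← ZJFusion.induced_zj]
  exact map_subtype_le _

end Fusion

section Transfer

open MulAction

variable [Finite G]

/-- A homomorphism of a Sylow subgroup invariant under fusion is trivial in a perfect group. -/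
theorem hom_eq_one_of_fusion {A : Type*} [CommGroup A] [IsSimpleGroup G]
    (hnc : ¬ IsMulCommutative G) {p : ℕ} [hp : Fact p.Prime] (R : Sylow p G) (φ : ↥(R : Subgroup G) →* A)
    (hfus : ∀ (g : G) (a b : ↥(R : Subgroup G)), g * (a : G) * g⁻¹ = b → φ a = φ b) :
    φ = 1 := by
  classical
  letI : (R : Subgroup G).FiniteIndex := inferInstance
  ext x
  rw [MonoidHom.one_apply]
  have htriv : MonoidHom.transfer φ = 1 := by
    rcases (inferInstance : (MonoidHom.transfer φ).ker.Normal).eq_bot_or_eq_top with h | h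
    · refine absurd ⟨⟨fun a b => ?_⟩⟩ hnc
      exact (MonoidHom.ker_eq_bot_iff _).1 h (by rw [map_mul, map_mul, mul_comm])
    · exact MonoidHom.ext fun g => MonoidHom.mem_ker.1 (h ▸ mem_top g)
  have hV : MonoidHom.transfer φ (x : G) = φ x ^ (R : Subgroup G).index := by
    letI := Fintype.ofFinite (Quotient (orbitRel (zpowers (x : G)) (G ⧸ (R : Subgroup G))))
    rw [MonoidHom.transfer_eq_prod_quotient_orbitRel_zpowers_quot φ (x : G)]
    have hterm : ∀ q : Quotient (orbitRel (zpowers (x : G)) (G ⧸ (R : Subgroup G))),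
        φ ⟨q.out.out⁻¹ * (x : G) ^ Function.minimalPeriod ((x : G) • ·) q.out * q.out.out,
          QuotientGroup.out_conj_pow_minimalPeriod_mem (R : Subgroup G) (x : G) q.out⟩ =
        φ x ^ Function.minimalPeriod ((x : G) • ·) q.out := by
      intro q
      rw [← map_pow]
      refine (hfus q.out.out⁻¹ (x ^ _) ⟨_, _⟩ ?_).symm
      rw [SubgroupClass.coe_pow, inv_inv]
    rw [Finset.prod_congr rfl fun q _ => hterm q, Finset.prod_pow_eq_pow_sum]
    congr 1
    letI := Fintype.ofFinite (G ⧸ (R : Subgroup G))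
    rw [Subgroup.index_eq_card, Nat.card_congr (selfEquivSigmaOrbits (zpowers (x : G)) (G ⧸ (R : Subgroup G))),
      Nat.card_sigma]
    refine Finset.sum_congr rfl fun q _ => ?_
    letI := Fintype.ofFinite (orbit (zpowers (x : G)) q.out)
    rw [minimalPeriod_eq_card, Nat.card_eq_fintype_card]
    exact Fintype.card_congr (Equiv.refl _)
  rw [htriv, MonoidHom.one_apply] at hV
  refine orderOf_eq_one_iff.1 (Nat.eq_one_of_dvd_coprimes ?_ (orderOf_map_dvd φ x)
    (orderOf_dvd_of_pow_eq_one hV.symm))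
  obtain ⟨k, hk⟩ := IsPGroup.iff_orderOf.1 R.2 x
  rw [hk]
  exact ((Fact.out : p.Prime).coprime_iff_not_dvd.2 R.not_dvd_index).pow_left k

end Transfer

end Cfsg.Agent.Walter.Field.Other
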