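import Cfsg.Agent.Lib.Walter.Field.ThreeCaseData
import Cfsg.Agent.Lib.Walter.Field.OtherTools
import Cfsg.Agent.Lib.Walter.Core.ThreeBalanceTools
import Cfsg.Agent.Lib.Cores.Fitting
import Cfsg.Agent.Lib.EqualOrderConj.Basic

/-!
# The case `r = p = 3` of the field part: the 3-local subgroup

Among the normalisers of 3-subgroups over `B × ⟨t⟩` one with the largest Sylow 3-subgroup gives
`Y = N(Z(J(R))) = W ⟨t⟩` with `W` odd, `R ≤ W` a Sylow 3-subgroup of `G`, `C_W(t) = B` and all fusion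
in `R` induced by `Y`.
-/

set_option autoImplicit false
set_option linter.unusedSectionVars false
set_option linter.style.haveILetI false

namespace Cfsg.Agent.Walter.Field.ThreeCase

open Subgroup

universe u

/-- A finite solvable group without `O_{p'}` is constrained. -/
theorem constrained_of_solvable {Q : Type u} [Group Q] [Finite Q] (hsol : Group.IsSolvable Q) {p : ℕ}
    [Fact p.Prime] (h : Cfsg.pPrimeCore p Q = ⊥) :
    centralizer (Cfsg.pCore p Q : Set Q) ≤ Cfsg.pCore p Q := by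
  have hF : Cfsg.fittingSubgroup Q = Cfsg.pCore p Q := by
    refine le_antisymm ?_ (Cores.pCore_le_fitting p)
    rw [Cores.fittingSubgroup_eq_iSup]
    refine iSup_le fun q => ?_
    haveI : Fact (q : ℕ).Prime := ⟨Nat.prime_of_mem_primeFactors q.2⟩
    by_cases hqp : (q : ℕ) = p
    · rw [hqp]
    · obtain ⟨k, hk⟩ := (Cores.pCore_isPGroup (G := Q) (q : ℕ)).exists_card_eq
      refine le_trans (Cores.le_pPrimeCore (p := p) ?_) (h.le.trans bot_le)
      rw [hk]
      exact ((Nat.coprime_primes Fact.out Fact.out).2 hqp).pow_left k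
  rw [← hF]
  exact Cores.centralizer_fittingSubgroup_le

variable {G : Type u} [Group G] [Finite G]

/-- A normaliser of a subgroup normalises its `Z(J)`. -/
theorem normalizer_le_zjA (R : Subgroup G) :
    normalizer (R : Set G) ≤ normalizer (Cfsg.centerThompsonAOf R : Set G) := by
  intro g hg
  have hmap : R.map (MulAut.conj g).toMonoidHom = R := by
    ext y
    constructor
    · rintro ⟨r, hr, rfl⟩
      exact (mem_normalizer_iff.1 hg r).1 hr
    · intro hy
      exact ⟨g⁻¹ * y * g, (mem_normalizer_iff''.1 hg y).1 hy, by simp [mul_assoc]⟩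
  have h := PLocal.MaxAbelian.core_map 0 (f := (MulAut.conj g).toMonoidHom) (MulAut.conj g).injective R
  rw [hmap, ← PLocal.MaxAbelian.centerThompsonA_eq] at h
  refine Subgroup.mem_normalizer_fintype fun y hy => ?_
  rw [h]
  exact ⟨y, hy, rfl⟩

/-- Glauberman's factorisation for the `Z(J)` made of abelian subgroups of largest order. -/
theorem zjA_frattini {X : Type u} [Group X] [Finite X] {p : ℕ} [Fact p.Prime] (hp2 : p ≠ 2)
    (hsol : Group.IsSolvable X) (hab : PLocal.Quadratic.AbelianTwo X) (T : Sylow p X) :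
    Cfsg.pPrimeCore p X ⊔ normalizer (Cfsg.centerThompsonAOf (T : Subgroup X) : Set X) = ⊤ := by
  haveI := hsol
  set K := Cfsg.pPrimeCore p X with hK
  set f := QuotientGroup.mk' K with hf
  have hcop : (Nat.card K).Coprime p := Agent.Cores.pPrimeCore_card_coprime p
  have hinj : Function.Injective (f.comp (T : Subgroup X).subtype) := fun u v he => by
    have h1 : (u : X)⁻¹ * v ∈ (T : Subgroup X) ⊓ K :=
      mem_inf.2 ⟨mul_mem (inv_mem u.2) v.2, QuotientGroup.eq.1 he⟩
    obtain ⟨n, hn⟩ := (T.2.to_le (inf_le_left : (T : Subgroup X) ⊓ K ≤ T)).exists_card_eq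
    have hd : Nat.card ↥((T : Subgroup X) ⊓ K) ∣ Nat.card K := card_dvd_of_le inf_le_right
    have hone : Nat.card ↥((T : Subgroup X) ⊓ K) = 1 :=
      Nat.eq_one_of_dvd_coprimes (hcop.pow_right n) hd (hn ▸ dvd_rfl)
    rw [Subgroup.card_eq_one.1 hone, mem_bot] at h1
    exact Subtype.ext (inv_mul_eq_one.1 h1)
  set Tb := T.mapSurjective (QuotientGroup.mk'_surjective K) with hTb
  have hc : centralizer (Cfsg.pCore p (X ⧸ K) : Set (X ⧸ K)) ≤ Cfsg.pCore p (X ⧸ K) :=
    constrained_of_solvable (Group.isSolvable_of_surjective (f := f) (QuotientGroup.mk'_surjective K))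
      (Cores.pPrimeCore_quotient_self p)
  have hn : (PLocal.MaxAbelian.core 0 (Tb : Subgroup (X ⧸ K))).Normal :=
    PLocal.ZJ.core_normal hp2 hc 0
      (fun V _ hV => PLocal.StableNormal.of_abelianTwo hp2
        (hab.of_surjective (f := f) (QuotientGroup.mk'_surjective K)) V hV) Tb
  rw [PLocal.MaxAbelian.centerThompsonA_eq]
  set Z := PLocal.MaxAbelian.core 0 (T : Subgroup X) with hZ
  have hZT : Z ≤ (T : Subgroup X) := PLocal.MaxAbelian.core_le 0 _
  have hZmap : Z.map f = PLocal.MaxAbelian.core 0 (Tb : Subgroup (X ⧸ K)) := by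
    have h1 := PLocal.MaxAbelian.core_map 0 (T : Subgroup X).subtype_injective ⊤
    rw [← MonoidHom.range_eq_map, Subgroup.range_subtype] at h1
    rw [hZ, h1, Subgroup.map_map, ← PLocal.MaxAbelian.core_map 0 hinj, ← Subgroup.map_map,
      ← MonoidHom.range_eq_map, Subgroup.range_subtype, hTb, Sylow.coe_mapSurjective]
  set P := Z ⊔ K with hP
  have hPn : P.Normal := by
    have := hn.comap f
    rwa [← hZmap, comap_map_eq, QuotientGroup.ker_mk'] at this
  have hZp : IsPGroup p Z := T.2.to_le hZT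
  have hidx : ¬ p ∣ (Z.subgroupOf P).index :=
    Cfsg.Agent.Techniques.Functor.relIndex_sup_coprime hcop (le_normalizer_of_normal)
  have htop := Sylow.normalizer_sup_eq_top ((hZp.comap_subtype (K := P)).toSylow hidx)
  rw [show (((hZp.comap_subtype (K := P)).toSylow hidx : Sylow p P) : Subgroup P).map P.subtype = Z
    from map_subgroupOf_eq_of_le le_sup_left] at htop
  exact top_unique (htop.symm.le.trans (sup_le le_sup_right
    (sup_le (le_sup_of_le_right le_normalizer) le_sup_left)))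

variable {t x τ : G} {m l j e : ℕ} {E₀ U O B : Subgroup G} (D : TData t x m l j e E₀ U O B τ)

/-- A 3-subgroup normalised by `B` and `t`. -/
def Fam (_D : TData t x m l j e E₀ U O B τ) (P : Subgroup G) : Prop :=
  IsPGroup 3 P ∧ P ≠ ⊥ ∧ B ≤ normalizer (P : Set G) ∧ t ∈ normalizer (P : Set G)

namespace TData

include D

theorem not_le_E {P : Subgroup G} (hP : Fam D P) : ¬ E₀ ≤ normalizer (P : Set G) := fun hE => by
  haveI : Fact (Nat.Prime 3) := ⟨Nat.prime_three⟩
  obtain ⟨v, hv, hvo, hvt, hne⟩ := D.invol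
  exact hP.2.1 (pgroup_eq_bot (by norm_num) D.noReal hP.1 D.ht hvo hvt.symm hne.symm hP.2.2.2 (hE hv)
    (D.fix_bot P hP.1 hE))

/-- The odd part of the normaliser of a member. -/
theorem exists_odd_part (hab : SEAbelian.AbTwo G) {P : Subgroup G} (hP : Fam D P) :
    ∃ W : Subgroup G, W ≤ normalizer (P : Set G) ∧ Odd (Nat.card ↥W) ∧
      normalizer (P : Set G) ≤ normalizer (W : Set G) ∧ B ≤ W ∧
      Nat.card ↥(normalizer (P : Set G)) = 2 * Nat.card ↥W ∧
      (∀ g ∈ normalizer (P : Set G), Odd (orderOf g) → g ∈ W) ∧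
      (∀ g ∈ normalizer (P : Set G), g ∈ W ∨ g * t ∈ W) ∧
      ∀ c ∈ W, Commute c t → c ∈ B := by
  haveI : Fact (Nat.Prime 2) := ⟨Nat.prime_two⟩
  set M := normalizer (P : Set G) with hM
  have hnE := D.not_le_E hP
  have htM : t ∈ M := hP.2.2.2
  have h2 : 2 ∣ Nat.card M := by
    have h := orderOf_dvd_natCard M htM
    rwa [D.ht] at h
  have h4 : ¬ 4 ∣ Nat.card M := by
    intro h4
    obtain ⟨Q, hQ⟩ := (IsPGroup.of_card (n := 1) (G := zpowers (⟨t, htM⟩ : M)) (by
      rw [Nat.card_zpowers, orderOf_mk, D.ht, pow_one])).exists_le_sylow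
    have h4Q : 4 ∣ Nat.card (Q : Subgroup M) := Q.pow_dvd_card_of_pow_dvd_card (n := 2) h4
    obtain ⟨y, hyQ, hy⟩ : ∃ y ∈ (Q : Subgroup M), y ∉ zpowers (⟨t, htM⟩ : M) := by
      by_contra hcon
      push Not at hcon
      have h := card_le_of_le (show (Q : Subgroup M) ≤ zpowers (⟨t, htM⟩ : M) from hcon)
      rw [Nat.card_zpowers, orderOf_mk, D.ht] at h
      have := Nat.le_of_dvd Nat.card_pos h4Q
      omega
    have hy2 : (y : G) * y = 1 := D.invol_sq _ (by
      obtain ⟨k, hk⟩ := Q.2 ⟨y, hyQ⟩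
      exact ⟨k, congrArg (fun z : (Q : Subgroup M) => ((z : M) : G)) hk⟩)
    have hyo : orderOf (y : G) = 2 := orderOf_eq_prime (by rw [pow_two, hy2]) fun h =>
      hy (by rw [show y = 1 from Subtype.ext h]; exact one_mem _)
    refine hnE (D.gen M hP.2.2.1 htM y y.2 ?_ hyo fun h =>
      hy (by rw [show y = ⟨t, htM⟩ from Subtype.ext h]; exact mem_zpowers _))
    exact hab _ (Q.2.map M.subtype) y ⟨y, hyQ, rfl⟩ t ⟨_, hQ (mem_zpowers _), rfl⟩
  obtain ⟨W, hWn, hWodd, hWc, hWmem⟩ := exists_odd_index_two h2 h4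
  have hWi : W.index = 2 := by
    have h := W.card_mul_index
    rw [hWc, mul_comm 2] at h
    exact Nat.eq_of_mul_eq_mul_left Nat.card_pos h
  have htW : (⟨t, htM⟩ : M) ∉ W := fun h => by
    have := hWodd.of_dvd_nat (orderOf_dvd_natCard W h)
    rw [orderOf_mk, D.ht] at this
    exact absurd this (by decide)
  have hmem : ∀ g ∈ M, Odd (orderOf g) → g ∈ W.map M.subtype := fun g hg ho =>
    ⟨⟨g, hg⟩, hWmem _ (by rwa [orderOf_mk]), rfl⟩
  refine ⟨W.map M.subtype, map_subtype_le W, (card_subtype M W).symm ▸ hWodd, fun g hg => ?_,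
    fun b hb => hmem b (hP.2.2.1 hb) (D.B_odd.of_dvd_nat (orderOf_dvd_natCard B hb)),
    by rw [card_subtype]; exact hWc, hmem, fun g hg => ?_, fun c hc hct => ?_⟩
  · refine EqualOrderConj.mem_normalizer_of_conj_mem ?_
    rintro _ ⟨y, hy, rfl⟩
    exact ⟨⟨g, hg⟩ * y * (⟨g, hg⟩ : M)⁻¹, hWn.conj_mem y hy _, rfl⟩
  · by_cases hgW : (⟨g, hg⟩ : M) ∈ W
    · exact Or.inl ⟨_, hgW, rfl⟩
    · exact Or.inr ⟨⟨g, hg⟩ * ⟨t, htM⟩, (mul_mem_iff_of_index_two hWi).2 (iff_of_false hgW htW), rfl⟩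
  · obtain ⟨w, hw, rfl⟩ := hc
    exact D.meet M hP.2.2.1 htM hnE w w.2 hct (by
      show Odd (orderOf (w : G))
      rw [orderOf_coe]; exact hWodd.of_dvd_nat (orderOf_dvd_natCard W hw))

/-- `t` has no fixed point on `O_{3'}` of such an odd part. -/
theorem core_fixed {W : Subgroup G} (hBW : B ≤ W) (hWB : ∀ c ∈ W, Commute c t → c ∈ B) {d : ↥W}
    (hd : d ∈ Cfsg.pPrimeCore 3 ↥W) (hdt : Commute (d : G) t) : d = 1 := by
  haveI : Fact (Nat.Prime 3) := ⟨Nat.prime_three⟩
  haveI : (Cfsg.pPrimeCore 3 ↥W).Normal := PLocal.Cores.pPrimeCore_normal'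
  have hdB := hWB d d.2 hdt
  have hcop : ∀ v : ↥W, v ∈ Cfsg.pPrimeCore 3 ↥W → (v : G) ∈ U → v = 1 := by
    intro v hv hvU
    refine orderOf_eq_one_iff.1 (Nat.eq_one_of_dvd_coprimes
      ((Cores.pPrimeCore_card_coprime (G := ↥W) 3).pow_right (3 * m)) (orderOf_dvd_natCard _ hv) ?_)
    rw [← Subgroup.orderOf_coe, ← D.U_card]
    exact orderOf_dvd_natCard U hvU
  refine hcop d hd (D.cent_U d hdB fun u hu => ?_)
  have hn := D.B_norm hdB
  let u' : ↥W := ⟨u, hBW (D.U_le hu)⟩
  have h1 : d * u' * d⁻¹ * u'⁻¹ ∈ Cfsg.pPrimeCore 3 ↥W := by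
    rw [mul_assoc d, mul_assoc d]
    exact mul_mem hd ((inferInstance : (Cfsg.pPrimeCore 3 ↥W).Normal).conj_mem _ (inv_mem hd) u')
  have h2 := hcop _ h1 (mul_mem ((mem_normalizer_iff.1 hn u).1 hu) (inv_mem hu))
  exact mul_inv_eq_iff_eq_mul.1 (mul_inv_eq_one.1 (congrArg Subtype.val h2))

/-- The local subgroup. -/
theorem exists_local [IsSimpleGroup G] (hnc : ¬ IsMulCommutative G) (hab : SEAbelian.AbTwo G) :
    ∃ (W : Subgroup G) (R : Sylow 3 G), Odd (Nat.card ↥W) ∧ t ∈ normalizer (W : Set G) ∧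
      (R : Subgroup G) ≤ W ∧ B ≤ W ∧ (∀ c ∈ W, Commute c t → c ∈ B) ∧
      ∀ g a : G, a ∈ (R : Subgroup G) → g * a * g⁻¹ ∈ (R : Subgroup G) →
        ∃ k ∈ W, g * a * g⁻¹ = k * a * k⁻¹ ∨ g * a * g⁻¹ = k * (t * a * t⁻¹) * k⁻¹ := by
  haveI : Fact (Nat.Prime 3) := ⟨Nat.prime_three⟩
  haveI : Fact (Nat.Prime 2) := ⟨Nat.prime_two⟩
  have hUne : U ≠ ⊥ := fun h => by
    have := D.U_card
    rw [h, card_bot] at this
    exact absurd this.symm (Nat.one_lt_pow (by have := D.m_pos; omega) (by norm_num)).ne'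
  have hU : Fam D U := ⟨IsPGroup.of_card D.U_card, hUne, D.B_norm, centralizer_le_normalizer _
    (mem_centralizer_iff.2 fun u hu => mem_centralizer_singleton_iff.1 (D.B_le (D.U_le hu)))⟩
  obtain ⟨P, hP, hmax⟩ := Set.exists_max_image {P | Fam D P}
    (fun P => (Nat.card (normalizer (P : Set G))).factorization 3) (Set.toFinite _) ⟨_, hU⟩
  set M := normalizer (P : Set G) with hM
  obtain ⟨W, hWM, hWodd, hMW, hBW, hMc, hWmem, -, hWB⟩ := D.exists_odd_part hab hP
  have htM : t ∈ M := hP.2.2.2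
  have hsol : Group.IsSolvable W := S0205.result hWodd
  obtain ⟨R₀, hR₀⟩ := Coprime.exists_invariant_sylow 3 (zpowers_le.2 (hMW htM) : zpowers t ≤ _)
    (by rw [Nat.card_zpowers, D.ht]; exact Nat.coprime_two_left.2 hWodd) (Or.inr hsol)
  set R := (R₀ : Subgroup W).map W.subtype with hR
  have hRW : R ≤ W := map_subtype_le _
  have hRp : IsPGroup 3 R := R₀.2.map _
  have htR : t ∈ normalizer (R : Set G) := hR₀ (mem_zpowers t)
  have hRcard : Nat.card R = 3 ^ (Nat.card M).factorization 3 := by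
    rw [hR, card_subtype, R₀.card_eq_multiplicity, hMc,
      Nat.factorization_mul two_ne_zero Nat.card_pos.ne', Finsupp.add_apply,
      Nat.factorization_eq_zero_of_not_dvd (by norm_num : ¬ 3 ∣ 2), zero_add]
  have hR1 : R ≠ ⊥ := by
    intro h
    have h1 : 3 ∣ Nat.card W := ((dvd_pow_self 3 (by have := D.m_pos; omega)).trans D.U_card.symm.dvd).trans
      (card_dvd_of_le (D.U_le.trans hBW))
    have h2 := R₀.dvd_card_of_dvd_card h1
    rw [← card_subtype W (R₀ : Subgroup W), ← hR, h, card_bot] at h2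
    exact absurd h2 (by norm_num)
  set Z := Cfsg.centerThompsonAOf R with hZ
  have hZR : Z ≤ R := Other.zj_le R
  have hZne : Z ≠ ⊥ := by
    haveI : Nontrivial ↥R := (nontrivial_iff_ne_bot R).2 hR1
    obtain ⟨c, hc⟩ := (nontrivial_iff_exists_ne_one _).1 hRp.center_nontrivial
    intro h
    refine hc.2 ?_
    have h1 : (c : G) ∈ Z := Other.center_le_zj R c.2 fun b hb =>
      (congrArg Subtype.val (mem_center_iff.1 hc.1 ⟨b, hb⟩)).symm
    rw [h, mem_bot] at h1
    exact Subtype.ext h1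
  have htZ : t ∈ normalizer (Z : Set G) := normalizer_le_zjA R htR
  have htW := hMW htM
  let tc : ↥W ≃* ↥W :=
    { toFun := fun y => ⟨t * y * t⁻¹, (mem_normalizer_iff.1 htW y).1 y.2⟩
      invFun := fun y => ⟨t⁻¹ * y * t, (mem_normalizer_iff''.1 htW y).1 y.2⟩
      left_inv := fun y => Subtype.ext (by simp [mul_assoc])
      right_inv := fun y => Subtype.ext (by simp [mul_assoc])
      map_mul' := fun y z => Subtype.ext (by simp [mul_assoc]) }
  have hZeq : Z = (Cfsg.centerThompsonAOf (R₀ : Subgroup ↥W)).map W.subtype := by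
    rw [hZ, PLocal.MaxAbelian.centerThompsonA_eq, PLocal.MaxAbelian.centerThompsonA_eq, hR,
      PLocal.MaxAbelian.core_map 0 W.subtype_injective]
  have hBZ : B ≤ normalizer (Z : Set G) := by
    intro b hb
    haveI : (Cfsg.pPrimeCore 3 ↥W).Normal := PLocal.Cores.pPrimeCore_normal'
    have htop := zjA_frattini (p := 3) (by norm_num) hsol
      ((Other.abelianTwo_of_abTwo hab).subgroup W) R₀
    obtain ⟨o, ho, k, hk, hom⟩ := mem_sup_of_normal_left.1
      (htop ▸ mem_top (⟨b, hBW hb⟩ : ↥W))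
    have hkZ : (k : G) ∈ normalizer (Z : Set G) := by
      rw [hZeq]
      exact le_normalizer_map W.subtype ⟨k, hk, rfl⟩
    have hot : t * (o : G) * t⁻¹ = (o : G)⁻¹ := by
      have hto : ∀ y ∈ Cfsg.pPrimeCore 3 ↥W, tc y ∈ Cfsg.pPrimeCore 3 ↥W := fun y hy => by
        rw [← PLocal.Cores.map_pPrimeCore_equiv (p := 3) tc]
        exact ⟨y, hy, rfl⟩
      let ψ : ↥(Cfsg.pPrimeCore 3 ↥W) →* ↥(Cfsg.pPrimeCore 3 ↥W) :=
        { toFun := fun y => ⟨tc y, hto y y.2⟩
          map_one' := Subtype.ext (map_one tc)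
          map_mul' := fun y z => Subtype.ext (map_mul tc _ _) }
      have hψ : MonoidHom.FixedPointFree ψ := fun y hy => Subtype.ext (D.core_fixed hBW hWB y.2
        (mul_inv_eq_iff_eq_mul.1 (congrArg (fun v => ((Subtype.val v : ↥W) : G)) hy :
          t * ((y : ↥W) : G) * t⁻¹ = ((y : ↥W) : G))).symm)
      have h := congrFun (MonoidHom.FixedPointFree.coe_eq_inv_of_involutive hψ
        (fun y => Subtype.ext (Subtype.ext (by
          show t * (t * ((y : ↥W) : G) * t⁻¹) * t⁻¹ = ((y : ↥W) : G)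
          have ht2 := mul_self_of_two D.ht
          rw [inv_eq_of_mul_eq_one_right ht2, ← mul_assoc, ← mul_assoc, ht2, one_mul, mul_assoc, ht2,
            mul_one])))) ⟨o, ho⟩
      exact congrArg (fun v => ((Subtype.val v : ↥W) : G)) h
    have hom' : (o : G) * k = b := congrArg Subtype.val hom
    have hbt : Commute b t := mem_centralizer_singleton_iff.1 (D.B_le hb)
    have he : (o : G)⁻¹ * (t * k * t⁻¹) = o * k := by
      rw [← hot, conj_mul, hom', ← hbt.eq, mul_inv_cancel_right]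
    have ho2 : (o : G) * o ∈ normalizer (Z : Set G) := by
      have : (o : G) * o = t * k * t⁻¹ * (k : G)⁻¹ := by
        calc (o : G) * o = o * (o * k) * (k : G)⁻¹ := by group
          _ = o * ((o : G)⁻¹ * (t * k * t⁻¹)) * (k : G)⁻¹ := by rw [he]
          _ = t * k * t⁻¹ * (k : G)⁻¹ := by group
      rw [this]; exact mul_mem (mul_mem (mul_mem htZ hkZ) (inv_mem htZ)) (inv_mem hkZ)
    have ho1 : (o : G) ∈ normalizer (Z : Set G) := by
      obtain ⟨i, hi⟩ := hWodd.of_dvd_nat (orderOf_dvd_natCard W o.2)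
      have he' : (o : G) = ((o : G) * o) ^ (i + 1) := by
        rw [← pow_two, ← pow_mul, show 2 * (i + 1) = orderOf (o : G) + 1 by omega, pow_succ,
          pow_orderOf_eq_one, one_mul]
      rw [he']; exact pow_mem ho2 _
    rw [← hom']; exact mul_mem ho1 hkZ
  have hZfam : Fam D Z := ⟨hRp.to_le hZR, hZne, hBZ, htZ⟩
  have hRN : R ≤ normalizer (Z : Set G) := le_normalizer.trans (normalizer_le_zjA R)
  obtain ⟨S, hS⟩ := hRp.exists_le_sylow
  have hRS : R = (S : Subgroup G) := by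
    by_contra hne
    haveI := S.2.isNilpotent
    have hlt : R.subgroupOf S < ⊤ := lt_top_iff_ne_top.2 fun h =>
      hne (le_antisymm hS (subgroupOf_eq_top.1 h))
    have hgrow := Group.normalizerCondition_of_isNilpotent (G := (S : Subgroup G)) (R.subgroupOf S) hlt
    set Q := (normalizer ((R.subgroupOf S : Subgroup (S : Subgroup G)) : Set (S : Subgroup G))).map
      (S : Subgroup G).subtype with hQ
    have hQN : Q ≤ normalizer (Z : Set G) := by
      rintro _ ⟨y, hy, rfl⟩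
      refine normalizer_le_zjA R (EqualOrderConj.mem_normalizer_of_conj_mem fun r hr => ?_)
      exact (mem_normalizer_iff.1 hy ⟨r, hS hr⟩).1 hr
    obtain ⟨b, hb⟩ := ((S.2.to_subgroup (normalizer
      ((R.subgroupOf S : Subgroup (S : Subgroup G)) : Set (S : Subgroup G))))).exists_card_eq
    have hQc : Nat.card Q = 3 ^ b := by rw [hQ, card_subtype, hb]
    have hlt' : Nat.card R < Nat.card Q := by
      rw [hQc, ← hb, ← Nat.card_congr (subgroupOfEquivOfLe hS).toEquiv]
      exact lt_of_not_ge fun h => hgrow.ne (eq_of_le_of_card_ge hgrow.le h)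
    have hd := card_dvd_of_le hQN
    rw [hQc] at hd hlt'
    have h1 := (Nat.Prime.pow_dvd_iff_le_factorization Nat.prime_three Nat.card_pos.ne').1 hd
    have h2 := hmax Z hZfam
    rw [hRcard] at hlt'
    have h3' := (Nat.pow_lt_pow_iff_right (by norm_num : 1 < 3)).1 hlt'
    omega
  obtain ⟨Wy, -, hWyodd, hYW, hBWy, -, hWymem, hWycov, hWyB⟩ := D.exists_odd_part hab hZfam
  have hSWy : (S : Subgroup G) ≤ Wy := fun r hr =>
    hWymem r (hRN (hRS ▸ hr)) (by
      obtain ⟨k, hk⟩ := IsPGroup.iff_orderOf.1 S.2 ⟨r, hr⟩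
      rw [orderOf_mk] at hk
      rw [hk]; exact (by decide : Odd 3).pow)
  refine ⟨Wy, S, hWyodd, hYW htZ, hSWy, hBWy, hWyB, fun g a ha hga => ?_⟩
  obtain ⟨y, hy, hya⟩ := Other.fusion_zj (p := 3) (by norm_num) hab S {a}
    (Set.singleton_subset_iff.2 ha) g (by rw [Set.image_singleton]; exact Set.singleton_subset_iff.2 hga)
  have hy' : y ∈ normalizer (Z : Set G) := by rw [hZ, hRS]; exact hy
  rw [hya a rfl]
  rcases hWycov y hy' with h | h
  · exact ⟨y, h, Or.inl rfl⟩
  · refine ⟨y * t, h, Or.inr ?_⟩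
    have ht2 := mul_self_of_two D.ht
    calc y * a * y⁻¹ = y * (t * t) * a * (t * t)⁻¹ * y⁻¹ := by rw [ht2]; group
      _ = y * t * (t * a * t⁻¹) * (y * t)⁻¹ := by group

end TData

end Cfsg.Agent.Walter.Field.ThreeCase
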