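import Cfsg.Agent.Lib.Walter.Field.OtherHomDefs
import Cfsg.Agent.Lib.Walter.Field.OtherRefl
import Cfsg.Agent.Lib.Walter.Field.ThreeCaseLocal
import Cfsg.Agent.Lib.Walter.Field.Local
import Cfsg.Agent.GenA.HallHigmanReduction

/-!
# The field part, `r` not the characteristic: the transfer

`N = N(Z(J(R))) = W⟨t⟩`. Modulo `O_{r'}(N)` the elements of `W` inverted by `t` come from `R`, so a
homomorphism of `C(t)` to an abelian `r`-group extends to `W` and is invariant under fusion in `R`.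
-/

set_option autoImplicit false
set_option linter.unusedSectionVars false
set_option linter.style.haveILetI false

namespace Cfsg.Agent.Walter.Field.Other

open Subgroup

universe u

section Quotient

variable {r : ℕ} [hr : Fact r.Prime] {N : Type u} [Group N] [Finite N]

/-- Modulo `O_{r'}` an inverted element of `W` comes from an inverted element of `R`. -/
theorem exists_inverted_lift (hr2 : r ≠ 2) (hsol : Group.IsSolvable N) {t k : N} (ht : t * t = 1)
    (W : Subgroup N) [W.Normal] (hW : Odd (Nat.card ↥W)) (R : Subgroup N) (hRW : R ≤ W)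
    (hQR : Cfsg.pCore r (N ⧸ Cfsg.pPrimeCore r N) ≤ R.map (QuotientGroup.mk' (Cfsg.pPrimeCore r N)))
    (htR : t ∈ normalizer (R : Set N))
    (hy : ∃ y : N, ∀ u ∈ R, Commute u t → u ∈ zpowers y)
    (hkfix : ∀ u ∈ R, Commute u t → Commute k u) {j : ℕ} (hj : ¬ j * j ≡ 1 [MOD r])
    (hscal : ∀ u ∈ R, Inv t u → k * u * k⁻¹ = u ^ j) {a : N} (ha : a ∈ W)
    (hai : Inv t a) :
    ∃ u ∈ R, Inv t u ∧
      QuotientGroup.mk' (Cfsg.pPrimeCore r N) a = QuotientGroup.mk' (Cfsg.pPrimeCore r N) u := by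
  classical
  haveI := hsol
  set O := Cfsg.pPrimeCore r N with hOd
  set f := QuotientGroup.mk' O with hf
  haveI : Group.IsSolvable (N ⧸ O) := Group.isSolvable_of_surjective (f := f) (QuotientGroup.mk'_surjective O)
  set M := N ⧸ O
  have hOM : Cfsg.pPrimeCore r M = ⊥ := Cores.pPrimeCore_quotient_self r
  have hRodd : Odd (Nat.card ↥R) := hW.of_dvd_nat (card_dvd_of_le hRW)
  have htR' : ∀ y ∈ R, t * y * t⁻¹ ∈ R := fun y hy =>
    (mem_normalizer_iff.1 htR y).1 hy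
  -- `Φ` and `V`
  set Φ := (frattini ↥(Cfsg.pCore r M)).map (Cfsg.pCore r M).subtype with hΦ
  haveI : Φ.Normal := inferInstance
  set g₂ := QuotientGroup.mk' Φ with hg₂
  obtain ⟨hel, hVc, hVcore, hmem⟩ := GenA.HallHigmanReduction.frattini_quotient
    (PLocal.SolvableSeparable.isPSolvable_of_isSolvable r M) hOM Φ hΦ _ rfl
  set V := (Cfsg.pCore r M).map g₂ with hVdef
  haveI : V.Normal := Subgroup.Normal.map inferInstance g₂ (QuotientGroup.mk'_surjective Φ)
  haveI : Group.IsSolvable (M ⧸ Φ) := Group.isSolvable_of_surjective (f := g₂) (QuotientGroup.mk'_surjective Φ)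
  obtain ⟨hVcomm, hVexp⟩ := PLocal.ThompsonSubgroup.isElementaryAbelian_iff.1 hel
  letI : CommGroup ↥V :=
    { (inferInstance : Group ↥V) with mul_comm := fun a b => Subtype.ext (hVcomm a a.2 b b.2) }
  set F : N →* M ⧸ Φ := g₂.comp f with hF
  -- the elements of `V` come from `R`
  have hVR : ∀ v ∈ V, ∃ u ∈ R, F u = v := by
    rintro _ ⟨q, hq, rfl⟩
    obtain ⟨u, hu, rfl⟩ := hQR hq
    exact ⟨u, hu, rfl⟩
  -- the action of `L = (M/Φ)/V` on `V`
  set L := (M ⧸ Φ) ⧸ V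
  set p₂ := QuotientGroup.mk' V with hp₂
  have hle : V ≤ (MulAut.conjNormal (H := V)).ker := fun v hv => MulEquiv.ext fun w => Subtype.ext (by
    show v * (w : M ⧸ Φ) * v⁻¹ = w
    rw [hVcomm v hv w w.2, mul_inv_cancel_right])
  let ρ : L →* MulAut ↥V := QuotientGroup.lift V MulAut.conjNormal hle
  have hρv : ∀ (g : M ⧸ Φ) (v : ↥V), ((ρ (p₂ g) v : ↥V) : M ⧸ Φ) = g * v * g⁻¹ := fun _ _ => rfl
  have hρ : Function.Injective ρ := by
    rw [injective_iff_map_eq_one]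
    intro l hl
    obtain ⟨g, rfl⟩ := QuotientGroup.mk'_surjective V l
    refine (QuotientGroup.eq_one_iff g).2 (hVc.le (mem_centralizer_iff.2 fun v hv => ?_))
    have h1 := hρv g ⟨v, hv⟩
    rw [hl] at h1
    exact (mul_inv_eq_iff_eq_mul.1 h1.symm).symm
  set T : L := p₂ (F t) with hT
  set K : L := p₂ (F k) with hK
  have hTT : T * T = 1 := by rw [hT, ← map_mul, ← map_mul, ht, map_one, map_one]
  have hfix' : ∀ v : ↥V, ρ T v = v → ∃ u ∈ R, Commute u t ∧ F u = v := by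
    intro v hv
    obtain ⟨u, hu, hue⟩ := hVR v v.2
    have h1 : F t * (v : M ⧸ Φ) * (F t)⁻¹ = v := (hρv _ v).symm.trans (congrArg Subtype.val hv)
    obtain ⟨c, hc, hct, hce⟩ := exists_commute_mod ht hRodd htR' F hu
      (by rw [hue]; exact mul_inv_eq_iff_eq_mul.1 h1)
    exact ⟨c, hc, hct.symm, hce.trans hue⟩
  have hfixL : ∃ y₀ : ↥V, ∀ v, ρ T v = v → v ∈ zpowers y₀ := by
    obtain ⟨y, hy⟩ := hy
    by_cases hall : ∀ v, ρ T v = v → v = 1
    · exact ⟨1, fun v hv => by rw [hall v hv]; exact one_mem _⟩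
    push Not at hall
    obtain ⟨v₀, hv₀, hv₀1⟩ := hall
    refine ⟨v₀, fun v hv => ?_⟩
    obtain ⟨u₀, hu₀, hu₀t, hu₀e⟩ := hfix' v₀ hv₀
    obtain ⟨u, hu, hut, hue⟩ := hfix' v hv
    obtain ⟨i₀, hi₀⟩ := hy u₀ hu₀ hu₀t
    obtain ⟨i, hi⟩ := hy u hu hut
    have he₀ : F y ^ i₀ = (v₀ : M ⧸ Φ) := by rw [← map_zpow]; exact (congrArg F hi₀).trans hu₀e
    have he : F y ^ i = (v : M ⧸ Φ) := by rw [← map_zpow]; exact (congrArg F hi).trans hue
    -- the subgroup `zpowers (F y) ⊓ V` is cyclic of exponent `r`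
    let C : Subgroup (M ⧸ Φ) := zpowers (F y) ⊓ V
    haveI : IsCyclic ↥C := Subgroup.isCyclic_of_le (inf_le_left : C ≤ zpowers (F y))
    have hC0 : (v₀ : M ⧸ Φ) ∈ C := ⟨⟨i₀, he₀⟩, v₀.2⟩
    have hC : (v : M ⧸ Φ) ∈ C := ⟨⟨i, he⟩, v.2⟩
    obtain ⟨g, hg⟩ := IsCyclic.exists_generator (α := ↥C)
    have hgr : g ^ r = 1 := Subtype.ext (hVexp _ g.2.2)
    obtain ⟨p, hp⟩ := hg ⟨_, hC0⟩
    obtain ⟨q, hq⟩ := hg ⟨_, hC⟩
    have hpr : ¬ (r : ℤ) ∣ p := by
      rintro ⟨p', rfl⟩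
      refine hv₀1 (Subtype.ext ?_)
      have h := congrArg Subtype.val hp
      dsimp only at h
      rw [show g ^ ((r : ℤ) * p') = 1 by rw [zpow_mul, zpow_natCast, hgr, one_zpow]] at h
      exact h.symm
    obtain ⟨b₁, b₂, hb⟩ := (Prime.coprime_iff_not_dvd (Nat.prime_iff_prime_int.1 hr.out)).2 hpr
    refine ⟨b₂ * q, Subtype.ext ?_⟩
    have hp' : (g : M ⧸ Φ) ^ p = v₀ := congrArg Subtype.val hp
    have hq' : (g : M ⧸ Φ) ^ q = v := congrArg Subtype.val hq
    show ((v₀ : M ⧸ Φ)) ^ (b₂ * q) = v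
    rw [← hp', ← hq', ← zpow_mul]
    have : p * (b₂ * q) = q + (r : ℤ) * (-(b₁ * q)) := by linear_combination q * hb
    rw [this, zpow_add, zpow_mul, zpow_natCast, show (g : M ⧸ Φ) ^ r = 1 from hVexp _ g.2.2, one_zpow, mul_one]
  have hkfixL : ∀ v : ↥V, ρ T v = v → ρ K v = v := by
    intro v hv
    obtain ⟨c, hc, hct, hce⟩ := hfix' v hv
    refine Subtype.ext ?_
    rw [hK, hρv, ← hce, ← map_mul, ← map_inv, ← map_mul, (hkfix c hc hct).eq, mul_inv_cancel_right]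
  have hkinvL : ∀ v : ↥V, ρ T v = v⁻¹ → ρ K v = v ^ j := by
    intro v hv
    obtain ⟨u, hu, hue⟩ := hVR v v.2
    have h1 : F t * (v : M ⧸ Φ) * (F t)⁻¹ = (v : M ⧸ Φ)⁻¹ := (hρv _ v).symm.trans (congrArg Subtype.val hv)
    obtain ⟨c, hc, hci, hce⟩ := exists_inv_mod ht hRodd htR' F hu (by rw [Inv, hue]; exact h1)
    refine Subtype.ext ?_
    rw [hK, hρv, SubmonoidClass.coe_pow, ← hue, ← hce, ← map_mul, ← map_inv, ← map_mul, hscal c hc hci, map_pow]
  -- the odd part of `L`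
  set WL := W.map (p₂.comp F) with hWL
  have hpF : Function.Surjective (p₂.comp F) := (QuotientGroup.mk'_surjective V).comp
    ((QuotientGroup.mk'_surjective Φ).comp (QuotientGroup.mk'_surjective O))
  haveI : WL.Normal := Subgroup.Normal.map inferInstance _ hpF
  have hWLodd : Odd (Nat.card ↥WL) := hW.of_dvd_nat (card_map_dvd _ _)
  haveI : Group.IsSolvable ↥WL := S0205.result hWLodd
  have hOL : Cfsg.pCore r L = ⊥ := by
    have hp : IsPGroup r ↥((Cfsg.pCore r L).comap p₂) := by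
      refine IsPGroup.comap_of_ker_isPGroup PLocal.Cores.isPGroup_pCore _ ?_
      rw [hp₂, QuotientGroup.ker_mk', hVdef]
      exact PLocal.Cores.isPGroup_pCore.map g₂
    have h2 := (PLocal.Cores.le_pCore hp).trans hVcore.le
    refine (eq_bot_iff_forall _).2 fun l hl => ?_
    obtain ⟨g, rfl⟩ := QuotientGroup.mk'_surjective V l
    exact (QuotientGroup.eq_one_iff g).2 (h2 hl)
  have hOWL : Cfsg.pCore r ↥WL = ⊥ := by
    haveI : (Cfsg.pCore r ↥WL).Characteristic := PLocal.Cores.pCore_characteristic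
    have h := PLocal.Cores.le_pCore (N := (Cfsg.pCore r ↥WL).map WL.subtype)
      (PLocal.Cores.isPGroup_pCore.map _)
    rw [hOL, le_bot_iff, map_eq_bot_iff_of_injective _ (subtype_injective WL)] at h
    exact h
  set P₀ := Cfsg.pPrimeCore r ↥WL with hP₀
  set P := P₀.map WL.subtype with hP
  haveI : P₀.Characteristic := PLocal.Cores.pPrimeCore_characteristic
  haveI : P.Normal := inferInstance
  have hCP : centralizer (P₀ : Set ↥WL) ≤ P₀ := by
    have hFP : Cfsg.fittingSubgroup ↥WL ≤ P₀ := by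
      rw [Cores.fittingSubgroup_eq_iSup]
      refine iSup_le fun q => ?_
      haveI : Fact (q : ℕ).Prime := ⟨Nat.prime_of_mem_primeFactors q.2⟩
      by_cases hqr : (q : ℕ) = r
      · rw [hqr]
        exact hOWL.le.trans bot_le
      · obtain ⟨i, hi⟩ := (Cores.pCore_isPGroup (G := ↥WL) (q : ℕ)).exists_card_eq
        refine Cores.le_pPrimeCore ?_
        rw [hi]
        exact ((Nat.coprime_primes Fact.out hr.out).2 hqr).pow_left i
    exact (centralizer_le hFP).trans (Cores.centralizer_fittingSubgroup_le.trans hFP)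
  have hPodd : Odd (Nat.card ↥P) := hWLodd.of_dvd_nat (card_dvd_of_le (map_subtype_le _))
  have hrP : ¬ r ∣ Nat.card ↥P := by
    rw [hP, card_subtype]
    exact (hr.out.coprime_iff_not_dvd).1 (Agent.Cores.pPrimeCore_card_coprime (G := ↥WL) r).symm
  have hcommP := commute_of_refl hr2 ρ hρ (fun v => Subtype.ext (by simpa using hVexp v v.2))
    (t := T) (k := K) hfixL hkfixL hj hkinvL hTT P hPodd hrP
    (by rw [normalizer_eq_top]; exact mem_top _) (by rw [normalizer_eq_top]; exact mem_top _)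
  -- the image of `a` in `L` is trivial
  set A : L := p₂ (F a) with hA
  have hAW : A ∈ WL := mem_map_of_mem (p₂.comp F) ha
  have hAi : Inv T A := (hai.map F).map p₂
  have hAo : Odd (orderOf A) := odd_orderOf hWLodd hAW
  have hAc : (⟨A, hAW⟩ : ↥WL) ∈ centralizer (P₀ : Set ↥WL) := by
    refine mem_centralizer_iff.2 fun p hp => Subtype.ext ?_
    have hpP : (p : L) ∈ P := mem_map_of_mem _ hp
    have h1 := hcommP _ hpP
    have h2 := hcommP _ ((inferInstance : P.Normal).conj_mem _ hpP A)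
    have h3 : T * (A * p * A⁻¹) * T⁻¹ = A⁻¹ * p * A := by
      rw [show T * (A * (p : L) * A⁻¹) * T⁻¹ = (T * A * T⁻¹) * (T * p * T⁻¹) * (T * A * T⁻¹)⁻¹ by group,
        show T * A * T⁻¹ = A⁻¹ from hAi, ← h1.eq, mul_inv_cancel_right, inv_inv]
    rw [← h2.eq, mul_inv_cancel_right] at h3
    have h4 : Commute (A * A) (p : L) := by
      show A * A * (p : L) = p * (A * A)
      calc A * A * (p : L) = A * (A * p * A⁻¹) * A := by group
        _ = A * (A⁻¹ * p * A) * A := by rw [h3]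
        _ = p * (A * A) := by group
    obtain ⟨m, hm⟩ := hAo
    have e : (A * A) ^ (m + 1) = A := by
      rw [← pow_two, ← pow_mul, show 2 * (m + 1) = orderOf A + 1 by omega, pow_succ,
        pow_orderOf_eq_one, one_mul]
    exact (e ▸ (h4.pow_left (m + 1))).eq.symm
  have hA1 : A = 1 := hAi.eq_one_of_commute (hcommP A ⟨⟨A, hAW⟩, hCP hAc, rfl⟩).symm hAo
  have hQ : f a ∈ Cfsg.pCore r M := (hmem (f a)).1 ((QuotientGroup.eq_one_iff (F a)).1 hA1)
  obtain ⟨u, hu, hue⟩ := hQR hQ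
  obtain ⟨c, hc, hci, hce⟩ := exists_inv_mod ht hRodd htR' f hu (by rw [hue]; exact hai.map f)
  exact ⟨c, hc, hci, (hce.trans hue).symm⟩

end Quotient

section Main

variable {G : Type u} [Group G] [Finite G] {t x k : G} {r j : ℕ} {R : Sylow r G}

/-- The configuration of the set-up is impossible. -/
theorem false_of_data [IsSimpleGroup G] (hnc : ¬ IsMulCommutative G) (D : HomData t x r j k R) : False := by
  classical
  haveI : Fact r.Prime := ⟨D.prime⟩
  haveI : Fact (Nat.Prime 2) := ⟨Nat.prime_two⟩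
  have htt : t * t = 1 := by rw [← pow_two, ← D.ht, pow_orderOf_eq_one]
  set Z := Cfsg.centerThompsonAOf (R : Subgroup G) with hZ
  set Nz := normalizer (Z : Set G) with hNz
  have hRN : normalizer ((R : Subgroup G) : Set G) ≤ Nz := ThreeCase.normalizer_le_zjA _
  have htN : t ∈ Nz := hRN D.t_norm
  have hkN : k ∈ Nz := hRN D.k_norm
  have hR : (R : Subgroup G) ≤ Nz := le_normalizer.trans hRN
  have hRodd : Odd (Nat.card ↥(R : Subgroup G)) := by
    obtain ⟨i, hi⟩ := R.2.exists_card_eq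
    rw [hi]
    exact (D.prime.odd_of_ne_two D.ne_two).pow
  -- no four group
  have h4 : ¬ 4 ∣ Nat.card ↥Nz := by
    intro h4
    obtain ⟨z, hzR, hz1, hzi, hzc⟩ := D.center_inverted
    obtain ⟨Q, hQ⟩ := (IsPGroup.of_card (n := 1) (G := zpowers (⟨t, htN⟩ : ↥Nz)) (by
      rw [Nat.card_zpowers, orderOf_mk, D.ht, pow_one])).exists_le_sylow
    have h4Q : 4 ∣ Nat.card (Q : Subgroup ↥Nz) := Q.pow_dvd_card_of_pow_dvd_card (n := 2) h4
    obtain ⟨w, hwQ, hw⟩ : ∃ y ∈ (Q : Subgroup ↥Nz), y ∉ zpowers (⟨t, htN⟩ : ↥Nz) := by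
      by_contra hcon
      push Not at hcon
      have h := card_le_of_le (show (Q : Subgroup ↥Nz) ≤ zpowers (⟨t, htN⟩ : ↥Nz) from hcon)
      rw [Nat.card_zpowers, orderOf_mk, D.ht] at h
      have := Nat.le_of_dvd Nat.card_pos h4Q
      omega
    have hQc : ∀ p ∈ (Q : Subgroup ↥Nz), Commute (p : G) t := fun p hp =>
      D.abTwo _ (Q.2.map Nz.subtype) p ⟨p, hp, rfl⟩ t ⟨_, hQ (mem_zpowers _), rfl⟩
    -- an involution other than `t`
    obtain ⟨v, hvQ, hvo, hvt⟩ : ∃ v ∈ (Q : Subgroup ↥Nz), orderOf (v : G) = 2 ∧ (v : G) ≠ t := by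
      obtain ⟨i, hi⟩ := Q.2 ⟨w, hwQ⟩
      have hi' : (w : G) ^ 2 ^ i = 1 := congrArg (fun z : (Q : Subgroup ↥Nz) => ((z : ↥Nz) : G)) hi
      have hwt : (w : G) ∉ zpowers t := fun ⟨q, hq⟩ => hw ⟨q, Subtype.ext (by simpa using hq)⟩
      have hw1 : (w : G) ≠ 1 := fun e => hwt (e ▸ one_mem _)
      exact ⟨w, hwQ, orderOf_eq_prime (by rw [pow_two, D.sq _ (hQc w hwQ) ⟨i, hi'⟩]) hw1,
        fun e => hwt (e ▸ mem_zpowers t)⟩
    have hvN : (v : G) ∈ Nz := v.2
    have hzZ : z ∈ Z := center_le_zj _ hzR hzc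
    refine hz1 (le_of_four_inv htt ?_ (hQc v hvQ).symm (hRodd.of_dvd_nat (card_dvd_of_le (zj_le _))) htN hvN
      ?_ ?_ z hzZ hzi)
    · rw [← pow_two, ← hvo, pow_orderOf_eq_one]
    · exact fun a ha hc hi => D.four v hvo (hQc v hvQ) hvt a (R.2.to_le (zpowers_le.2 (zj_le _ ha))) hc hi
    · refine fun a ha hc hi => D.four (t * v) ?_ ((Commute.refl t).mul_left (hQc v hvQ)) ?_ a
        (R.2.to_le (zpowers_le.2 (zj_le _ ha))) hc hi
      · refine orderOf_eq_prime ?_ fun e => hvt ?_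
        · rw [(hQc v hvQ).symm.mul_pow, pow_two, htt, one_mul, ← hvo, pow_orderOf_eq_one]
        · rw [← inv_eq_of_mul_eq_one_right e]
          exact inv_eq_of_mul_eq_one_right htt
      · intro e
        exact hw (False.elim (by
          have : (v : G) = 1 := mul_left_cancel (e.trans (mul_one t).symm)
          rw [this, orderOf_one] at hvo
          omega))
  have h2 : 2 ∣ Nat.card ↥Nz := by
    have h := orderOf_dvd_natCard Nz htN
    rwa [D.ht] at h
  obtain ⟨W, hWn, hWodd, hWc, hWmem⟩ := exists_odd_index_two h2 h4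
  haveI := hWn
  set t' : ↥Nz := ⟨t, htN⟩ with ht'
  set k' : ↥Nz := ⟨k, hkN⟩ with hk'
  have ht2' : t' * t' = 1 := Subtype.ext htt
  have hWi : W.index = 2 := by
    have h := W.card_mul_index
    rw [hWc, mul_comm 2] at h
    exact Nat.eq_of_mul_eq_mul_left Nat.card_pos h
  have htW : t' ∉ W := fun h => by
    have := hWodd.of_dvd_nat (orderOf_dvd_natCard W h)
    rw [ht', orderOf_mk, D.ht] at this
    exact absurd this (by decide)
  have hcases : ∀ g : ↥Nz, g ∈ W ∨ g * t' ∈ W := fun g => by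
    by_cases hg : g ∈ W
    · exact Or.inl hg
    · exact Or.inr ((mul_mem_iff_of_index_two hWi).2 ⟨fun h => absurd h hg, fun h => absurd h htW⟩)
  have hsol : Group.IsSolvable ↥Nz := by
    haveI : Group.IsSolvable ↥W := S0205.result hWodd
    haveI : Group.IsSolvable (↥Nz ⧸ W) := by
      haveI : Fact (Nat.Prime 2) := ⟨Nat.prime_two⟩
      haveI := isCyclic_of_prime_card (α := ↥Nz ⧸ W) (p := 2) (by rw [← index_eq_card, hWi])
      letI : CommGroup (↥Nz ⧸ W) := IsCyclic.commGroup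
      infer_instance
    exact Group.isSolvable_of_ker_le_range W.subtype (QuotientGroup.mk' W)
      (by rw [QuotientGroup.ker_mk', range_subtype])
  set R' : Sylow r ↥Nz := R.subtype hR with hR'
  have hmemR : ∀ g : ↥Nz, g ∈ (R' : Subgroup ↥Nz) ↔ (g : G) ∈ (R : Subgroup G) := fun g => by
    rw [hR', Sylow.coe_subtype]; exact mem_subgroupOf
  have hR'odd : ∀ g : ↥Nz, (g : G) ∈ (R : Subgroup G) → Odd (orderOf g) := fun g hg => by
    rw [← Subgroup.orderOf_coe]; exact odd_orderOf hRodd hg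
  have hRW : (R' : Subgroup ↥Nz) ≤ W := fun g hg => hWmem g (hR'odd g ((hmemR g).1 hg))
  have hinvg : ∀ g : ↥Nz, Inv t' g ↔ t * (g : G) * t⁻¹ = (g : G)⁻¹ := fun g =>
    ⟨fun h => congrArg Subtype.val h, fun h => Subtype.ext h⟩
  have hcomg : ∀ g h : ↥Nz, Commute g h ↔ Commute (g : G) h := fun g h =>
    ⟨fun e => congrArg Subtype.val e, fun e => Subtype.ext e⟩
  obtain ⟨y, hy⟩ := D.fixed_cyclic
  have hy' : ∃ y' : ↥Nz, ∀ u ∈ (R' : Subgroup ↥Nz), Commute u t' → u ∈ zpowers y' := by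
    haveI : IsCyclic ↥(zpowers y ⊓ Nz) := Subgroup.isCyclic_of_le inf_le_left
    obtain ⟨g, hg⟩ := IsCyclic.exists_generator (α := ↥(zpowers y ⊓ Nz))
    refine ⟨⟨g, g.2.2⟩, fun u hu hc => ?_⟩
    obtain ⟨i, hi⟩ := hg ⟨u, hy u ((hmemR u).1 hu) ((hcomg _ _).1 hc), u.2⟩
    exact ⟨i, Subtype.ext (congrArg Subtype.val hi :)⟩
  have hlift : ∀ a ∈ W, Inv t' a → ∃ u ∈ (R' : Subgroup ↥Nz), Inv t' u ∧
      QuotientGroup.mk' (Cfsg.pPrimeCore r ↥Nz) a = QuotientGroup.mk' (Cfsg.pPrimeCore r ↥Nz) u :=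
    fun a ha hai => exists_inverted_lift D.ne_two hsol ht2' W hWodd (R' : Subgroup ↥Nz) hRW
      (by
        have h := PLocal.Cores.pCore_le_sylow (R'.mapSurjective
          (f := QuotientGroup.mk' (Cfsg.pPrimeCore r ↥Nz)) (QuotientGroup.mk'_surjective _))
        rwa [Sylow.coe_mapSurjective] at h)
      (Subgroup.mem_normalizer_fintype fun g hg => (hmemR _).2
        ((mem_normalizer_iff.1 D.t_norm _).1 ((hmemR g).1 hg)))
      hy'
      (fun u hu hc => (hcomg k' u).2 (D.k_fixed _ ((hmemR u).1 hu) ((hcomg u t').1 hc))) D.sq_ne_one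
      (fun u hu hi => Subtype.ext (by
        simpa using D.scalar _ ((hmemR u).1 hu) ((hinvg u).1 hi))) ha hai
  -- the extension of `θ`
  obtain ⟨A, iA, θ, hA, hθ⟩ := D.theta
  have hWt : ∀ g ∈ W, t' * g * t'⁻¹ ∈ W := fun g hg => hWn.conj_mem g hg t'
  have hdec : ∀ g : ↥W, ∃ c : ↥(centralizer ({t} : Set G)), ∃ a ∈ W, Inv t' a ∧ ∃ h : (c : G) ∈ Nz,
      (⟨c, h⟩ : ↥Nz) ∈ W ∧ (g : ↥Nz) = a * ⟨c, h⟩ := by
    intro g
    obtain ⟨a, ha, c, hc, hai, hct, he⟩ := exists_inv_mul ht2' hWodd hWt g.2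
    exact ⟨⟨c, mem_centralizer_singleton_iff.2 ((hcomg t' c).1 hct).symm.eq⟩, a, ha, hai, c.2, hc, he⟩
  choose cc aa haa hai hcN hcW he using hdec
  have huniq : ∀ (g : ↥W) (c : ↥(centralizer ({t} : Set G))) (h : (c : G) ∈ Nz) (a : ↥Nz),
      a ∈ W → (⟨c, h⟩ : ↥Nz) ∈ W → Inv t' a → (g : ↥Nz) = a * ⟨c, h⟩ → cc g = c := by
    intro g c h a ha hc hi hg
    have hct : ∀ d : ↥(centralizer ({t} : Set G)), ∀ hd : (d : G) ∈ Nz, Commute t' ⟨d, hd⟩ := fun d hd =>
      (hcomg _ _).2 (mem_centralizer_singleton_iff.1 d.2).symm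
    have h1 : aa g = a * ((⟨c, h⟩ : ↥Nz) * ⟨cc g, hcN g⟩⁻¹) := by
      rw [← mul_assoc, ← hg, he g, mul_inv_cancel_right]
    have h2 : aa g = a := inv_mul_unique hWodd (haa g) ha (hai g) hi
      ((hct c h).mul_right (hct _ (hcN g)).inv_right) h1
    have h3 := he g
    rw [h2, hg] at h3
    exact Subtype.ext (congrArg Subtype.val (mul_left_cancel h3) :).symm
  have hone : ∀ (c : ↥(centralizer ({t} : Set G))) (h : (c : G) ∈ Nz),
      (⟨c, h⟩ : ↥Nz) ∈ Cfsg.pPrimeCore r ↥Nz → θ c = 1 := by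
    intro c h hc
    obtain ⟨i, hi⟩ := IsPGroup.iff_orderOf.1 hA (θ c)
    refine orderOf_eq_one_iff.1 (Nat.eq_one_of_dvd_coprimes
      ((Agent.Cores.pPrimeCore_card_coprime (G := ↥Nz) r).pow_right i) ?_ (by rw [hi]))
    refine (orderOf_map_dvd θ c).trans ?_
    rw [← Subgroup.orderOf_coe c, ← Subgroup.orderOf_mk (c : G) h]
    exact orderOf_dvd_natCard _ hc
  have hmulθ : ∀ g g' : ↥W, θ (cc (g * g')) = θ (cc g) * θ (cc g') := by
    intro g g'
    set c₁ : ↥Nz := ⟨cc g, hcN g⟩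
    set c₂ : ↥Nz := ⟨cc g', hcN g'⟩
    set a₂ := c₁ * aa g' * c₁⁻¹ with ha₂
    have hc₁t : Commute t' c₁ := (hcomg _ _).2 (mem_centralizer_singleton_iff.1 (cc g).2).symm
    have ha₂W : a₂ ∈ W := hWn.conj_mem _ (haa g') c₁
    have ha₂i : Inv t' a₂ := (hai g').conj hc₁t.symm
    obtain ⟨u, hu, hui, hue⟩ := hlift _ (haa g) (hai g)
    obtain ⟨v, hv, hvi, hve⟩ := hlift _ ha₂W ha₂i
    set p : ↥W := ⟨aa g * a₂, mul_mem (haa g) ha₂W⟩
    set f := QuotientGroup.mk' (Cfsg.pPrimeCore r ↥Nz)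
    have huv : Commute u v := (hcomg _ _).2 (D.inverted_comm _ ((hmemR u).1 hu) _ ((hmemR v).1 hv)
      ((hinvg u).1 hui) ((hinvg v).1 hvi))
    have hfp : Inv (f t') (f (p : ↥Nz)) := by
      have h1 : f (p : ↥Nz) = f (u * v) := by
        show f (aa g * a₂) = _
        rw [map_mul f (aa g) a₂, map_mul f u v, hue, hve]
      rw [h1]
      refine Inv.map ?_ f
      show t' * (u * v) * t'⁻¹ = (u * v)⁻¹
      rw [mul_inv_rev, show v⁻¹ * u⁻¹ = u⁻¹ * v⁻¹ from (huv.inv_inv.eq).symm, ← show t' * u * t'⁻¹ = u⁻¹ from hui,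
        ← show t' * v * t'⁻¹ = v⁻¹ from hvi]
      group
    set c₃ : ↥Nz := ⟨cc p, hcN p⟩
    have hc₃ : c₃ ∈ Cfsg.pPrimeCore r ↥Nz := by
      rw [← QuotientGroup.eq_one_iff]
      have hc₃t : Commute t' c₃ := (hcomg _ _).2 (mem_centralizer_singleton_iff.1 (cc p).2).symm
      have h1 : f (p : ↥Nz) = f (aa p) * f c₃ := by rw [he p, map_mul]
      have h2 : f (p : ↥Nz) = f (aa p) := inv_mul_unique (K := W.map f) (hWodd.of_dvd_nat (card_map_dvd _ _))
        (mem_map_of_mem f p.2) (mem_map_of_mem f (haa p)) hfp ((hai p).map f) (hc₃t.map f) h1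
      rw [h2] at h1
      exact mul_eq_left.1 h1.symm
    have hgg : cc (g * g') = cc p * (cc g * cc g') := by
      refine huniq _ _ (mul_mem (hcN p) (mul_mem (hcN g) (hcN g'))) (aa p) (haa p)
        (mul_mem (hcW p) (mul_mem (hcW g) (hcW g'))) (hai p) ?_
      show (g : ↥Nz) * (g' : ↥Nz) = aa p * (c₃ * (c₁ * c₂))
      rw [← mul_assoc (aa p), ← he p, he g, he g']
      show aa g * c₁ * (aa g' * c₂) = aa g * (c₁ * aa g' * c₁⁻¹) * (c₁ * c₂)
      group
    rw [hgg, map_mul, map_mul, hone _ (hcN p) hc₃, one_mul]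
  let lam : ↥W →* A :=
    { toFun := fun g => θ (cc g)
      map_one' := mul_eq_left.1 (show θ (cc 1) * θ (cc 1) = θ (cc 1) by rw [← hmulθ, one_mul])
      map_mul' := hmulθ }
  let φ : ↥(R : Subgroup G) →* A := lam.comp
    { toFun := fun u => ⟨⟨u, hR u.2⟩, hRW ((hmemR _).2 u.2)⟩
      map_one' := rfl
      map_mul' := fun _ _ => rfl }
  have hfus : ∀ (g : G) (a b : ↥(R : Subgroup G)), g * (a : G) * g⁻¹ = b → φ a = φ b := by
    intro g a b hab
    obtain ⟨w, hw, hwe⟩ := fusion_zj D.ne_two D.abTwo R {(a : G)} (by simp) g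
      (by rintro _ ⟨_, rfl, rfl⟩; show g * (a : G) * g⁻¹ ∈ _; rw [hab]; exact b.2)
    have hwa : w * (a : G) * w⁻¹ = b := (hwe _ rfl).symm.trans hab
    set w' : ↥Nz := ⟨w, hw⟩
    set a' : ↥W := ⟨⟨a, hR a.2⟩, hRW ((hmemR _).2 a.2)⟩
    set b' : ↥W := ⟨⟨b, hR b.2⟩, hRW ((hmemR _).2 b.2)⟩
    show lam a' = lam b'
    have hb' : (b' : ↥Nz) = w' * a' * w'⁻¹ := Subtype.ext hwa.symm
    rcases hcases w' with hwW | hwW
    · have : b' = ⟨w', hwW⟩ * a' * (⟨w', hwW⟩ : ↥W)⁻¹ := Subtype.ext hb'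
      rw [this, map_mul, map_mul, map_inv, mul_inv_cancel_comm]
    · set s : ↥W := ⟨w' * t', hwW⟩
      set d : ↥W := ⟨t' * a' * t'⁻¹, hWt _ a'.2⟩
      have : b' = s * d * s⁻¹ := Subtype.ext (by
        rw [hb']
        show w' * (a' : ↥Nz) * w'⁻¹ = w' * t' * (t' * a' * t'⁻¹) * (w' * t')⁻¹
        rw [show t'⁻¹ = t' from inv_eq_of_mul_eq_one_right ht2', mul_inv_rev,
          show t'⁻¹ = t' from inv_eq_of_mul_eq_one_right ht2']
        calc w' * (a' : ↥Nz) * w'⁻¹ = w' * (t' * t') * a' * (t' * t') * w'⁻¹ := by rw [ht2']; group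
          _ = _ := by group)
      rw [this, map_mul, map_mul, map_inv, mul_inv_cancel_comm]
      show θ (cc a') = θ (cc d)
      congr 1
      refine (huniq d (cc a') (hcN a') ((aa a')⁻¹) (inv_mem (haa a')) (hcW a') (hai a').inv ?_).symm
      show t' * (a' : ↥Nz) * t'⁻¹ = _
      have hct : Commute t' (⟨cc a', hcN a'⟩ : ↥Nz) :=
        (hcomg _ _).2 (mem_centralizer_singleton_iff.1 (cc a').2).symm
      rw [he a', ← conj_mul, show t' * aa a' * t'⁻¹ = (aa a')⁻¹ from hai a', hct.eq, mul_inv_cancel_right]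
  have hx : φ ⟨x, D.x_mem⟩ = θ ⟨x, mem_centralizer_singleton_iff.2 D.x_t⟩ := by
    show θ (cc _) = _
    congr 1
    refine huniq _ _ (hR D.x_mem) 1 (one_mem _) (hRW ((hmemR _).2 D.x_mem)) ?_ (one_mul _).symm
    show t' * 1 * t'⁻¹ = (1 : ↥Nz)⁻¹
    rw [mul_one, mul_inv_cancel, inv_one]
  refine hθ ?_
  rw [← hx, hom_eq_one_of_fusion hnc R φ hfus, MonoidHom.one_apply]

end Main

end Cfsg.Agent.Walter.Field.Other
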