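import Cfsg.Agent.Lib.Walter.Field.OtherTools

/-!
# Weights of a coprime automorphism on an `r`-group

If no element of `C(x)` is raised to the power `c` by an automorphism fixing `x`, none is. So the
elements inverted by `τ` form an abelian group on which `κ` is the power `J`, as soon as this holds
in the centraliser of `x`.
-/

set_option autoImplicit false
set_option linter.unusedSectionVars false
set_option linter.style.haveILetI false

namespace Cfsg.Agent.Walter.Field.Other

open Subgroup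

universe u

variable {r : ℕ} [hr : Fact r.Prime] {R : Type u} [Group R] [Finite R]

/-- The automorphism induced on the quotient by an invariant normal subgroup. -/
noncomputable def quotAut (Z : Subgroup R) [Z.Normal] (α : R ≃* R) (hZ : ∀ z ∈ Z, α z ∈ Z) :
    (R ⧸ Z) ≃* (R ⧸ Z) :=
  QuotientGroup.congr Z Z α (eq_of_le_of_card_ge (by rintro _ ⟨z, hz, rfl⟩; exact hZ z hz)
    (card_map_of_injective α.injective).ge)

theorem quotAut_mk (Z : Subgroup R) [Z.Normal] (α : R ≃* R) (hZ : ∀ z ∈ Z, α z ∈ Z) (u : R) :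
    quotAut Z α hZ (QuotientGroup.mk' Z u) = QuotientGroup.mk' Z (α u) := rfl

/-- An element raised to the power `c` modulo an invariant central subgroup lifts to one. -/
theorem exists_eigen_lift (hR : IsPGroup r R) (α : R ≃* R) {n : ℕ} (hn : ∀ u, α^[n] u = u) (hrn : ¬ r ∣ n)
    {c c' : ℕ} (hcc : ∀ u : R, u ^ (c' * c) = u) (hc' : ∀ u : R, u ^ c' ^ n = u) (Z : Subgroup R) [Z.Normal]
    (hZc : ∀ z ∈ Z, ∀ u, Commute z u) (hZ : ∀ z ∈ Z, α z ∈ Z) {u : R}
    (hu : QuotientGroup.mk' Z (α u) = QuotientGroup.mk' Z u ^ c) :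
    ∃ v, QuotientGroup.mk' Z v = QuotientGroup.mk' Z u ∧ α v = v ^ c := by
  classical
  letI : CommGroup ↥Z :=
    { (inferInstance : Group ↥Z) with mul_comm := fun a b => Subtype.ext (hZc a a.2 b).eq }
  set φ : R → R := fun v => α (v ^ c') with hφ
  have hiter : ∀ i v, φ^[i] v = α^[i] (v ^ c' ^ i) := by
    intro i
    induction i with
    | zero => intro v; simp
    | succ i ih =>
      intro v
      rw [Function.iterate_succ_apply, ih, hφ, Function.iterate_succ_apply]
      congr 1
      rw [← map_pow, ← pow_mul, pow_succ']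
  let ψ : ↥Z →* ↥Z :=
    { toFun := fun z => ⟨φ z, hZ _ (pow_mem z.2 c')⟩
      map_one' := Subtype.ext (by simp [φ])
      map_mul' := fun a b => Subtype.ext (by
        show α (((a : R) * b) ^ c') = α ((a : R) ^ c') * α ((b : R) ^ c')
        rw [(hZc a a.2 b).mul_pow, map_mul]) }
  have hφz : ∀ v, ∀ z : ↥Z, φ (v * z) = φ v * ψ z := fun v z => by
    show α ((v * (z : R)) ^ c') = α (v ^ c') * α ((z : R) ^ c')
    rw [(hZc z z.2 v).symm.mul_pow, map_mul]
  have hu' : u⁻¹ * φ u ∈ Z := by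
    rw [← QuotientGroup.eq_one_iff, ← QuotientGroup.mk'_apply, map_mul, map_inv, hφ]
    simp only [map_pow]
    rw [hu, ← pow_mul, mul_comm c c', ← map_pow, hcc, inv_mul_cancel]
  have hmem : ∀ i, u⁻¹ * φ^[i] u ∈ Z := by
    intro i
    induction i with
    | zero => simp
    | succ i ih =>
      have h : φ^[i + 1] u = φ u * ψ ⟨_, ih⟩ := by
        rw [Function.iterate_succ_apply', ← hφz, mul_inv_cancel_left]
      rw [h, ← mul_assoc]
      exact mul_mem hu' (ψ ⟨_, ih⟩).2
  let d : ℕ → ↥Z := fun i => ⟨_, hmem i⟩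
  set z₀ : ↥Z := ⟨_, hu'⟩ with hz₀
  have hrec : ∀ i, d (i + 1) = z₀ * ψ (d i) := fun i => Subtype.ext (by
    show u⁻¹ * φ^[i + 1] u = u⁻¹ * φ u * ψ (d i)
    rw [Function.iterate_succ_apply', mul_assoc, ← hφz, mul_inv_cancel_left])
  have hd0 : d 0 = 1 := Subtype.ext (by show u⁻¹ * φ^[0] u = 1; simp)
  have hdn : d n = 1 := Subtype.ext (by
    show u⁻¹ * φ^[n] u = 1
    rw [hiter, hn, hc', inv_mul_cancel])
  set D := ∏ i ∈ Finset.range n, d i with hD
  have hψD : z₀ ^ n * ψ D = D := by
    rw [hD, map_prod, Finset.pow_eq_prod_const, ← Finset.prod_mul_distrib,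
      Finset.prod_congr rfl fun i _ => (hrec i).symm]
    have h := (Finset.prod_range_succ' d n).symm.trans (Finset.prod_range_succ d n)
    rwa [hd0, hdn, mul_one, mul_one] at h
  obtain ⟨e, he⟩ := hR.powEquiv' hrn |>.surjective u
  have hp : (Nat.card ↥Z).Coprime n := by
    obtain ⟨k, hk⟩ := (hR.to_subgroup Z).exists_card_eq
    rw [hk]
    exact ((hr.out.coprime_iff_not_dvd).2 hrn).pow_left k
  obtain ⟨E, hE⟩ := (powCoprime hp).surjective D
  have hE' : E ^ n = D := hE
  have hkey : z₀ * ψ E = E := (powCoprime hp).injective (by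
    show (z₀ * ψ E) ^ n = E ^ n
    rw [mul_pow, ← map_pow, hE', hψD])
  refine ⟨u * E, ?_, ?_⟩
  · rw [map_mul, show QuotientGroup.mk' Z (E : R) = 1 from (QuotientGroup.eq_one_iff _).2 E.2, mul_one]
  · have h : φ (u * E) = u * E := by
      rw [hφz]
      calc φ u * (ψ E : R) = u * ((u⁻¹ * φ u) * ψ E) := by group
        _ = u * E := by rw [show (u⁻¹ * φ u) * (ψ E : R) = E from congrArg Subtype.val hkey]
    conv_rhs => rw [← h]
    rw [hφ]
    simp only
    rw [← map_pow, ← pow_mul, hcc]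

/-- The eigenvectors are seen in the centraliser of a fixed element. -/
theorem eigen_trivial (hR : IsPGroup r R) (α : R ≃* R) (x : R) (hx : α x = x) {n : ℕ}
    (hn : ∀ u, α^[n] u = u) (hrn : ¬ r ∣ n) {c c' : ℕ} (hcc : ∀ u : R, u ^ (c' * c) = u)
    (hc' : ∀ u : R, u ^ c' ^ n = u) (h : ∀ u, α u = u ^ c → Commute u x → u = 1) :
    ∀ u, α u = u ^ c → u = 1 := by
  induction hN : Nat.card R using Nat.strong_induction_on generalizing R with
  | _ N ih =>
  subst hN
  intro u hu
  rcases subsingleton_or_nontrivial R with hs | hnt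
  · exact Subsingleton.elim _ _
  haveI := hR.center_nontrivial
  have hZ : ∀ z ∈ center R, α z ∈ center R := fun z hz => mem_center_iff.2 fun g => by
    obtain ⟨g', rfl⟩ := α.surjective g
    rw [← map_mul, ← map_mul, mem_center_iff.1 hz]
  have hlt : Nat.card (R ⧸ center R) < Nat.card R := by
    rw [card_eq_card_quotient_mul_card_subgroup (center R)]
    exact lt_mul_of_one_lt_right Nat.card_pos Finite.one_lt_card
  set f := QuotientGroup.mk' (center R)
  have hn' : ∀ q, (quotAut (center R) α hZ)^[n] q = q := by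
    intro q
    obtain ⟨v, rfl⟩ := QuotientGroup.mk'_surjective (center R) q
    have hi : ∀ i, (quotAut (center R) α hZ)^[i] (f v) = f (α^[i] v) := by
      intro i
      induction i with
      | zero => rfl
      | succ i ih => rw [Function.iterate_succ_apply', Function.iterate_succ_apply', ih, quotAut_mk]
    rw [hi, hn]
  have hquot := ih _ hlt (hR.to_quotient _) (quotAut (center R) α hZ) (f x) (by rw [quotAut_mk, hx]) hn'
    (fun q => by
      obtain ⟨v, rfl⟩ := QuotientGroup.mk'_surjective (center R) q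
      rw [← map_pow, hcc])
    (fun q => by
      obtain ⟨v, rfl⟩ := QuotientGroup.mk'_surjective (center R) q
      rw [← map_pow, hc'])
    (fun q hq hqx => by
      obtain ⟨v, rfl⟩ := QuotientGroup.mk'_surjective (center R) q
      rw [quotAut_mk] at hq
      obtain ⟨w, hw, hwc⟩ := exists_eigen_lift hR α hn hrn hcc hc' (center R)
        (fun z hz g => (mem_center_iff.1 hz g).symm) hZ hq
      rw [← hw] at hqx ⊢
      set w' := x * w * x⁻¹ with hw'
      have hw'c : α w' = w' ^ c := by rw [hw', map_mul, map_mul, map_inv, hx, hwc, conj_pow]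
      set z := w⁻¹ * w' with hz
      have hzC : z ∈ center R := by
        rw [← QuotientGroup.eq_one_iff, ← QuotientGroup.mk'_apply, map_mul, map_inv, hw', map_mul, map_mul, map_inv,
          ← hqx.eq, mul_inv_cancel_right, inv_mul_cancel]
      have hzc : α z = z ^ c := by
        have h1 : Commute w z := mem_center_iff.1 hzC w
        have h2 : α (w * z) = (w * z) ^ c := by rw [hz, mul_inv_cancel_left, hw'c]
        rw [map_mul, hwc, h1.mul_pow] at h2
        exact mul_left_cancel h2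
      have hz1 : z = 1 := h z hzc (mem_center_iff.1 hzC x).symm
      rw [hz, inv_mul_eq_one, hw'] at hz1
      rw [h w hwc (show Commute w x from eq_mul_inv_iff_mul_eq.1 hz1), map_one]) rfl
  have hmem : u ∈ center R := (QuotientGroup.eq_one_iff u).1 (hquot (f u) (by rw [quotAut_mk, hu, map_pow]))
  exact h u hu (mem_center_iff.1 hmem x).symm

section Structure

variable {s J J' : ℕ}

/-- The hypotheses of the structure theorem. -/
structure Scalars (τ κ : R ≃* R) (r s J : ℕ) : Prop where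
  pgroup : IsPGroup r R
  prime : s.Prime
  two : ∀ u, τ (τ u) = u
  pow : ∀ u, κ^[s] u = u
  comm : ∀ u, κ (τ u) = τ (κ u)
  jpow : ∀ u : R, u ^ J ^ s = u
  fixed : ∀ u, τ u = u → κ u = u
  fixed' : ∀ u, κ u = u → τ u = u
  weight : ∀ i, 2 ≤ i → i < s → ∀ u, κ u = u ^ J ^ i → u = 1

/-- The elements inverted by `τ` commute and `κ` is the power `J` on them. -/
theorem Scalars.main {τ κ : R ≃* R} (H : Scalars τ κ r s J) (hr2 : r ≠ 2) (hrs : r ≠ s)
    (hJ : ¬ J ≡ 1 [MOD r]) (hJ2 : ¬ J * J ≡ 1 [MOD r]) (hJs : J ^ s ≡ 1 [MOD r]) :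
    ∀ a b, τ a = a⁻¹ → τ b = b⁻¹ → κ a = a ^ J ∧ Commute a b := by
  classical
  induction hN : Nat.card R using Nat.strong_induction_on generalizing R with
  | _ N ih =>
  subst hN
  rcases subsingleton_or_nontrivial R with hs | hnt
  · exact fun a b _ _ => ⟨Subsingleton.elim _ _, Subsingleton.elim _ _⟩
  haveI := H.pgroup.center_nontrivial
  have hrs' : ¬ r ∣ s := fun h => hrs ((Nat.prime_dvd_prime_iff_eq hr.out H.prime).1 h)
  have hodd : ∀ u : R, Odd (orderOf u) := fun u => by
    obtain ⟨k, hk⟩ := IsPGroup.iff_orderOf.1 H.pgroup u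
    rw [hk]
    exact (hr.out.odd_of_ne_two hr2).pow
  have hrel : ∀ {a b : ℕ}, a ≡ b [MOD r] → ∀ z : R, z ^ r = 1 → z ^ a = z ^ b := fun hab z hz =>
    pow_eq_pow_of_modEq hab hz
  -- the central inverted subgroup, or the central elements
  set Z₁ : Subgroup R :=
    { carrier := {z | (∀ u, Commute z u) ∧ z ^ r = 1}
      one_mem' := ⟨fun u => Commute.one_left u, one_pow r⟩
      mul_mem' := fun {a b} ha hb => ⟨fun u => (ha.1 u).mul_left (hb.1 u), by
        rw [(ha.1 b).mul_pow, ha.2, hb.2, one_mul]⟩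
      inv_mem' := fun {a} ha => ⟨fun u => (ha.1 u).inv_left, by rw [inv_pow, ha.2, inv_one]⟩ } with hZ₁
  have hinv₁ : ∀ (α : R ≃* R), ∀ z ∈ Z₁, α z ∈ Z₁ := fun α z hz => ⟨fun u => by
    obtain ⟨v, rfl⟩ := α.surjective u
    exact (hz.1 v).map α, by rw [← map_pow, hz.2, map_one]⟩
  obtain ⟨z₁, hz₁, hz₁1⟩ : ∃ z ∈ Z₁, z ≠ 1 := by
    obtain ⟨c, hc⟩ := exists_prime_orderOf_dvd_card' (G := ↥(center R)) r (by
      obtain ⟨k, hk, hc⟩ := (H.pgroup.to_subgroup (center R)).nontrivial_iff_card.1 inferInstance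
      exact hc ▸ dvd_pow_self r hk.ne')
    refine ⟨c, ⟨fun u => (mem_center_iff.1 c.2 u).symm, ?_⟩, fun e => ?_⟩
    · rw [← hc, ← orderOf_coe, pow_orderOf_eq_one]
    · rw [← orderOf_coe, e, orderOf_one] at hc
      exact hr.out.one_lt.ne hc
  -- `κ` on an inverted central element of order `r`
  have hlin : ∀ z ∈ Z₁, τ z = z⁻¹ → κ z = z ^ J := by
    intro z hz hzi
    letI : CommGroup ↥Z₁ :=
      { (inferInstance : Group ↥Z₁) with mul_comm := fun a b => Subtype.ext (a.2.1 b).eq }
    let κ₁ : ↥Z₁ →* ↥Z₁ := (κ.toMonoidHom.comp Z₁.subtype).codRestrict Z₁ fun w => hinv₁ κ w w.2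
    let τ₁ : ↥Z₁ →* ↥Z₁ := (τ.toMonoidHom.comp Z₁.subtype).codRestrict Z₁ fun w => hinv₁ τ w w.2
    let w : ↥Z₁ := ⟨z, hz⟩
    have hexp : ∀ v : ↥Z₁, v ^ r = 1 := fun v => Subtype.ext v.2.2
    have hκv : ∀ (l : ℕ) (v : ↥Z₁), (((κ₁^[l]) v : ↥Z₁) : R) = κ^[l] (v : R) := by
      intro l
      induction l with
      | zero => intro v; rfl
      | succ l ih => intro v; rw [Function.iterate_succ_apply', Function.iterate_succ_apply', ← ih]; rfl
    have hone : κ₁^[s] w = w := Subtype.ext (by rw [hκv, H.pow])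
    -- the projections
    let P : ℕ → ↥Z₁ := fun i => ∏ l ∈ Finset.range s, κ₁^[l] w ^ J ^ (i * (s - l))
    have hpowJ : ∀ {a b : ℕ} (v : ↥Z₁), a ≡ b [MOD s] → v ^ J ^ a = v ^ J ^ b := by
      intro a b v hab
      refine pow_eq_pow_of_modEq ?_ (hexp v)
      have key : ∀ m, J ^ m ≡ J ^ (m % s) [MOD r] := fun m => by
        conv_lhs => rw [← Nat.div_add_mod m s, pow_add, pow_mul]
        simpa using ((hJs.pow (m / s)).mul_right (J ^ (m % s)))
      exact ((key a).trans (by rw [hab])).trans (key b).symm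
    have hPeig : ∀ i, κ₁ (P i) = P i ^ J ^ i := by
      intro i
      show κ₁ (∏ l ∈ Finset.range s, κ₁^[l] w ^ J ^ (i * (s - l))) = _
      rw [map_prod, ← Finset.prod_pow]
      set F : ℕ → ↥Z₁ := fun l => (κ₁^[l] w ^ J ^ (i * (s - l))) ^ J ^ i with hF
      have hshift : ∀ l ∈ Finset.range s, κ₁ (κ₁^[l] w ^ J ^ (i * (s - l))) = F (l + 1) := by
        intro l hl
        rw [Finset.mem_range] at hl
        rw [hF, map_pow, ← Function.iterate_succ_apply' (f := κ₁)]
        simp only
        rw [← pow_mul _ (J ^ (i * (s - (l + 1)))), ← pow_add]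
        refine hpowJ _ ?_
        rw [← Nat.mul_succ, Nat.succ_eq_add_one, show s - (l + 1) + 1 = s - l by omega]
      rw [Finset.prod_congr rfl hshift]
      have h0 : F s = F 0 := by
        rw [hF]; simp only [hone, Nat.sub_self, mul_zero, Nat.sub_zero, Function.iterate_zero, id_eq]
        congr 1
        refine hpowJ w ?_
        exact (Nat.modEq_zero_iff_dvd.2 (dvd_mul_left s i)).symm
      have h := (Finset.prod_range_succ' F s).symm.trans (Finset.prod_range_succ F s)
      rw [h0] at h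
      exact mul_right_cancel h
    have hPinv : ∀ i, τ₁ (P i) = (P i)⁻¹ := by
      intro i
      show τ₁ (∏ l ∈ Finset.range s, κ₁^[l] w ^ J ^ (i * (s - l))) = _
      rw [map_prod, ← Finset.prod_inv_distrib]
      refine Finset.prod_congr rfl fun l _ => ?_
      rw [map_pow, ← inv_pow]
      congr 1
      refine Subtype.ext ?_
      show τ ((κ₁^[l] w : ↥Z₁) : R) = (((κ₁^[l] w : ↥Z₁) : R))⁻¹
      rw [hκv]
      have : ∀ l, τ (κ^[l] z) = (κ^[l] z)⁻¹ := by
        intro l
        induction l with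
        | zero => exact hzi
        | succ l ih => rw [Function.iterate_succ_apply', ← H.comm, ih, map_inv]
      exact this l
    have hP1 : ∀ i ∈ Finset.range s, i ≠ 1 → P i = 1 := by
      intro i hi hi1
      rw [Finset.mem_range] at hi
      have he : κ (P i : R) = (P i : R) ^ J ^ i := congrArg Subtype.val (hPeig i)
      rcases Nat.lt_or_ge i 2 with h | h
      · obtain rfl : i = 0 := by omega
        rw [pow_zero, pow_one] at he
        have ht : τ (P 0 : R) = ((P 0 : R))⁻¹ := congrArg Subtype.val (hPinv 0)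
        rw [H.fixed' _ he] at ht
        exact Subtype.ext (eq_one_of_odd_sq (hodd _) (mul_eq_one_iff_eq_inv.2 ht))
      · exact Subtype.ext (H.weight i h hi _ he)
    have hsum : ∏ i ∈ Finset.range s, P i = w ^ s := by
      show ∏ i ∈ Finset.range s, ∏ l ∈ Finset.range s, κ₁^[l] w ^ J ^ (i * (s - l)) = _
      rw [Finset.prod_comm, Finset.prod_eq_single 0]
      · simp only [Nat.sub_zero, Function.iterate_zero, id_eq]
        rw [Finset.prod_congr rfl fun i _ => show w ^ J ^ (i * s) = w from by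
          rw [hpowJ w (Nat.modEq_zero_iff_dvd.2 (dvd_mul_left s i)), pow_zero, pow_one],
          Finset.prod_const, Finset.card_range]
      · intro l hl hl0
        rw [Finset.mem_range] at hl
        rw [Finset.prod_pow_eq_pow_sum]
        suffices h : ∑ i ∈ Finset.range s, J ^ (i * (s - l)) ≡ 0 [MOD r] by
          rw [pow_eq_pow_of_modEq h (hexp _), pow_zero]
        rw [← ZMod.natCast_eq_natCast_iff]
        push_cast
        simp only [mul_comm _ (s - l), pow_mul]
        have hne : ((J : ZMod r) ^ (s - l)) ≠ 1 := by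
          intro e
          have h1 : orderOf (J : ZMod r) ∣ s := orderOf_dvd_of_pow_eq_one (by
            rw [← Nat.cast_pow, ← Nat.cast_one, ZMod.natCast_eq_natCast_iff]; exact hJs)
          rcases (Nat.dvd_prime H.prime).1 h1 with h | h
          · rw [orderOf_eq_one_iff] at h
            exact hJ ((ZMod.natCast_eq_natCast_iff _ _ _).1 (by rw [h, Nat.cast_one]))
          · have := Nat.le_of_dvd (by omega) (h ▸ orderOf_dvd_of_pow_eq_one e)
            omega
        refine eq_zero_of_ne_zero_of_mul_left_eq_zero (sub_ne_zero.2 hne) ?_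
        rw [mul_geom_sum, ← pow_mul, mul_comm, pow_mul, ← Nat.cast_pow,
          show ((J ^ s : ℕ) : ZMod r) = ((1 : ℕ) : ZMod r) from (ZMod.natCast_eq_natCast_iff _ _ _).2 hJs,
          Nat.cast_one, one_pow, sub_self]
      · intro h
        exact absurd (Finset.mem_range.2 H.prime.pos) h
    rw [Finset.prod_eq_single 1 (fun i hi h => hP1 i hi h)
      (fun h => absurd (Finset.mem_range.2 H.prime.one_lt) h)] at hsum
    have h1 := hPeig 1
    rw [hsum, pow_one, map_pow] at h1
    have hp : (Nat.card ↥Z₁).Coprime s := by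
      obtain ⟨k, hk⟩ := (H.pgroup.to_subgroup Z₁).exists_card_eq
      rw [hk]
      exact ((hr.out.coprime_iff_not_dvd).2 hrs').pow_left k
    have h2 : κ₁ w = w ^ J := (powCoprime hp).injective (by
      show κ₁ w ^ s = (w ^ J) ^ s
      rw [h1, pow_right_comm])
    exact congrArg Subtype.val h2
  -- the subgroup to factor by
  obtain ⟨Z, hZ1, hZτ, hZle, hZkind⟩ : ∃ Z : Subgroup R, Z ≠ ⊥ ∧ (∀ z ∈ Z, τ z ∈ Z ∧ κ z ∈ Z) ∧ Z ≤ Z₁ ∧
      ((∀ z ∈ Z, τ z = z⁻¹) ∨ ∀ z ∈ Z, τ z = z) := by
    by_cases hm : ∃ z ∈ Z₁, τ z = z⁻¹ ∧ z ≠ 1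
    · let Zm : Subgroup R :=
        { carrier := {z | z ∈ Z₁ ∧ τ z = z⁻¹}
          one_mem' := ⟨one_mem _, by simp⟩
          mul_mem' := fun {a b} ha hb => ⟨mul_mem ha.1 hb.1, by
            rw [map_mul, ha.2, hb.2, mul_inv_rev, (ha.1.1 b⁻¹).inv_left.eq]⟩
          inv_mem' := fun {a} ha => ⟨inv_mem ha.1, by rw [map_inv, ha.2]⟩ }
      obtain ⟨z, hz, hzi, hz1⟩ := hm
      refine ⟨Zm, fun e => hz1 ?_, fun z hz => ⟨⟨hinv₁ τ z hz.1, by rw [H.two, hz.2, inv_inv]⟩,
        hinv₁ κ z hz.1, by rw [← H.comm, hz.2, map_inv]⟩, fun z hz => hz.1, Or.inl fun z hz => hz.2⟩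
      have h1 : z ∈ Zm := ⟨hz, hzi⟩
      rwa [e, mem_bot] at h1
    · push Not at hm
      refine ⟨Z₁, fun e => hz₁1 (by rwa [e, mem_bot] at hz₁), fun z hz => ⟨hinv₁ τ z hz, hinv₁ κ z hz⟩, le_rfl,
        Or.inr fun z hz => ?_⟩
      have h1 : z * (τ z)⁻¹ ∈ Z₁ := mul_mem hz (inv_mem (hinv₁ τ z hz))
      have h2 := hm _ h1 (by rw [map_mul, map_inv, H.two, mul_inv_rev, inv_inv])
      exact (mul_inv_eq_one.1 h2).symm
  haveI : Z.Normal := ⟨fun z hz g => by
    rw [← ((hZle hz).1 g).eq, mul_inv_cancel_right]; exact hz⟩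
  set f := QuotientGroup.mk' Z
  set τq := quotAut Z τ fun z hz => (hZτ z hz).1 with hτq
  set κq := quotAut Z κ fun z hz => (hZτ z hz).2 with hκq
  have hlt : Nat.card (R ⧸ Z) < Nat.card R := by
    haveI : Nontrivial ↥Z := (nontrivial_iff_ne_bot Z).2 hZ1
    rw [card_eq_card_quotient_mul_card_subgroup Z]
    exact lt_mul_of_one_lt_right Nat.card_pos Finite.one_lt_card
  have hcen : ∀ z ∈ Z, ∀ u, Commute z u := fun z hz => (hZle hz).1
  have h2 : ¬ r ∣ 2 := fun h => hr2 ((Nat.prime_dvd_prime_iff_eq hr.out Nat.prime_two).1 h)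
  have Hq : Scalars τq κq r s J := by
    refine ⟨H.pgroup.to_quotient _, H.prime, ?_, ?_, ?_, ?_, ?_, ?_, ?_⟩
    · intro q
      obtain ⟨v, rfl⟩ := QuotientGroup.mk'_surjective Z q
      rw [hτq, quotAut_mk, quotAut_mk, H.two]
    · intro q
      obtain ⟨v, rfl⟩ := QuotientGroup.mk'_surjective Z q
      have hi : ∀ i, κq^[i] (f v) = f (κ^[i] v) := by
        intro i
        induction i with
        | zero => rfl
        | succ i ih => rw [Function.iterate_succ_apply', Function.iterate_succ_apply', ih, hκq, quotAut_mk]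
      rw [hi, H.pow]
    · intro q
      obtain ⟨v, rfl⟩ := QuotientGroup.mk'_surjective Z q
      simp only [hτq, hκq, quotAut_mk, H.comm]
    · intro q
      obtain ⟨v, rfl⟩ := QuotientGroup.mk'_surjective Z q
      rw [← map_pow, H.jpow]
    · intro q hq
      obtain ⟨v, rfl⟩ := QuotientGroup.mk'_surjective Z q
      rw [hτq, quotAut_mk] at hq
      obtain ⟨w, hw, hwt⟩ := exists_eigen_lift H.pgroup τ (n := 2) (fun u => H.two u) h2 (c := 1) (c' := 1)
        (fun u => by simp) (fun u => by simp) Z hcen (fun z hz => (hZτ z hz).1) (u := v) (by rw [pow_one, hq])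
      rw [pow_one] at hwt
      rw [← hw, hκq, quotAut_mk, H.fixed w hwt]
    · intro q hq
      obtain ⟨v, rfl⟩ := QuotientGroup.mk'_surjective Z q
      rw [hκq, quotAut_mk] at hq
      obtain ⟨w, hw, hwt⟩ := exists_eigen_lift H.pgroup κ (n := s) H.pow hrs' (c := 1) (c' := 1)
        (fun u => by simp) (fun u => by simp) Z hcen (fun z hz => (hZτ z hz).2) (u := v) (by rw [pow_one, hq])
      rw [pow_one] at hwt
      rw [← hw, hτq, quotAut_mk, H.fixed' w hwt]
    · intro i hi his q hq
      obtain ⟨v, rfl⟩ := QuotientGroup.mk'_surjective Z q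
      rw [hκq, quotAut_mk] at hq
      obtain ⟨w, hw, hwc⟩ := exists_eigen_lift H.pgroup κ (n := s) H.pow hrs' (c := J ^ i) (c' := J ^ (s - i))
        (fun u => by rw [← pow_add, Nat.sub_add_cancel his.le, H.jpow])
        (fun u => by
          rw [← pow_mul]
          have : ∀ m, u ^ J ^ (s * m) = u := by
            intro m
            induction m with
            | zero => simp
            | succ m ih => rw [Nat.mul_succ, pow_add, pow_mul u, ih, H.jpow]
          rw [mul_comm, this])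
        Z hcen (fun z hz => (hZτ z hz).2) (u := v) hq
      rw [← hw, H.weight i hi his w hwc, map_one]
  have IH := ih _ hlt Hq rfl
  intro a b ha hb
  obtain ⟨hκa, -⟩ := IH (f a) (f a) (by rw [hτq, quotAut_mk, ha, map_inv]) (by rw [hτq, quotAut_mk, ha, map_inv])
  obtain ⟨-, hcab⟩ := IH (f a) (f b) (by rw [hτq, quotAut_mk, ha, map_inv]) (by rw [hτq, quotAut_mk, hb, map_inv])
  set ε := (a ^ J)⁻¹ * κ a with hεdef
  have hεZ : ε ∈ Z := by
    rw [← QuotientGroup.eq_one_iff, ← QuotientGroup.mk'_apply, map_mul, map_inv, map_pow]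
    rw [hκq, quotAut_mk] at hκa
    rw [hκa, inv_mul_cancel]
  have hκaε : κ a = a ^ J * ε := by rw [hεdef, mul_inv_cancel_left]
  rcases hZkind with hZm | hZp
  · -- `Z` inverted: every element over the inverted part is inverted
    have hlift : ∀ u, f (τ u) = (f u)⁻¹ → τ u = u⁻¹ := by
      intro u hu
      set d := u * τ u with hd
      have hdZ : d ∈ Z := by
        rw [← QuotientGroup.eq_one_iff, ← QuotientGroup.mk'_apply, map_mul, hu, mul_inv_cancel]
      have hτd : τ d = d⁻¹ := hZm d hdZ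
      have hd' : τ d = d := by
        rw [hd, map_mul, H.two]
        have := (hcen d hdZ u).eq
        calc τ u * u = u⁻¹ * (u * τ u * u) := by group
          _ = u⁻¹ * (u * (u * τ u)) := by rw [← hd, this]
          _ = u * τ u := by group
      rw [hd'] at hτd
      have hd1 : d = 1 := eq_one_of_odd_sq (hodd d) (mul_eq_one_iff_eq_inv.2 hτd)
      exact eq_inv_of_mul_eq_one_right hd1
    have hab : Commute a b := by
      have h1 : τ (a * b) = (a * b)⁻¹ := hlift _ (by
        rw [map_mul, ha, hb, map_mul, map_inv, map_inv, map_mul, mul_inv_rev, (hcab.inv_inv).eq])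
      rw [map_mul, ha, hb, mul_inv_rev] at h1
      exact Commute.inv_inv_iff.1 h1
    refine ⟨?_, hab⟩
    have hεJ : κ ε = ε ^ J := hlin ε (hZle hεZ) (hZm ε hεZ)
    have haε : Commute a ε := (hcen ε hεZ a).symm
    have hit : ∀ i : ℕ, ∃ e : ℕ, κ^[i] a = a ^ J ^ i * ε ^ e ∧ e * J ≡ i * J ^ i [MOD r] := by
      intro i
      induction i with
      | zero => exact ⟨0, by simp, by simp [Nat.ModEq.refl]⟩
      | succ i ih =>
        obtain ⟨e, he, hee⟩ := ih
        refine ⟨J ^ i + J * e, ?_, ?_⟩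
        · rw [Function.iterate_succ_apply', he, map_mul, map_pow, map_pow, hκaε, hεJ, (haε.pow_left J).mul_pow,
            mul_assoc, ← pow_mul ε, ← pow_add, ← pow_mul, pow_succ']
        · rw [Nat.add_mul, Nat.succ_mul, ← pow_succ, add_comm (J ^ (i + 1))]
          refine Nat.ModEq.add_right _ ?_
          rw [show J * e * J = J * (e * J) by ring, show i * J ^ (i + 1) = J * (i * J ^ i) by ring]
          exact hee.mul_left J
    obtain ⟨e, he, hee⟩ := hit s
    rw [H.pow, H.jpow] at he
    have hεe : ε ^ e = 1 := left_eq_mul.1 he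
    have h1 : ε ^ (s * J ^ s) = 1 := by
      rw [← pow_eq_pow_of_modEq hee (hZle hεZ).2, pow_mul, hεe, one_pow]
    rw [pow_eq_pow_of_modEq (hJs.mul_left s) (hZle hεZ).2, mul_one] at h1
    have hε1 : ε = 1 := by
      refine orderOf_eq_one_iff.1 ((Nat.dvd_prime hr.out).1 (orderOf_dvd_of_pow_eq_one (hZle hεZ).2) |>.resolve_right
        fun e' => hrs' (e' ▸ orderOf_dvd_of_pow_eq_one h1))
    rw [hκaε, hε1, mul_one]
  · -- `Z` fixed
    have hε1 : ε = 1 := by
      have h1 : τ (κ a) = (κ a)⁻¹ := by rw [← H.comm, ha, map_inv]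
      rw [hκaε, map_mul, map_pow, ha, hZp ε hεZ, mul_inv_rev, inv_pow, (hcen ε hεZ _).inv_left.eq] at h1
      exact eq_one_of_odd_sq (hodd ε) (mul_eq_one_iff_eq_inv.2 (mul_left_cancel h1))
    have hka : ∀ c, τ c = c⁻¹ → κ c = c ^ J := by
      intro c hc
      obtain ⟨hκc, -⟩ := IH (f c) (f c) (by rw [hτq, quotAut_mk, hc, map_inv]) (by rw [hτq, quotAut_mk, hc, map_inv])
      rw [hκq, quotAut_mk] at hκc
      set δ := (c ^ J)⁻¹ * κ c with hδdef
      have hδZ : δ ∈ Z := by
        rw [← QuotientGroup.eq_one_iff, ← QuotientGroup.mk'_apply, map_mul, map_inv, map_pow, hκc, inv_mul_cancel]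
      have hκc' : κ c = c ^ J * δ := by rw [hδdef, mul_inv_cancel_left]
      have h1 : τ (κ c) = (κ c)⁻¹ := by rw [← H.comm, hc, map_inv]
      rw [hκc', map_mul, map_pow, hc, hZp δ hδZ, mul_inv_rev, inv_pow, (hcen δ hδZ _).inv_left.eq] at h1
      rw [hκc', eq_one_of_odd_sq (hodd δ) (mul_eq_one_iff_eq_inv.2 (mul_left_cancel h1)), mul_one]
    refine ⟨hka a ha, ?_⟩
    set z := a * b * a⁻¹ * b⁻¹ with hz
    have hzZ : z ∈ Z := by
      rw [← QuotientGroup.eq_one_iff, ← QuotientGroup.mk'_apply]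
      simp only [hz, map_mul, map_inv]
      rw [hcab.eq, mul_inv_cancel_right, mul_inv_cancel]
    have hκz : κ z = z := H.fixed z (hZp z hzZ)
    -- the commutator of powers
    have hconj : ∀ i, a * b ^ i * a⁻¹ = z ^ i * b ^ i := fun i => by
      rw [← conj_pow, show a * b * a⁻¹ = z * b by rw [hz, inv_mul_cancel_right], (hcen z hzZ b).mul_pow]
    have hpow : ∀ i j, a ^ i * b ^ j * (a ^ i)⁻¹ = z ^ (i * j) * b ^ j := by
      intro i
      induction i with
      | zero => intro j; simp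
      | succ i ih =>
        intro j
        calc a ^ (i + 1) * b ^ j * (a ^ (i + 1))⁻¹ = a ^ i * (a * b ^ j * a⁻¹) * (a ^ i)⁻¹ := by
              rw [pow_succ]; group
          _ = a ^ i * z ^ j * (a ^ i)⁻¹ * (a ^ i * b ^ j * (a ^ i)⁻¹) := by rw [hconj]; group
          _ = z ^ ((i + 1) * j) * b ^ j := by
            rw [ih, ← ((hcen z hzZ (a ^ i)).pow_left j).eq, mul_inv_cancel_right, ← mul_assoc, ← pow_add]
            congr 2; ring
    have h1 : z ^ (J * J) = z := by
      conv_rhs => rw [← hκz, hz, map_mul, map_mul, map_mul, map_inv, map_inv, hka a ha, hka b hb, hpow,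
        mul_inv_cancel_right]
    have hz1 : z = 1 := by
      by_contra hne
      have ho : orderOf z = r := orderOf_eq_prime (hZle hzZ).2 hne
      exact hJ2 (ho ▸ pow_eq_pow_iff_modEq.1 (h1.trans (pow_one z).symm))
    exact mul_inv_eq_iff_eq_mul.1 (mul_inv_eq_one.1 hz1)

end Structure

end Cfsg.Agent.Walter.Field.Other
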