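import Cfsg.Agent.Lib.Walter.Field.OtherData
import Cfsg.Agent.Lib.Walter.Field.OtherHom
import Cfsg.Agent.Lib.Walter.Field.OtherWeights
import Cfsg.Agent.Lib.Coprime.Sylow
import Cfsg.Agent.Lib.Cores.Nilpotent
import Cfsg.Agent.Solvable.Fitting

/-!
# The field part, `r` not the characteristic: from the data to the transfer

A largest `r`-group over `P₁` normalised by `t` and `l` is a Sylow subgroup of `G`.
-/

set_option autoImplicit false
set_option linter.unusedSectionVars false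
set_option linter.style.haveILetI false

namespace Cfsg.Agent.Walter.Field.Other

open Subgroup

universe u

variable {G : Type u} [Group G] [Finite G] {t x l : G} {r s J : ℕ} {P₁ : Subgroup G}
  {Λ : Type u} [CommGroup Λ] {lam : ↥(centralizer ({t} : Set G)) →* Λ}

/-- The invariant `r`-groups over `P₁` and `x`. -/
structure Fam (t x l : G) (r : ℕ) (P₁ R : Subgroup G) : Prop where
  pgroup : IsPGroup r ↥R
  le : P₁ ≤ R
  x_mem : x ∈ R
  t_norm : t ∈ normalizer (R : Set G)
  l_norm : l ∈ normalizer (R : Set G)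

section Basics

variable (D : OData t x l r s J P₁ lam)
include D

theorem OData.r_ne_two : r ≠ 2 := by
  rintro rfl
  exact D.s_prime.ne_one (Nat.dvd_one.1 D.s_dvd)

theorem OData.r_ne_s : r ≠ s := by
  intro h
  have h1 := Nat.le_of_dvd (by have := D.r_prime.two_le; omega) D.s_dvd
  have := D.r_prime.two_le
  omega

theorem OData.tt : t * t = 1 := by rw [← pow_two, ← D.ht, pow_orderOf_eq_one]

theorem OData.jpow {u : G} (hu : ∃ k : ℕ, u ^ r ^ k = 1) : u ^ J ^ s = u := by
  obtain ⟨k, hk⟩ := hu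
  obtain ⟨i, -, hi⟩ := (Nat.dvd_prime_pow D.r_prime).1 (orderOf_dvd_of_pow_eq_one hk)
  have h1 : orderOf u ∣ r ^ (Nat.card G).factorization r := by
    rw [hi]
    exact pow_dvd_pow r ((D.r_prime.pow_dvd_iff_le_factorization Nat.card_pos.ne').1 (hi ▸ orderOf_dvd_natCard u))
  conv_rhs => rw [← pow_one u]
  exact pow_eq_pow_iff_modEq.2 (D.J_pow.of_dvd h1)

theorem OData.J_pow_r : J ^ s ≡ 1 [MOD r] := by
  refine D.J_pow.of_dvd (dvd_pow_self r ?_)
  have h : r ∣ Nat.card G := D.x_ord ▸ orderOf_dvd_natCard x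
  exact (D.r_prime.factorization_pos_of_dvd Nat.card_pos.ne' h).ne'

theorem OData.orderOf_J : orderOf (J : ZMod r) = s := by
  haveI : Fact s.Prime := ⟨D.s_prime⟩
  refine orderOf_eq_prime ?_ fun h => D.J_ne ?_
  · rw [← Nat.cast_pow, ← Nat.cast_one, ZMod.natCast_eq_natCast_iff]; exact D.J_pow_r
  · rwa [← Nat.cast_one, ZMod.natCast_eq_natCast_iff] at h

theorem OData.J_pow_ne {i : ℕ} (h0 : 0 < i) (hi : i < s) : ¬ J ^ i ≡ 1 [MOD r] := by
  intro h
  rw [← ZMod.natCast_eq_natCast_iff, Nat.cast_pow, Nat.cast_one, ← orderOf_dvd_iff_pow_eq_one, D.orderOf_J] at h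
  exact absurd (Nat.le_of_dvd h0 h) (by omega)

theorem OData.J_sq : ¬ J * J ≡ 1 [MOD r] := by
  rw [← pow_two]
  refine D.J_pow_ne two_pos (lt_of_le_of_ne D.s_prime.two_le fun h => ?_)
  exact absurd D.s_odd (h ▸ by decide)

/-- An element with two different powers of coprime difference is trivial. -/
theorem OData.eq_one_of_pow {u : G} (hu : ∃ k : ℕ, u ^ r ^ k = 1) {a b : ℕ} (hab : u ^ a = u ^ b)
    (hne : ¬ a ≡ b [MOD r]) : u = 1 := by
  obtain ⟨k, hk⟩ := hu
  obtain ⟨i, -, hi⟩ := (Nat.dvd_prime_pow D.r_prime).1 (orderOf_dvd_of_pow_eq_one hk)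
  rcases i with _ | i
  · exact orderOf_eq_one_iff.1 (by rw [hi, pow_zero])
  · exact absurd ((pow_eq_pow_iff_modEq.1 hab).of_dvd (hi ▸ dvd_pow_self r (Nat.succ_ne_zero i))) hne

/-- The Sylow 2-subgroups are elementary. -/
theorem OData.sq {w : G} (h : ∃ i : ℕ, w ^ 2 ^ i = 1) : w * w = 1 := by
  haveI : Fact (Nat.Prime 2) := ⟨Nat.prime_two⟩
  obtain ⟨i, hi⟩ := h
  obtain ⟨j, -, hj⟩ := (Nat.dvd_prime_pow Nat.prime_two).1 (orderOf_dvd_of_pow_eq_one hi)
  obtain ⟨S, hS⟩ := (IsPGroup.of_card (p := 2) (n := j) (G := zpowers w) (by rw [Nat.card_zpowers, hj])).exists_le_sylow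
  exact D.sylow_sq S w (hS (mem_zpowers w))

/-- An inverted `r`-element commutes with no second involution of `C(t)`. -/
theorem OData.four {w : G} (hw : orderOf w = 2) (hwt : Commute w t) {a : G}
    (ha : IsPGroup r ↥(zpowers a)) (haw : Commute a w) (hai : Inv t a) : a = 1 := by
  obtain ⟨c, hc⟩ := isConj_iff.1 (D.fused w hw)
  set f : G →* G := (MulAut.conj c⁻¹).toMonoidHom
  have hinj : Function.Injective f := (MulAut.conj c⁻¹).injective
  have hft : f w = t := by
    show c⁻¹ * w * c⁻¹⁻¹ = t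
    rw [← hc]; group
  have h1 : Commute (f t) t := hft ▸ hwt.symm.map f
  have h2 : Commute (f a) t := hft ▸ haw.map f
  obtain ⟨k, hk⟩ := ha ⟨a, mem_zpowers a⟩
  have hk' : a ^ r ^ k = 1 := congrArg Subtype.val hk
  set T : ↥(centralizer ({t} : Set G)) := ⟨f t, mem_centralizer_singleton_iff.2 h1.eq⟩
  set A : ↥(centralizer ({t} : Set G)) := ⟨f a, mem_centralizer_singleton_iff.2 h2.eq⟩
  have hA : A ^ r ^ k = 1 := Subtype.ext (by
    show f a ^ r ^ k = 1
    rw [← map_pow, hk', map_one])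
  have h3 : T * A * T⁻¹ = A⁻¹ := Subtype.ext (show f t * f a * (f t)⁻¹ = (f a)⁻¹ from hai.map f)
  have h4 := congrArg lam h3
  rw [map_mul, map_mul, map_inv, map_inv, mul_inv_cancel_comm] at h4
  have h5 : lam A = 1 := eq_one_of_odd_sq
    (((D.r_prime.odd_of_ne_two D.r_ne_two).pow (n := k)).of_dvd_nat
      (orderOf_dvd_of_pow_eq_one (by rw [← map_pow, hA, map_one])))
    (by nth_rw 2 [h4]; exact mul_inv_cancel _)
  have h6 : f a = 1 := congrArg Subtype.val (D.lam_inj A ⟨k, hA⟩ h5)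
  exact hinj (h6.trans (map_one f).symm)

end Basics

section Struct

variable (D : OData t x l r s J P₁ lam)
include D

theorem Fam.rpow {R : Subgroup G} (hR : Fam t x l r P₁ R) {u : G} (hu : u ∈ R) : ∃ k : ℕ, u ^ r ^ k = 1 := by
  obtain ⟨k, hk⟩ := hR.pgroup ⟨u, hu⟩
  exact ⟨k, congrArg Subtype.val hk⟩

theorem Fam.odd {R : Subgroup G} (hR : Fam t x l r P₁ R) : Odd (Nat.card ↥R) := by
  haveI : Fact r.Prime := ⟨D.r_prime⟩
  obtain ⟨i, hi⟩ := hR.pgroup.exists_card_eq
  rw [hi]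
  exact (D.r_prime.odd_of_ne_two D.r_ne_two).pow

theorem Fam.fixed_l {R : Subgroup G} (hR : Fam t x l r P₁ R) {u : G} (hu : u ∈ R) (hut : Commute u t) :
    Commute l u := by
  set U : ↥(centralizer ({t} : Set G)) := ⟨u, mem_centralizer_singleton_iff.2 hut.eq⟩
  set L : ↥(centralizer ({t} : Set G)) := ⟨l, mem_centralizer_singleton_iff.2 D.l_t.eq⟩
  have hm : l * u * l⁻¹ * u⁻¹ ∈ R := mul_mem ((mem_normalizer_iff.1 hR.l_norm u).1 hu) (inv_mem hu)
  obtain ⟨k, hk⟩ := hR.rpow D hm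
  have h1 : L * U * L⁻¹ * U⁻¹ = 1 := D.lam_inj _ ⟨k, Subtype.ext hk⟩ (by
    simp only [map_mul, map_inv, mul_inv_cancel_comm, mul_inv_cancel])
  exact mul_inv_eq_iff_eq_mul.1 (mul_inv_eq_one.1 (congrArg Subtype.val h1 : l * u * l⁻¹ * u⁻¹ = 1))

/-- The structure of an invariant `r`-group over `P₁`. -/
theorem Fam.struct {R : Subgroup G} (hR : Fam t x l r P₁ R) {a b : G} (ha : a ∈ R) (hb : b ∈ R)
    (hai : Inv t a) (hbi : Inv t b) : l * a * l⁻¹ = a ^ J ∧ Commute a b := by
  classical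
  haveI : Fact r.Prime := ⟨D.r_prime⟩
  haveI : Fact s.Prime := ⟨D.s_prime⟩
  have htR : ∀ u ∈ R, t * u * t⁻¹ ∈ R := fun u hu => (mem_normalizer_iff.1 hR.t_norm u).1 hu
  have hlR : ∀ u ∈ R, l * u * l⁻¹ ∈ R := fun u hu => (mem_normalizer_iff.1 hR.l_norm u).1 hu
  have hodd := hR.odd D
  have ht' : t⁻¹ = t := inv_eq_of_mul_eq_one_right D.tt
  -- the centraliser of `x` in `R`
  set S := R ⊓ centralizer ({x} : Set G) with hS
  have hxS : ∀ g : G, g ∈ normalizer (R : Set G) → Commute g x → g ∈ normalizer (S : Set G) := fun g hg hgx => by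
    refine Subgroup.mem_normalizer_fintype fun u hu => ⟨(mem_normalizer_iff.1 hg u).1 hu.1, ?_⟩
    exact mem_centralizer_singleton_iff.2
      ((hgx.mul_left (mem_centralizer_singleton_iff.1 hu.2 : Commute u x)).mul_left hgx.inv_left).eq
  have hSfam : Fam t x l r P₁ S := ⟨hR.pgroup.to_le inf_le_left, le_inf hR.le D.P_le,
    ⟨hR.x_mem, mem_centralizer_singleton_iff.2 rfl⟩, hxS t hR.t_norm D.x_t.symm, hxS l hR.l_norm D.l_x⟩
  have hinv := D.inverted S hSfam.pgroup inf_le_right hSfam.x_mem hSfam.le hSfam.t_norm hSfam.l_norm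
  have hSodd := hSfam.odd D
  have htS : ∀ u ∈ S, t * u * t⁻¹ ∈ S := fun u hu => (mem_normalizer_iff.1 hSfam.t_norm u).1 hu
  -- the automorphisms
  set τ : ↥R ≃* ↥R :=
    { toFun := fun u => ⟨t * u * t⁻¹, htR u u.2⟩
      invFun := fun u => ⟨t * u * t⁻¹, htR u u.2⟩
      left_inv := fun u => Subtype.ext (by
        show t * (t * (u : G) * t⁻¹) * t⁻¹ = u
        rw [ht', ← mul_assoc, ← mul_assoc, D.tt, one_mul, mul_assoc, D.tt, mul_one])
      right_inv := fun u => Subtype.ext (by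
        show t * (t * (u : G) * t⁻¹) * t⁻¹ = u
        rw [ht', ← mul_assoc, ← mul_assoc, D.tt, one_mul, mul_assoc, D.tt, mul_one])
      map_mul' := fun u v => Subtype.ext (by
        show t * ((u : G) * v) * t⁻¹ = t * u * t⁻¹ * (t * v * t⁻¹)
        group) }
  set κ : ↥R ≃* ↥R :=
    { toFun := fun u => ⟨l * u * l⁻¹, hlR u u.2⟩
      invFun := fun u => ⟨l⁻¹ * u * l, (mem_normalizer_iff''.1 hR.l_norm u).1 u.2⟩
      left_inv := fun u => Subtype.ext (by show l⁻¹ * (l * (u : G) * l⁻¹) * l = u; group)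
      right_inv := fun u => Subtype.ext (by show l * (l⁻¹ * (u : G) * l) * l⁻¹ = u; group)
      map_mul' := fun u v => Subtype.ext (by
        show l * ((u : G) * v) * l⁻¹ = l * u * l⁻¹ * (l * v * l⁻¹)
        group) }
  have hτ : ∀ u : ↥R, ((τ u : ↥R) : G) = t * u * t⁻¹ := fun u => rfl
  have hκ : ∀ u : ↥R, ((κ u : ↥R) : G) = l * u * l⁻¹ := fun u => rfl
  have hκτ : ∀ u, κ (τ u) = τ (κ u) := fun u => Subtype.ext (by
    rw [hκ, hτ, hτ, hκ]
    calc l * (t * (u : G) * t⁻¹) * l⁻¹ = (l * t) * u * (l * t)⁻¹ := by group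
      _ = (t * l) * u * (t * l)⁻¹ := by rw [D.l_t.eq]
      _ = t * (l * (u : G) * l⁻¹) * t⁻¹ := by group)
  have hκs : ∀ u, κ^[s] u = u := by
    intro u
    have hi : ∀ i : ℕ, ((κ^[i] u : ↥R) : G) = l ^ i * u * (l ^ i)⁻¹ := by
      intro i
      induction i with
      | zero => simp
      | succ i ih => rw [Function.iterate_succ_apply', hκ, ih, pow_succ']; group
    refine Subtype.ext ?_
    rw [hi, ← D.l_ord, pow_orderOf_eq_one]
    simp
  -- elements fixed by `l` are fixed by `t`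
  set n := Nat.card ↥R with hn
  have hn1 : 1 ≤ n := Nat.card_pos
  have hcc : ∀ u : ↥R, u ^ ((n - 1) * (n - 1)) = u := fun u => by
    conv_rhs => rw [← pow_one u]
    refine pow_eq_pow_iff_modEq.2 (Nat.ModEq.of_dvd (orderOf_dvd_natCard u) ?_)
    rw [← ZMod.natCast_eq_natCast_iff, Nat.cast_mul, Nat.cast_sub hn1, ← hn, ZMod.natCast_self]
    simp
  have hm1 : ∀ u : ↥R, u ^ (n - 1) = u⁻¹ := fun u => eq_inv_of_mul_eq_one_left (by
    rw [← pow_succ, Nat.sub_add_cancel hn1, hn, pow_card_eq_one'])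
  set α := κ.trans τ with hα
  have hαi : ∀ (i : ℕ) (u : ↥R), α^[i] u = τ^[i] (κ^[i] u) := by
    intro i
    induction i with
    | zero => intro u; rfl
    | succ i ih =>
      intro u
      rw [Function.iterate_succ_apply, ih, Function.iterate_succ_apply, Function.iterate_succ_apply, hα,
        MulEquiv.trans_apply]
      congr 1
      have hc : ∀ (i : ℕ) (v : ↥R), κ^[i] (τ v) = τ (κ^[i] v) := by
        intro i
        induction i with
        | zero => intro v; rfl
        | succ i ih => intro v; rw [Function.iterate_succ_apply, hκτ, ih, Function.iterate_succ_apply]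
      exact hc i _
  have hα2s : ∀ u, α^[2 * s] u = u := by
    intro u
    rw [hαi, Function.iterate_mul τ 2 s, show (⇑τ)^[2] = id from funext τ.left_inv, Function.iterate_id, id_eq, mul_comm,
      Function.iterate_mul κ s 2, show (⇑κ)^[s] = id from funext hκs, Function.iterate_id, id_eq]
  have hrpow : ∀ {u : G}, u ∈ R → ∃ k : ℕ, u ^ r ^ k = 1 := hR.rpow D
  have hr2s : ¬ r ∣ 2 * s := fun h => (D.r_prime.dvd_mul.1 h).elim
    (fun h => D.r_ne_two ((Nat.prime_dvd_prime_iff_eq D.r_prime Nat.prime_two).1 h))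
    (fun h => D.r_ne_s ((Nat.prime_dvd_prime_iff_eq D.r_prime D.s_prime).1 h))
  have hrs : ¬ r ∣ s := fun h => hr2s (h.mul_left 2)
  -- splitting inside `C(x)`
  have hsplit : ∀ u : ↥R, Commute (u : G) x → ∃ a ∈ S, ∃ c ∈ S, Inv t a ∧ Commute t c ∧ Commute l c ∧
      (u : G) = a * c ∧ l * a * l⁻¹ = a ^ J := by
    intro u hux
    obtain ⟨a, ha, c, hc, hai, hct, he⟩ := exists_inv_mul D.tt hSodd htS (g := (u : G))
      ⟨u.2, mem_centralizer_singleton_iff.2 hux.eq⟩
    exact ⟨a, ha, c, hc, hai, hct, hSfam.fixed_l D hc hct.symm, he, (hinv a ha hai).1⟩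
  have hfixed' : ∀ u, κ u = u → τ u = u := by
    intro u hu
    obtain ⟨a, ha, c, hc, hai, hct, he⟩ := exists_inv_mul D.tt hodd htR u.2
    have hlc := hR.fixed_l D hc hct.symm
    have hla : l * a * l⁻¹ = a := by
      have h : l * (u : G) * l⁻¹ = u := congrArg Subtype.val hu
      rw [he, show l * (a * c) * l⁻¹ = l * a * l⁻¹ * (l * c * l⁻¹) by group, hlc.eq, mul_inv_cancel_right] at h
      exact mul_right_cancel h
    have h1 := eigen_trivial hR.pgroup α ⟨x, hR.x_mem⟩ (Subtype.ext (by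
        show t * (l * x * l⁻¹) * t⁻¹ = x
        rw [D.l_x.eq, mul_inv_cancel_right, D.x_t.symm.eq, mul_inv_cancel_right]))
      hα2s hr2s hcc (fun u => by
        have h2 : ∀ i, u ^ (n - 1) ^ (2 * i) = u := by
          intro i
          induction i with
          | zero => simp
          | succ i ih => rw [Nat.mul_succ, pow_add, pow_two (n - 1), pow_mul u, ih, hcc]
        exact h2 s)
      (fun v hv hvx => by
        obtain ⟨b, hb, d, hd, hbi, hdt, hld, he, hlb⟩ := hsplit v (congrArg Subtype.val hvx.eq)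
        have hv' : t * (l * (v : G) * l⁻¹) * t⁻¹ = (v : G)⁻¹ := by
          rw [hm1] at hv
          exact congrArg Subtype.val hv
        rw [he, show t * (l * (b * d) * l⁻¹) * t⁻¹ = t * (l * b * l⁻¹) * t⁻¹ * (t * (l * d * l⁻¹) * t⁻¹) by group,
          hlb, hld.eq, mul_inv_cancel_right, hdt.eq, mul_inv_cancel_right, show t * b ^ J * t⁻¹ = (b ^ J)⁻¹ from hbi.pow J] at hv'
        -- `b⁻ᴶ d = d⁻¹ b⁻¹`
        have hin : Inv t (d⁻¹ * b⁻¹ * d⁻¹⁻¹) := hbi.inv.conj hdt.symm.inv_left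
        have hmem : d⁻¹ * b⁻¹ * d⁻¹⁻¹ ∈ S := mul_mem (mul_mem (inv_mem hd) (inv_mem hb)) (inv_mem (inv_mem hd))
        have e1 : (b ^ J)⁻¹ = d⁻¹ * b⁻¹ * d⁻¹⁻¹ * (d⁻¹ * d⁻¹) := by
          rw [eq_mul_inv_iff_mul_eq.2 hv']; group
        have e2 := inv_mul_unique hSodd (inv_mem (pow_mem hb J)) hmem (hbi.pow J).inv hin
          (hdt.inv_right.mul_right hdt.inv_right) e1
        rw [← e2] at e1
        have hd1 : d = 1 := inv_eq_one.1 (eq_one_of_odd_sq (odd_orderOf hSodd (inv_mem hd)) (left_eq_mul.1 e1))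
        rw [hd1] at e2 he
        have hb1 : b = 1 := D.eq_one_of_pow (hrpow hb.1) (a := J) (b := 1)
          (by rw [pow_one]; simpa using e2) D.J_ne
        exact Subtype.ext (by rw [he, hb1, one_mul]; rfl))
      ⟨a, ha⟩ (by
        rw [hm1]
        refine Subtype.ext ?_
        show t * (l * a * l⁻¹) * t⁻¹ = a⁻¹
        rw [hla]; exact hai)
    have ha1 : a = 1 := congrArg Subtype.val h1
    refine Subtype.ext ?_
    rw [hτ, he, ha1, one_mul, hct.eq, mul_inv_cancel_right]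
  have hweight : ∀ i, 2 ≤ i → i < s → ∀ u, κ u = u ^ J ^ i → u = 1 := by
    intro i hi his
    refine eigen_trivial hR.pgroup κ ⟨x, hR.x_mem⟩
      (Subtype.ext (by show l * x * l⁻¹ = x; rw [D.l_x.eq, mul_inv_cancel_right])) hκs hrs
      (c := J ^ i) (c' := J ^ (s - i)) (fun u => Subtype.ext (by
        rw [← pow_add, Nat.sub_add_cancel his.le, SubmonoidClass.coe_pow, D.jpow (hrpow u.2)]))
      (fun u => Subtype.ext (by
        rw [SubmonoidClass.coe_pow, ← pow_mul]
        have h2 : ∀ m, (u : G) ^ J ^ (s * m) = u := by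
          intro m
          induction m with
          | zero => simp
          | succ m ih => rw [Nat.mul_succ, pow_add, pow_mul (u : G), ih, D.jpow (hrpow u.2)]
        rw [mul_comm, h2]))
      (fun v hv hvx => ?_)
    obtain ⟨b, hb, d, hd, hbi, hdt, hld, he, hlb⟩ := hsplit v (congrArg Subtype.val hvx.eq)
    have hv' : l * (v : G) * l⁻¹ = (v : G) ^ J ^ i := congrArg Subtype.val hv
    rw [he, show l * (b * d) * l⁻¹ = l * b * l⁻¹ * (l * d * l⁻¹) by group, hlb, hld.eq, mul_inv_cancel_right] at hv'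
    have hpow : ∀ m : ℕ, ∃ e ∈ S, Inv t e ∧ (b * d) ^ m = e * d ^ m := by
      intro m
      induction m with
      | zero => exact ⟨1, one_mem _, by show t * 1 * t⁻¹ = (1 : G)⁻¹; simp, by simp⟩
      | succ m ih =>
        obtain ⟨e, he, hei, hee⟩ := ih
        have hmem : d * e * d⁻¹ ∈ S := mul_mem (mul_mem hd he) (inv_mem hd)
        refine ⟨b * (d * e * d⁻¹), mul_mem hb hmem, ?_, ?_⟩
        · show t * (b * (d * e * d⁻¹)) * t⁻¹ = (b * (d * e * d⁻¹))⁻¹
          rw [show t * (b * (d * e * d⁻¹)) * t⁻¹ = t * b * t⁻¹ * (t * (d * e * d⁻¹) * t⁻¹) by group,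
            show t * b * t⁻¹ = b⁻¹ from hbi, show t * (d * e * d⁻¹) * t⁻¹ = (d * e * d⁻¹)⁻¹ from hei.conj hdt.symm,
            _root_.mul_inv_rev b, (((hinv b hb hbi).2 _ hmem (hei.conj hdt.symm)).inv_inv).eq]
        · rw [pow_succ', hee, pow_succ' d]; group
    obtain ⟨e, he', hei, hee⟩ := hpow (J ^ i)
    rw [hee] at hv'
    have e1 : b ^ J = e * (d ^ J ^ i * d⁻¹) := by
      rw [eq_mul_inv_iff_mul_eq.2 hv', mul_assoc]
    have e2 := inv_mul_unique hSodd (pow_mem hb J) he' (hbi.pow J) hei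
      ((hdt.pow_right _).mul_right hdt.inv_right) e1
    rw [← e2] at e1
    have hd1 : d = 1 := D.eq_one_of_pow (hrpow hd.1) (a := J ^ i) (b := 1)
      (by rw [pow_one]; exact mul_inv_eq_one.1 (left_eq_mul.1 e1)) (D.J_pow_ne (by omega) his)
    rw [hd1, mul_one, one_pow, mul_one] at hee
    rw [← e2] at hee
    have hb1 : b = 1 := D.eq_one_of_pow (hrpow hb.1) (a := J ^ i) (b := J) hee fun h => by
      refine D.J_pow_ne (i := i - 1) (by omega) (by omega) ?_
      have hc : (J : ZMod r) ^ (i - 1) * J = 1 * J := by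
        rw [← pow_succ, Nat.sub_add_cancel (by omega), one_mul, ← Nat.cast_pow, ZMod.natCast_eq_natCast_iff]
        exact h
      have hJ0 : (J : ZMod r) ≠ 0 := fun h0 => by
        have := D.orderOf_J
        rw [h0, orderOf_zero] at this
        exact D.s_prime.ne_zero this.symm
      rw [← ZMod.natCast_eq_natCast_iff, Nat.cast_pow, Nat.cast_one]
      exact mul_right_cancel₀ hJ0 hc
    exact Subtype.ext (by rw [he, hb1, hd1, one_mul]; rfl)
  have H : Scalars τ κ r s J := ⟨hR.pgroup, D.s_prime, τ.left_inv, hκs, hκτ,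
    fun u => Subtype.ext (by rw [SubmonoidClass.coe_pow, D.jpow (hrpow u.2)]),
    fun u hu => by
      have h : t * (u : G) * t⁻¹ = u := congrArg Subtype.val hu
      refine Subtype.ext ?_
      rw [hκ, (hR.fixed_l D u.2 (mul_inv_eq_iff_eq_mul.1 h).symm).eq, mul_inv_cancel_right],
    hfixed', hweight⟩
  obtain ⟨h1, h2⟩ := H.main D.r_ne_two D.r_ne_s D.J_ne D.J_sq D.J_pow_r ⟨a, ha⟩ ⟨b, hb⟩
    (Subtype.ext hai) (Subtype.ext hbi)
  exact ⟨congrArg Subtype.val h1, congrArg Subtype.val h2.eq⟩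

end Struct

section Largest

open scoped Pointwise

variable (D : OData t x l r s J P₁ lam)
include D

/-- In an invariant odd group over `R` where no element of order `s` is fixed by `t`, `R` has the
order of a Sylow subgroup. -/
theorem Fam.step {R : Subgroup G} (hR : Fam t x l r P₁ R)
    (hmax : ∀ R' : Subgroup G, Fam t x l r P₁ R' → Nat.card ↥R' ≤ Nat.card ↥R) {K : Subgroup G}
    (hKM : K ≤ normalizer (R : Set G)) (hKodd : Odd (Nat.card ↥K)) (hRK : R ≤ K)
    (hKt : t ∈ normalizer (K : Set G)) (hKl : l ∈ normalizer (K : Set G))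
    (hKs : ∀ c ∈ K, Commute c t → orderOf c = s → False) :
    ∀ P : Subgroup G, P ≤ K → IsPGroup r ↥P → Nat.card ↥P ≤ Nat.card ↥R := by
  classical
  haveI : Fact r.Prime := ⟨D.r_prime⟩
  haveI : Fact s.Prime := ⟨D.s_prime⟩
  have hA : zpowers t ≤ normalizer (K : Set G) := zpowers_le.2 hKt
  have hcop : (Nat.card ↥(zpowers t)).Coprime (Nat.card ↥K) := by
    rw [Nat.card_zpowers, D.ht]; exact Nat.coprime_two_left.2 hKodd
  have hsolv : Group.IsSolvable ↥(zpowers t) ∨ Group.IsSolvable ↥K := Or.inr (S0205.result hKodd)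
  obtain ⟨R₀, hR₀, hR₀t⟩ := Coprime.exists_invariant_sylow_ge hA hcop hsolv hRK hR.pgroup
    (zpowers_le.2 hR.t_norm)
  set Q := (R₀ : Subgroup ↥K).map K.subtype with hQ
  have hQK : Q ≤ K := map_subtype_le _
  have hQp : IsPGroup r ↥Q := R₀.2.map _
  have hQc : Nat.card ↥Q = Nat.card ↥(R₀ : Subgroup ↥K) := card_subtype K _
  have htQ : t ∈ normalizer (Q : Set G) := hR₀t (mem_zpowers t)
  -- the conjugate under `l`
  set Q₁ := MulAut.conj l • Q with hQ₁
  have hQ₁K : Q₁ ≤ K := by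
    rw [hQ₁, ← Coprime.conj_smul_eq_self_iff.2 hKl]
    exact Subgroup.pointwise_smul_le_pointwise_smul_iff.2 hQK
  have hQ₁c : Nat.card ↥Q₁ = Nat.card ↥Q := Coprime.card_conj_smul l Q
  set R₁ : Sylow r ↥K := Sylow.ofCard (Q₁.subgroupOf K) (by
    rw [Nat.card_congr (Subgroup.subgroupOfEquivOfLe hQ₁K).toEquiv, hQ₁c, hQc, R₀.card_eq_multiplicity]) with hR₁
  have hR₁e : (R₁ : Subgroup ↥K).map K.subtype = Q₁ := by
    rw [hR₁, Sylow.coe_ofCard, Subgroup.map_subgroupOf_eq_of_le hQ₁K]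
  have hQ₁t : zpowers t ≤ normalizer ((R₁ : Subgroup ↥K).map K.subtype : Set G) := by
    rw [hR₁e, zpowers_le, ← Coprime.conj_smul_eq_self_iff, hQ₁, ← mul_smul, ← map_mul, ← D.l_t.eq, map_mul,
      mul_smul, Coprime.conj_smul_eq_self_iff.2 htQ]
  obtain ⟨c, hc, hce⟩ := Coprime.exists_centralizer_conj_sylow hA hcop hsolv R₀ R₁ hR₀t hQ₁t
  have hce' : MulAut.conj (c : G) • Q = Q₁ := by rw [hQ, ← Coprime.sylow_map_smul, hce, hR₁e]
  have hct : Commute (c : G) t := (mem_centralizer_iff.1 hc t (mem_zpowers t)).symm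
  set k := (c : G)⁻¹ * l with hk
  have hkQ : k ∈ normalizer (Q : Set G) := by
    rw [← Coprime.conj_smul_eq_self_iff, hk, map_mul, mul_smul, ← hQ₁, ← hce', ← mul_smul, ← map_mul,
      inv_mul_cancel, map_one, one_smul]
  -- the group over `l`
  set C := K ⊓ centralizer ({t} : Set G) with hC
  have hlC : l ∈ normalizer (C : Set G) := by
    refine Subgroup.mem_normalizer_fintype fun u hu => ⟨(mem_normalizer_iff.1 hKl u).1 hu.1, ?_⟩
    exact mem_centralizer_singleton_iff.2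
      ((D.l_t.mul_left (mem_centralizer_singleton_iff.1 hu.2 : Commute u t)).mul_left D.l_t.inv_left).eq
  have hsC : ¬ s ∣ Nat.card ↥C := fun h => by
    obtain ⟨z, hz⟩ := exists_prime_orderOf_dvd_card' (G := ↥C) s h
    exact hKs z z.2.1 (mem_centralizer_singleton_iff.1 z.2.2) (by rw [orderOf_coe, hz])
  have hlnC : l ∉ C := fun h => hKs l h.1 D.l_t D.l_ord
  set H := C ⊔ zpowers l with hH
  have hHs : Nat.card ↥H = Nat.card ↥C * s := by
    rw [hH, Coprime.card_sup_of_coprime (zpowers_le.2 hlC) (by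
      rw [Nat.card_zpowers, D.l_ord]; exact ((D.s_prime.coprime_iff_not_dvd).2 hsC).symm), Nat.card_zpowers, D.l_ord]
  have hHt : ∀ z ∈ H, Commute z t := fun z hz => mem_centralizer_singleton_iff.1
    (sup_le (inf_le_right) (zpowers_le.2 (mem_centralizer_singleton_iff.2 D.l_t.eq)) hz :
      z ∈ centralizer ({t} : Set G))
  have hHM : H ≤ normalizer (R : Set G) := sup_le (inf_le_left.trans hKM) (zpowers_le.2 hR.l_norm)
  have hkH : k ∈ H := mul_mem (inv_mem (mem_sup_left ⟨c.2, mem_centralizer_singleton_iff.2 hct.eq⟩))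
    (mem_sup_right (mem_zpowers l))
  -- an element of order `s` normalising `Q`
  set C' := C.subgroupOf H with hC'
  haveI : C'.Normal := normal_subgroupOf_of_le_normalizer (sup_le le_normalizer (zpowers_le.2 hlC))
  have hCc : Nat.card ↥C' = Nat.card ↥C :=
    Nat.card_congr (Subgroup.subgroupOfEquivOfLe (le_sup_left : C ≤ H)).toEquiv
  have hidx : Nat.card (↥H ⧸ C') = s := by
    have h := C'.card_eq_card_quotient_mul_card_subgroup
    rw [hHs, hCc, mul_comm] at h
    exact (Nat.eq_of_mul_eq_mul_right Nat.card_pos h).symm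
  set k' : ↥H := ⟨k, hkH⟩ with hk'
  have hks : s ∣ orderOf k' := by
    have h1 : orderOf (QuotientGroup.mk' C' k') = s := by
      rcases (Nat.dvd_prime D.s_prime).1 (hidx ▸ orderOf_dvd_natCard (QuotientGroup.mk' C' k')) with h | h
      · refine absurd ?_ hlnC
        rw [orderOf_eq_one_iff, QuotientGroup.mk'_apply, QuotientGroup.eq_one_iff] at h
        have h2 : (c : G) * k ∈ C := mul_mem ⟨c.2, mem_centralizer_singleton_iff.2 hct.eq⟩ h
        rwa [hk, mul_inv_cancel_left] at h2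
      · exact h
    exact h1 ▸ orderOf_map_dvd _ k'
  obtain ⟨m, hm⟩ := hks
  have hk0 : orderOf (k' ^ m) = s := by
    have hm0 : m ≠ 0 := by
      rintro rfl
      exact (orderOf_pos k').ne' (by rw [hm, mul_zero])
    rw [orderOf_pow' _ hm0, hm, Nat.gcd_mul_left_left, Nat.mul_div_cancel _ (Nat.pos_of_ne_zero hm0)]
  set l' : ↥H := ⟨l, mem_sup_right (mem_zpowers l)⟩ with hl'
  have hfac : (Nat.card ↥H).factorization s = 1 := by
    rw [hHs, Nat.factorization_mul Nat.card_pos.ne' D.s_prime.ne_zero, Finsupp.add_apply,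
      Nat.factorization_eq_zero_of_not_dvd hsC, D.s_prime.factorization_self]
  set S₁ : Sylow s ↥H := Sylow.ofCard (zpowers l') (by
    rw [Nat.card_zpowers, hfac, pow_one, hl', orderOf_mk, D.l_ord]) with hS₁
  set S₂ : Sylow s ↥H := Sylow.ofCard (zpowers (k' ^ m)) (by rw [Nat.card_zpowers, hfac, pow_one, hk0]) with hS₂
  obtain ⟨h, hh⟩ := MulAction.exists_smul_eq ↥H S₂ S₁
  have hh' : MulAut.conj h • zpowers (k' ^ m) = zpowers l' := by
    have e := congrArg (fun S : Sylow s ↥H => (S : Subgroup ↥H)) hh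
    simpa only [Sylow.coe_subgroup_smul, hS₁, hS₂, Sylow.coe_ofCard] using e
  obtain ⟨q, ⟨i, hi⟩, hq⟩ : l' ∈ (zpowers (k' ^ m)).map (MulAut.conj h).toMonoidHom := by
    have e : l' ∈ MulAut.conj h • zpowers (k' ^ m) := hh' ▸ mem_zpowers l'
    exact e
  have hl_eq : l = (h : G) * (k ^ m) ^ i * (h : G)⁻¹ := by
    have e := congrArg Subtype.val hq
    rw [← hi] at e
    simpa [hk', hl', MulAut.conj_apply] using e.symm
  -- the conjugate of `Q` is in the family
  have hhR : MulAut.conj (h : G) • R = R := Coprime.conj_smul_eq_self_iff.2 (hHM h.2)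
  have hfam : Fam t x l r P₁ (MulAut.conj (h : G) • Q) := by
    have hle : R ≤ MulAut.conj (h : G) • Q := by
      conv_lhs => rw [← hhR]
      exact Subgroup.pointwise_smul_le_pointwise_smul_iff.2 hR₀
    refine ⟨hQp.map _, hR.le.trans hle, hle hR.x_mem, ?_, ?_⟩
    · rw [← Coprime.conj_smul_eq_self_iff, ← mul_smul, ← map_mul, ← (hHt h h.2).eq, map_mul, mul_smul,
        Coprime.conj_smul_eq_self_iff.2 htQ]
    · rw [← Coprime.conj_smul_eq_self_iff, ← mul_smul, ← map_mul, hl_eq, inv_mul_cancel_right, map_mul,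
        mul_smul, Coprime.conj_smul_eq_self_iff.2 (zpow_mem (pow_mem hkQ m) i)]
  intro P hPK hP
  obtain ⟨T, hT⟩ := (hP.comap_of_injective K.subtype K.subtype_injective).exists_le_sylow
  have h1 : Nat.card ↥P ≤ Nat.card ↥(T : Subgroup ↥K) := by
    rw [← Nat.card_congr (Subgroup.subgroupOfEquivOfLe hPK).toEquiv]
    exact card_le_of_le hT
  rw [T.card_eq_multiplicity, ← R₀.card_eq_multiplicity, ← hQc, ← Coprime.card_conj_smul (h : G) Q] at h1
  exact h1.trans (hmax _ hfam)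

theorem Fam.exists_largest : ∃ R, Fam t x l r P₁ R ∧ ∀ R', Fam t x l r P₁ R' → Nat.card ↥R' ≤ Nat.card ↥R := by
  haveI : Fact r.Prime := ⟨D.r_prime⟩
  have hne : Fam t x l r P₁ (P₁ ⊔ zpowers x) := by
    have hxP : ∀ a ∈ P₁, Commute a x := fun a ha => mem_centralizer_singleton_iff.1 (D.P_le ha)
    have hxn : ∀ g : G, g ∈ normalizer (P₁ : Set G) → Commute g x → g ∈ normalizer ((P₁ ⊔ zpowers x : Subgroup G) : Set G) := by
      intro g hg hgx
      rw [← Coprime.conj_smul_eq_self_iff, Subgroup.smul_sup, Coprime.conj_smul_eq_self_iff.2 hg,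
        Coprime.conj_smul_eq_self_iff.2 (?_ : g ∈ normalizer ((zpowers x : Subgroup G) : Set G))]
      refine Subgroup.mem_normalizer_fintype fun u hu => ?_
      obtain ⟨i, rfl⟩ := mem_zpowers_iff.1 hu
      rw [(hgx.zpow_right i).eq, mul_inv_cancel_right]
      exact hu
    refine ⟨?_, le_sup_left, mem_sup_right (mem_zpowers x), hxn t ?_ D.x_t.symm, hxn l D.P_norm D.l_x⟩
    · exact D.P_pgroup.to_sup_of_normal_left' (IsPGroup.of_card (n := 1) (by rw [Nat.card_zpowers, D.x_ord, pow_one]))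
        (zpowers_le.2 (Subgroup.mem_normalizer_fintype fun a ha => by
          rw [(hxP a ha).symm.eq, mul_inv_cancel_right]; exact ha))
    · exact Subgroup.mem_normalizer_fintype fun a ha => by rw [D.P_inv a ha]; exact inv_mem ha
  obtain ⟨R, hR, hmax⟩ := Set.exists_max_image {R : Subgroup G | Fam t x l r P₁ R} (fun R => Nat.card ↥R)
    (Set.toFinite _) ⟨_, hne⟩
  exact ⟨R, hR, hmax⟩

/-- The normaliser of an invariant group over `P₁` contains no four group. -/
theorem Fam.not_four (hab : SEAbelian.AbTwo G) {R : Subgroup G} (hR : Fam t x l r P₁ R) :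
    ¬ 4 ∣ Nat.card ↥(normalizer (R : Set G)) := by
  haveI : Fact (Nat.Prime 2) := ⟨Nat.prime_two⟩
  set M := normalizer (R : Set G)
  intro h4
  obtain ⟨Q, hQ⟩ := (IsPGroup.of_card (n := 1) (G := zpowers (⟨t, hR.t_norm⟩ : ↥M)) (by
    rw [Nat.card_zpowers, orderOf_mk, D.ht, pow_one])).exists_le_sylow
  have h4Q : 4 ∣ Nat.card (Q : Subgroup ↥M) := Q.pow_dvd_card_of_pow_dvd_card (n := 2) h4
  obtain ⟨w, hwQ, hw⟩ : ∃ y ∈ (Q : Subgroup ↥M), y ∉ zpowers (⟨t, hR.t_norm⟩ : ↥M) := by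
    by_contra hcon
    push Not at hcon
    have h := card_le_of_le (show (Q : Subgroup ↥M) ≤ zpowers (⟨t, hR.t_norm⟩ : ↥M) from hcon)
    rw [Nat.card_zpowers, orderOf_mk, D.ht] at h
    have := Nat.le_of_dvd Nat.card_pos h4Q
    omega
  have hwt : Commute (w : G) t := hab _ (Q.2.map M.subtype) w ⟨w, hwQ, rfl⟩ t ⟨_, hQ (mem_zpowers _), rfl⟩
  obtain ⟨i, hi⟩ := Q.2 ⟨w, hwQ⟩
  have hw2 : (w : G) * w = 1 := D.sq ⟨i, congrArg (fun z : (Q : Subgroup ↥M) => ((z : ↥M) : G)) hi⟩
  have hwt' : (w : G) ∉ zpowers t := fun ⟨q, hq⟩ => hw ⟨q, Subtype.ext (by simpa using hq)⟩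
  obtain ⟨a, ha, ha1⟩ := P₁.ne_bot_iff_exists_ne_one.1 D.P_ne |> fun ⟨⟨a, ha⟩, h1⟩ =>
    (⟨a, ha, fun e => h1 (Subtype.ext e)⟩ : ∃ a ∈ P₁, a ≠ 1)
  refine ha1 (le_of_four_inv D.tt hw2 hwt.symm (hR.odd D) hR.t_norm w.2 ?_ ?_ a (hR.le ha) (D.P_inv a ha))
  · exact fun b hb hc hi => D.four (orderOf_eq_prime (by rw [pow_two, hw2]) fun e => hwt' (by rw [e]; exact one_mem _))
      hwt (hR.pgroup.to_le (zpowers_le.2 hb)) hc hi
  · refine fun b hb hc hi => D.four ?_ ((Commute.refl t).mul_left hwt) (hR.pgroup.to_le (zpowers_le.2 hb)) hc hi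
    refine orderOf_eq_prime ?_ fun e => hwt' ?_
    · rw [hwt.symm.mul_pow, pow_two, pow_two, D.tt, hw2, one_mul]
    · rw [← inv_eq_of_mul_eq_one_right e]; exact inv_mem (mem_zpowers t)

/-- A largest invariant group over `P₁` is a Sylow subgroup. -/
theorem Fam.pow_not_dvd (hab : SEAbelian.AbTwo G) {R : Subgroup G} (hR : Fam t x l r P₁ R)
    (hmax : ∀ R' : Subgroup G, Fam t x l r P₁ R' → Nat.card ↥R' ≤ Nat.card ↥R) {i : ℕ}
    (hi : Nat.card ↥R = r ^ i) : ¬ r ^ (i + 1) ∣ Nat.card G := by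
  classical
  haveI : Fact r.Prime := ⟨D.r_prime⟩
  haveI : Fact s.Prime := ⟨D.s_prime⟩
  set M := normalizer (R : Set G) with hM
  have h4 : ¬ 4 ∣ Nat.card ↥M := hR.not_four D hab
  have h2 : 2 ∣ Nat.card ↥M := by
    have h := orderOf_dvd_natCard M hR.t_norm
    rwa [D.ht] at h
  obtain ⟨W, hWn, hWodd, hWc, hWmem⟩ := exists_odd_index_two h2 h4
  haveI := hWn
  haveI hsol : Group.IsSolvable ↥M := by
    haveI : Group.IsSolvable ↥W := S0205.result hWodd
    have hWi : W.index = 2 := by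
      have h := W.card_mul_index
      rw [hWc, mul_comm 2] at h
      exact Nat.eq_of_mul_eq_mul_left Nat.card_pos h
    haveI : Group.IsSolvable (↥M ⧸ W) := by
      haveI := isCyclic_of_prime_card (α := ↥M ⧸ W) (p := 2) (by rw [← index_eq_card, hWi])
      letI : CommGroup (↥M ⧸ W) := IsCyclic.commGroup
      infer_instance
    exact Group.isSolvable_of_ker_le_range W.subtype (QuotientGroup.mk' W)
      (by rw [QuotientGroup.ker_mk', range_subtype])
  set t' : ↥M := ⟨t, hR.t_norm⟩ with ht'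
  set l' : ↥M := ⟨l, hR.l_norm⟩ with hl'
  have hlW : l' ∈ W := hWmem _ (by rw [hl', orderOf_mk, D.l_ord]; exact D.s_odd)
  set R' := R.subgroupOf M with hR'
  haveI : R'.Normal := normal_subgroupOf_of_le_normalizer le_rfl
  have hRM : R ≤ M := le_normalizer
  have hR'p : IsPGroup r ↥R' := hR.pgroup.comap_of_injective M.subtype M.subtype_injective
  have hRW : R' ≤ W := fun g hg => hWmem g (by rw [← Subgroup.orderOf_coe]; exact odd_orderOf (hR.odd D) hg)
  set O := Cfsg.pPrimeCore r ↥M with hO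
  set f := QuotientGroup.mk' O with hf
  have hOR : ∀ o ∈ O, ∀ u ∈ R', Commute o u := by
    refine fun o ho u hu => commute_of_normal_of_disjoint O R' inferInstance inferInstance ?_ o u ho hu
    refine disjoint_def.2 fun {z} hz hz' => orderOf_eq_one_iff.1 ?_
    obtain ⟨k, hk⟩ := IsPGroup.iff_orderOf.1 hR'p ⟨z, hz'⟩
    refine Nat.eq_one_of_dvd_coprimes ((Agent.Cores.pPrimeCore_card_coprime (G := ↥M) r).pow_right k)
      (orderOf_dvd_natCard O hz) ?_
    rw [← hk, ← Subgroup.orderOf_coe (⟨z, hz'⟩ : ↥R')]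
  -- the two applications of `step`
  have key : ∀ Q : Subgroup (↥M ⧸ O), IsPGroup r ↥Q → R'.map f ≤ Q → f t' ∈ normalizer (Q : Set _) →
      f l' ∈ normalizer (Q : Set _) → ∀ P : Subgroup ↥M, P ≤ W → IsPGroup r ↥P → P.map f ≤ Q →
      Nat.card ↥P ≤ Nat.card ↥R := by
    intro Q hQ hRQ htQ hlQ P hPW hP hPQ
    set K₀ := Q.comap f ⊓ W with hK₀
    have hnorm : ∀ g : ↥M, f g ∈ normalizer (Q : Set (↥M ⧸ O)) → (g : G) ∈ normalizer ((K₀.map M.subtype : Subgroup G) : Set G) := by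
      intro g hg
      refine Subgroup.mem_normalizer_fintype ?_
      rintro _ ⟨u, hu, rfl⟩
      refine ⟨g * u * g⁻¹, ⟨?_, hWn.conj_mem u hu.2 g⟩, rfl⟩
      show f (g * u * g⁻¹) ∈ Q
      rw [map_mul, map_mul, map_inv]
      exact (mem_normalizer_iff.1 hg _).1 hu.1
    rw [← card_subtype M P]
    refine hR.step D hmax (K := K₀.map M.subtype) (map_subtype_le _) ?_ ?_ (hnorm t' htQ) (hnorm l' hlQ) ?_ _
      (Subgroup.map_mono (le_inf (map_le_iff_le_comap.1 hPQ) hPW)) (hP.map _)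
    · rw [card_subtype]; exact hWodd.of_dvd_nat (card_dvd_of_le inf_le_right)
    · intro u hu
      exact ⟨⟨u, hRM hu⟩, ⟨hRQ (mem_map_of_mem f hu), hRW hu⟩, rfl⟩
    · rintro _ ⟨c, hc, rfl⟩ hct hcs
      obtain ⟨k, hk⟩ := hQ ⟨f c, hc.1⟩
      have hk' : f c ^ r ^ k = 1 := congrArg Subtype.val hk
      have hco : orderOf c = s := by rw [← Subgroup.orderOf_coe]; exact hcs
      have hfc : f c = 1 := orderOf_eq_one_iff.1 (Nat.eq_one_of_dvd_coprimes
        (((Nat.coprime_primes D.r_prime D.s_prime).2 D.r_ne_s).pow_left k)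
        (orderOf_dvd_of_pow_eq_one hk') (hco ▸ orderOf_map_dvd f c))
      have hcO : c ∈ O := (QuotientGroup.eq_one_iff c).1 hfc
      have hcR : ∀ u ∈ R, Commute (c : G) u := fun u hu =>
        congrArg Subtype.val (hOR c hcO ⟨u, hRM hu⟩ hu).eq
      have hc1 : (c : G) = 1 := D.coprime c hct (hcR x hR.x_mem) (fun a ha => hcR a (hR.le ha))
        (by rw [← hcs]; exact pow_orderOf_eq_one (c : G))
      exact D.s_prime.ne_one (by rw [← hcs]; exact orderOf_eq_one_iff.2 hc1)
  -- `O_r(M/O)` is the image of `R`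
  set Qc := Cfsg.pCore r (↥M ⧸ O) with hQc
  haveI : (R'.map f).Normal := Subgroup.Normal.map inferInstance _ (QuotientGroup.mk'_surjective O)
  have hRQ : R'.map f ≤ Qc := PLocal.Cores.le_pCore (hR'p.map f)
  have hQR : Qc ≤ R'.map f := by
    set P := Qc.comap f with hP
    obtain ⟨S, hS⟩ := (hR'p.comap_of_injective P.subtype P.subtype_injective).exists_le_sylow
    set S' := (S : Subgroup ↥P).map P.subtype with hS'
    have hS'p : IsPGroup r ↥S' := S.2.map _
    have hS'W : S' ≤ W := fun g hg => hWmem g (by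
      obtain ⟨k, hk⟩ := IsPGroup.iff_orderOf.1 hS'p ⟨g, hg⟩
      rw [← orderOf_mk g hg, hk]
      exact (D.r_prime.odd_of_ne_two D.r_ne_two).pow)
    have hRP : R' ≤ P := map_le_iff_le_comap.1 hRQ
    have h1 := key Qc PLocal.Cores.isPGroup_pCore hRQ (by rw [normalizer_eq_top]; exact mem_top _)
      (by rw [normalizer_eq_top]; exact mem_top _) S' hS'W hS'p (by
        rintro _ ⟨_, ⟨g, _, rfl⟩, rfl⟩; exact g.2)
    have hRS : R' = S' := eq_of_le_of_card_ge
      (by rw [← Subgroup.map_subgroupOf_eq_of_le hRP]; exact Subgroup.map_mono hS)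
      (h1.trans_eq (Nat.card_congr (Subgroup.subgroupOfEquivOfLe hRM).toEquiv).symm)
    let fP : ↥P →* ↥Qc := (f.comp P.subtype).codRestrict Qc fun g => g.2
    have hfP : Function.Surjective fP := fun q => by
      obtain ⟨g, hg⟩ := QuotientGroup.mk'_surjective O (q : ↥M ⧸ O)
      exact ⟨⟨g, show f g ∈ Qc from hg ▸ q.2⟩, Subtype.ext hg⟩
    intro q hq
    have htop : (S.mapSurjective hfP : Subgroup ↥Qc) = ⊤ := by
      refine (S.mapSurjective hfP).3 ?_ le_top |>.symm
      exact PLocal.Cores.isPGroup_pCore.of_equiv Subgroup.topEquiv.symm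
    have h2 : (⟨q, hq⟩ : ↥Qc) ∈ (S.mapSurjective hfP : Subgroup ↥Qc) := htop ▸ mem_top _
    rw [Sylow.coe_mapSurjective] at h2
    obtain ⟨g, hg, hgq⟩ := h2
    exact ⟨g, hRS ▸ mem_map_of_mem _ hg, congrArg Subtype.val hgq⟩
  -- an invariant Sylow subgroup of `W`
  have hcop : (Nat.card ↥(zpowers t')).Coprime (Nat.card ↥W) := by
    rw [Nat.card_zpowers, ht', orderOf_mk, D.ht]; exact Nat.coprime_two_left.2 hWodd
  obtain ⟨S, hRS, hSt⟩ := Coprime.exists_invariant_sylow_ge (p := r) (A := zpowers t') (K := W) (U := R')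
    (by rw [normalizer_eq_top]; exact le_top) hcop (Or.inr (S0205.result hWodd)) hRW hR'p
    (by rw [normalizer_eq_top]; exact le_top)
  set P := (S : Subgroup ↥W).map W.subtype with hPd
  have htP : t' ∈ normalizer (P : Set ↥M) := hSt (mem_zpowers _)
  have ht2 : t' * t' = 1 := Subtype.ext D.tt
  have htR' : t' ∈ normalizer (R' : Set ↥M) := by rw [normalizer_eq_top]; exact mem_top _
  have hinvg : ∀ g : ↥M, Inv t' g ↔ Inv t (g : G) := fun g =>
    ⟨fun h => congrArg Subtype.val h, fun h => Subtype.ext h⟩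
  have hcomg : ∀ g h : ↥M, Commute g h ↔ Commute (g : G) h := fun g h =>
    ⟨fun e => congrArg Subtype.val e, fun e => Subtype.ext e⟩
  have hcyc : ∃ y : ↥M, ∀ u ∈ R', Commute u t' → u ∈ zpowers y := by
    haveI := D.lam_cyclic
    set F := R' ⊓ centralizer ({t'} : Set ↥M)
    let incl : ↥F →* ↥(centralizer ({t} : Set G)) :=
      { toFun := fun u => ⟨((u : ↥M) : G), mem_centralizer_singleton_iff.2
          (congrArg Subtype.val (mem_centralizer_singleton_iff.1 u.2.2))⟩
        map_one' := rfl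
        map_mul' := fun _ _ => rfl }
    have hinj : Function.Injective (lam.comp incl) := (injective_iff_map_eq_one _).2 fun u hu => by
      obtain ⟨k, hk⟩ := hR'p ⟨u, u.2.1⟩
      have h := D.lam_inj (incl u) ⟨k, Subtype.ext (congrArg (fun z : ↥R' => ((z : ↥M) : G)) hk)⟩ hu
      exact Subtype.ext (Subtype.ext (congrArg Subtype.val h :))
    haveI : IsCyclic ↥F := isCyclic_of_injective (lam.comp incl) hinj
    obtain ⟨g, hg⟩ := IsCyclic.exists_generator (α := ↥F)
    refine ⟨g, fun u hu hc => ?_⟩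
    obtain ⟨i, hi⟩ := hg ⟨u, hu, mem_centralizer_singleton_iff.2 hc.eq⟩
    exact ⟨i, congrArg Subtype.val hi⟩
  have hlift : ∀ a ∈ W, Inv t' a → f a ∈ R'.map f := by
    intro a ha hai
    obtain ⟨u, hu, -, hue⟩ := exists_inverted_lift D.r_ne_two hsol ht2 (k := l') W hWodd R' hRW hQR htR' hcyc
      (fun u hu hc => (hcomg l' u).2 (hR.fixed_l D hu ((hcomg u t').1 hc))) D.J_sq
      (fun u hu hi => Subtype.ext (by simpa using (hR.struct D hu hu ((hinvg u).1 hi) ((hinvg u).1 hi)).1))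
      ha hai
    exact hue ▸ mem_map_of_mem f hu
  have hfl : f l' ∈ normalizer (P.map f : Set _) := by
    refine Subgroup.mem_normalizer_fintype ?_
    rintro _ ⟨p, hp, rfl⟩
    have hPodd : Odd (Nat.card ↥P) := hWodd.of_dvd_nat (card_dvd_of_le (map_subtype_le _))
    obtain ⟨a, ha, c, hc, hai, hct, rfl⟩ := exists_inv_mul ht2 hPodd
      (fun u hu => (mem_normalizer_iff.1 htP u).1 hu) hp
    have h1 : f (l' * a * l'⁻¹) ∈ P.map f := by
      refine Subgroup.map_mono hRS (hlift _ (hWn.conj_mem a (map_subtype_le _ ha) l') (hai.conj ?_))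
      exact (hcomg l' t').2 D.l_t
    set d := l' * c * l'⁻¹ * c⁻¹ with hd
    have hdR : ∀ u ∈ R', Commute d u := by
      intro u hu
      have hRodd : Odd (Nat.card ↥R') := hWodd.of_dvd_nat (card_dvd_of_le hRW)
      have hconj : ∀ {g v : ↥M}, v ∈ R' → g * v * g⁻¹ ∈ R' := fun {g v} hv =>
        (inferInstance : R'.Normal).conj_mem v hv g
      have hcl : ∀ v ∈ R', Commute t' v → Commute l' v := fun v hv hvt =>
        (hcomg l' v).2 (hR.fixed_l D hv ((hcomg v t').1 hvt.symm))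
      have hscal : ∀ v ∈ R', Inv t' v → l' * v * l'⁻¹ = v ^ J := fun v hv hvi => Subtype.ext (by
        simpa using (hR.struct D hv hv ((hinvg v).1 hvi) ((hinvg v).1 hvi)).1)
      have hfix : ∀ v ∈ R', Commute t' v → Commute d v := by
        intro v hv hvt
        have h2 : l' * (c * v * c⁻¹) * l'⁻¹ = c * v * c⁻¹ := by
          rw [(hcl _ (hconj hv) ((hct.mul_right hvt).mul_right hct.inv_right)).eq, mul_inv_cancel_right]
        refine mul_inv_eq_iff_eq_mul.1 ?_
        calc d * v * d⁻¹ = l' * c * (l'⁻¹ * (c⁻¹ * v * c⁻¹⁻¹) * l') * c⁻¹ * l'⁻¹ := by rw [hd]; group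
          _ = l' * c * (c⁻¹ * v * c⁻¹⁻¹) * c⁻¹ * l'⁻¹ := by
            rw [(hcl _ (hconj hv) ((hct.inv_right.mul_right hvt).mul_right hct.inv_right.inv_right)).inv_left.eq,
              inv_mul_cancel_right]
          _ = l' * v * l'⁻¹ := by group
          _ = v := by rw [(hcl v hv hvt).eq, mul_inv_cancel_right]
      have hinv' : ∀ v ∈ R', Inv t' v → Commute d v := by
        intro v hv hvi
        set e := c⁻¹ * v * c⁻¹⁻¹ with he
        have hei : Inv t' e := hvi.conj hct.symm.inv_left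
        have heR : e ∈ R' := hconj hv
        set e' := e ^ J ^ (s - 1) with he'
        have hl'e : l' * e' * l'⁻¹ = e := by
          rw [hscal e' (pow_mem heR _) (hei.pow _), he', ← pow_mul, ← pow_succ, Nat.sub_add_cancel D.s_prime.pos]
          exact Subtype.ext (by rw [SubmonoidClass.coe_pow]; exact D.jpow (hR.rpow D heR))
        refine mul_inv_eq_iff_eq_mul.1 ?_
        calc d * v * d⁻¹ = l' * c * (l'⁻¹ * e * l') * c⁻¹ * l'⁻¹ := by rw [hd, he]; group
          _ = l' * (c * e' * c⁻¹) * l'⁻¹ := by rw [← hl'e]; group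
          _ = (c * e' * c⁻¹) ^ J := hscal _ (hconj (pow_mem heR _)) ((hei.pow _).conj hct.symm)
          _ = c * (l' * e' * l'⁻¹) * c⁻¹ := by rw [conj_pow, hscal e' (pow_mem heR _) (hei.pow _)]
          _ = v := by rw [hl'e, he]; group
      obtain ⟨a', ha', c', hc', hai', hct', rfl⟩ := exists_inv_mul ht2 hRodd
        (fun v hv => (mem_normalizer_iff.1 htR' v).1 hv) hu
      exact (hinv' a' ha' hai').mul_right (hfix c' hc' hct')
    have h2 : f d ∈ P.map f := by
      have hdc : f d ∈ centralizer (Qc : Set (↥M ⧸ O)) := mem_centralizer_iff.2 fun q hq => by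
        obtain ⟨u, hu, rfl⟩ := hQR hq
        exact ((hdR u hu).map f).symm.eq
      haveI : Group.IsSolvable (↥M ⧸ O) :=
        Group.isSolvable_of_surjective (f := f) (QuotientGroup.mk'_surjective O)
      exact Subgroup.map_mono hRS (hQR (Solvable.Fitting.centralizer_pCore_le r (Cores.pPrimeCore_quotient_self r) hdc))
    have h3 : f (l' * (a * c) * l'⁻¹) = f (l' * a * l'⁻¹) * (f d * f c) := by
      rw [← map_mul, ← map_mul, hd]; congr 1; group
    rw [← map_inv, ← map_mul, ← map_mul, h3]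
    exact mul_mem h1 (mul_mem h2 (mem_map_of_mem f hc))
  have hPR : Nat.card ↥P ≤ Nat.card ↥R := key (P.map f) ((S.2.map _).map f) (Subgroup.map_mono hRS)
    (Subgroup.le_normalizer_map f (mem_map_of_mem f htP)) hfl P (map_subtype_le _) (S.2.map _) le_rfl
  -- no larger `r`-group in `M`
  intro hdvd
  have hq := Sylow.prime_dvd_card_quotient_normalizer hdvd hi
  have hdM : r ^ (i + 1) ∣ Nat.card ↥M := by
    have hc : Nat.card ↥R' = r ^ i := by rw [← hi]; exact Nat.card_congr (Subgroup.subgroupOfEquivOfLe hRM).toEquiv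
    rw [card_eq_card_quotient_mul_card_subgroup R', hc, pow_succ']
    exact mul_dvd_mul_right hq _
  have hdW : r ^ (i + 1) ∣ Nat.card ↥W := by
    rw [hWc] at hdM
    exact (((Nat.coprime_primes D.r_prime Nat.prime_two).2 D.r_ne_two).pow_left (i + 1)).dvd_of_dvd_mul_left hdM
  have h5 := Nat.le_of_dvd Nat.card_pos (S.pow_dvd_card_of_pow_dvd_card hdW)
  rw [← card_subtype W (S : Subgroup ↥W), ← hPd] at h5
  have h6 : r ^ i < r ^ (i + 1) := Nat.pow_lt_pow_right D.r_prime.one_lt i.lt_succ_self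
  omega

/-- The transfer half: the data are contradictory in a simple group. -/
theorem OData.false_of_simple [IsSimpleGroup G] (hnc : ¬ IsMulCommutative G) (hab : SEAbelian.AbTwo G) : False := by
  classical
  haveI : Fact r.Prime := ⟨D.r_prime⟩
  haveI : Fact s.Prime := ⟨D.s_prime⟩
  obtain ⟨R, hR, hmax⟩ := Fam.exists_largest D
  obtain ⟨i, hi⟩ := hR.pgroup.exists_card_eq
  have hnd := hR.pow_not_dvd D hab hmax hi
  have hfac : (Nat.card G).factorization r = i := by
    refine le_antisymm ?_ ((D.r_prime.pow_dvd_iff_le_factorization Nat.card_pos.ne').1 (hi ▸ card_subgroup_dvd_card R))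
    by_contra hlt
    exact hnd ((D.r_prime.pow_dvd_iff_le_factorization Nat.card_pos.ne').2 (by omega))
  set RS : Sylow r G := Sylow.ofCard R (by rw [hi, hfac]) with hRS
  have hRSe : (RS : Subgroup G) = R := by rw [hRS, Sylow.coe_ofCard]
  have hodd := hR.odd D
  have htR : ∀ u ∈ R, t * u * t⁻¹ ∈ R := fun u hu => (mem_normalizer_iff.1 hR.t_norm u).1 hu
  have hcomm : ∀ u ∈ R, ∀ v ∈ R, Inv t u → Inv t v → Commute u v := fun u hu v hv hui hvi =>
    (hR.struct D hu hv hui hvi).2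
  -- the inverted elements
  let I : Subgroup ↥R :=
    { carrier := {u | Inv t (u : G)}
      one_mem' := by show t * 1 * t⁻¹ = (1 : G)⁻¹; simp
      mul_mem' := fun {u v} hu hv => by
        show t * ((u : G) * v) * t⁻¹ = ((u : G) * v)⁻¹
        rw [show t * ((u : G) * v) * t⁻¹ = t * u * t⁻¹ * (t * v * t⁻¹) by group,
          show t * (u : G) * t⁻¹ = (u : G)⁻¹ from hu, show t * (v : G) * t⁻¹ = (v : G)⁻¹ from hv,
          _root_.mul_inv_rev, (hcomm u u.2 v v.2 hu hv).inv_inv.eq]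
      inv_mem' := fun {u} hu => Inv.inv hu }
  haveI : I.Normal := ⟨fun v (hv : Inv t (v : G)) g => by
    obtain ⟨a, ha, c, hc, hai, hct, he⟩ := exists_inv_mul D.tt hodd htR g.2
    show Inv t ((g : G) * v * (g : G)⁻¹)
    have h1 : Inv t (c * v * c⁻¹) := Inv.conj hv hct.symm
    rw [he, show a * c * (v : G) * (a * c)⁻¹ = a * (c * v * c⁻¹) * a⁻¹ by group,
      (hcomm a ha _ (mul_mem (mul_mem hc v.2) (inv_mem hc)) hai h1).eq, mul_inv_cancel_right]
    exact h1⟩
  have hI : I ≠ ⊥ := fun e => D.P_ne ((eq_bot_iff_forall _).2 fun a ha => by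
    have h : (⟨a, hR.le ha⟩ : ↥R) ∈ I := D.P_inv a ha
    rw [e, mem_bot] at h
    exact congrArg Subtype.val h)
  haveI : Group.IsNilpotent ↥R := hR.pgroup.isNilpotent
  obtain ⟨⟨z, hzI, hzc⟩, hz1⟩ := Subgroup.ne_bot_iff_exists_ne_one.1 (Solvable.Basics.inf_center_ne_bot (N := I) hI)
  have hcyc : ∃ y : G, ∀ u ∈ R, Commute u t → u ∈ zpowers y := by
    haveI := D.lam_cyclic
    set F := R ⊓ centralizer ({t} : Set G)
    let incl : ↥F →* ↥(centralizer ({t} : Set G)) :=
      { toFun := fun u => ⟨u, u.2.2⟩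
        map_one' := rfl
        map_mul' := fun _ _ => rfl }
    have hinj : Function.Injective (lam.comp incl) := (injective_iff_map_eq_one _).2 fun u hu => by
      obtain ⟨k, hk⟩ := hR.rpow D u.2.1
      exact Subtype.ext (congrArg Subtype.val (D.lam_inj (incl u) ⟨k, Subtype.ext hk⟩ hu) :)
    haveI : IsCyclic ↥F := isCyclic_of_injective (lam.comp incl) hinj
    obtain ⟨g, hg⟩ := IsCyclic.exists_generator (α := ↥F)
    refine ⟨g, fun u hu hc => ?_⟩
    obtain ⟨j, hj⟩ := hg ⟨u, hu, mem_centralizer_singleton_iff.2 hc.eq⟩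
    exact ⟨j, congrArg Subtype.val hj⟩
  refine false_of_data (t := t) (x := x) (r := r) (j := J) (k := l) (R := RS) hnc
    ⟨hab, D.ht, D.r_prime, D.r_ne_two, D.J_sq, ?_, ?_, D.l_t, D.l_ord ▸ D.s_odd, ?_, ?_, ?_, ?_, ?_,
      fun w hw hwt _ a ha haw hai => D.four hw hwt ha haw hai, fun w _ h => D.sq h, ?_, D.x_t, ?_⟩
  · rw [hRSe]; exact hR.t_norm
  · rw [hRSe]; exact hR.l_norm
  · rw [hRSe]; exact hcyc
  · rw [hRSe]; exact fun u hu hut => hR.fixed_l D hu hut
  · rw [hRSe]; exact hcomm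
  · rw [hRSe]; exact fun u hu hui => (hR.struct D hu hu hui hui).1
  · rw [hRSe]
    exact ⟨z, z.2, fun e => hz1 (Subtype.ext (Subtype.ext e)), hzI,
      fun u hu => congrArg Subtype.val ((mem_center_iff.1 hzc ⟨u, hu⟩).symm)⟩
  · rw [hRSe]; exact hR.x_mem
  · -- the homomorphism
    set e := (Nat.card ↥(centralizer ({t} : Set G))).factorization r
    set m := Nat.card ↥(centralizer ({t} : Set G)) / r ^ e with hm
    set T := (powMonoidHom (r ^ e) : Λ →* Λ).ker
    refine ⟨↥T, inferInstance, ((powMonoidHom m).comp lam).codRestrict T fun c => ?_,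
      fun a => ⟨e, Subtype.ext a.2⟩, ?_⟩
    · show (lam c ^ m) ^ r ^ e = 1
      rw [← pow_mul, hm, Nat.div_mul_cancel (Nat.ordProj_dvd _ _), ← map_pow, pow_card_eq_one', map_one]
    · intro h
      set X : ↥(centralizer ({t} : Set G)) := ⟨x, mem_centralizer_singleton_iff.2 D.x_t.eq⟩
      have h1 : lam X ^ m = 1 := congrArg Subtype.val h
      have hXr : X ^ r = 1 := Subtype.ext (by
        show x ^ r = 1
        rw [← D.x_ord, pow_orderOf_eq_one])
      have h2 : lam X ^ r = 1 := by rw [← map_pow, hXr, map_one]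
      have hcop : r.Coprime m :=
        D.r_prime.coprime_iff_not_dvd.2 (Nat.not_dvd_ordCompl D.r_prime Nat.card_pos.ne')
      have h3 : lam X = 1 := orderOf_eq_one_iff.1 (Nat.eq_one_of_dvd_coprimes hcop
        (orderOf_dvd_of_pow_eq_one h2) (orderOf_dvd_of_pow_eq_one h1))
      have h4 := congrArg Subtype.val (D.lam_inj X ⟨1, by rw [pow_one]; exact hXr⟩ h3)
      exact D.r_prime.ne_one (D.x_ord ▸ orderOf_eq_one_iff.2 h4)

end Largest

/-- The transfer half of the field fact at the other primes. -/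
theorem transferHalf : TransferHalf.{u} :=
  fun _G _ _ hs hnc hab _t _x _l _r _s _J _P₁ _Λ _ _lam D => @OData.false_of_simple _ _ _ _ _ _ _ _ _ _ _ _ _ D hs hnc hab

end Cfsg.Agent.Walter.Field.Other
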