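import Cfsg.Agent.Lib.Walter.Field.OtherTorOf
import Cfsg.Agent.Lib.Walter.Field.OtherRee
import Cfsg.Agent.Lib.Walter.Field.OtherThreeSmall
import Cfsg.Agent.Lib.Walter.Field.OtherTransfer

/-!
# The field part away from the characteristic

`x` is taken of the least prime order of the field part; either the Sylow 2-subgroup is normal in
`C(x)`, or its top delivers a torus, and the transfer gives the contradiction.
-/

set_option autoImplicit false
set_option linter.unusedSectionVars false
set_option linter.style.haveILetI false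

namespace Cfsg.Agent.Walter.Field.Other

open Subgroup

universe u v

/-- The case of a normal Sylow 2-subgroup of `C(x)`. -/
def NormalCase : Prop :=
  ∀ {G : Type u} [Group G] [Finite G] {K : Type v} [Field K] [Fintype K] {t : G} {E₀ : Subgroup G}
    {S : Sylow 2 G} (D : Elt t K E₀ S), D.X ≤ normalizer ((S : Subgroup G) : Set G) → D.q₀ = 3 →
      D.N = 7 → False

/-- `OtherFact` from the normal case. -/
theorem other_fact_of (hN : NormalCase.{u, v}) : OtherFact.{u, v} := by
  intro G _ _ hs hab hfb hTF t K _ _ E₀ x r h5 hd hx h33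
  haveI := hs
  obtain ⟨S, Sh, hxO, -⟩ := exists_shape_of_elt hd hab h5 hx
  have hnc : ¬ IsMulCommutative G := fun hc => by
    have h1 := Sh.y_I
    rw [IsMulCommutative.is_comm.comm Sh.y, mul_inv_cancel_right] at h1
    exact Sh.frame.ne (Sh.φ.symm.injective (Subtype.ext h1))
  have hO : Nat.card ↥Sh.O ≠ 1 := fun e => hx.prime.ne_one (by
    have h1 := Subgroup.orderOf_dvd_natCard _ hxO
    rw [e, hx.order] at h1
    exact Nat.dvd_one.1 h1)
  haveI := Fact.mk (Nat.minFac_prime hO)
  obtain ⟨⟨x', hx'⟩, ho⟩ := exists_prime_orderOf_dvd_card' (G := ↥Sh.O) (Nat.card ↥Sh.O).minFac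
    (Nat.minFac_dvd _)
  rw [Subgroup.orderOf_mk] at ho
  let D : Elt t K E₀ S := ⟨Sh, hnc, hs, hab, hd, x', _, Nat.minFac_prime hO, hx', ho⟩
  have hmin : ∀ p : ℕ, p.Prime → p ∣ Nat.card ↥D.Sh.O → D.r ≤ p := fun p hp hd' =>
    Nat.minFac_le_of_dvd hp.two_le hd'
  have hr3 : ringChar K = 3 → D.r ≠ 3 := fun h3 e => h33 ⟨h3, by
    rw [Sh.outIndex_eq hd]
    exact (show D.r = 3 from e) ▸ Nat.minFac_dvd _⟩
  rcases D.top_cases with ⟨hX, h3, hN7⟩ | ⟨T, hT⟩
  · exact hN D hX h3 hN7
  · obtain ⟨a, k, s, j, P⟩ : ∃ a k s j, D.Tor T a k s j := by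
      rcases (show 5 ≤ D.q₀ ∨ D.q₀ = 3 by
        have := D.three_le
        obtain ⟨i, hi⟩ := D.q₀_odd
        omega) with h | h
      · exact hT.tor hfb hTF h hr3
      · exact hT.tor_small h hr3
    exact D.false_of_tor transferHalf hmin P

end Cfsg.Agent.Walter.Field.Other
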