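import Cfsg.Agent.Lib.Walter.Field.OtherNormalFusion

/-!
# The induction through `N(⟨a⟩) / ⟨a⟩` and the transfer
-/

set_option autoImplicit false
set_option linter.unusedSectionVars false
set_option linter.style.haveILetI false

namespace Cfsg.Agent.Walter.Field.Other.Seven

open Subgroup

universe u

attribute [local instance] fact_seven

local instance fact_one_lt_seven''' : Fact (1 < 7) := ⟨by norm_num⟩

theorem pow_four_dvd {i c n : ℕ} (hn : 7 ^ 4 ∣ n) (e : c * i = n) (h7 : i ≤ 7) (h0 : i ≠ 0) :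
    7 ^ 3 ∣ c := by
  rcases eq_or_lt_of_le h7 with rfl | hlt
  · exact Nat.dvd_of_mul_dvd_mul_right (by norm_num : 0 < 7) (by rw [e]; simpa [pow_succ] using hn)
  · have hc : Nat.Coprime (7 ^ 4) i := Nat.Coprime.pow_left 4
      ((Nat.Prime.coprime_iff_not_dvd prime_seven).2 fun hd =>
        absurd (Nat.le_of_dvd (Nat.pos_of_ne_zero h0) hd) (not_le.2 hlt))
    exact (pow_dvd_pow 7 (by norm_num : 3 ≤ 4)).trans (hc.dvd_of_dvd_mul_right (e ▸ hn))

namespace Data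

variable {G : Type u} [Group G] [Finite G] {x a y : G} {j : ZMod 7} (D : Data x a y j)
variable (R : Sylow 7 G) (hR : D.toPair.grp ≤ R)
include D hR

/-- The step of the induction. -/
theorem oneClass_step (hne : (R : Subgroup G) ≠ D.toPair.grp)
    (ih : ∀ {H : Type u} [Group H] [Finite H] {x' a' y' : H} {j' : ZMod 7}
      (D' : Data x' a' y' j') (R' : Sylow 7 H), Nat.card H < Nat.card G → D'.toPair.grp ≤ R' →
        OneClass x' R') : OneClass x R := by
  classical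
  set P := D.toPair.grp with hP
  set M := normalizer ((zpowers a : Subgroup G) : Set G) with hM
  have hac : ∀ {r : G}, r ∈ (R : Subgroup G) → Commute r a := fun hr => D.a_central R hR hne hr
  have hcM : ∀ {g : G}, Commute g a → g ∈ M := fun hg => centralizer_le_normalizer _
    (mem_centralizer_iff.2 fun z hz => by
      obtain ⟨m, rfl⟩ := mem_zpowers_iff.1 hz
      exact (hg.zpow_right m).eq.symm)
  have hRM : (R : Subgroup G) ≤ M := fun r hr => hcM (hac hr)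
  have hyM : y ∈ M := mem_normalizer_fintype fun z hz => by
    obtain ⟨m, rfl⟩ := mem_zpowers_iff.1 hz
    rw [← conj_zpow, D.y_a]
    exact zpow_mem (pow_mem (mem_zpowers a) _) m
  set Z := (zpowers a).subgroupOf M with hZ
  haveI : Z.Normal := by rw [hZ, hM]; infer_instance
  set π : ↥M →* ↥M ⧸ Z := QuotientGroup.mk' Z with hπ
  have hπ1 : ∀ g : ↥M, π g = 1 ↔ (g : G) ∈ zpowers a := fun g => by
    rw [hπ, QuotientGroup.mk'_apply, QuotientGroup.eq_one_iff, hZ, mem_subgroupOf]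
  have hπe : ∀ g g' : ↥M, π g = π g' ↔ (g' : G)⁻¹ * g ∈ zpowers a := fun g g' => by
    rw [← inv_mul_eq_one, ← map_inv, ← map_mul, hπ1]
    constructor <;> intro h
    · simpa using inv_mem h
    · simpa using inv_mem h
  have haM : a ∈ M := hcM (Commute.refl a)
  have hxM : x ∈ M := hcM D.toPair.comm
  set xM : ↥M := ⟨x, hxM⟩ with hxMdef
  set yM : ↥M := ⟨y, hyM⟩ with hyMdef
  set M₁ : Subgroup ↥M := (centralizer ({π xM} : Set (↥M ⧸ Z))).comap π with hM₁
  have hM₁mem : ∀ g : ↥M, g ∈ M₁ ↔ (g : G) * x * (g : G)⁻¹ * x⁻¹ ∈ zpowers a := fun g => by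
    rw [hM₁, mem_comap, mem_centralizer_singleton_iff]
    rw [show (π g * π xM = π xM * π g) ↔ π (g * xM * g⁻¹ * xM⁻¹) = 1 by
      rw [map_mul, map_mul, map_mul, map_inv, map_inv, mul_inv_eq_one, mul_inv_eq_iff_eq_mul], hπ1]
    rfl
  -- orders
  have hZcard : Nat.card ↥Z = 7 := by
    rw [hZ, Nat.card_congr (subgroupOfEquivOfLe (zpowers_le.2 haM)).toEquiv, Nat.card_zpowers, D.a_ord]
  have hQcard : Nat.card ↥M = Nat.card (↥M ⧸ Z) * 7 := by
    rw [← hZcard]; exact card_eq_card_quotient_mul_card_subgroup Z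
  have hM₁card : Nat.card ↥M₁ = Nat.card ↥(centralizer ({π xM} : Set (↥M ⧸ Z))) * 7 := by
    have h1 := M₁.card_mul_index
    rw [hM₁, index_comap_of_surjective _ (QuotientGroup.mk'_surjective Z), hQcard,
      ← (centralizer ({π xM} : Set (↥M ⧸ Z))).card_mul_index] at h1
    refine Nat.eq_of_mul_eq_mul_right (Nat.pos_of_ne_zero
      (Subgroup.index_ne_zero_of_finite (H := centralizer ({π xM} : Set (↥M ⧸ Z))))) ?_
    rw [← hM₁] at h1
    linarith
  have hsmall : ¬ 7 ^ 4 ∣ Nat.card ↥M₁ := by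
    intro hd
    set C₁ := (centralizer ({xM} : Set ↥M)).subgroupOf M₁ with hC₁
    have hidx : C₁.index ≤ 7 := by
      rw [Subgroup.index_eq_card, ← show Nat.card ↥(zpowers a) = 7 by rw [Nat.card_zpowers, D.a_ord]]
      have hkey : ∀ g g' : ↥M₁, g⁻¹ * g' ∈ C₁ ↔
          ((g : ↥M) : G) * x * ((g : ↥M) : G)⁻¹ = ((g' : ↥M) : G) * x * ((g' : ↥M) : G)⁻¹ := by
        intro g g'
        rw [hC₁, mem_subgroupOf, mem_centralizer_singleton_iff, ← Subtype.val_inj]
        show ((g : ↥M) : G)⁻¹ * ((g' : ↥M) : G) * x = x * (((g : ↥M) : G)⁻¹ * ((g' : ↥M) : G)) ↔ _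
        set p := ((g : ↥M) : G)
        set q := ((g' : ↥M) : G)
        constructor
        · intro h
          calc p * x * p⁻¹ = p * (x * (p⁻¹ * q)) * q⁻¹ := by group
            _ = p * (p⁻¹ * q * x) * q⁻¹ := by rw [h]
            _ = q * x * q⁻¹ := by group
        · intro h
          calc p⁻¹ * q * x = p⁻¹ * (q * x * q⁻¹) * q := by group
            _ = p⁻¹ * (p * x * p⁻¹) * q := by rw [h]
            _ = x * (p⁻¹ * q) := by group
      refine Nat.card_le_card_of_injective (fun c : ↥M₁ ⧸ C₁ => Quotient.liftOn' c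
        (fun g => (⟨_, (hM₁mem g).1 g.2⟩ : ↥(zpowers a))) fun g g' hgg' =>
          Subtype.ext (congrArg (· * x⁻¹) ((hkey g g').1 (QuotientGroup.leftRel_apply.1 hgg')))) ?_
      intro c c'
      refine QuotientGroup.induction_on c fun g => QuotientGroup.induction_on c' fun g' he => ?_
      exact QuotientGroup.eq.2 ((hkey g g').2 (mul_right_cancel (congrArg Subtype.val he)))
    have hc : Nat.card ↥C₁ ∣ Nat.card ↥(centralizer ({x} : Set G)) := by
      rw [← card_map_of_injective (K := C₁) (f := (M.subtype.comp M₁.subtype))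
        (M.subtype_injective.comp M₁.subtype_injective)]
      refine card_dvd_of_le ?_
      rintro _ ⟨g, hg, rfl⟩
      exact mem_centralizer_singleton_iff.2
        (congrArg Subtype.val (mem_centralizer_singleton_iff.1 (mem_subgroupOf.1 hg)))
    exact D.small ((pow_four_dvd hd C₁.card_mul_index hidx Subgroup.index_ne_zero_of_finite).trans hc)
  -- an element of `R` shearing by one
  obtain ⟨u₀, hu₀R, hu₀P, hu₀N⟩ := Pair.exists_normalizing R.2 hR hne
  obtain ⟨e₀, he₀⟩ := Pair.exists_pow R.2 hu₀R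
  obtain ⟨l, hux, -⟩ := D.toPair.shear_one ((mem_normalizer_iff.1 hu₀N x).1 D.toPair.x_mem)
    (conj_eq_of_commute (hac hu₀R)) he₀
    (fun e => D.not_commute R hR hu₀R hu₀P (commute_of_conj_eq e)) 1
  set u := u₀ ^ l with hu
  have huR : u ∈ (R : Subgroup G) := pow_mem hu₀R l
  have hua : u * a * u⁻¹ = a := conj_eq_of_commute (hac huR)
  have hux' : u * x * u⁻¹ = x * a := by rw [hux]; simp [Pair.el, ZMod.val_one]
  have hushear : ∀ n : ℕ, u ^ n * x * (u ^ n)⁻¹ = x * a ^ n := fun n => by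
    rw [(D.toPair.shear hua hux n).1, mul_one, Pair.el, ZMod.val_one, pow_one, pow_val D.a_ord]
  have hushearZ : ∀ m : ℤ, u ^ m * x * (u ^ m)⁻¹ = x * a ^ m := fun m => by
    cases m with
    | ofNat n => simpa using hushear n
    | negSucc n =>
      have h1 := hushear (n + 1)
      have h2 : Commute (u ^ (n + 1)) (a ^ (n + 1)) := ((hac huR).pow_pow _ _)
      rw [zpow_negSucc, zpow_negSucc, inv_inv]
      calc (u ^ (n + 1))⁻¹ * x * u ^ (n + 1)
          = (u ^ (n + 1))⁻¹ * (x * a ^ (n + 1) * (a ^ (n + 1))⁻¹) * u ^ (n + 1) := by group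
        _ = (u ^ (n + 1))⁻¹ * (u ^ (n + 1) * x * (u ^ (n + 1))⁻¹ * (a ^ (n + 1))⁻¹) * u ^ (n + 1) := by
          rw [h1]
        _ = x * ((u ^ (n + 1))⁻¹ * (a ^ (n + 1))⁻¹ * u ^ (n + 1)) := by group
        _ = x * (a ^ (n + 1))⁻¹ := by rw [h2.inv_inv.eq, inv_mul_cancel_right]
  set R' : Sylow 7 ↥M := R.subtype hRM with hR'
  set uM : ↥M := ⟨u, hRM huR⟩ with huMdef
  have hmemR' : ∀ g : ↥M, g ∈ (R' : Subgroup ↥M) ↔ (g : G) ∈ (R : Subgroup G) := fun g => Iff.rfl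
  set P₂ : Subgroup ↥M := (R' : Subgroup ↥M) ⊓ M₁ with hP₂
  have hPP₂ : P.subgroupOf M ≤ P₂ := fun g hg => ⟨hR hg, (hM₁mem g).2 (by
    rw [conj_eq_of_commute (D.toPair.grp_comm (mem_subgroupOf.1 hg) D.toPair.x_mem), mul_inv_cancel]
    exact one_mem _)⟩
  have huP₂ : uM ∈ P₂ := ⟨huR, (hM₁mem uM).2 (by
    show u * x * u⁻¹ * x⁻¹ ∈ zpowers a
    rw [hux', show x * a * x⁻¹ = a from conj_eq_of_commute D.toPair.comm]
    exact mem_zpowers a)⟩
  have huP : u ∉ P := fun h => D.toPair.indep (by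
    have h1 := hux'.symm.trans (conj_eq_of_commute (D.toPair.grp_comm h D.toPair.x_mem))
    rw [mul_eq_left] at h1
    rw [h1]; exact one_mem _)
  obtain ⟨n₂, hn₂⟩ := IsPGroup.iff_card.1 ((R'.2.to_le inf_le_left : IsPGroup 7 ↥P₂))
  have hP₂card : Nat.card ↥P₂ = 7 ^ 3 := by
    rw [hn₂]
    congr 1
    have h1 : n₂ ≤ 3 := by
      by_contra h
      exact hsmall ((pow_dvd_pow 7 (by omega : 4 ≤ n₂)).trans (hn₂ ▸ card_dvd_of_le inf_le_right))
    have h2 : 49 < 7 ^ n₂ := by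
      rw [← hn₂, ← D.toPair.card_grp, ← Nat.card_congr (subgroupOfEquivOfLe (hR.trans hRM)).toEquiv]
      refine lt_of_le_of_ne (Nat.le_of_dvd Nat.card_pos (card_dvd_of_le hPP₂)) fun e => huP ?_
      exact mem_subgroupOf.1 ((Subgroup.eq_of_le_of_card_ge hPP₂ e.ge).ge huP₂)
    by_contra h3
    have h4 : 7 ^ n₂ ≤ 7 ^ 2 := Nat.pow_le_pow_right (by norm_num) (by omega)
    omega
  -- Frattini
  set U : Subgroup ↥M := M₁ ⊓ centralizer ({(⟨a, haM⟩ : ↥M)} : Set ↥M) with hU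
  have hP₂U : P₂ ≤ U := fun g hg => ⟨hg.2, mem_centralizer_singleton_iff.2 (Subtype.ext (hac hg.1).eq)⟩
  have hyM₁ : yM ∈ M₁ := (hM₁mem yM).2 (by
    show y * x * y⁻¹ * x⁻¹ ∈ zpowers a
    rw [conj_eq_of_commute D.y_x, mul_inv_cancel]; exact one_mem _)
  have hUy : ∀ g ∈ U, yM * g * yM⁻¹ ∈ U := by
    intro g hg
    refine mem_inf.2 ⟨mul_mem (mul_mem hyM₁ hg.1) (inv_mem hyM₁), mem_centralizer_singleton_iff.2 (Subtype.ext ?_)⟩
    show y * (g : G) * y⁻¹ * a = a * (y * (g : G) * y⁻¹)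
    have hga : Commute (g : G) a := congrArg Subtype.val (mem_centralizer_singleton_iff.1 hg.2)
    obtain ⟨m, hm⟩ := mem_zpowers_iff.1 ((mem_normalizer_iff''.1 hyM a).1 (mem_zpowers a))
    calc y * (g : G) * y⁻¹ * a = y * ((g : G) * (y⁻¹ * a * y)) * y⁻¹ := by group
      _ = y * ((y⁻¹ * a * y) * (g : G)) * y⁻¹ := by rw [← hm, (hga.zpow_right m).eq]
      _ = a * (y * (g : G) * y⁻¹) := by group
  have hUidx : ∀ {Q : Subgroup ↥M}, Nat.card ↥Q = 7 ^ 3 → Q ≤ U → ¬ 7 ∣ (Q.subgroupOf U).index := by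
    intro Q hQ hQU hd
    have h1 := (Q.subgroupOf U).card_mul_index
    rw [Nat.card_congr (subgroupOfEquivOfLe hQU).toEquiv, hQ] at h1
    refine hsmall (dvd_trans ?_ (card_dvd_of_le (inf_le_left : U ≤ M₁)))
    rw [← h1, pow_succ]
    exact mul_dvd_mul_left _ hd
  set Q₂ := P₂.map (MulAut.conj yM).toMonoidHom with hQ₂
  have hQ₂U : Q₂ ≤ U := by
    rintro _ ⟨g, hg, rfl⟩
    exact hUy g (hP₂U hg)
  have hQ₂card : Nat.card ↥Q₂ = 7 ^ 3 := by
    rw [hQ₂, card_map_of_injective (MulAut.conj yM).injective, hP₂card]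
  have hp₂ : IsPGroup 7 ↥P₂ := R'.2.to_le inf_le_left
  set S₁ : Sylow 7 ↥U := (hp₂.comap_subtype (K := U)).toSylow (hUidx hP₂card hP₂U)
  set S₂ : Sylow 7 ↥U := ((hp₂.map _ : IsPGroup 7 ↥Q₂).comap_subtype (K := U)).toSylow
    (hUidx hQ₂card hQ₂U)
  obtain ⟨k, hk⟩ := MulAction.exists_smul_eq ↥U S₂ S₁
  set n : ↥M := (k : ↥M) * yM with hndef
  have hnP₂ : ∀ g ∈ P₂, n * g * n⁻¹ ∈ P₂ := by
    intro g hg
    have h1 : k * ⟨yM * g * yM⁻¹, hUy g (hP₂U hg)⟩ * k⁻¹ ∈ (S₁ : Subgroup ↥U) := by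
      rw [← hk, Sylow.coe_subgroup_smul]
      exact ⟨_, mem_subgroupOf.2 ⟨g, hg, rfl⟩, rfl⟩
    have h2 : (k : ↥M) * (yM * g * yM⁻¹) * (k : ↥M)⁻¹ ∈ P₂ := mem_subgroupOf.1 h1
    rwa [show n * g * n⁻¹ = (k : ↥M) * (yM * g * yM⁻¹) * (k : ↥M)⁻¹ by rw [hndef]; group]
  have hka : Commute ((k : ↥M) : G) a := congrArg Subtype.val (mem_centralizer_singleton_iff.1 k.2.2)
  have hna : (n : G) * a * (n : G)⁻¹ = a ^ j.val := by
    show ((k : ↥M) : G) * y * a * (((k : ↥M) : G) * y)⁻¹ = _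
    rw [show ((k : ↥M) : G) * y * a * (((k : ↥M) : G) * y)⁻¹ =
      ((k : ↥M) : G) * (y * a * y⁻¹) * ((k : ↥M) : G)⁻¹ by group, D.y_a]
    exact conj_eq_of_commute (hka.pow_right _)
  have hnM₁ : n ∈ M₁ := mul_mem k.2.1 hyM₁
  obtain ⟨i, hi⟩ := mem_zpowers_iff.1 ((hM₁mem n).1 hnM₁)
  set n' : ↥M := uM ^ (-i) * n with hn'def
  have hn'coe : (n' : G) = u ^ (-i) * (n : G) := rfl
  have hn'x : (n' : G) * x * (n' : G)⁻¹ = x := by
    have h1 : (n : G) * x * (n : G)⁻¹ = a ^ i * x := by rw [hi]; group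
    rw [hn'coe, show u ^ (-i) * (n : G) * x * (u ^ (-i) * (n : G))⁻¹ =
      u ^ (-i) * ((n : G) * x * (n : G)⁻¹) * (u ^ (-i))⁻¹ by group, h1,
      show u ^ (-i) * (a ^ i * x) * (u ^ (-i))⁻¹ = (u ^ (-i) * a ^ i * (u ^ (-i))⁻¹) *
        (u ^ (-i) * x * (u ^ (-i))⁻¹) by group, hushearZ,
      conj_eq_of_commute ((hac huR).zpow_zpow (-i) i), zpow_neg,
      show a ^ i * (x * (a ^ i)⁻¹) = (a ^ i * x) * (a ^ i)⁻¹ by group,
      (D.toPair.comm.symm.zpow_left i).eq, mul_inv_cancel_right]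
  have hn'a : (n' : G) * a * (n' : G)⁻¹ = a ^ j.val := by
    rw [hn'coe, show u ^ (-i) * (n : G) * a * (u ^ (-i) * (n : G))⁻¹ =
      u ^ (-i) * ((n : G) * a * (n : G)⁻¹) * (u ^ (-i))⁻¹ by group, hna]
    exact conj_eq_of_commute ((Commute.zpow_left (hac huR) (-i)).pow_right _)
  have hn'P₂ : ∀ g ∈ P₂, n' * g * n'⁻¹ ∈ P₂ := fun g hg => by
    rw [show n' * g * n'⁻¹ = uM ^ (-i) * (n * g * n⁻¹) * (uM ^ (-i))⁻¹ by rw [hn'def]; group]
    exact mul_mem (mul_mem (zpow_mem huP₂ _) (hnP₂ g hg)) (inv_mem (zpow_mem huP₂ _))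
  set p := (u ^ j.val)⁻¹ * ((n' : G) * u * (n' : G)⁻¹) with hpdef
  have hpR : p ∈ (R : Subgroup G) := mul_mem (inv_mem (pow_mem huR _)) (hn'P₂ uM huP₂).1
  have hpP : p ∈ P := by
    by_contra hp
    refine D.not_commute R hR hpR hp (commute_of_conj_eq ?_)
    have h1 : (n' : G) * u * (n' : G)⁻¹ * x * ((n' : G) * u * (n' : G)⁻¹)⁻¹ = x * a ^ j.val := by
      calc _ = (n' : G) * (u * ((n' : G)⁻¹ * x * (n' : G)) * u⁻¹) * (n' : G)⁻¹ := by group
        _ = (n' : G) * (u * x * u⁻¹) * (n' : G)⁻¹ := by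
          rw [show (n' : G)⁻¹ * x * (n' : G) = x by
            conv_lhs => rw [← hn'x]
            group]
        _ = ((n' : G) * x * (n' : G)⁻¹) * ((n' : G) * a * (n' : G)⁻¹) := by rw [hux']; group
        _ = x * a ^ j.val := by rw [hn'x, hn'a]
    rw [hpdef, show (u ^ j.val)⁻¹ * ((n' : G) * u * (n' : G)⁻¹) * x *
      ((u ^ j.val)⁻¹ * ((n' : G) * u * (n' : G)⁻¹))⁻¹ = (u ^ j.val)⁻¹ *
      ((n' : G) * u * (n' : G)⁻¹ * x * ((n' : G) * u * (n' : G)⁻¹)⁻¹) * u ^ j.val by group, h1,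
      ← hushear]
    group
  obtain ⟨s₁, t₁, hst⟩ := D.toPair.exists_el hpP
  have hu7 : u ^ 7 ∈ zpowers a := by
    have h7 : u ^ 7 ∈ P := by
      by_contra h
      refine D.not_commute R hR (pow_mem huR 7) h (commute_of_conj_eq ?_)
      rw [hushear, show a ^ 7 = 1 by rw [← D.a_ord, pow_orderOf_eq_one], mul_one]
    obtain ⟨s, t, hs⟩ := D.toPair.exists_el h7
    have h1 : u * D.toPair.el s t * u⁻¹ = D.toPair.el s t := by
      rw [← hs]; exact conj_eq_of_commute (Commute.self_pow u 7)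
    rw [D.toPair.conj_el, hua, hux, D.toPair.el_pow, ZMod.natCast_zmod_val,
      show a ^ t.val = D.toPair.el 0 t by simp [Pair.el], D.toPair.el_mul] at h1
    obtain ⟨-, h2⟩ := D.toPair.el_inj h1
    have hs0 : s = 0 := by simpa using h2
    rw [hs, hs0]
    simp [Pair.el]
  -- the data of the quotient
  have hx7 : π xM ^ 7 = 1 := by
    rw [← map_pow, hπ1]
    show x ^ 7 ∈ zpowers a
    rw [← D.x_ord, pow_orderOf_eq_one]; exact one_mem _
  have hx1 : π xM ≠ 1 := fun e => D.toPair.swap.indep ((hπ1 xM).1 e)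
  have hxo : orderOf (π xM) = 7 := orderOf_eq_prime hx7 hx1
  have huxc : Commute (π uM) (π xM) := (mem_centralizer_singleton_iff.1 huP₂.2 :)
  set r : ZMod 7 := s₁ * (j - 1)⁻¹ with hr
  set b := π uM * π xM ^ r.val with hb
  have hb7 : b ^ 7 = 1 := by
    rw [hb, (huxc.pow_right _).mul_pow, ← map_pow π uM, (hπ1 (uM ^ 7)).2 hu7, one_mul, ← pow_mul,
      mul_comm, pow_mul, hx7, one_pow]
  have hbx : b ∉ zpowers (π xM) := by
    intro hm
    have h1 : π uM ∈ zpowers (π xM) := by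
      have h2 := mul_mem hm (inv_mem (pow_mem (mem_zpowers (π xM)) r.val))
      rwa [hb, mul_inv_cancel_right] at h2
    obtain ⟨m, hm'⟩ := mem_zpowers_iff.1 h1
    rw [← map_zpow] at hm'
    obtain ⟨m', hm''⟩ := mem_zpowers_iff.1 ((hπe _ _).1 hm'.symm)
    refine huP ?_
    have e : u = x ^ m * a ^ m' := by
      rw [hm'']
      show u = x ^ m * ((x ^ m)⁻¹ * u)
      rw [mul_inv_cancel_left]
    rw [e]
    exact mul_mem (zpow_mem D.toPair.x_mem _) (zpow_mem D.toPair.a_mem _)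
  have hbo : orderOf b = 7 := orderOf_eq_prime hb7 fun e => hbx (e ▸ one_mem _)
  have hn'b : π n' * b * (π n')⁻¹ = b ^ j.val := by
    have hnx : π n' * π xM * (π n')⁻¹ = π xM := by
      rw [← map_inv, ← map_mul, ← map_mul]
      exact congrArg π (Subtype.ext hn'x)
    have hnu : π n' * π uM * (π n')⁻¹ = π uM ^ j.val * π xM ^ s₁.val := by
      rw [← map_inv, ← map_mul, ← map_mul, ← map_pow, ← map_pow, ← map_mul, hπe]
      show (u ^ j.val * x ^ s₁.val)⁻¹ * ((n' : G) * u * (n' : G)⁻¹) ∈ zpowers a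
      rw [_root_.mul_inv_rev, mul_assoc, ← hpdef, hst, Pair.el, inv_mul_cancel_left]
      exact pow_mem (mem_zpowers a) _
    have hj : r * j = s₁ + r := by
      have hj0 : j - 1 ≠ 0 := sub_ne_zero.2 D.j_ne
      have : r * (j - 1) = s₁ := by rw [hr, inv_mul_cancel_right₀ hj0]
      linear_combination this
    rw [hb, show π n' * (π uM * π xM ^ r.val) * (π n')⁻¹ =
      (π n' * π uM * (π n')⁻¹) * (π n' * π xM ^ r.val * (π n')⁻¹) by group, hnu, ← conj_pow, hnx,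
      (huxc.pow_right _).mul_pow, mul_assoc, ← pow_add_val hxo, ← pow_mul_val hxo, hj]
  have D' : Data (π xM) b (π n') j :=
    { x_ord := hxo
      a_ord := hbo
      comm := huxc.symm.mul_right ((Commute.refl _).pow_right _)
      indep := hbx
      y_x := commute_of_conj_eq (by
        rw [← map_inv, ← map_mul, ← map_mul]
        exact congrArg π (Subtype.ext hn'x))
      y_a := hn'b
      j_cube := D.j_cube
      j_ne := D.j_ne
      rigid := by
        intro q m hq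
        obtain ⟨g, rfl⟩ := QuotientGroup.mk'_surjective Z q
        rw [← hπ, ← map_inv, ← map_mul, ← map_mul, ← map_pow] at hq
        obtain ⟨l, hl⟩ := exists_nat_pow ((hπe _ _).1 hq)
        have hgx : (g : G) * x * (g : G)⁻¹ = D.toPair.el (m : ZMod 7) (l : ZMod 7) := by
          rw [D.toPair.el_natCast, hl]
          show _ = x ^ m * ((x ^ m)⁻¹ * ((g : G) * x * (g : G)⁻¹))
          rw [mul_inv_cancel_left]
        by_cases hm : (m : ZMod 7) = 0
        · exfalso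
          refine hx1 ?_
          have h0 : π xM ^ m = 1 := by
            obtain ⟨c, hc⟩ := (ZMod.natCast_eq_zero_iff _ _).1 hm
            rw [hc, pow_mul, hx7, one_pow]
          rw [map_pow, h0, map_mul, map_mul, map_inv, conj_eq_one_iff] at hq
          exact hq
        set s := (-(l : ZMod 7) * (m : ZMod 7)⁻¹).val with hs
        have h1 : u ^ s * (g : G) * x * (u ^ s * (g : G))⁻¹ = x ^ m := by
          obtain ⟨e1, e2⟩ := D.toPair.shear hua hux s
          calc u ^ s * (g : G) * x * (u ^ s * (g : G))⁻¹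
              = u ^ s * ((g : G) * x * (g : G)⁻¹) * (u ^ s)⁻¹ := by group
            _ = D.toPair.el (m : ZMod 7) (0 : ZMod 7) := by
              rw [hgx, D.toPair.conj_el, e1, e2, D.toPair.el_pow, ZMod.natCast_zmod_val,
                show a ^ (l : ZMod 7).val = D.toPair.el 0 (l : ZMod 7) by simp [Pair.el],
                D.toPair.el_mul, hs, ZMod.natCast_zmod_val]
              congr 1
              · ring
              · linear_combination (-(l : ZMod 7)) * mul_inv_cancel₀ hm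
            _ = x ^ m := by rw [Pair.el, pow_val D.x_ord, ZMod.val_zero, pow_zero, mul_one]
        have h2 := h1.symm.trans (D.rigid _ m h1)
        rw [← hπ, ← map_inv, ← map_mul, ← map_mul, hq]
        exact congrArg π (Subtype.ext h2)
      small := fun hd => hsmall (by
        rw [hM₁card, show 7 ^ 4 = 7 ^ 3 * 7 by norm_num]
        exact mul_dvd_mul hd dvd_rfl) }
  set R₁ : Sylow 7 (↥M ⧸ Z) := R'.mapSurjective (QuotientGroup.mk'_surjective Z) with hR₁
  have hxR₁ : π xM ∈ (R₁ : Subgroup (↥M ⧸ Z)) :=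
    mem_map_of_mem _ (hR D.toPair.x_mem : xM ∈ (R' : Subgroup ↥M))
  have huR₁ : π uM ∈ (R₁ : Subgroup (↥M ⧸ Z)) := mem_map_of_mem _ (huR : uM ∈ (R' : Subgroup ↥M))
  have hD'le : D'.toPair.grp ≤ (R₁ : Subgroup (↥M ⧸ Z)) :=
    D'.toPair.grp_le hxR₁ (mul_mem huR₁ (pow_mem hxR₁ _))
  have hlt : Nat.card (↥M ⧸ Z) < Nat.card G := by
    have h1 : Nat.card ↥M ≤ Nat.card G := Nat.le_of_dvd Nat.card_pos (Subgroup.card_subgroup_dvd_card M)
    have h2 : 0 < Nat.card (↥M ⧸ Z) := Nat.card_pos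
    omega
  obtain ⟨hone, ψ, hψ⟩ := ih D' R₁ hlt hD'le
  refine ⟨fun w hw hxw => ?_, ?_⟩
  · obtain ⟨g, hgM, hg⟩ := D.conj_in_normalizer R hR hne hw hxw
    obtain ⟨rq, hrq, hr'⟩ := hone (π ⟨w, hRM hw⟩) (mem_map_of_mem _ (hw : (⟨w, hRM hw⟩ : ↥M) ∈ (R' : Subgroup ↥M)))
      (isConj_iff.2 ⟨π ⟨g, hgM⟩, by rw [← map_inv, ← map_mul, ← map_mul]; exact congrArg π (Subtype.ext hg)⟩)
    obtain ⟨r, hrR, rfl⟩ := hrq
    rw [← hπ, ← map_inv, ← map_mul, ← map_mul, hπe] at hr'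
    obtain ⟨m, hm⟩ := mem_zpowers_iff.1 hr'
    refine ⟨(r : G) * u ^ (-m), mul_mem hrR (zpow_mem huR _), ?_⟩
    rw [show (r : G) * u ^ (-m) * x * ((r : G) * u ^ (-m))⁻¹ =
      (r : G) * (u ^ (-m) * x * (u ^ (-m))⁻¹) * (r : G)⁻¹ by group, hushearZ,
      show (r : G) * (x * a ^ (-m)) * (r : G)⁻¹ = ((r : G) * x * (r : G)⁻¹) * ((r : G) * a ^ (-m) * (r : G)⁻¹) by group,
      conj_eq_of_commute ((hac ((hmemR' r).1 hrR)).zpow_right (-m))]
    have h3 : w * a ^ m = (r : G) * x * (r : G)⁻¹ := by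
      rw [hm]
      show w * (w⁻¹ * _) = _
      rw [mul_inv_cancel_left]
      rfl
    rw [← h3, zpow_neg, mul_inv_cancel_right]
  · let f : ↥(R : Subgroup G) →* ↥(R₁ : Subgroup (↥M ⧸ Z)) :=
      MonoidHom.mk' (fun r => ⟨π ⟨r, hRM r.2⟩, mem_map_of_mem _ (show (⟨(r : G), hRM r.2⟩ : ↥M) ∈
        (R' : Subgroup ↥M) from r.2)⟩) fun r r' => Subtype.ext (map_mul π ⟨r, hRM r.2⟩ ⟨r', hRM r'.2⟩)
    exact ⟨ψ.comp f, fun hx => hψ _⟩

end Data

theorem oneClass : ∀ (n : ℕ) {G : Type u} [Group G] [Finite G] {x a y : G} {j : ZMod 7}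
    (D : Data x a y j) (R : Sylow 7 G), Nat.card G < n → D.toPair.grp ≤ R → OneClass x R := by
  intro n
  induction n with
  | zero => intro G _ _ x a y j D R h; exact absurd h (Nat.not_lt_zero _)
  | succ n ih =>
    intro G _ _ x a y j D R h hR
    by_cases he : (R : Subgroup G) = D.toPair.grp
    · exact D.oneClass_eq R hR he
    · exact D.oneClass_step R hR he fun D' R' hlt hle => ih D' R' (by omega) hle

/-- No such element in a simple group. -/
theorem Data.false_of_simple {G : Type u} [Group G] [Finite G] [IsSimpleGroup G]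
    (hnc : ¬ IsMulCommutative G) {x a y : G} {j : ZMod 7} (D : Data x a y j) : False := by
  obtain ⟨R, hR⟩ := D.toPair.grp_pgroup.exists_le_sylow
  obtain ⟨hone, ψ, hψ⟩ := oneClass (Nat.card G + 1) D R (Nat.lt_succ_self _) hR
  have hxR : x ∈ (R : Subgroup G) := hR D.toPair.x_mem
  set c := ψ ⟨x, hxR⟩ with hc
  have key : ∀ (g : G) (k : ℕ) (h : g⁻¹ * x ^ k * g ∈ (R : Subgroup G)),
      ψ ⟨g⁻¹ * x ^ k * g, h⟩ = c ^ k := by
    intro g k h
    have hc7 : c ^ 7 = 1 := by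
      rw [hc, ← map_pow, show (⟨x, hxR⟩ : ↥(R : Subgroup G)) ^ 7 = 1 from Subtype.ext (by
        show x ^ 7 = 1
        rw [← D.x_ord, pow_orderOf_eq_one]), map_one]
    by_cases hk : (k : ZMod 7) = 0
    · obtain ⟨q, rfl⟩ := (ZMod.natCast_eq_zero_iff _ _).1 hk
      rw [show c ^ (7 * q) = 1 by rw [pow_mul, hc7, one_pow], ← map_one ψ]
      refine congrArg ψ (Subtype.ext ?_)
      show g⁻¹ * x ^ (7 * q) * g = 1
      rw [pow_mul, show x ^ 7 = 1 by rw [← D.x_ord, pow_orderOf_eq_one], one_pow]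
      group
    set l := ((k : ZMod 7)⁻¹).val with hl
    have hxl : (x ^ k) ^ l = x := by
      rw [← pow_mul, ← pow_val D.x_ord, Nat.cast_mul, hl, ZMod.natCast_zmod_val, mul_inv_cancel₀ hk,
        ZMod.val_one, pow_one]
    have hw : g⁻¹ * x * g ∈ (R : Subgroup G) := by
      have h1 := pow_mem h l
      rwa [show g⁻¹ * x ^ k * g = g⁻¹ * x ^ k * g⁻¹⁻¹ by rw [inv_inv], conj_pow, hxl, inv_inv] at h1
    obtain ⟨r, hr, hre⟩ := hone _ hw (isConj_iff.2 ⟨g⁻¹, by rw [inv_inv]⟩)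
    have h2 : (⟨g⁻¹ * x ^ k * g, h⟩ : ↥(R : Subgroup G)) = ⟨r, hr⟩ * ⟨x, hxR⟩ ^ k * ⟨r, hr⟩⁻¹ := by
      refine Subtype.ext ?_
      show g⁻¹ * x ^ k * g = r * x ^ k * r⁻¹
      rw [← conj_pow, hre, show g⁻¹ * x * g = g⁻¹ * x * g⁻¹⁻¹ by rw [inv_inv], conj_pow, inv_inv]
    rw [h2, map_mul, map_mul, map_inv, map_pow, mul_comm (ψ ⟨r, hr⟩), mul_inv_cancel_right]
  have hV := CharTheory.TransferExt.transfer_eq_pow_index ψ x c key
  have htriv : MonoidHom.transfer ψ = 1 := by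
    rcases (inferInstance : (MonoidHom.transfer ψ).ker.Normal).eq_bot_or_eq_top with h | h
    · refine absurd ⟨⟨fun a b => ?_⟩⟩ hnc
      exact (MonoidHom.ker_eq_bot_iff _).1 h (by rw [map_mul, map_mul, mul_comm])
    · exact MonoidHom.ext fun g => MonoidHom.mem_ker.1 (h ▸ mem_top g)
  rw [htriv, MonoidHom.one_apply] at hV
  refine hψ hxR (orderOf_eq_one_iff.1 (Nat.eq_one_of_dvd_coprimes
    ((Nat.Prime.coprime_iff_not_dvd prime_seven).2 R.not_dvd_index) ?_ (orderOf_dvd_of_pow_eq_one hV.symm)))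
  exact (orderOf_map_dvd ψ _).trans (dvd_of_eq (by rw [Subgroup.orderOf_mk, D.x_ord]))

end Cfsg.Agent.Walter.Field.Other.Seven
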