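import Cfsg.Agent.Lib.Walter.Field.OtherTop
import Cfsg.Agent.Lib.Walter.Field.OtherNormalStep

/-!
# The normal case: `X ≤ N(S)`, `q₀ = 3`, seven involutions

An element of order three normalises a Sylow 7-subgroup of `X` and scales it outside `⟨x⟩`; the
transfer at `x` then gives a quotient of order seven.
-/

set_option autoImplicit false
set_option linter.unusedSectionVars false
set_option linter.style.haveILetI false

namespace Cfsg.Agent.Walter.Field.Other

open Subgroup

universe u v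

variable {G : Type u} [Group G] [Finite G] {K : Type v} [Field K] [Fintype K] {t : G} {E₀ : Subgroup G}
  {S : Sylow 2 G}

theorem three_ne_zero_seven : (3 : ZMod 7) ≠ 0 := by decide

namespace Elt

variable (D : Elt t K E₀ S) (hX : D.X ≤ normalizer ((S : Subgroup G) : Set G)) (h3 : D.q₀ = 3)
  (hN : D.N = 7)
include hX h3 hN

theorem normal_r : D.r = 7 :=
  ((Nat.dvd_prime Seven.prime_seven).1 (hN ▸ D.dvd_N)).resolve_left D.hr.ne_one

theorem normal_card_CX : Nat.card ↥D.CX = 168 := by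
  have hL : Nat.card ↥D.L = 12 := by
    have h := D.two_card_L
    rw [h3] at h
    omega
  rw [D.card_CX, hL, D.card_O_three h3, D.normal_r hX h3 hN]

theorem normal_card_X : Nat.card ↥D.X = 1176 := by
  rw [← D.CX.card_mul_index, D.normal_card_CX hX h3 hN]
  show 168 * D.N = 1176
  rw [hN]

/-- A 7-element of `C(t) ∩ X` lies in `⟨x⟩`. -/
theorem normal_mem_zpowers {b : G} (hbX : b ∈ D.X) (hbt : Commute b t) (hb : b ^ 49 = 1) :
    b ∈ zpowers D.x := by
  have hx7 : orderOf D.x = 7 := D.hox.trans (D.normal_r hX h3 hN)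
  have hC : ∀ H : Subgroup G, H ≤ centralizer ({t} : Set G) → H ≤ D.X → Nat.card ↥H ∣ 168 := by
    intro H h1 h2
    rw [← D.normal_card_CX hX h3 hN, ← Nat.card_congr (subgroupOfEquivOfLe h2).toEquiv]
    exact card_dvd_of_le fun g hg => mem_subgroupOf.2 (h1 (mem_subgroupOf.1 hg))
  have hbC : b ∈ centralizer ({t} : Set G) := mem_centralizer_singleton_iff.2 hbt.eq
  by_contra hbx
  obtain ⟨i, hi, hio⟩ := (Nat.dvd_prime_pow Seven.prime_seven).1
    (show orderOf b ∣ 7 ^ 2 from orderOf_dvd_of_pow_eq_one hb)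
  interval_cases i
  · rw [pow_zero, orderOf_eq_one_iff] at hio
    exact hbx (hio ▸ one_mem _)
  · rw [pow_one] at hio
    have hP : Seven.Pair D.x b := ⟨hx7, hio, (D.x_central b hbX).symm, hbx⟩
    have h49 := hC hP.grp (hP.grp_le (D.Sh.O_le_C D.hx) hbC) (hP.grp_le (D.O_le D.hx) hbX)
    rw [hP.card_grp] at h49
    exact absurd h49 (by norm_num)
  · have h49 := hC (zpowers b) (zpowers_le.2 hbC) (zpowers_le.2 hbX)
    rw [Nat.card_zpowers, hio] at h49
    exact absurd h49 (by norm_num)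

/-- An element of order three centralises no 7-element outside `⟨x⟩`. -/
theorem normal_no_commute {n a : G} (hn : n ∈ D.X) (hn3 : orderOf n = 3) (ha : a ∈ D.X)
    (ha49 : a ^ 49 = 1) (ha7 : a ^ 7 ∈ zpowers D.x) (hax : a ∉ zpowers D.x) (hc : Commute n a) : False := by
  classical
  haveI := D.hsimple
  haveI : Fact (Nat.Prime 3) := ⟨Nat.prime_three⟩
  set F : Subgroup G := (S : Subgroup G) ⊓ centralizer ({n} : Set G) with hF
  have hconj : ∀ (m : ↥(zpowers n)) (s : ↥(S : Subgroup G)), (m : G) * s * (m : G)⁻¹ ∈ (S : Subgroup G) :=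
    fun m s => (mem_normalizer_iff.1 (hX ((zpowers_le.2 hn) m.2)) _).1 s.2
  letI : MulAction ↥(zpowers n) ↥(S : Subgroup G) :=
    { smul := fun m s => ⟨(m : G) * s * (m : G)⁻¹, hconj m s⟩
      one_smul := fun s => Subtype.ext (by show ((1 : ↥(zpowers n)) : G) * s * _⁻¹ = _; simp)
      mul_smul := fun m m' s => Subtype.ext (by
        show ((m * m' : ↥(zpowers n)) : G) * s * ((m * m' : ↥(zpowers n)) : G)⁻¹ =
          (m : G) * ((m' : G) * s * (m' : G)⁻¹) * (m : G)⁻¹
        simp only [Subgroup.coe_mul]; group) }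
  have hp : IsPGroup 3 ↥(zpowers n) := IsPGroup.of_card (n := 1) (by rw [Nat.card_zpowers, hn3, pow_one])
  have hfix : Nat.card ↥(MulAction.fixedPoints ↥(zpowers n) ↥(S : Subgroup G)) = Nat.card ↥F := by
    refine Nat.card_congr ⟨fun s => ⟨s.1.1, s.1.2, mem_centralizer_singleton_iff.2 ?_⟩,
      fun f => ⟨⟨f.1, f.2.1⟩, fun m => ?_⟩, fun s => rfl, fun f => rfl⟩
    · have h1 : n * (s.1 : G) * n⁻¹ = s.1 := congrArg Subtype.val (s.2 ⟨n, mem_zpowers n⟩)
      exact (mul_inv_eq_iff_eq_mul.1 h1).symm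
    · obtain ⟨m, hm⟩ := m
      obtain ⟨l, rfl⟩ := mem_zpowers_iff.1 hm
      refine Subtype.ext ?_
      show n ^ l * (f : G) * (n ^ l)⁻¹ = f
      rw [((show Commute (f : G) n from mem_centralizer_singleton_iff.1 f.2.2).zpow_right l).symm.eq,
        mul_inv_cancel_right]
  obtain ⟨s, hs, hs1⟩ : ∃ s ∈ F, s ≠ 1 := by
    by_contra h
    push Not at h
    have h1 := hp.card_modEq_card_fixedPoints ↥(S : Subgroup G)
    rw [hfix, D.Sh.card_sylow D.hd, show F = ⊥ from (Subgroup.eq_bot_iff_forall F).2 h,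
      Subgroup.card_bot] at h1
    exact absurd h1 (by decide)
  obtain ⟨g, hg, hgs⟩ := D.Sh.trans D.hnc D.hab D.hd s hs.1 hs1
  have hgX : g ∈ D.X := D.normalizer_le hg
  have haN : ∀ k : ℕ, a ^ k * s * (a ^ k)⁻¹ ∈ F := fun k => by
    refine ⟨(mem_normalizer_iff.1 (hX (pow_mem ha k)) _).1 hs.1, mem_centralizer_singleton_iff.2 ?_⟩
    exact (((hc.pow_right k).mul_right (mem_centralizer_singleton_iff.1 hs.2 : Commute s n).symm).mul_right
      (hc.pow_right k).inv_right).eq.symm
  have hfree : ∀ d : ℕ, 0 < d → d < 7 → a ^ d * s * (a ^ d)⁻¹ ≠ s := by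
    intro d h0 h7 e
    have hb : g⁻¹ * a ^ d * g ∈ zpowers D.x := by
      refine D.normal_mem_zpowers hX h3 hN (mul_mem (mul_mem (inv_mem hgX) (pow_mem ha d)) hgX) ?_ ?_
      · show g⁻¹ * a ^ d * g * t = t * (g⁻¹ * a ^ d * g)
        calc g⁻¹ * a ^ d * g * t = g⁻¹ * (a ^ d * (g * t * g⁻¹)) * g := by group
          _ = g⁻¹ * ((g * t * g⁻¹) * a ^ d) * g := by rw [hgs, mul_inv_eq_iff_eq_mul.1 e]
          _ = t * (g⁻¹ * a ^ d * g) := by group
      · calc (g⁻¹ * a ^ d * g) ^ 49 = (g⁻¹ * a ^ d * g⁻¹⁻¹) ^ 49 := by rw [inv_inv]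
          _ = g⁻¹ * ((a ^ d) ^ 49) * g⁻¹⁻¹ := conj_pow
          _ = 1 := by rw [← pow_mul, mul_comm, pow_mul, ha49, one_pow]; group
    have hb' : a ^ d ∈ zpowers D.x := by
      obtain ⟨m, hm⟩ := mem_zpowers_iff.1 hb
      refine mem_zpowers_iff.2 ⟨m, ?_⟩
      calc D.x ^ m = g * D.x ^ m * g⁻¹ := by
            rw [((D.x_central g hgX).zpow_right m).eq, mul_inv_cancel_right]
        _ = a ^ d := by rw [hm]; group
    refine hax ?_
    obtain ⟨u, w, huw⟩ : ∃ u w : ℤ, (1 : ℤ) = d * u + 7 * w := by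
      refine ⟨Nat.gcdA d 7, Nat.gcdB d 7, ?_⟩
      have h1 : Nat.gcd d 7 = 1 :=
        ((Nat.Prime.coprime_iff_not_dvd Seven.prime_seven).2 fun hd' =>
          absurd (Nat.le_of_dvd h0 hd') (by omega)).symm
      have := Nat.gcd_eq_gcd_ab d 7
      rw [h1] at this
      exact_mod_cast this
    have h2 := mul_mem (zpow_mem hb' u) (zpow_mem ha7 w)
    rw [← zpow_natCast a, ← zpow_natCast a, ← zpow_mul, ← zpow_mul, ← zpow_add] at h2
    rwa [show ((7 : ℕ) : ℤ) = 7 from rfl, ← huw, zpow_one] at h2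
  have hFS : (S : Subgroup G) ≤ F := by
    refine (Subgroup.eq_of_le_of_card_ge (inf_le_left : F ≤ _) ?_).ge
    have hinj : Function.Injective (fun o : Option (Fin 7) => (o.elim (⟨1, one_mem F⟩ : ↥F) fun k =>
        ⟨a ^ (k : ℕ) * s * (a ^ (k : ℕ))⁻¹, haN k⟩)) := by
      have hne : ∀ k : ℕ, a ^ k * s * (a ^ k)⁻¹ ≠ 1 := fun k e => hs1 (conj_eq_one_iff.1 e)
      have key : ∀ k l : ℕ, k < l → l < 7 → a ^ k * s * (a ^ k)⁻¹ ≠ a ^ l * s * (a ^ l)⁻¹ := by
        intro k l hkl hl e
        obtain ⟨d, rfl⟩ := Nat.exists_eq_add_of_le hkl.le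
        refine hfree d (by omega) (by omega) ?_
        rw [pow_add, show a ^ k * a ^ d * s * (a ^ k * a ^ d)⁻¹ =
          a ^ k * (a ^ d * s * (a ^ d)⁻¹) * (a ^ k)⁻¹ by group] at e
        exact (mul_left_cancel (mul_right_cancel e)).symm
      rintro (_ | k) (_ | l) e
      · rfl
      · exact absurd (congrArg Subtype.val e).symm (hne l)
      · exact absurd (congrArg Subtype.val e) (hne k)
      · refine congrArg some (Fin.ext ?_)
        rcases lt_trichotomy (k : ℕ) (l : ℕ) with hkl | hkl | hkl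
        · exact absurd (congrArg Subtype.val e) (key _ _ hkl l.2)
        · exact hkl
        · exact absurd (congrArg Subtype.val e).symm (key _ _ hkl k.2)
    have h1 := Nat.card_le_card_of_injective _ hinj
    rw [D.Sh.card_sylow D.hd]
    rw [show Nat.card (Option (Fin 7)) = 8 by simp] at h1
    exact h1
  have hO : n ∈ D.Sh.O := (D.Sh.mem_O n).2
    ⟨mem_centralizer_iff.2 fun z hz => mem_centralizer_singleton_iff.1 (hFS hz).2, by rw [hn3]; decide⟩
  have h7 := Subgroup.orderOf_dvd_natCard _ hO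
  rw [hn3, D.card_O_three h3, D.normal_r hX h3 hN] at h7
  exact absurd h7 (by decide)

/-- The normal case is impossible. -/
theorem false_of_normal : False := by
  haveI := D.hsimple
  haveI := Seven.fact_seven
  have hx7 : orderOf D.x = 7 := D.hox.trans (D.normal_r hX h3 hN)
  have hcardX := D.normal_card_X hX h3 hN
  have hsmall : ¬ 7 ^ 3 ∣ Nat.card ↥(centralizer ({D.x} : Set G)) := by
    show ¬ 7 ^ 3 ∣ Nat.card ↥D.X
    rw [hcardX]; norm_num
  have hx1 : D.x ≠ 1 := fun e => by rw [e, orderOf_one] at hx7; omega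
  have hrig : ∀ (g : G) (m : ℕ), g * D.x * g⁻¹ = D.x ^ m → g * D.x * g⁻¹ = D.x := by
    intro g m hg
    have hm : (m : ZMod 7) ≠ 0 := fun h0 => hx1 (by
      have h1 : D.x ^ m = 1 := by
        obtain ⟨q, rfl⟩ := (ZMod.natCast_eq_zero_iff _ _).1 h0
        rw [pow_mul, show D.x ^ 7 = 1 by rw [← hx7, pow_orderOf_eq_one], one_pow]
      rw [← hg] at h1
      exact conj_eq_one_iff.1 h1)
    have hgN : g ∈ normalizer ((S : Subgroup G) : Set G) := by
      refine mem_normalizer_fintype fun s hs => ?_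
      have hs2 : s * s = 1 := D.Sh.orbit_invol D.hab D.hd hs
      refine SEAbelian.mem_sylow_of_normalizer S (hX (mem_centralizer_singleton_iff.2 ?_)) (k := 1) ?_
      · have h1 : Commute (g * s * g⁻¹) (g * D.x * g⁻¹) := by
          show g * s * g⁻¹ * (g * D.x * g⁻¹) = g * D.x * g⁻¹ * (g * s * g⁻¹)
          calc g * s * g⁻¹ * (g * D.x * g⁻¹) = g * (s * D.x) * g⁻¹ := by group
            _ = g * (D.x * s) * g⁻¹ := by rw [(D.x_central s (D.S_le hs)).eq]
            _ = g * D.x * g⁻¹ * (g * s * g⁻¹) := by group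
        rw [hg] at h1
        have h2 := h1.pow_right ((m : ZMod 7)⁻¹).val
        rw [← pow_mul, ← Seven.pow_val hx7, Nat.cast_mul, ZMod.natCast_zmod_val, mul_inv_cancel₀ hm] at h2
        haveI : Fact (1 < 7) := ⟨by norm_num⟩
        rw [ZMod.val_one, pow_one] at h2
        exact h2.eq
      · rw [pow_one, conj_pow, pow_two, hs2, mul_one, mul_inv_cancel]
    rw [(D.x_central g (D.normalizer_le hgN)).eq, mul_inv_cancel_right]
  -- the Sylow subgroup of `X`
  obtain ⟨PX⟩ : Nonempty (Sylow 7 ↥D.X) := inferInstance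
  obtain ⟨e, he⟩ := IsPGroup.iff_card.1 PX.2
  have hidx := (PX : Subgroup ↥D.X).card_mul_index
  rw [he, hcardX] at hidx
  have he2 : e = 2 := by
    have hnd := PX.not_dvd_index
    have h2 : e ≤ 2 := by
      by_contra h
      have h4 : 7 ^ 3 ∣ 1176 := hidx ▸ (pow_dvd_pow 7 (by omega : 3 ≤ e)).trans (dvd_mul_right _ _)
      norm_num at h4
    interval_cases e
    · exact absurd ⟨168, by omega⟩ hnd
    · exact absurd ⟨24, by omega⟩ hnd
    · rfl
  subst he2
  set xX : ↥D.X := ⟨D.x, D.O_le D.hx⟩ with hxX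
  have hxP : xX ∈ (PX : Subgroup ↥D.X) := by
    have hp : IsPGroup 7 ↥(zpowers xX) := IsPGroup.of_card (n := 1) (by
      rw [Nat.card_zpowers, Subgroup.orderOf_mk, hx7, pow_one])
    have h1 : xX ∈ zpowers xX ⊓ normalizer (PX : Set ↥D.X) := ⟨mem_zpowers _, by
      refine mem_normalizer_fintype fun p hp' => ?_
      rw [show xX * p * xX⁻¹ = p by
        rw [show xX * p = p * xX from Subtype.ext (D.x_central p p.2).symm.eq, mul_inv_cancel_right]]
      exact hp'⟩
    rw [hp.inf_normalizer_sylow] at h1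
    exact h1.2
  obtain ⟨n, hnP, hn3⟩ : ∃ n : ↥D.X, n ∈ normalizer ((PX : Subgroup ↥D.X) : Set ↥D.X) ∧ orderOf n = 3 := by
    haveI : Fact (Nat.Prime 3) := ⟨Nat.prime_three⟩
    set NP := normalizer ((PX : Subgroup ↥D.X) : Set ↥D.X)
    have hc := Sylow.card_eq_index_normalizer PX
    have hmod := card_sylow_modEq_one 7 ↥D.X
    rw [hc] at hmod
    have h1 := NP.card_mul_index
    rw [hcardX] at h1
    have h49 : 49 ∣ Nat.card ↥NP := by
      have := card_dvd_of_le (le_normalizer : (PX : Subgroup ↥D.X) ≤ NP)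
      rwa [he] at this
    have h3 : 3 ∣ Nat.card ↥NP := by
      obtain ⟨c, hc'⟩ := h49
      rw [hc'] at h1 ⊢
      have hi : c * NP.index = 24 := by
        rw [mul_assoc] at h1; omega
      have hle : NP.index ≤ 24 := Nat.le_of_dvd (by norm_num) ⟨c, by rw [mul_comm, hi]⟩
      rcases (Nat.Prime.dvd_mul Nat.prime_three).1 (show 3 ∣ c * NP.index by rw [hi]; norm_num) with h | h
      · exact h.mul_left 49
      · exfalso
        have hd : NP.index ∣ 24 := ⟨c, by rw [mul_comm, hi]⟩
        have hm : NP.index % 7 = 1 := hmod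
        obtain ⟨q, hq⟩ := h
        have hq8 : q ≤ 8 := by omega
        rw [hq] at hm hd
        interval_cases q <;> revert hm hd <;> decide
    obtain ⟨n, hn⟩ := exists_prime_orderOf_dvd_card' (G := ↥NP) 3 h3
    exact ⟨n, n.2, by rw [Subgroup.orderOf_coe, hn]⟩
  set P : Subgroup G := (PX : Subgroup ↥D.X).map D.X.subtype with hP
  have hPcard : Nat.card ↥P = 49 := by
    rw [hP, card_map_of_injective D.X.subtype_injective, he]; norm_num
  have hPX : P ≤ D.X := map_subtype_le _
  have hxmP : D.x ∈ P := ⟨xX, hxP, rfl⟩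
  have hnconj : ∀ p ∈ P, (n : G) * p * (n : G)⁻¹ ∈ P := by
    rintro _ ⟨p, hp, rfl⟩
    exact ⟨n * p * n⁻¹, (mem_normalizer_iff.1 hnP p).1 hp, rfl⟩
  have hn3' : orderOf (n : G) = 3 := by rw [Subgroup.orderOf_coe, hn3]
  have hnx : (n : G) * D.x * (n : G)⁻¹ = D.x := by rw [(D.x_central n n.2).eq, mul_inv_cancel_right]
  obtain ⟨a, haP, hax⟩ : ∃ a ∈ P, a ∉ zpowers D.x := by
    by_contra h
    push Not at h
    have h1 := Subgroup.card_dvd_of_le (show P ≤ zpowers D.x from h)
    rw [hPcard, Nat.card_zpowers, hx7] at h1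
    norm_num at h1
  have ha49 : a ^ 49 = 1 := by
    rw [← hPcard]
    exact congrArg Subtype.val (pow_card_eq_one' (x := (⟨a, haP⟩ : ↥P)))
  have hn3c : ∀ p : G, (n : G) ^ 3 * p * ((n : G) ^ 3)⁻¹ = p := fun p => by
    rw [← hn3', pow_orderOf_eq_one, one_mul, inv_one, mul_one]
  obtain ⟨i, hi, hio⟩ := (Nat.dvd_prime_pow Seven.prime_seven).1
    (show orderOf a ∣ 7 ^ 2 from orderOf_dvd_of_pow_eq_one ha49)
  interval_cases i
  · rw [pow_zero, orderOf_eq_one_iff] at hio
    exact hax (hio ▸ one_mem _)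
  · rw [pow_one] at hio
    haveI : Fact (1 < 7) := ⟨by norm_num⟩
    have hPr : Seven.Pair D.x a := ⟨hx7, hio, (D.x_central a (hPX haP)).symm, hax⟩
    have hgrp : hPr.grp = P :=
      Subgroup.eq_of_le_of_card_ge (hPr.grp_le hxmP haP) (by rw [hPr.card_grp, hPcard])
    obtain ⟨i, k, hik⟩ := hPr.exists_el (hgrp.symm ▸ hnconj a haP)
    have hconj : ∀ p q, (n : G) * hPr.el p q * (n : G)⁻¹ = hPr.el (p + q * i) (q * k) := by
      intro p q
      rw [hPr.conj_el, hnx, hik, hPr.el_pow, ZMod.natCast_zmod_val,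
        show D.x ^ p.val = hPr.el p 0 by simp [Seven.Pair.el], hPr.el_mul, zero_add]
    have h3times : ∀ p q, hPr.el p q = hPr.el (p + q * i + q * k * i + q * k * k * i) (q * k * k * k) := by
      intro p q
      calc hPr.el p q = (n : G) ^ 3 * hPr.el p q * ((n : G) ^ 3)⁻¹ := (hn3c _).symm
        _ = (n : G) * ((n : G) * ((n : G) * hPr.el p q * (n : G)⁻¹) * (n : G)⁻¹) * (n : G)⁻¹ := by
          rw [show (n : G) ^ 3 = (n : G) * n * n by rw [pow_succ, pow_two]]; group
        _ = _ := by rw [hconj, hconj, hconj]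
    obtain ⟨e1, e2⟩ := hPr.el_inj (h3times 0 1)
    by_cases hk : k = 1
    · subst hk
      have hi0 : i = 0 := by
        have h4 : (3 : ZMod 7) * i = 0 := by linear_combination (-1 : ZMod 7) * e1
        exact (mul_eq_zero.1 h4).resolve_left three_ne_zero_seven
      subst hi0
      refine D.normal_no_commute hX h3 hN n.2 hn3' (hPX haP) ha49
        (by rw [show a ^ 7 = 1 by rw [← hio, pow_orderOf_eq_one]]; exact one_mem _) hax
        (mul_inv_eq_iff_eq_mul.1 ?_)
      rw [hik, hPr.a_eq]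
    set s : ZMod 7 := i * (k - 1)⁻¹ with hs
    have hs' : s * (k - 1) = i := by
      rw [hs, inv_mul_cancel_right₀ (sub_ne_zero.2 hk)]
    set a₁ := hPr.el s 1 with ha₁
    have ha₁x : a₁ ∉ zpowers D.x := by
      intro hm
      obtain ⟨l, hl⟩ := Seven.exists_nat_pow hm
      rw [← hPr.x_eq, hPr.el_pow] at hl
      obtain ⟨-, h2⟩ := hPr.el_inj hl
      simp at h2
    have hP₁ : Seven.Pair D.x a₁ :=
      ⟨hx7, hPr.order_eq (hPr.el_mem s 1) fun e' => ha₁x (e' ▸ one_mem _),
        hPr.grp_comm hPr.x_mem (hPr.el_mem s 1), ha₁x⟩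
    refine Seven.Data.false_of_simple D.hnc (x := D.x) (a := a₁) (y := (n : G)) (j := k)
      { toPair := hP₁
        y_x := (D.x_central n n.2)
        y_a := ?_
        j_cube := by linear_combination (-1 : ZMod 7) * e2
        j_ne := hk
        rigid := hrig
        small := hsmall }
    rw [ha₁, hconj, hPr.el_pow, ZMod.natCast_zmod_val]
    simp only [one_mul, mul_one]
    congr 1
    linear_combination (-1 : ZMod 7) * hs'
  · -- a cyclic Sylow subgroup
    have hza : zpowers a = P :=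
      Subgroup.eq_of_le_of_card_ge (zpowers_le.2 haP) (by rw [Nat.card_zpowers, hio, hPcard]; norm_num)
    obtain ⟨c, hc⟩ := Seven.exists_nat_pow (hza.symm ▸ hnconj a haP : (n : G) * a * (n : G)⁻¹ ∈ zpowers a)
    obtain ⟨d, hd⟩ := Seven.exists_nat_pow (hza.symm ▸ hxmP : D.x ∈ zpowers a)
    have hcd : ((c : ZMod 49) - 1) * d = 0 := by
      have h1 : a ^ (c * d) = a ^ d := by
        rw [pow_mul, hc, conj_pow, hd, hnx]
      have h2 : (((c * d : ℕ)) : ZMod 49) = (d : ZMod 49) := by
        rw [ZMod.natCast_eq_natCast_iff]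
        have h2' := pow_eq_pow_iff_modEq.1 h1
        rw [hio] at h2'
        exact h2'
      push_cast at h2
      linear_combination h2
    have hc3 : (c : ZMod 49) ^ 3 = 1 := by
      have hstep : ∀ m : ℕ, (n : G) ^ m * a * ((n : G) ^ m)⁻¹ = a ^ c ^ m := by
        intro m
        induction m with
        | zero => simp
        | succ m ih =>
          calc (n : G) ^ (m + 1) * a * ((n : G) ^ (m + 1))⁻¹
              = (n : G) * ((n : G) ^ m * a * ((n : G) ^ m)⁻¹) * (n : G)⁻¹ := by rw [pow_succ']; group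
            _ = a ^ c ^ (m + 1) := by rw [ih, ← conj_pow, ← hc, ← pow_mul, pow_succ']
      have h1 := (hn3c a).symm.trans (hstep 3)
      have h2 : ((c ^ 3 : ℕ) : ZMod 49) = ((1 : ℕ) : ZMod 49) := by
        rw [ZMod.natCast_eq_natCast_iff]
        have h2' := pow_eq_pow_iff_modEq.1 ((pow_one a).trans h1)
        rw [hio] at h2'
        exact h2'.symm
      push_cast at h2
      exact h2
    have hdne : (d : ZMod 49) ≠ 0 := fun h0 => hx1 (by
      obtain ⟨q, hq⟩ := (ZMod.natCast_eq_zero_iff _ _).1 h0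
      rw [← hd, hq, pow_mul, ha49, one_pow])
    have hkey : ∀ z : ZMod 49, z ^ 3 = 1 → z = 1 ∨ IsUnit (z - 1) := by
      intro z hz
      by_cases h7 : 7 ∣ (z - 1).val
      · left
        obtain ⟨q, hq⟩ := h7
        have hz1 : z = 1 + 7 * (q : ZMod 49) := by
          have h5 := congrArg (fun m : ℕ => (m : ZMod 49)) hq
          simp only [ZMod.natCast_zmod_val] at h5
          push_cast at h5
          linear_combination h5
        rw [hz1] at hz ⊢
        have h49 : (49 : ZMod 49) = 0 := rfl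
        have h21 : (21 : ZMod 49) * q = 0 := by
          linear_combination hz - (3 * (q : ZMod 49) ^ 2 + 7 * (q : ZMod 49) ^ 3) * h49
        have h7q : (7 : ZMod 49) * q = 0 := by
          linear_combination (-16 : ZMod 49) * h21 + (7 * (q : ZMod 49)) * h49
        rw [h7q, add_zero]
      · right
        rw [← ZMod.natCast_zmod_val (z - 1)]
        exact (ZMod.isUnit_iff_coprime _ _).2 (by
          show Nat.Coprime (z - 1).val (7 ^ 2)
          exact Nat.Coprime.pow_right 2 ((Nat.Prime.coprime_iff_not_dvd Seven.prime_seven).2 h7).symm)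
    rcases hkey _ hc3 with h | h
    · refine D.normal_no_commute hX h3 hN n.2 hn3' (hPX haP) ha49 ?_ hax (mul_inv_eq_iff_eq_mul.1 ?_)
      · have h7 : zpowers (a ^ 7) = zpowers D.x := by
          refine (Subgroup.eq_of_le_of_card_ge (zpowers_le.2 ?_) ?_).symm
          · have h7d : (7 : ℕ) ∣ d := by
              by_contra h7d
              have h4 : orderOf D.x = 49 := by
                rw [← hd, orderOf_pow, hio, show Nat.gcd (7 ^ 2) d = 1 from
                  Nat.Coprime.pow_left 2 ((Nat.Prime.coprime_iff_not_dvd Seven.prime_seven).2 h7d),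
                  Nat.div_one]
                norm_num
              omega
            obtain ⟨q, hq⟩ := h7d
            rw [← hd, hq, pow_mul]
            exact pow_mem (mem_zpowers _) q
          · rw [Nat.card_zpowers, Nat.card_zpowers, hx7, orderOf_pow, hio]; norm_num
        rw [← h7]; exact mem_zpowers _
      · rw [← hc]
        have h2 : (c : ZMod 49) = ((1 : ℕ) : ZMod 49) := by rw [h, Nat.cast_one]
        rw [ZMod.natCast_eq_natCast_iff] at h2
        conv_rhs => rw [← pow_one a]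
        refine pow_eq_pow_iff_modEq.2 ?_
        rw [hio]
        exact h2
    · exact hdne (h.mul_right_eq_zero.1 hcd)

end Elt

end Cfsg.Agent.Walter.Field.Other
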