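import Cfsg.Agent.Lib.Walter.Field.Main
import Cfsg.Agent.Lib.Walter.Field.OtherFact
import Cfsg.Agent.Lib.Walter.Field.OtherNormalCase

/-!
# The field part of an involution centraliser is trivial
-/

set_option autoImplicit false

namespace Cfsg.Agent.Walter

universe u v

/-- `OtherFact` holds. -/
theorem Field.other_fact : Field.OtherFact.{u, v} :=
  Field.Other.other_fact_of fun D hX h3 hN => D.false_of_normal hX h3 hN

/-- `FieldFact` holds. -/
theorem fieldFact : FieldFact.{u} := Field.fieldFact_of Field.other_fact

end Cfsg.Agent.Walter
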