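import Cfsg.Agent.Lib.Classical.Linear
import Cfsg.Agent.Lib.Classical.SmallIso
import Cfsg.Agent.Lib.Classical.GL2
import Cfsg.Agent.S0251

/-!
# Small facts for the bound on the 3-part of `C(x)`

The order of `PSL₂(q)`, its normal subgroups of odd order and the splitting `⟨t⟩ × E`.
-/

set_option autoImplicit false
set_option linter.unusedSectionVars false

namespace Cfsg.Agent.Walter.Field.Bound

open Subgroup

universe u v

variable {F : Type v} [Field F] [Fintype F]

theorem card_psl_double (hodd : Odd (Fintype.card F)) :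
    2 * Nat.card (Matrix.ProjectiveSpecialLinearGroup (Fin 2) F) =
      Fintype.card F * ((Fintype.card F - 1) * (Fintype.card F + 1)) := by
  have h := Classical.SmallIso.natCard_pslTwo F
  obtain ⟨k, hk⟩ := hodd
  rw [hk, show 2 * k + 1 - 1 = 2 * k by omega, Nat.gcd_mul_right_right,
    Classical.GL2.natCard_SL_two, hk, show 2 * k + 1 - 1 = 2 * k by omega] at h
  rw [hk, show 2 * k + 1 - 1 = 2 * k by omega]
  exact h

theorem alt4_odd : (∀ n : alternatingGroup (Fin 4), n ^ 3 = 1 ∨ n ^ 2 = 1) ∧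
    ∀ n : alternatingGroup (Fin 4), n ≠ 1 → n ^ 3 = 1 →
      ∃ g : alternatingGroup (Fin 4), (g * n * g⁻¹ * n⁻¹) ^ 2 = 1 ∧ g * n * g⁻¹ * n⁻¹ ≠ 1 := by
  constructor <;> decide +kernel

/-- No normal subgroup of odd order, `q = 3` included. -/
theorem odd_normal_eq_bot {L : Type u} [Group L] [Finite L]
    (e : L ≃* Matrix.ProjectiveSpecialLinearGroup (Fin 2) F) (hodd : Odd (Fintype.card F))
    {M : Subgroup L} (hM : M.Normal) (hMo : Odd (Nat.card M)) : M = ⊥ := by
  have h1 := Fintype.one_lt_card (α := F)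
  obtain ⟨k, hk⟩ := hodd
  have hodd' : ∀ a ∈ M, a ^ 2 = 1 → a = 1 := fun a ha h2 =>
    orderOf_eq_one_iff.1 (Nat.eq_one_of_dvd_coprimes (Nat.coprime_two_left.2 hMo)
      (orderOf_dvd_of_pow_eq_one h2) (M.orderOf_dvd_natCard ha))
  by_cases h3 : Fintype.card F = 3
  · obtain ⟨eA⟩ := S0251.result h3
    set ψ := e.trans eA
    refine (Subgroup.eq_bot_iff_forall M).2 fun a ha => by_contra fun ha1 => ?_
    have hψ1 : ψ a ≠ 1 := fun h => ha1 ((MulEquiv.map_eq_one_iff ψ).1 h)
    rcases alt4_odd.1 (ψ a) with h | h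
    · obtain ⟨g, hg, hg1⟩ := alt4_odd.2 (ψ a) hψ1 h
      have hc : ψ.symm g * a * (ψ.symm g)⁻¹ * a⁻¹ ∈ M :=
        mul_mem (hM.conj_mem a ha _) (inv_mem ha)
      have hm : ψ (ψ.symm g * a * (ψ.symm g)⁻¹ * a⁻¹) = g * ψ a * g⁻¹ * (ψ a)⁻¹ := by simp
      have h0 := hodd' _ hc (ψ.injective (by rw [map_pow, hm, hg, map_one]))
      exact hg1 (by rw [← hm, h0, map_one])
    · exact ha1 (hodd' a ha (ψ.injective (by rw [map_pow, h, map_one])))
  · haveI : IsSimpleGroup (Matrix.ProjectiveSpecialLinearGroup (Fin 2) F) :=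
      Classical.Linear.isSimpleGroup_PSL_fin le_rfl fun _ => by omega
    rcases (hM.map e.toMonoidHom e.surjective).eq_bot_or_eq_top with h | h
    · exact (map_eq_bot_iff_of_injective _ e.injective).1 h
    · exfalso
      have h2 : Nat.card (Matrix.ProjectiveSpecialLinearGroup (Fin 2) F) = Nat.card M := by
        rw [Nat.card_congr (M.equivMapOfInjective e.toMonoidHom e.injective).toEquiv, h, card_top]
      have h4 := card_psl_double (F := F) ⟨k, hk⟩
      rw [h2, hk, show 2 * k + 1 - 1 = 2 * k by omega] at h4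
      obtain ⟨m, hm⟩ := hMo
      have h5 : Nat.card M = 2 * ((2 * k + 1) * (k * (k + 1))) := by nlinarith
      omega

variable {G : Type u} [Group G]

theorem zpowers_inf_eq_bot {t : G} (ht : orderOf t = 2) {E : Subgroup G} (htE : t ∉ E) :
    zpowers t ⊓ E = ⊥ := by
  refine (Subgroup.eq_bot_iff_forall _).2 fun a ha => ?_
  obtain ⟨m, rfl⟩ := mem_zpowers_iff.1 ha.1
  have h2 : t ^ (2 : ℤ) = 1 := by rw [zpow_ofNat, ← ht, pow_orderOf_eq_one]
  obtain ⟨k, rfl | rfl⟩ := Int.even_or_odd' m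
  · rw [zpow_mul, h2, one_zpow]
  · exfalso
    have h1 := ha.2
    rw [zpow_add, zpow_mul, h2, one_zpow, one_mul, zpow_one] at h1
    exact htE h1

/-- `⟨t⟩ × E`. -/
theorem two_times_equiv {t : G} (ht : orderOf t = 2) {E : Subgroup G}
    (hle : E ≤ centralizer ({t} : Set G)) (htE : t ∉ E)
    (heq : centralizer ({t} : Set G) = zpowers t ⊔ E) {X : Type v} [Group X] (e : ↥E ≃* X) :
    Nonempty (↥(centralizer ({t} : Set G)) ≃* Multiplicative (ZMod 2) × X) := by
  have hcomm : ∀ (a : ↥(zpowers t)) (b : ↥E), Commute ((zpowers t).subtype a) (E.subtype b) := by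
    rintro ⟨a, ha⟩ ⟨b, hb⟩
    obtain ⟨m, rfl⟩ := mem_zpowers_iff.1 ha
    exact ((show Commute b t from mem_centralizer_singleton_iff.1 (hle hb)).zpow_right m).symm
  set φ := (zpowers t).subtype.noncommCoprod E.subtype hcomm
  have hinj : Function.Injective φ := by
    rw [MonoidHom.noncommCoprod_injective, range_subtype, range_subtype]
    exact ⟨Subtype.val_injective, Subtype.val_injective, disjoint_iff.2 (zpowers_inf_eq_bot ht htE)⟩
  have hr : φ.range = centralizer ({t} : Set G) := by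
    rw [MonoidHom.noncommCoprod_range, range_subtype, range_subtype, heq]
  refine ⟨((MulEquiv.subgroupCongr hr.symm).trans (MonoidHom.ofInjective hinj).symm).trans
    (MulEquiv.prodCongr (mulEquivOfCyclicCardEq ?_) e)⟩
  rw [Nat.card_zpowers, ht, Nat.card_congr Multiplicative.toAdd, Nat.card_zmod]

end Cfsg.Agent.Walter.Field.Bound
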