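import Cfsg.Agent.Lib.Walter.Field.OtherShape

/-!
# Elements of the field part, and the normaliser of a Sylow 2-subgroup

Every prime divisor of the index of `⟨t⟩ × E₀` in `C(t)` gives an element of the field part, `|K|`
is a power with that exponent, `N(S)` is transitive on the involutions of `S` and centralises the
element.
-/

set_option autoImplicit false
set_option linter.unusedSectionVars false
set_option linter.style.haveILetI false

namespace Cfsg.Agent.Walter.Field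

open Subgroup

universe u v

variable {G : Type u} [Group G] [Finite G] {K : Type v} [Field K] [Fintype K] {t : G} {E₀ : Subgroup G}

namespace Other

theorem exists_sylow_mem (ht : orderOf t = 2) : ∃ S : Sylow 2 G, t ∈ (S : Subgroup G) := by
  haveI : Fact (Nat.Prime 2) := ⟨Nat.prime_two⟩
  have hp : IsPGroup 2 ↥(zpowers t) := IsPGroup.of_card (n := 1) (by rw [Nat.card_zpowers, ht, pow_one])
  obtain ⟨S, hS⟩ := hp.exists_le_sylow
  exact ⟨S, hS (mem_zpowers t)⟩

/-- An element of the field part sits in some `O`. -/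
theorem exists_shape_of_elt (hd : TwoPSL t K E₀) (h : SEAbelian.AbTwo G) (h5 : 5 ≤ Fintype.card K)
    {x : G} {r : ℕ} (hx : FieldElt t E₀ x r) :
    ∃ (S : Sylow 2 G) (Sh : Shape t K E₀ S), x ∈ Sh.O ∧ r ≠ 2 := by
  haveI : Fact (Nat.Prime 2) := ⟨Nat.prime_two⟩
  obtain ⟨S, htS, hxS⟩ := hx.sylow
  obtain ⟨Sh⟩ := exists_shape hd h h5 S htS
  have hxC : x ∈ centralizer ((S : Subgroup G) : Set G) :=
    mem_centralizer_iff.2 fun s hs => (hxS s hs).eq.symm
  have hr2 : r ≠ 2 := by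
    rintro rfl
    have hxs : x ∈ (S : Subgroup G) := SEAbelian.mem_sylow_of_normalizer S
      (centralizer_le_normalizer _ hxC) (k := 1) (by rw [pow_one, ← hx.order, pow_orderOf_eq_one])
    obtain ⟨a, ha, v, -, rfl⟩ := Sh.sylow x hxs
    exact hx.outside (mul_mem (mem_sup_left ha) (mem_sup_right (Sh.φ.symm v).2))
  exact ⟨S, Sh, (Sh.mem_O x).2 ⟨hxC, by rw [hx.order]; exact hx.prime.odd_of_ne_two hr2⟩, hr2⟩

/-- An element of prime order of `O` is an element of the field part. -/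
theorem fieldElt_of_mem {S : Sylow 2 G} (Sh : Shape t K E₀ S) {x : G} (hx : x ∈ Sh.O) {r : ℕ}
    (hr : r.Prime) (ho : orderOf x = r) : FieldElt t E₀ x r :=
  ⟨hr, ho, Sh.O_commute_t hx, fun hin => hr.ne_one (by rw [← ho, Sh.uniq x hin hx, orderOf_one]),
    S, Sh.memt, fun _ hs => Sh.O_commute_S hx hs⟩

end Other

open Other

/-- Every prime divisor of the order of the field part gives an element of that order. -/
theorem exists_fieldElt (h : SEAbelian.AbTwo G) (h5 : 5 ≤ Fintype.card K) (hd : TwoPSL t K E₀) {r : ℕ}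
    (hr : r.Prime) (hdvd : r ∣ outIndex t E₀) : ∃ x, FieldElt t E₀ x r := by
  obtain ⟨S, htS⟩ := exists_sylow_mem hd.ht
  obtain ⟨Sh⟩ := exists_shape hd h h5 S htS
  haveI : Fact r.Prime := ⟨hr⟩
  rw [Sh.outIndex_eq hd] at hdvd
  obtain ⟨x, hx⟩ := exists_prime_orderOf_dvd_card' (G := ↥Sh.O) r hdvd
  exact ⟨x, fieldElt_of_mem Sh x.2 hr (by rw [Subgroup.orderOf_coe, hx])⟩

/-- A nontrivial field part has an element. -/
theorem outIndex_ne_one (hne : centralizer ({t} : Set G) ≠ zpowers t ⊔ E₀) (hd : TwoPSL t K E₀) :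
    outIndex t E₀ ≠ 1 := fun e => hne (le_antisymm (relIndex_eq_one.1 e)
      (sup_le (zpowers_le.2 (mem_centralizer_singleton_iff.2 rfl)) hd.le))

/-- The order of the field is a power with exponent the order of the element. -/
theorem fieldElt_pow (h : SEAbelian.AbTwo G) (h5 : 5 ≤ Fintype.card K) (hd : TwoPSL t K E₀) {x : G}
    {r : ℕ} (hx : FieldElt t E₀ x r) : ∃ q₀ : ℕ, Fintype.card K = q₀ ^ r := by
  classical
  obtain ⟨S, Sh, hxO, -⟩ := exists_shape_of_elt hd h h5 hx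
  letI : Fintype ↥(fixF (Sh.σ ⟨x, hxO⟩)) := Fintype.ofFinite _
  exact ⟨_, by rw [Sh.card_eq_pow hd hxO, hx.order]⟩

/-- An element of the field part has order dividing the order of the field part. -/
theorem fieldElt_dvd (h : SEAbelian.AbTwo G) (h5 : 5 ≤ Fintype.card K) (hd : TwoPSL t K E₀) {x : G}
    {r : ℕ} (hx : FieldElt t E₀ x r) : r ∣ outIndex t E₀ := by
  obtain ⟨S, Sh, hxO, -⟩ := exists_shape_of_elt hd h h5 hx
  rw [Sh.outIndex_eq hd, ← hx.order]
  exact Subgroup.orderOf_dvd_natCard _ hxO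

namespace Other

variable {S : Sylow 2 G} (Sh : Shape t K E₀ S)
include Sh

theorem Shape.orbit_invol (hab : SEAbelian.AbTwo G) (hd : TwoPSL t K E₀) {s : G}
    (hs : s ∈ (S : Subgroup G)) : s * s = 1 := by
  obtain ⟨a, ha, v, hv, rfl⟩ := Sh.sylow s hs
  have hav : Commute a (Sh.φ.symm v : G) := by
    obtain ⟨m, rfl⟩ := mem_zpowers_iff.1 ha
    exact ((show Commute (Sh.φ.symm v : G) t from
      mem_centralizer_singleton_iff.1 (hd.le (Sh.φ.symm v).2)).zpow_right m).symm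
  rw [hav.symm.mul_mul_mul_comm]
  have h1 : a * a = 1 := by
    rcases zpow_cases hd.ht ha with rfl | rfl
    · exact one_mul 1
    · rw [← pow_two, ← hd.ht, pow_orderOf_eq_one]
  have h2 : v * v = 1 := by
    rcases hv with rfl | rfl | rfl | rfl
    exacts [one_mul 1, Sh.frame.sqI, Sh.frame.sqJ, by
      rw [Sh.frame.comm.symm.mul_mul_mul_comm, Sh.frame.sqI, Sh.frame.sqJ, one_mul]]
  rw [h1, one_mul, ← Subgroup.coe_mul, ← map_mul, h2, map_one, Subgroup.coe_one]

/-- A subgroup of `N(S)` containing `S` and `y` and moving `t` is transitive on the involutions. -/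
theorem Shape.trans_of_moves (hab : SEAbelian.AbTwo G) (hd : TwoPSL t K E₀) {N : Subgroup G}
    (hN : N ≤ normalizer ((S : Subgroup G) : Set G)) (hSN : (S : Subgroup G) ≤ N) (hy : Sh.y ∈ N)
    (hmov : ∃ n ∈ N, n * t * n⁻¹ ≠ t) :
    ∀ s ∈ (S : Subgroup G), s ≠ 1 → ∃ n ∈ N, n * t * n⁻¹ = s := by
  classical
  haveI : Fact (Nat.Prime 2) := ⟨Nat.prime_two⟩
  set orb : Set G := {s | ∃ n ∈ N, n * t * n⁻¹ = s} with horb
  have hodd : Odd (Nat.card ↥orb) := by
    let Cn := (centralizer ({t} : Set G)).subgroupOf N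
    have e : Nat.card ↥orb = Cn.index := by
      rw [Subgroup.index]
      refine (Nat.card_congr (Equiv.ofBijective
        (Quotient.lift (fun n : ↥N => (⟨(n : G) * t * (n : G)⁻¹, n, n.2, rfl⟩ : ↥orb)) fun a b hab' => ?_)
        ⟨?_, ?_⟩)).symm
      · have h1 : a⁻¹ * b ∈ Cn := QuotientGroup.leftRel_apply.1 hab'
        have h2 : (a : G)⁻¹ * b * t = t * ((a : G)⁻¹ * b) :=
          mem_centralizer_singleton_iff.1 (mem_subgroupOf.1 h1)
        refine Subtype.ext ?_
        show (a : G) * t * (a : G)⁻¹ = b * t * (b : G)⁻¹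
        calc (a : G) * t * (a : G)⁻¹ = a * (t * ((a : G)⁻¹ * b)) * (b : G)⁻¹ := by group
          _ = a * ((a : G)⁻¹ * b * t) * (b : G)⁻¹ := by rw [h2]
          _ = b * t * (b : G)⁻¹ := by group
      · intro p q
        refine Quotient.inductionOn₂ p q fun a b e => Quotient.sound (QuotientGroup.leftRel_apply.2 ?_)
        have h1 : (a : G) * t * (a : G)⁻¹ = b * t * (b : G)⁻¹ := congrArg Subtype.val e
        refine mem_subgroupOf.2 (mem_centralizer_singleton_iff.2 ?_)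
        show (a : G)⁻¹ * b * t = t * ((a : G)⁻¹ * b)
        calc (a : G)⁻¹ * b * t = (a : G)⁻¹ * (b * t * (b : G)⁻¹) * b := by group
          _ = (a : G)⁻¹ * (a * t * (a : G)⁻¹) * b := by rw [h1]
          _ = t * ((a : G)⁻¹ * b) := by group
      · rintro ⟨_, n, hn, rfl⟩
        exact ⟨Quotient.mk'' ⟨n, hn⟩, rfl⟩
    rw [e]
    have hle : (S : Subgroup G).subgroupOf N ≤ Cn := fun a ha =>
      mem_subgroupOf.2 (mem_centralizer_singleton_iff.2 (hab _ S.2 _ (mem_subgroupOf.1 ha) t Sh.memt).eq)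
    refine Nat.not_even_iff_odd.1 fun he => (S.subtype hSN).not_dvd_index ?_
    rw [Sylow.coe_subtype]
    exact (even_iff_two_dvd.1 he).trans (Subgroup.index_dvd_of_le hle)
  set i : G := (Sh.φ.symm Sh.I : G) with hi
  set j : G := (Sh.φ.symm Sh.J : G) with hj
  have horbS : ∀ s ∈ orb, s ∈ (S : Subgroup G) := by
    rintro s ⟨n, hn, rfl⟩
    exact (mem_normalizer_iff.1 (hN hn) t).1 Sh.memt
  have hstep : ∀ s ∈ orb, Sh.y * s * Sh.y⁻¹ ∈ orb := by
    rintro s ⟨n, hn, rfl⟩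
    exact ⟨Sh.y * n, mul_mem hy hn, by group⟩
  have hti : Commute i t := mem_centralizer_singleton_iff.1 (hd.le (Sh.φ.symm Sh.I).2)
  have hyt : Sh.y * t * Sh.y⁻¹ = t := by
    rw [mem_centralizer_singleton_iff.1 (hd.le Sh.y_mem), mul_inv_cancel_right]
  have hi2 : i * i = 1 := Sh.orbit_invol hab hd Sh.memI
  have hj2 : j * j = 1 := Sh.orbit_invol hab hd Sh.memJ
  have hij : j * i = i * j := Sh.i_comm.eq.symm
  have hyij : Sh.y * (i * j) * Sh.y⁻¹ = i := by
    rw [show Sh.y * (i * j) * Sh.y⁻¹ = (Sh.y * i * Sh.y⁻¹) * (Sh.y * j * Sh.y⁻¹) by group, hi, hj,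
      Sh.y_I, Sh.y_J, ← hi, ← hj, ← mul_assoc, hij, mul_assoc, hj2, mul_one]
  -- the rest of the Sylow subgroup in two orbits of `y`
  have hcyc : ∀ a : G, (a = 1 ∨ a = t) → ∀ u ∈ ({i, j, i * j} : Set G), a * u ∈ orb →
      ∀ u' ∈ ({i, j, i * j} : Set G), a * u' ∈ orb := by
    intro a ha
    have hya : ∀ u : G, Sh.y * (a * u) * Sh.y⁻¹ = a * (Sh.y * u * Sh.y⁻¹) := fun u => by
      rcases ha with rfl | rfl
      · simp
      · rw [show Sh.y * (a * u) * Sh.y⁻¹ = Sh.y * a * Sh.y⁻¹ * (Sh.y * u * Sh.y⁻¹) by group, hyt]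
    have s1 : a * i ∈ orb → a * j ∈ orb := fun h' => by
      have := hstep _ h'; rwa [hya, hi, Sh.y_I] at this
    have s2 : a * j ∈ orb → a * (i * j) ∈ orb := fun h' => by
      have := hstep _ h'; rwa [hya, hj, Sh.y_J] at this
    have s3 : a * (i * j) ∈ orb → a * i ∈ orb := fun h' => by
      have := hstep _ h'; rwa [hya, hyij] at this
    rintro u (rfl | rfl | rfl) hu u' (rfl | rfl | rfl)
    exacts [hu, s1 hu, s2 (s1 hu), s3 (s2 hu), hu, s2 hu, s3 hu, s1 (s3 hu), hu]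
  have helts : ∀ s ∈ (S : Subgroup G), s ≠ 1 → s = t ∨
      ∃ a, (a = 1 ∨ a = t) ∧ ∃ u ∈ ({i, j, i * j} : Set G), s = a * u := by
    intro s hs hs1
    obtain ⟨a, ha, v, hv, rfl⟩ := Sh.sylow s hs
    rcases Sh.coe_four hv with e | e | e | e
    · left
      rw [e, mul_one] at hs1 ⊢
      exact (zpow_cases hd.ht ha).resolve_left hs1
    all_goals exact Or.inr ⟨a, zpow_cases hd.ht ha, (Sh.φ.symm v : G), by rw [e]; simp [hi, hj], rfl⟩
  by_contra hcon
  push Not at hcon
  obtain ⟨s₀, hs₀, hs₀1, hs₀o⟩ := hcon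
  have hs₀' : s₀ ∉ orb := fun ⟨n, hn, e⟩ => hs₀o n hn e
  obtain ⟨n, hn, hnt⟩ := hmov
  have hm : n * t * n⁻¹ ∈ orb := ⟨n, hn, rfl⟩
  have htorb : t ∈ orb := ⟨1, one_mem _, by group⟩
  rcases helts s₀ hs₀ hs₀1 with rfl | ⟨b, hb, w, hw, rfl⟩
  · exact hs₀' htorb
  rcases helts _ (horbS _ hm) (fun e => by
      have h1 : orderOf (n * t * n⁻¹) = 2 := by rw [← MulAut.conj_apply, MulEquiv.orderOf_eq, hd.ht]
      rw [e, orderOf_one] at h1
      omega) with e | ⟨a, ha, u, hu, e⟩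
  · exact hnt e
  rw [e] at hm
  have hall := hcyc a ha u hu hm
  have hne_ab : a ≠ b := fun e' => hs₀' (e' ▸ hall w hw)
  have hset : orb = {t, a * i, a * j, a * (i * j)} := by
    ext s
    constructor
    · intro hs
      rcases helts s (horbS s hs) (fun e' => by
          obtain ⟨m, -, hm'⟩ := hs
          have h1 : orderOf (m * t * m⁻¹) = 2 := by rw [← MulAut.conj_apply, MulEquiv.orderOf_eq, hd.ht]
          rw [hm', e', orderOf_one] at h1
          omega) with rfl | ⟨a', ha', u', hu', rfl⟩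
      · exact Or.inl rfl
      · have ea : a' = a := by
          rcases ha with rfl | rfl <;> rcases hb with rfl | rfl <;> rcases ha' with rfl | rfl <;>
            first
              | rfl
              | exact absurd rfl hne_ab
              | exact absurd (hcyc _ (by simp) u' hu' hs w hw) hs₀'
        subst ea
        rcases hu' with rfl | rfl | rfl <;> simp
    · rintro (rfl | rfl | rfl | rfl)
      exacts [htorb, hall _ (by simp), hall _ (by simp), hall _ (by simp)]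
  have hin : ∀ {u u' : G}, u ≠ u' → a * u ≠ a * u' := fun h' e' => h' (mul_left_cancel e')
  have nI : i ≠ 1 := fun e' => Sh.frame.neI (Sh.φ.symm.injective (Subtype.ext (by
    rw [map_one, Subgroup.coe_one]; exact e')))
  have nJ : j ≠ 1 := fun e' => Sh.frame.neJ (Sh.φ.symm.injective (Subtype.ext (by
    rw [map_one, Subgroup.coe_one]; exact e')))
  have nIJ : i ≠ j := fun e' => Sh.frame.ne (Sh.φ.symm.injective (Subtype.ext e'))
  have hcard : Nat.card ↥orb = 4 := by
    have hn1 : t ≠ a * i := fun e' => by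
      rcases ha with rfl | rfl
      · rw [one_mul] at e'; exact hd.t_not (e' ▸ (Sh.φ.symm Sh.I).2)
      · exact nI (mul_eq_left.1 e'.symm)
    have hn2 : t ≠ a * j := fun e' => by
      rcases ha with rfl | rfl
      · rw [one_mul] at e'; exact hd.t_not (e' ▸ (Sh.φ.symm Sh.J).2)
      · exact nJ (mul_eq_left.1 e'.symm)
    have hn3 : t ≠ a * (i * j) := fun e' => by
      rcases ha with rfl | rfl
      · rw [one_mul] at e'; exact hd.t_not (e' ▸ mul_mem (Sh.φ.symm Sh.I).2 (Sh.φ.symm Sh.J).2)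
      · exact nIJ (by
          have h1 : i * j = 1 := mul_eq_left.1 e'.symm
          calc i = i * (j * j) := by rw [hj2, mul_one]
            _ = j := by rw [← mul_assoc, h1, one_mul])
    have hn4 := hin nIJ
    have hn5 : a * i ≠ a * (i * j) := hin fun e' => nJ (mul_eq_left.1 e'.symm)
    have hn6 : a * j ≠ a * (i * j) := hin fun e' => nI (mul_eq_right.1 e'.symm)
    rw [hset, Nat.card_coe_set_eq, Set.ncard_insert_of_notMem (by simp [hn1, hn2, hn3]),
      Set.ncard_insert_of_notMem (by simp [hn4, hn5]), Set.ncard_insert_of_notMem (by simp [hn6]),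
      Set.ncard_singleton]
  rw [hcard] at hodd
  exact absurd hodd (by decide)

/-- `N(S)` moves `t`. -/
theorem Shape.exists_moves [IsSimpleGroup G] (hnc : ¬ IsMulCommutative G) (hab : SEAbelian.AbTwo G)
    (hd : TwoPSL t K E₀) : ∃ n ∈ normalizer ((S : Subgroup G) : Set G), n * t * n⁻¹ ≠ t := by
  classical
  haveI : Fact (Nat.Prime 2) := ⟨Nat.prime_two⟩
  by_contra hcon
  push Not at hcon
  haveI : IsMulCommutative ↥(S : Subgroup G) :=
    ⟨⟨fun a b => Subtype.ext (hab _ S.2 a a.2 b b.2).eq⟩⟩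
  letI : CommGroup ↥(S : Subgroup G) :=
    { (inferInstance : Group ↥(S : Subgroup G)) with mul_comm := IsMulCommutative.is_comm.comm }
  let V : Subgroup ↥(S : Subgroup G) := E₀.subgroupOf (S : Subgroup G)
  let φ' : ↥(S : Subgroup G) →* ↥(S : Subgroup G) ⧸ V := QuotientGroup.mk' V
  have h1 := hom_eq_one_of_fusion hnc S φ' fun g a b hgab => by
    obtain ⟨n, hn, hn'⟩ := S.conj_eq_normalizer_conj_of_mem (a : G) g⁻¹ a.2 (by
      rw [inv_inv]; exact hgab.symm ▸ b.2)
    have hm : (n⁻¹ : G) ∈ normalizer ((S : Subgroup G) : Set G) := inv_mem hn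
    have hb : (b : G) = n⁻¹ * a * (n⁻¹ : G)⁻¹ := by
      rw [← hgab, inv_inv, ← hn', inv_inv]
    have hfix := hcon _ hm
    have hmC : (n⁻¹ : G) ∈ centralizer ({t} : Set G) :=
      mem_centralizer_singleton_iff.2 (mul_inv_eq_iff_eq_mul.1 hfix)
    obtain ⟨c, hc, v, -, hav⟩ := Sh.sylow a a.2
    apply (QuotientGroup.mk'_eq_mk' V).2
    refine ⟨a⁻¹ * b, ?_, mul_inv_cancel_left a b⟩
    rw [mem_subgroupOf, Subgroup.coe_mul, Subgroup.coe_inv]
    have hcn : Commute (n⁻¹ : G) c := by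
      obtain ⟨m, rfl⟩ := mem_zpowers_iff.1 hc
      exact (show Commute (n⁻¹ : G) t from mem_centralizer_singleton_iff.1 hmC).zpow_right m
    rw [hb, hav, show (c * (Sh.φ.symm v : G))⁻¹ * (n⁻¹ * (c * (Sh.φ.symm v : G)) * (n⁻¹ : G)⁻¹) =
      (Sh.φ.symm v : G)⁻¹ * c⁻¹ * (n⁻¹ * c * (n⁻¹ : G)⁻¹) * (n⁻¹ * (Sh.φ.symm v : G) * (n⁻¹ : G)⁻¹) by group,
      hcn.eq, mul_inv_cancel_right, inv_mul_cancel_right]
    exact mul_mem (inv_mem (Sh.φ.symm v).2)
      ((mem_normalizer_iff.1 (hd.normal hmC) _).1 (Sh.φ.symm v).2)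
  have h2 := DFunLike.congr_fun h1 ⟨t, Sh.memt⟩
  rw [MonoidHom.one_apply, QuotientGroup.mk'_apply, QuotientGroup.eq_one_iff, mem_subgroupOf] at h2
  exact hd.t_not h2

/-- `N(S)` is transitive on the involutions of `S`. -/
theorem Shape.trans [IsSimpleGroup G] (hnc : ¬ IsMulCommutative G) (hab : SEAbelian.AbTwo G)
    (hd : TwoPSL t K E₀) :
    ∀ s ∈ (S : Subgroup G), s ≠ 1 → ∃ n ∈ normalizer ((S : Subgroup G) : Set G), n * t * n⁻¹ = s :=
  Sh.trans_of_moves hab hd le_rfl le_normalizer (Sh.y_normalizes hd.le) (Sh.exists_moves hnc hab hd)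

/-- `N(S)` centralises an element of prime order of `O`. -/
theorem Shape.normalizer_le [IsSimpleGroup G] (hnc : ¬ IsMulCommutative G) (hab : SEAbelian.AbTwo G)
    (hd : TwoPSL t K E₀) {x : G} (hx : x ∈ Sh.O) {r : ℕ} (hr : r.Prime) (hox : orderOf x = r) :
    normalizer ((S : Subgroup G) : Set G) ≤ centralizer ({x} : Set G) := by
  set N := normalizer ((S : Subgroup G) : Set G) with hN
  set M := N ⊓ centralizer ({x} : Set G) with hM
  have hconj : ∀ n ∈ N, n * x * n⁻¹ ∈ zpowers x := by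
    intro n hn
    refine Sh.mem_zpowers_of_order hd hx ((Sh.mem_O _).2 ⟨mem_centralizer_iff.2 fun s hs => ?_, ?_⟩) hr hox ?_
    · have h1 : x * (n⁻¹ * s * n) = n⁻¹ * s * n * x :=
        (Sh.O_commute_S hx ((mem_normalizer_iff''.1 hn s).1 hs)).eq
      calc s * (n * x * n⁻¹) = n * (n⁻¹ * s * n * x) * n⁻¹ := by group
        _ = n * (x * (n⁻¹ * s * n)) * n⁻¹ := by rw [h1]
        _ = n * x * n⁻¹ * s := by group
    · rw [← MulAut.conj_apply, MulEquiv.orderOf_eq]; exact Sh.O_odd hx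
    · rw [conj_pow, ← hox, pow_orderOf_eq_one, mul_one, mul_inv_cancel]
  have hSM : (S : Subgroup G) ≤ M := fun s hs =>
    ⟨le_normalizer hs, mem_centralizer_singleton_iff.2 (Sh.O_commute_S hx hs).eq.symm⟩
  have hyM : Sh.y ∈ M := ⟨Sh.y_normalizes hd.le, mem_centralizer_singleton_iff.2 (Sh.y_commute hd hx).eq⟩
  have hnormal : ∀ n ∈ N, ∀ k ∈ M, n * k * n⁻¹ ∈ M := by
    intro n hn k hk
    refine mem_inf.2 ⟨mul_mem (mul_mem hn hk.1) (inv_mem hn), mem_centralizer_singleton_iff.2 ?_⟩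
    obtain ⟨m, hm⟩ := mem_zpowers_iff.1 (hconj n⁻¹ (inv_mem hn))
    have h1 : Commute k (n⁻¹ * x * n) := by
      rw [inv_inv] at hm
      rw [← hm]
      exact (show Commute k x from mem_centralizer_singleton_iff.1 hk.2).zpow_right m
    calc n * k * n⁻¹ * x = n * (k * (n⁻¹ * x * n)) * n⁻¹ := by group
      _ = n * (n⁻¹ * x * n * k) * n⁻¹ := by rw [h1.eq]
      _ = x * (n * k * n⁻¹) := by group
  have htrans := Sh.trans hnc hab hd
  have hmov : ∃ k ∈ M, k * t * k⁻¹ ≠ t := by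
    by_contra hcon
    push Not at hcon
    obtain ⟨n, hn, hni⟩ := htrans _ Sh.memI fun e => Sh.frame.neI (Sh.φ.symm.injective (Subtype.ext (by
      rw [map_one, Subgroup.coe_one]; exact e)))
    have h1 := hcon _ (hnormal n⁻¹ (inv_mem hn) Sh.y hyM)
    have h2 : Sh.y * (Sh.φ.symm Sh.I : G) * Sh.y⁻¹ = Sh.φ.symm Sh.I := by
      rw [← hni]
      calc Sh.y * (n * t * n⁻¹) * Sh.y⁻¹ = n * (n⁻¹ * Sh.y * n⁻¹⁻¹ * t * (n⁻¹ * Sh.y * n⁻¹⁻¹)⁻¹) * n⁻¹ := by group
        _ = n * t * n⁻¹ := by rw [h1]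
    rw [Sh.y_I] at h2
    exact Sh.frame.ne (Sh.φ.symm.injective (Subtype.ext h2)).symm
  intro n hn
  have h1 : n * t * n⁻¹ ≠ 1 := fun e => by
    have h1 : orderOf (n * t * n⁻¹) = 2 := by rw [← MulAut.conj_apply, MulEquiv.orderOf_eq, hd.ht]
    rw [e, orderOf_one] at h1
    omega
  obtain ⟨k, hk, hkt⟩ := Sh.trans_of_moves hab hd inf_le_left hSM hyM hmov _
    ((mem_normalizer_iff.1 hn t).1 Sh.memt) h1
  have hc : k⁻¹ * n ∈ centralizer ({t} : Set G) := mem_centralizer_singleton_iff.2 (by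
    calc k⁻¹ * n * t = k⁻¹ * (n * t * n⁻¹) * n := by group
      _ = k⁻¹ * (k * t * k⁻¹) * n := by rw [hkt]
      _ = t * (k⁻¹ * n) := by group)
  have h2 := (show Commute k x from mem_centralizer_singleton_iff.1 hk.2).mul_left
    (Sh.normalizer_commute hd hc (mul_mem (inv_mem hk.1) hn) hx)
  rw [mul_inv_cancel_left] at h2
  exact mem_centralizer_singleton_iff.2 h2.eq

end Other

end Cfsg.Agent.Walter.Field
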