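import Cfsg.Agent.Lib.Walter.Field.BoundSocle
import Cfsg.Agent.Lib.Walter.Field.BoundTools
import Cfsg.Agent.Lib.Walter.Field.OtherNorm
import Cfsg.Agent.Lib.Walter.ComponentsClasses
import Cfsg.Agent.Lib.EqConjOdd.PSLLocal
import Cfsg.Agent.Lib.Characters.Burnside
import Cfsg.Agent.Lib.Coprime.Generation
import Cfsg.Agent.S0343
import Cfsg.Agent.S3188

/-!
# The 3-part of the centraliser of an element of the field part

Piece b, step 0: for `r = p = 3` every 3-subgroup of `C(x)` has order dividing `q₀ ^ 3 · |F|`.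
-/

set_option autoImplicit false
set_option linter.unusedSectionVars false
set_option linter.style.haveILetI false

namespace Cfsg.Agent.Walter.Field.Bound

open Subgroup
open Cfsg.Agent.Walter.Field.Other

universe u v

section General

variable {X : Type u} [Group X] [Finite X]

theorem orderOf_two_of_sq {a : X} (h : a * a = 1) (ha : a ≠ 1) : orderOf a = 2 :=
  haveI : Fact (Nat.Prime 2) := ⟨Nat.prime_two⟩
  orderOf_eq_prime (by rw [pow_two, h]) ha

theorem card_centralizer_subgroup (N : Subgroup X) (a : ↥N) :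
    Nat.card ↥(centralizer ({a} : Set ↥N)) = Nat.card ↥(N ⊓ centralizer ({(a : X)} : Set X)) := by
  rw [← card_subtype N]
  refine Nat.card_congr (MulEquiv.subgroupCongr (le_antisymm ?_ ?_)).toEquiv
  · rintro _ ⟨b, hb, rfl⟩
    exact ⟨b.2, mem_centralizer_singleton_iff.2
      (congrArg Subtype.val (mem_centralizer_singleton_iff.1 hb) :)⟩
  · rintro y ⟨hy, hy'⟩
    exact ⟨⟨y, hy⟩, mem_centralizer_singleton_iff.2
      (Subtype.ext (mem_centralizer_singleton_iff.1 hy')), rfl⟩

theorem isConj_of_oneTwo (h1 : OneTwoClass X) {a b : X} (ha : orderOf a = 2) (hb : orderOf b = 2) :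
    IsConj a b := by
  haveI : Fact (Nat.Prime 2) := ⟨Nat.prime_two⟩
  obtain ⟨P, hP⟩ := exists_sylow_mem (G := X) ha
  obtain ⟨Q, hQ⟩ := exists_sylow_mem (G := X) hb
  obtain ⟨g, hg⟩ := MulAction.exists_smul_eq X Q P
  have hbP : g * b * g⁻¹ ∈ (P : Subgroup X) := by
    rw [← hg, Sylow.coe_subgroup_smul]
    exact ⟨b, hQ, rfl⟩
  obtain ⟨n, -, hn⟩ := h1 P a hP _ hbP (ne_one_of_orderOf_two ha)
    fun e => ne_one_of_orderOf_two hb (conj_eq_one_iff.1 e)
  refine isConj_iff.2 ⟨g⁻¹ * n, ?_⟩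
  rw [show g⁻¹ * n * a * (g⁻¹ * n)⁻¹ = g⁻¹ * (n * a * n⁻¹) * g by group, hn]
  group

theorem factorization_three_le_one {n : ℕ} (h : n ≤ 8) : n.factorization 3 ≤ 1 := by
  rcases Nat.eq_zero_or_pos n with rfl | h0
  · simp
  by_contra hc
  have := Nat.le_of_dvd h0 (((Nat.prime_three.pow_dvd_iff_le_factorization h0.ne').2
    (show 2 ≤ n.factorization 3 by omega)))
  omega

end General

variable {G : Type u} [Group G] [Finite G] {K : Type v} [Field K] [Fintype K] {t : G} {E₀ : Subgroup G}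
  {S : Sylow 2 G} (Sh : Shape t K E₀ S) {x : G}

/-- `C_{E₀}(x)`. -/
abbrev L₀ (E₀ : Subgroup G) (x : G) : Subgroup G := E₀ ⊓ centralizer ({x} : Set G)

section
include Sh

theorem t_mem (hx : x ∈ Sh.O) : t ∈ centralizer ({x} : Set G) :=
  mem_centralizer_singleton_iff.2 (Sh.O_commute_t hx).symm.eq

theorem S_le (hx : x ∈ Sh.O) : (S : Subgroup G) ≤ centralizer ({x} : Set G) := fun _ hs =>
  mem_centralizer_singleton_iff.2 (Sh.O_commute_S hx hs).symm.eq

theorem O_le_cent (hx : x ∈ Sh.O) : Sh.O ≤ centralizer ({x} : Set G) := fun _ ho =>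
  mem_centralizer_singleton_iff.2 (Sh.O_comm ho hx).eq

variable (hd : TwoPSL t K E₀)
include hd

theorem card_S_le : Nat.card ↥(S : Subgroup G) ≤ 8 := by
  classical
  let f : ↥(zpowers t) × ↥({1, Sh.I, Sh.J, Sh.I * Sh.J} :
      Set (Matrix.ProjectiveSpecialLinearGroup (Fin 2) K)) → G := fun p => (p.1 : G) * (Sh.φ.symm p.2 : G)
  have hsub : ((S : Subgroup G) : Set G) ⊆ Set.range f := fun s hs => by
    obtain ⟨a, ha, v, hv, rfl⟩ := Sh.sylow s hs
    exact ⟨(⟨a, ha⟩, ⟨v, hv⟩), rfl⟩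
  have h1 := Nat.card_mono (Set.finite_range f) hsub
  refine h1.trans ((Finite.card_range_le f).trans ?_)
  rw [Nat.card_prod, Nat.card_zpowers]
  have h4 : Nat.card ↥({1, Sh.I, Sh.J, Sh.I * Sh.J} :
      Set (Matrix.ProjectiveSpecialLinearGroup (Fin 2) K)) ≤ 4 := by
    rw [Nat.card_coe_set_eq]
    refine (Set.ncard_insert_le _ _).trans (Nat.succ_le_succ ((Set.ncard_insert_le _ _).trans
      (Nat.succ_le_succ ((Set.ncard_insert_le _ _).trans ?_))))
    rw [Set.ncard_singleton]
  have h2 : orderOf t ≤ 2 := by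
    rw [hd.ht]
  calc orderOf t * _ ≤ 2 * 4 := Nat.mul_le_mul h2 h4
    _ = 8 := rfl


theorem card_D (hx : x ∈ Sh.O) :
    Nat.card ↥(centralizer ({t} : Set G) ⊓ centralizer ({x} : Set G)) =
      2 * Nat.card ↥(L₀ E₀ x) * Nat.card ↥Sh.O := by
  have hz : Nat.card ↥(zpowers t) = 2 := by rw [Nat.card_zpowers, hd.ht]
  rw [← hz, ← Nat.card_prod, ← Nat.card_prod]
  refine (Nat.card_congr (Equiv.ofBijective
    (fun p : (↥(zpowers t) × ↥(L₀ E₀ x)) × ↥Sh.O =>
      (⟨(p.1.1 : G) * p.1.2 * p.2, mul_mem (mul_mem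
        (mem_inf.2 ⟨(zpowers_le.2 (mem_centralizer_singleton_iff.2 rfl)) p.1.1.2,
          (zpowers_le.2 (t_mem Sh hx)) p.1.1.2⟩)
        (mem_inf.2 ⟨hd.le p.1.2.2.1, p.1.2.2.2⟩))
        (mem_inf.2 ⟨Sh.O_le_C p.2.2, O_le_cent Sh hx p.2.2⟩)⟩ :
        ↥(centralizer ({t} : Set G) ⊓ centralizer ({x} : Set G)))) ⟨?_, ?_⟩)).symm
  · intro p q e
    have e' : (p.1.1 : G) * p.1.2 * p.2 = q.1.1 * q.1.2 * q.2 := congrArg Subtype.val e
    have hmem : ∀ r : ↥(zpowers t) × ↥(L₀ E₀ x), (r.1 : G) * r.2 ∈ zpowers t ⊔ E₀ := fun r =>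
      mul_mem (mem_sup_left r.1.2) (mem_sup_right r.2.2.1)
    have h1 : ((q.1.1 : G) * q.1.2)⁻¹ * ((p.1.1 : G) * p.1.2) = q.2 * (p.2 : G)⁻¹ := by
      rw [inv_mul_eq_iff_eq_mul, ← mul_assoc, ← e', mul_inv_cancel_right]
    have h2 := inv_mul_eq_one.1 (Sh.uniq _ (mul_mem (inv_mem (hmem q.1)) (hmem p.1))
      (h1 ▸ mul_mem q.2.2 (inv_mem p.2.2)))
    rw [h2] at e'
    have h3 : (q.1.1 : G)⁻¹ * p.1.1 = q.1.2 * (p.1.2 : G)⁻¹ := by
      rw [inv_mul_eq_iff_eq_mul, ← mul_assoc, h2, mul_inv_cancel_right]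
    have h4 : (q.1.1 : G)⁻¹ * p.1.1 = 1 := by
      rw [← Subgroup.mem_bot, ← zpowers_inf_eq_bot hd.ht hd.t_not]
      exact mem_inf.2 ⟨mul_mem (inv_mem q.1.1.2) p.1.1.2, h3 ▸ mul_mem q.1.2.2.1 (inv_mem p.1.2.2.1)⟩
    have h5 := inv_mul_eq_one.1 h4
    rw [h5] at h2
    exact Prod.ext (Prod.ext (Subtype.ext h5.symm) (Subtype.ext (mul_left_cancel h2).symm))
      (Subtype.ext (mul_left_cancel e'))
  · rintro ⟨c, hc⟩
    obtain ⟨hct, hcx⟩ := mem_inf.1 hc
    obtain ⟨d, hd', o, ho, rfl⟩ := Sh.surj c hct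
    obtain ⟨a, ha, e, he, rfl⟩ := mem_sup_cases hd.le hd'
    have hex : e ∈ centralizer ({x} : Set G) := by
      have := mul_mem (inv_mem ((zpowers_le.2 (t_mem Sh hx)) ha))
        (mul_mem hcx (inv_mem (O_le_cent Sh hx ho)))
      rwa [mul_inv_cancel_right, inv_mul_cancel_left] at this
    exact ⟨((⟨a, ha⟩, ⟨e, he, hex⟩), ⟨o, ho⟩), rfl⟩

/-- An odd subgroup of `C(t) ∩ C(x)` normalised by `C_{E₀}(x)` lies in `O`. -/
theorem odd_le_O {F : Type v} [Field F] [Fintype F] (hF : Odd (Fintype.card F))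
    (eL : ↥(L₀ E₀ x) ≃* Matrix.ProjectiveSpecialLinearGroup (Fin 2) F) (hx : x ∈ Sh.O)
    {M : Subgroup G} (hMo : Odd (Nat.card M))
    (hMle : M ≤ centralizer ({t} : Set G) ⊓ centralizer ({x} : Set G))
    (hMn : L₀ E₀ x ≤ normalizer (M : Set G)) : M ≤ Sh.O := by
  have hbot : M ⊓ L₀ E₀ x = ⊥ := by
    haveI : (M.subgroupOf (L₀ E₀ x)).Normal := normal_subgroupOf_of_le_normalizer hMn
    have ho : Odd (Nat.card ↥(M.subgroupOf (L₀ E₀ x))) := by
      rw [← card_subtype, subgroupOf_map_subtype]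
      exact hMo.of_dvd_nat (card_dvd_of_le inf_le_left)
    rw [← subgroupOf_map_subtype, odd_normal_eq_bot eL hF inferInstance ho, Subgroup.map_bot]
  intro m hm
  obtain ⟨hmt, hmx⟩ := mem_inf.1 (hMle hm)
  have key : ∀ l ∈ (S : Subgroup G), l ∈ E₀ → Commute m l := by
    intro l hlS hlE
    have hl : l ∈ L₀ E₀ x := ⟨hlE, S_le Sh hx hlS⟩
    have h1 : m * l * m⁻¹ * l⁻¹ ∈ M ⊓ L₀ E₀ x := by
      refine mem_inf.2 ⟨?_, mul_mem (mem_inf.2 ⟨(mem_normalizer_iff.1 (hd.normal hmt) l).1 hlE,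
        mul_mem (mul_mem hmx (mem_inf.1 hl).2) (inv_mem hmx)⟩) (inv_mem hl)⟩
      have h2 := mul_mem hm ((mem_normalizer_iff.1 (hMn hl) m⁻¹).1 (inv_mem hm))
      simpa [mul_assoc] using h2
    rw [hbot, mem_bot] at h1
    exact mul_inv_eq_iff_eq_mul.1 (mul_inv_eq_one.1 h1)
  refine (Sh.mem_O m).2 ⟨mem_centralizer_iff.2 fun s hs => ?_,
    hMo.of_dvd_nat (M.orderOf_dvd_natCard hm)⟩
  obtain ⟨a, ha, w, hw, rfl⟩ := Sh.sylow s hs
  obtain ⟨k, rfl⟩ := mem_zpowers_iff.1 ha
  refine (((show Commute m t from mem_centralizer_singleton_iff.1 hmt).zpow_right k).mul_right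
    (key _ ?_ (Sh.φ.symm w).2)).eq.symm
  have h3 := mul_mem ((zpowers_le.2 Sh.memt) (inv_mem ha) : _ ∈ (S : Subgroup G)) hs
  rwa [inv_mul_cancel_left] at h3

theorem oddCore_le [IsSimpleGroup G] (hnc : ¬ IsMulCommutative G) (hab : SEAbelian.AbTwo G)
    {F : Type v} [Field F] [Fintype F] (hF : Odd (Fintype.card F))
    (eL : ↥(L₀ E₀ x) ≃* Matrix.ProjectiveSpecialLinearGroup (Fin 2) F) (hx : x ∈ Sh.O)
    (hox : orderOf x = 3) :
    (Cfsg.oddCore ↥(centralizer ({x} : Set G))).map (centralizer ({x} : Set G)).subtype ≤ Sh.O := by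
  haveI : Fact (Nat.Prime 2) := ⟨Nat.prime_two⟩
  set CX := centralizer ({x} : Set G)
  set W := (Cfsg.oddCore ↥CX).map CX.subtype with hW
  have hWo : Odd (Nat.card W) := by rw [hW, card_subtype]; exact Agent.Cores.oddCore_odd
  have hWX : W ≤ CX := map_subtype_le _
  have hWn : CX ≤ normalizer (W : Set G) := fun g hg => EqualOrderConj.mem_normalizer_of_conj_mem (by
    rintro _ ⟨w, hw, rfl⟩
    exact ⟨⟨g, hg⟩ * w * ⟨g, hg⟩⁻¹,
      (inferInstance : (Cfsg.oddCore ↥CX).Normal).conj_mem w hw _, rfl⟩)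
  have hWt : W ⊓ centralizer ({t} : Set G) ≤ Sh.O := by
    refine odd_le_O Sh hd hF eL hx (hWo.of_dvd_nat (card_dvd_of_le inf_le_left))
      (le_inf inf_le_right (inf_le_left.trans hWX)) fun l hl => ?_
    refine EqualOrderConj.mem_normalizer_of_conj_mem fun w hw => mem_inf.2 ⟨?_, ?_⟩
    · exact (mem_normalizer_iff.1 (hWn (mem_inf.1 hl).2) w).1 (mem_inf.1 hw).1
    · exact mul_mem (mul_mem (hd.le (mem_inf.1 hl).1) (mem_inf.1 hw).2) (inv_mem (hd.le (mem_inf.1 hl).1))
  have hN := Sh.normalizer_le hnc hab hd hx Nat.prime_three hox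
  haveI : IsMulCommutative ↥(S : Subgroup G) :=
    ⟨⟨fun a b => Subtype.ext (hab _ S.2 a a.2 b b.2).eq⟩⟩
  have hncyc : ¬ IsCyclic ↥(S : Subgroup G) := by
    intro hcyc
    obtain ⟨⟨g, hg⟩, hgen⟩ := hcyc.exists_generator
    have hcases : ∀ s ∈ (S : Subgroup G), s = 1 ∨ s = g := by
      intro s hs
      obtain ⟨k, hk⟩ := mem_zpowers_iff.1 (hgen ⟨s, hs⟩)
      have hk' : g ^ k = s := congrArg Subtype.val hk
      have h2 : g ^ (2 : ℤ) = 1 := by rw [zpow_two]; exact Sh.orbit_invol hab hd hg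
      obtain ⟨i, rfl | rfl⟩ := Int.even_or_odd' k
      · left; rw [← hk', zpow_mul, h2, one_zpow]
      · right; rw [← hk', zpow_add, zpow_mul, h2, one_zpow, one_mul, zpow_one]
    have nI : (Sh.φ.symm Sh.I : G) ≠ 1 := fun e' => Sh.frame.neI (Sh.φ.symm.injective (Subtype.ext (by
      rw [map_one, Subgroup.coe_one]; exact e')))
    have nJ : (Sh.φ.symm Sh.J : G) ≠ 1 := fun e' => Sh.frame.neJ (Sh.φ.symm.injective (Subtype.ext (by
      rw [map_one, Subgroup.coe_one]; exact e')))
    exact Sh.frame.ne (Sh.φ.symm.injective (Subtype.ext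
      (((hcases _ Sh.memI).resolve_left nI).trans ((hcases _ Sh.memJ).resolve_left nJ).symm)))
  have hSW : (S : Subgroup G) ≤ normalizer (W : Set G) := (S_le Sh hx).trans hWn
  have hcop : (Nat.card ↥(S : Subgroup G)).Coprime (Nat.card W) := by
    obtain ⟨k, hk⟩ := S.2.exists_card_eq
    rw [hk]
    exact (Nat.coprime_two_left.2 hWo).pow_left k
  rw [← Coprime.fixedGen_eq hncyc hSW hcop]
  refine iSup₂_le fun s hs => ?_
  intro w hw'
  obtain ⟨hwW, hws⟩ := mem_inf.1 hw'
  obtain ⟨n, hn, rfl⟩ := Sh.trans hnc hab hd s hs.1 hs.2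
  have h1 : n⁻¹ * w * n ∈ W ⊓ centralizer ({t} : Set G) := by
    refine ⟨(mem_normalizer_iff''.1 (hWn (hN hn)) w).1 hwW, mem_centralizer_singleton_iff.2 ?_⟩
    have e := mem_centralizer_singleton_iff.1 hws
    calc n⁻¹ * w * n * t = n⁻¹ * (w * (n * t * n⁻¹)) * n := by group
      _ = n⁻¹ * (n * t * n⁻¹ * w) * n := by rw [e]
      _ = t * (n⁻¹ * w * n) := by group
  obtain ⟨hC, ho⟩ := (Sh.mem_O _).1 (hWt h1)
  have he : w = n * (n⁻¹ * w * n) * n⁻¹ := by group
  rw [he]
  refine (Sh.mem_O _).2 ⟨mem_centralizer_iff.2 fun z hz => ?_, ?_⟩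
  · have h2 := mem_centralizer_iff.1 hC _ ((mem_normalizer_iff''.1 hn z).1 hz)
    calc z * (n * (n⁻¹ * w * n) * n⁻¹) = n * (n⁻¹ * z * n * (n⁻¹ * w * n)) * n⁻¹ := by group
      _ = n * (n⁻¹ * w * n * (n⁻¹ * z * n)) * n⁻¹ := by rw [h2]
      _ = n * (n⁻¹ * w * n) * n⁻¹ * z := by group
  · rw [← MulAut.conj_apply, MulEquiv.orderOf_eq]; exact ho

/-- The 3-part of the index of the centraliser in the simple socle. -/
theorem socle_three (hab : SEAbelian.AbTwo G) (hFB : FieldBelow.{u, v} (Nat.card G))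
    {F : Type v} [Field F] [Fintype F] {n : ℕ} (hn : 0 < n) (hFc : Fintype.card F = 3 ^ n)
    (eL : ↥(L₀ E₀ x) ≃* Matrix.ProjectiveSpecialLinearGroup (Fin 2) F) (hx : x ∈ Sh.O)
    (hO : n = 1 → Nat.card ↥Sh.O = 3)
    (hxG : centralizer ({x} : Set G) ≠ ⊤)
    (hW : (Cfsg.oddCore ↥(centralizer ({x} : Set G))).map (centralizer ({x} : Set G)).subtype ≤ Sh.O)
    (hxW : (⟨x, mem_centralizer_singleton_iff.2 rfl⟩ : ↥(centralizer ({x} : Set G))) ∈
      Cfsg.oddCore ↥(centralizer ({x} : Set G)))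
    (N : Subgroup (↥(centralizer ({x} : Set G)) ⧸ Cfsg.oddCore ↥(centralizer ({x} : Set G))))
    [N.Normal] [IsSimpleGroup ↥N] (hNnc : ¬ IsMulCommutative ↥N)
    (hall : ∀ a, orderOf a = 2 → a ∈ N) (a₀ : ↥N)
    (ha₀ : N.subtype a₀ = QuotientGroup.mk' (Cfsg.oddCore ↥(centralizer ({x} : Set G))) ⟨t, t_mem Sh hx⟩)
    (hcent : centralizer ({N.subtype a₀} : Set (↥(centralizer ({x} : Set G)) ⧸
        Cfsg.oddCore ↥(centralizer ({x} : Set G)))) ≤
      (centralizer ({⟨t, t_mem Sh hx⟩} : Set ↥(centralizer ({x} : Set G)))).map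
        (QuotientGroup.mk' (Cfsg.oddCore ↥(centralizer ({x} : Set G))))) :
    (Nat.card ↥N).factorization 3 ≤
      2 * n + (Nat.card ↥(centralizer ({a₀} : Set ↥N))).factorization 3 := by
  classical
  haveI : Fact (Nat.Prime 2) := ⟨Nat.prime_two⟩
  set tX : ↥(centralizer ({x} : Set G)) := ⟨t, t_mem Sh hx⟩ with htX
  set f := QuotientGroup.mk' (Cfsg.oddCore ↥(centralizer ({x} : Set G))) with hf
  have hFodd : Odd (Fintype.card F) := hFc ▸ (by decide : Odd 3).pow
  have hker : ∀ z : ↥(centralizer ({x} : Set G)), f z = 1 → (z : G) ∈ Sh.O := fun z hz =>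
    hW ⟨z, (QuotientGroup.eq_one_iff z).1 hz, rfl⟩
  have htodd : t ∉ Sh.O := fun h => by
    have := Sh.O_odd h
    rw [hd.ht] at this
    exact absurd this (by decide)
  have habQ : SEAbelian.AbTwo (↥(centralizer ({x} : Set G)) ⧸ Cfsg.oddCore ↥(centralizer ({x} : Set G))) :=
    (hab.subgroup (centralizer ({x} : Set G))).map (QuotientGroup.mk'_surjective _)
  have habN : SEAbelian.AbTwo ↥N := habQ.subgroup N
  have hsmall : ∀ P : Sylow 2 ↥N, Nat.card ↥(P : Subgroup ↥N) ≤ 8 := by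
    intro P
    obtain ⟨k, hk⟩ := P.2.exists_card_eq
    have h1 : 2 ^ k ∣ Nat.card G := hk ▸ ((P : Subgroup ↥N).card_subgroup_dvd_card.trans
      (N.card_subgroup_dvd_card.trans ((card_quotient_dvd_card _).trans (centralizer ({x} : Set G)).card_subgroup_dvd_card)))
    rw [hk]
    exact (Nat.le_of_dvd Nat.card_pos (S.pow_dvd_card_of_pow_dvd_card h1)).trans (card_S_le Sh hd)
  let ψ : ↥(L₀ E₀ x) →* ↥(centralizer ({x} : Set G)) ⧸ Cfsg.oddCore ↥(centralizer ({x} : Set G)) := f.comp (Subgroup.inclusion inf_le_right)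
  have hψ : Function.Injective ψ := (injective_iff_map_eq_one ψ).2 fun l hl =>
    Subtype.ext (Sh.uniq _ (mem_sup_right l.2.1) (hker (Subgroup.inclusion inf_le_right l) hl))
  have hlt : Nat.card ↥N < Nat.card G := by
    refine lt_of_le_of_lt (Nat.le_of_dvd Nat.card_pos (N.card_subgroup_dvd_card.trans
      (card_quotient_dvd_card _))) ?_
    exact lt_of_le_of_ne (Subgroup.card_le_card_group (centralizer ({x} : Set G))) fun e => hxG (eq_top_of_card_eq (centralizer ({x} : Set G)) e)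
  have htt : tX * tX = 1 := Subtype.ext (by
    show t * t = 1
    rw [← pow_two, ← hd.ht, pow_orderOf_eq_one])
  have ha2 : orderOf a₀ = 2 := by
    rw [← Subgroup.orderOf_coe, ← Subgroup.subtype_apply, ha₀]
    exact orderOf_two_of_sq (by rw [← map_mul, htt, map_one]) fun e => htodd (hker tX e)
  rcases Nat.lt_or_ge n 2 with hn1 | hn2
  · obtain rfl : n = 1 := by omega
    -- the socle has solvable involution centralisers
    haveI : Fact (Nat.Prime 3) := ⟨Nat.prime_three⟩
    have hL : Nat.card ↥(L₀ E₀ x) = 12 := by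
      have := card_psl_double hFodd
      rw [hFc, ← Nat.card_congr eL.toEquiv] at this
      omega
    have hD : Nat.card ↥(centralizer ({tX} : Set ↥(centralizer ({x} : Set G)))) = 72 := by
      rw [card_centralizer_subgroup, show ((tX : ↥(centralizer ({x} : Set G))) : G) = t from rfl, inf_comm, card_D Sh hd hx,
        hL, hO rfl]
    have hdvd : Nat.card ↥(centralizer ({a₀} : Set ↥N)) ∣ 2 ^ 3 * 3 ^ 2 := by
      rw [card_centralizer_subgroup]
      exact (card_dvd_of_le (inf_le_right.trans hcent)).trans ((card_map_dvd _ _).trans (by rw [hD]; norm_num))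
    have hone : OneTwoClass ↥N := oneTwoClass_of_small hNnc habN hsmall
    have hsol : ∀ b : ↥N, orderOf b = 2 → Group.IsSolvable ↥(centralizer ({b} : Set ↥N)) := by
      intro b hb
      obtain ⟨c, rfl⟩ := isConj_iff.1 (isConj_of_oneTwo hone ha2 hb)
      have he : centralizer ({c * a₀ * c⁻¹} : Set ↥N) =
          (centralizer ({a₀} : Set ↥N)).map (MulAut.conj c).toMonoidHom :=
        by
          ext y
          rw [Subgroup.mem_map_equiv, MulAut.conj_symm_apply, mem_centralizer_singleton_iff,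
            mem_centralizer_singleton_iff]
          constructor <;> intro h
          · calc c⁻¹ * y * c * a₀ = c⁻¹ * (y * (c * a₀ * c⁻¹)) * c := by group
              _ = c⁻¹ * (c * a₀ * c⁻¹ * y) * c := by rw [h]
              _ = a₀ * (c⁻¹ * y * c) := by group
          · calc y * (c * a₀ * c⁻¹) = c * (c⁻¹ * y * c * a₀) * c⁻¹ := by group
              _ = c * (a₀ * (c⁻¹ * y * c)) * c⁻¹ := by rw [h]
              _ = c * a₀ * c⁻¹ * y := by group
      obtain ⟨d, hd'⟩ := hdvd
      obtain ⟨k1, k2, -, hk⟩ : ∃ k1 k2, k1 ≤ 3 ∧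
          Nat.card ↥(centralizer ({a₀} : Set ↥N)) = 2 ^ k1 * 3 ^ k2 := by
        obtain ⟨d1, d2, hd1, hd2, e⟩ := Nat.dvd_mul.1 (Dvd.intro d hd'.symm)
        obtain ⟨k1, hk1, rfl⟩ := (Nat.dvd_prime_pow Nat.prime_two).1 hd1
        obtain ⟨k2, -, rfl⟩ := (Nat.dvd_prime_pow Nat.prime_three).1 hd2
        exact ⟨k1, k2, hk1, e.symm⟩
      refine Characters.burnside_pa_qb Nat.prime_two Nat.prime_three (a := k1) (b := k2) ?_
      rw [he, card_map_of_injective (MulAut.conj c).injective, hk]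
    obtain ⟨P, haP⟩ := exists_sylow_mem (G := ↥N) ha2
    rcases S3188.result P (isMulCommutative_sylow habN P) hsol with hs | ⟨F', i1, i2, hF', M, hMn, ⟨eM⟩, hMc⟩
    · haveI := hs
      exact absurd ⟨⟨IsSimpleGroup.comm_iff_isSolvable.2 inferInstance⟩⟩ hNnc
    · have h0 := oddCore_eq_bot_of_simple (X := ↥N) hNnc
      let eQ : ↥N ≃* ↥N ⧸ Cfsg.oddCore ↥N :=
        (QuotientGroup.quotientBot.symm).trans (QuotientGroup.quotientMulEquivOfEq h0.symm)
      haveI := hMn
      have hcard : Nat.card ↥N = Nat.card (Matrix.ProjectiveSpecialLinearGroup (Fin 2) F') := by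
        rcases (hMn.comap eQ.toMonoidHom).eq_bot_or_eq_top with h | h
        · exfalso
          have hMbot : M = ⊥ := by
            rw [← map_comap_eq_self_of_surjective (f := eQ.toMonoidHom) eQ.surjective M, h,
              Subgroup.map_bot]
          rw [hMbot] at hMc
          have : (⊤ : Subgroup (↥N ⧸ Cfsg.oddCore ↥N)) = ⊥ := by
            rw [← hMc]
            exact (eq_top_iff.2 fun z _ => mem_centralizer_iff.2 fun y hy => by
              rw [mem_bot.1 hy, one_mul, mul_one]).symm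
          have hz : eQ a₀ = 1 := mem_bot.1 (this ▸ mem_top _)
          exact ne_one_of_orderOf_two ha2 ((MulEquiv.map_eq_one_iff eQ).1 hz)
        · have hMtop : M = ⊤ := by
            rw [← map_comap_eq_self_of_surjective (f := eQ.toMonoidHom) eQ.surjective M, h,
              Subgroup.map_top_of_surjective _ eQ.surjective]
          rw [Nat.card_congr eQ.toEquiv, ← Nat.card_congr eM.toEquiv, hMtop, card_top]
      have h8 : 8 ∣ Nat.card ↥N := by
        have h8G : 8 ∣ Nat.card ↥(S : Subgroup G) := S.pow_dvd_card_of_pow_dvd_card (n := 3) (by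
          refine dvd_trans ?_ (centralizer ({x} : Set G)).card_subgroup_dvd_card
          exact dvd_trans (by rw [hD]; norm_num) (centralizer ({tX} : Set ↥(centralizer ({x} : Set G)))).card_subgroup_dvd_card)
        let ρ : ↥(S : Subgroup G) →* ↥(centralizer ({x} : Set G)) ⧸ Cfsg.oddCore ↥(centralizer ({x} : Set G)) := f.comp (Subgroup.inclusion (S_le Sh hx))
        have hρ : Function.Injective ρ := (injective_iff_map_eq_one ρ).2 fun s hs => Subtype.ext
          (Other.eq_one_of_odd_sq (Sh.O_odd (hker (Subgroup.inclusion (S_le Sh hx) s) hs))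
            (Sh.orbit_invol hab hd s.2))
        refine h8G.trans ?_
        rw [Nat.card_congr (MonoidHom.ofInjective hρ).toEquiv]
        refine card_dvd_of_le ?_
        rintro _ ⟨s, rfl⟩
        by_cases hs1 : s = 1
        · rw [hs1, map_one]; exact one_mem _
        · exact hall _ (orderOf_two_of_sq (by rw [← map_mul, show s * s = 1 from
            Subtype.ext (Sh.orbit_invol hab hd s.2), map_one]) fun e => hs1 (hρ (by rw [e, map_one])))
      rcases hF' with ⟨h35, -⟩ | ⟨m, hm, hF'c⟩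
      · exact absurd (hcard ▸ h8) (EqConjOdd.not_eight_dvd h35 (card_psl_double (Nat.odd_iff.2 (by omega))))
      · obtain ⟨P'⟩ : Nonempty (Sylow 2 (Matrix.ProjectiveSpecialLinearGroup (Fin 2) F')) := inferInstance
        have hP' := card_sylow_psl_even (hF'c ▸ dvd_pow_self 2 (by omega)) P'
        have hle : Fintype.card F' ≤ 8 := by
          obtain ⟨P₂⟩ : Nonempty (Sylow 2 ↥N) := inferInstance
          have := hsmall P₂
          rwa [P₂.card_eq_multiplicity, hcard, ← P'.card_eq_multiplicity, hP'] at this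
        have hge : 8 ∣ Fintype.card F' := hP' ▸ P'.pow_dvd_card_of_pow_dvd_card (n := 3) (hcard ▸ h8)
        have hF8 : Fintype.card F' = 8 := le_antisymm hle (Nat.le_of_dvd Fintype.card_pos hge)
        have h504 : Nat.card ↥N = 504 := by
          have h := Classical.SmallIso.natCard_pslTwo F'
          rw [Classical.GL2.natCard_SL_two, hF8] at h
          rw [hcard]
          simpa using h
        rw [h504]
        refine le_trans ?_ (Nat.le_add_right _ _)
        by_contra hc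
        have := (Nat.prime_three.pow_dvd_iff_le_factorization (by norm_num : (504 : ℕ) ≠ 0)
          (k := 3)).2 (by omega)
        norm_num at this
  · -- the socle is a group of Ree order
    have h5 : 5 ≤ Fintype.card F := by
      have : 3 ^ 2 ≤ 3 ^ n := Nat.pow_le_pow_right (by norm_num) hn2
      rw [hFc]
      omega
    haveI : IsSimpleGroup (Matrix.ProjectiveSpecialLinearGroup (Fin 2) F) :=
      Classical.Linear.isSimpleGroup_PSL_fin le_rfl fun _ => by omega
    set i : G := (Sh.φ.symm Sh.I : G) with hi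
    let iL : ↥(L₀ E₀ x) := ⟨i, (Sh.φ.symm Sh.I).2, S_le Sh hx Sh.memI⟩
    have hiL : iL ≠ 1 := fun e => Sh.frame.neI (Sh.φ.symm.injective (Subtype.ext (by
      rw [map_one, Subgroup.coe_one]; exact congrArg Subtype.val e)))
    have hψN : ∀ l, ψ l ∈ N := fun l => by
      rcases ((inferInstance : N.Normal).comap ψ |>.map eL.toMonoidHom eL.surjective).eq_bot_or_eq_top
        with h | h
      · exfalso
        have h1 := (map_eq_bot_iff_of_injective _ eL.injective).1 h
        have h2 : iL ∈ N.comap ψ := hall _ (orderOf_two_of_sq (by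
          rw [← map_mul, show iL * iL = 1 from Subtype.ext (Sh.orbit_invol hab hd Sh.memI), map_one])
          fun e => hiL (hψ (by rw [e, map_one])))
        exact hiL (mem_bot.1 (h1 ▸ h2))
      · have h1 : eL l ∈ (N.comap ψ).map eL.toMonoidHom := h ▸ mem_top _
        obtain ⟨l', hl', e⟩ := h1
        exact (eL.injective e) ▸ hl'
    let g : ↥(L₀ E₀ x) →* ↥N := ψ.codRestrict N hψN
    have hg : Function.Injective g := fun a b e => hψ (congrArg Subtype.val e)
    have hgt : ∀ l, Commute (g l) a₀ := fun l => Subtype.ext (by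
      show ψ l * N.subtype a₀ = N.subtype a₀ * ψ l
      rw [ha₀]
      exact ((show Commute (Subgroup.inclusion inf_le_right l : ↥(centralizer ({x} : Set G))) tX from
        Subtype.ext (mem_centralizer_singleton_iff.1 (hd.le l.2.1))).map f).eq)
    have hlift : ∀ y ∈ centralizer ({a₀} : Set ↥N), ∃ d : ↥(centralizer ({x} : Set G)), (d : G) ∈ centralizer ({t} : Set G) ∧
        f d = (y : ↥(centralizer ({x} : Set G)) ⧸ Cfsg.oddCore ↥(centralizer ({x} : Set G))) := by
      intro y hy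
      obtain ⟨d, hd', e⟩ := hcent (mem_centralizer_singleton_iff.2
        (congrArg Subtype.val (mem_centralizer_singleton_iff.1 hy) :))
      exact ⟨d, mem_centralizer_singleton_iff.2
        (congrArg Subtype.val (mem_centralizer_singleton_iff.1 hd') :), e⟩
    have hT : TwoPSL a₀ F g.range := by
      refine ⟨ha2, hFodd, ?_, ?_, ?_, le_antisymm ?_ ?_,
        ⟨(MonoidHom.ofInjective hg).symm.trans eL⟩⟩
      · rintro _ ⟨l, rfl⟩
        exact mem_centralizer_singleton_iff.2 (hgt l).eq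
      · intro y hy
        obtain ⟨d, hdt, hfd⟩ := hlift y hy
        refine EqualOrderConj.mem_normalizer_of_conj_mem ?_
        rintro _ ⟨l, rfl⟩
        refine ⟨⟨(d : G) * l * (d : G)⁻¹, mem_inf.2 ⟨(mem_normalizer_iff.1 (hd.normal hdt) _).1 l.2.1,
          mul_mem (mul_mem d.2 (mem_inf.1 l.2).2) (inv_mem d.2)⟩⟩, Subtype.ext ?_⟩
        show f _ = (y : ↥(centralizer ({x} : Set G)) ⧸ Cfsg.oddCore ↥(centralizer ({x} : Set G))) * ψ l * (y : ↥(centralizer ({x} : Set G)) ⧸ Cfsg.oddCore ↥(centralizer ({x} : Set G)))⁻¹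
        rw [← hfd]
        show f _ = f d * f (Subgroup.inclusion inf_le_right l) * (f d)⁻¹
        rw [← map_inv, ← map_mul, ← map_mul]
        rfl
      · rintro ⟨l, hl⟩
        have h1 : f tX = f (Subgroup.inclusion inf_le_right l) := by
          rw [← ha₀, ← hl]; rfl
        have h2 : t⁻¹ * (l : G) = 1 := Sh.uniq _
          (mul_mem (inv_mem (mem_sup_left (mem_zpowers t))) (mem_sup_right l.2.1))
          (hker (tX⁻¹ * Subgroup.inclusion inf_le_right l) (by rw [map_mul, map_inv, h1, inv_mul_cancel]))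
        exact hd.t_not ((inv_mul_eq_one.1 h2) ▸ l.2.1)
      · intro y hy
        obtain ⟨hy1, hy2⟩ := mem_inf.1 hy
        obtain ⟨d, hdt, hfd⟩ := hlift y hy1
        obtain ⟨_, hw, o, ho, hdo⟩ := Sh.surj (d : G) hdt
        obtain ⟨a, ha, e, he, rfl⟩ := mem_sup_cases hd.le hw
        have hfix : ∀ l ∈ E₀, Commute l x → Commute (e * o) l := by
          intro l hl hlx
          let l' : ↥(L₀ E₀ x) := ⟨l, hl, mem_centralizer_singleton_iff.2 hlx.eq⟩
          have h1 : ψ l' * (y : ↥(centralizer ({x} : Set G)) ⧸ Cfsg.oddCore ↥(centralizer ({x} : Set G))) = (y : ↥(centralizer ({x} : Set G)) ⧸ Cfsg.oddCore ↥(centralizer ({x} : Set G))) * ψ l' :=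
            (congrArg Subtype.val (mem_centralizer_iff.1 hy2 (g l') ⟨l', rfl⟩) :)
          have h2 : (d : G) * l * (d : G)⁻¹ * l⁻¹ = 1 := Sh.uniq _
            (mem_sup_right (mul_mem ((mem_normalizer_iff.1 (hd.normal hdt) l).1 hl) (inv_mem hl)))
            (hker (d * Subgroup.inclusion inf_le_right l' * d⁻¹ * (Subgroup.inclusion inf_le_right l')⁻¹) (by
              rw [map_mul, map_mul, map_mul, map_inv, map_inv, hfd]
              show (y : ↥(centralizer ({x} : Set G)) ⧸ Cfsg.oddCore ↥(centralizer ({x} : Set G))) * ψ l' * (y : ↥(centralizer ({x} : Set G)) ⧸ Cfsg.oddCore ↥(centralizer ({x} : Set G)))⁻¹ * (ψ l')⁻¹ = 1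
              rw [← h1, mul_inv_cancel_right, mul_inv_cancel]))
          have h3 : Commute (a * e * o) l := hdo ▸ mul_inv_eq_iff_eq_mul.1 (mul_inv_eq_one.1 h2)
          have h4 : Commute a l := by
            obtain ⟨k, rfl⟩ := mem_zpowers_iff.1 ha
            exact ((show Commute l t from mem_centralizer_singleton_iff.1 (hd.le hl)).zpow_right k).symm
          have h5 := h4.inv_left.mul_left h3
          rwa [mul_assoc a, inv_mul_cancel_left] at h5
        obtain ⟨rfl, ho'⟩ := Sh.faithful_fixed hd hx he ho hfix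
        obtain ⟨k, hk⟩ := mem_zpowers_iff.1 ho'
        obtain ⟨i', rfl⟩ := mem_zpowers_iff.1 ha
        refine mem_zpowers_iff.2 ⟨i', Subtype.ext ?_⟩
        rw [← hfd, SubgroupClass.coe_zpow, ← Subgroup.subtype_apply, ha₀, ← map_zpow]
        refine (QuotientGroup.eq.2 ?_)
        have hdiff : (tX ^ i')⁻¹ * d = (⟨x, mem_centralizer_singleton_iff.2 rfl⟩ : ↥(centralizer ({x} : Set G))) ^ k := Subtype.ext (by
          rw [Subgroup.coe_mul, Subgroup.coe_inv, SubgroupClass.coe_zpow, SubgroupClass.coe_zpow, hdo,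
            mul_one, inv_mul_cancel_left, hk])
        rw [hdiff]
        exact zpow_mem hxW k
      · refine zpowers_le.2 (mem_inf.2 ⟨mem_centralizer_singleton_iff.2 rfl, mem_centralizer_iff.2 ?_⟩)
        rintro _ ⟨l, rfl⟩
        exact (hgt l).eq
    have heq := hFB ↥N inferInstance habN hlt a₀ F g.range h5 hT
    have habN' : ∀ P : Sylow 2 ↥N, ∀ a b : P, a * b = b * a :=
      fun P a b => Subtype.ext (habN _ P.2 a a.2 b b.2)
    obtain ⟨eT⟩ := hT.iso
    obtain ⟨m, hm, hFm, hcard⟩ := (S0343.result habN' (by omega : 3 ≤ Fintype.card F) a₀ ha2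
      (two_times_equiv ha2 hT.le hT.t_not heq eT)).resolve_right (fun h => by
        have : 3 ^ 2 ≤ 3 ^ n := Nat.pow_le_pow_right (by norm_num) hn2
        rcases h.1 with h | h <;> omega)
    obtain rfl : n = 2 * m + 1 := Nat.pow_right_injective (by norm_num) (hFc.symm.trans hFm)
    set q := 3 ^ (2 * m + 1) with hq
    have hq3 : 3 ∣ q := dvd_pow_self 3 (by omega)
    have hne : ¬ 3 ∣ (q ^ 3 + 1) * (q - 1) := fun h => by
      rcases (Nat.Prime.dvd_mul Nat.prime_three).1 h with h | h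
      · exact absurd ((Nat.dvd_add_right (dvd_pow hq3 (by norm_num : 3 ≠ 0))).1 h) (by norm_num)
      · omega
    have hvN : (Nat.card ↥N).factorization 3 = 3 * (2 * m + 1) := by
      rw [hcard, mul_assoc, Nat.factorization_mul (by positivity)
          (fun e => hne (by rw [e]; exact dvd_zero 3)),
        Finsupp.add_apply, Nat.factorization_eq_zero_of_not_dvd hne, hq, ← pow_mul,
        Nat.Prime.factorization_pow Nat.prime_three]
      simp [mul_comm]
    have hvC : 2 * m + 1 ≤ (Nat.card ↥(centralizer ({a₀} : Set ↥N))).factorization 3 := by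
      refine (Nat.prime_three.pow_dvd_iff_le_factorization Nat.card_pos.ne').1
        (dvd_trans ?_ (card_dvd_of_le hT.le))
      rw [← Nat.card_congr (MonoidHom.ofInjective hg).toEquiv, Nat.card_congr eL.toEquiv]
      refine ((Nat.Coprime.pow_left _ (by norm_num : Nat.Coprime 3 2)).dvd_of_dvd_mul_left ?_)
      rw [card_psl_double hFodd, hFc]
      exact dvd_mul_right _ _
    omega

/-- The 3-part of the order of `C(x)`. -/
theorem three_part [IsSimpleGroup G] (hnc : ¬ IsMulCommutative G) (hab : SEAbelian.AbTwo G)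
    (hFB : FieldBelow.{u, v} (Nat.card G)) {F : Type v} [Field F] [Fintype F] {n : ℕ} (hn : 0 < n)
    (hFc : Fintype.card F = 3 ^ n)
    (eL : ↥(L₀ E₀ x) ≃* Matrix.ProjectiveSpecialLinearGroup (Fin 2) F) (hx : x ∈ Sh.O)
    (hox : orderOf x = 3) (hO : n = 1 → Nat.card ↥Sh.O = 3) :
    (Nat.card ↥(centralizer ({x} : Set G))).factorization 3 ≤
      3 * n + (Nat.card ↥Sh.O).factorization 3 := by
  classical
  haveI : Fact (Nat.Prime 2) := ⟨Nat.prime_two⟩
  have hFodd : Odd (Fintype.card F) := hFc ▸ (by decide : Odd 3).pow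
  have hW := oddCore_le Sh hd hnc hab hFodd eL hx hox
  set tX : ↥(centralizer ({x} : Set G)) := ⟨t, t_mem Sh hx⟩ with htX
  set f := QuotientGroup.mk' (Cfsg.oddCore ↥(centralizer ({x} : Set G))) with hf
  set xX : ↥(centralizer ({x} : Set G)) := ⟨x, mem_centralizer_singleton_iff.2 rfl⟩ with hxX
  have hxW : xX ∈ Cfsg.oddCore ↥(centralizer ({x} : Set G)) := by
    haveI : (zpowers xX).Normal := ⟨fun a ha g => by
      obtain ⟨k, rfl⟩ := mem_zpowers_iff.1 ha
      have hc : Commute g xX := Subtype.ext (mem_centralizer_singleton_iff.1 g.2)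
      rw [(hc.zpow_right k).eq, mul_inv_cancel_right]
      exact ha⟩
    refine Agent.Cores.le_oddCore (N := zpowers xX) ?_ (mem_zpowers xX)
    rw [Nat.card_zpowers, ← Subgroup.orderOf_coe, show (xX : G) = x from rfl, hox]
    decide
  have hxG : centralizer ({x} : Set G) ≠ ⊤ := by
    intro e
    have hz : x ∈ Subgroup.center G := Subgroup.mem_center_iff.2 fun g =>
      mem_centralizer_singleton_iff.1 (e ▸ mem_top g : g ∈ centralizer ({x} : Set G))
    rw [center_eq_bot_of_simple hnc, mem_bot] at hz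
    rw [hz, orderOf_one] at hox
    omega
  have htt : tX * tX = 1 := Subtype.ext (by
    show t * t = 1
    rw [← pow_two, ← hd.ht, pow_orderOf_eq_one])
  have hker : ∀ z : ↥(centralizer ({x} : Set G)), f z = 1 → (z : G) ∈ Sh.O := fun z hz =>
    hW ⟨z, (QuotientGroup.eq_one_iff z).1 hz, rfl⟩
  have hcent : centralizer ({f tX} : Set _) ≤ (centralizer ({tX} : Set _)).map f := by
    intro y hy
    obtain ⟨d, rfl⟩ := QuotientGroup.mk'_surjective _ y
    refine ⟨d, mem_centralizer_singleton_iff.2 ?_, rfl⟩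
    set w := d * tX * d⁻¹ * tX⁻¹ with hw
    have hwO : (w : G) ∈ Sh.O := hker w (by
      rw [hw, map_mul, map_mul, map_mul, map_inv, map_inv, mem_centralizer_singleton_iff.1 hy,
        mul_inv_cancel_right, mul_inv_cancel])
    have hwt : Commute w tX := Subtype.ext (Sh.O_commute_t hwO)
    have hww : w * w = 1 := by
      calc w * w = w * w * (tX * tX) := by rw [htt, mul_one]
        _ = w * tX * (w * tX) := by rw [hwt.symm.mul_mul_mul_comm]
        _ = d * (tX * tX) * d⁻¹ := by rw [hw]; group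
        _ = 1 := by rw [htt, mul_one, mul_inv_cancel]
    have hw1 : w = 1 := Subtype.ext (Other.eq_one_of_odd_sq (Sh.O_odd hwO) (congrArg Subtype.val hww :))
    exact mul_inv_eq_iff_eq_mul.1 (mul_inv_eq_one.1 hw1)
  have hcomap : (centralizer ({f tX} : Set _)).comap f = centralizer ({tX} : Set _) := by
    refine le_antisymm (fun d hd' => ?_) fun d hd' => mem_centralizer_singleton_iff.2 ?_
    · obtain ⟨d', hd'', e⟩ := hcent hd'
      have h1 : (d'⁻¹ * d : ↥(centralizer ({x} : Set G))) ∈ centralizer ({tX} : Set _) :=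
        mem_centralizer_singleton_iff.2 (Subtype.ext (Sh.O_commute_t
          (hker _ (by rw [map_mul, map_inv, e, inv_mul_cancel]))).eq)
      have := mul_mem hd'' h1
      rwa [mul_inv_cancel_left] at this
    · rw [← map_mul, mem_centralizer_singleton_iff.1 hd', map_mul]
  have hidx : (centralizer ({f tX} : Set _)).index.factorization 3 ≤ 2 * n := by
    set C := centralizer ({f tX} : Set (↥(centralizer ({x} : Set G)) ⧸
      Cfsg.oddCore ↥(centralizer ({x} : Set G)))) with hC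
    let SX : Sylow 2 ↥(centralizer ({x} : Set G)) := S.subtype (S_le Sh hx)
    let P := SX.mapSurjective (QuotientGroup.mk'_surjective (Cfsg.oddCore ↥(centralizer ({x} : Set G))))
    have hPmem : ∀ p ∈ (P : Subgroup (↥(centralizer ({x} : Set G)) ⧸ Cfsg.oddCore ↥(centralizer ({x} : Set G)))), ∃ s : ↥(centralizer ({x} : Set G)),
        (s : G) ∈ (S : Subgroup G) ∧ f s = p := by
      rintro p ⟨s, hs, rfl⟩
      exact ⟨s, hs, rfl⟩
    have hinv : ∀ p ∈ (P : Subgroup (↥(centralizer ({x} : Set G)) ⧸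
        Cfsg.oddCore ↥(centralizer ({x} : Set G)))), p * p = 1 := by
      intro p hp
      obtain ⟨s, hs, rfl⟩ := hPmem p hp
      rw [← map_mul, show s * s = 1 from Subtype.ext (Sh.orbit_invol hab hd hs), map_one]
    have hft : orderOf (f tX) = 2 := orderOf_two_of_sq (by rw [← map_mul, htt, map_one]) fun e => by
      have := Sh.O_odd (hker tX e)
      rw [hd.ht] at this
      exact absurd this (by decide)
    have hP1 : (P : Subgroup (↥(centralizer ({x} : Set G)) ⧸ Cfsg.oddCore ↥(centralizer ({x} : Set G)))) ≠ ⊥ := fun e => ne_one_of_orderOf_two hft (mem_bot.1 (e ▸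
      (⟨tX, Sh.memt, rfl⟩ : f tX ∈ (P : Subgroup (↥(centralizer ({x} : Set G)) ⧸ Cfsg.oddCore ↥(centralizer ({x} : Set G)))))))
    have hone : ∀ a : ↥(centralizer ({x} : Set G)) ⧸ Cfsg.oddCore ↥(centralizer ({x} : Set G)), orderOf a = 2 →
        ∀ b : ↥(centralizer ({x} : Set G)) ⧸ Cfsg.oddCore ↥(centralizer ({x} : Set G)), orderOf b = 2 → IsConj a b := by
      suffices h : ∀ a, orderOf a = 2 → IsConj (f tX) a from fun a ha b hb => (h a ha).symm.trans (h b hb)
      intro a ha
      obtain ⟨Q, hQ⟩ := exists_sylow_mem (G := ↥(centralizer ({x} : Set G)) ⧸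
        Cfsg.oddCore ↥(centralizer ({x} : Set G))) ha
      obtain ⟨g, hg⟩ := MulAction.exists_smul_eq (↥(centralizer ({x} : Set G)) ⧸ Cfsg.oddCore ↥(centralizer ({x} : Set G))) Q P
      have hga : g * a * g⁻¹ ∈ (P : Subgroup (↥(centralizer ({x} : Set G)) ⧸ Cfsg.oddCore ↥(centralizer ({x} : Set G)))) := by
        rw [← hg, Sylow.coe_subgroup_smul]
        exact ⟨a, hQ, rfl⟩
      obtain ⟨s, hs, e⟩ := hPmem _ hga
      have hs1 : (s : G) ≠ 1 := fun e' => ne_one_of_orderOf_two ha (conj_eq_one_iff.1 (by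
        rw [← e, show s = 1 from Subtype.ext e', map_one]))
      obtain ⟨m, hm, hms⟩ := Sh.trans hnc hab hd _ hs hs1
      have hmX := Sh.normalizer_le hnc hab hd hx Nat.prime_three hox hm
      have h1 : IsConj (f tX) (f s) := isConj_iff.2 ⟨f ⟨m, hmX⟩, by
        rw [← map_inv, ← map_mul, ← map_mul]
        exact congrArg f (Subtype.ext hms)⟩
      refine h1.trans (isConj_iff.2 ⟨g⁻¹, ?_⟩)
      rw [e]
      group
    have habQ : SEAbelian.AbTwo (↥(centralizer ({x} : Set G)) ⧸ Cfsg.oddCore ↥(centralizer ({x} : Set G))) :=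
      (hab.subgroup _).map (QuotientGroup.mk'_surjective _)
    rcases exists_simple_of_oneClass habQ (Agent.Cores.pPrimeCore_quotient_self 2)
      (fun a b ha hb => hone a ha b hb) P hP1 hinv with hPn | ⟨N, hNn, hNs, hNnc, hall⟩
    · -- the Sylow subgroup is normal
      haveI := hPn
      have hP8 : Nat.card ↥(P : Subgroup (↥(centralizer ({x} : Set G)) ⧸ Cfsg.oddCore ↥(centralizer ({x} : Set G)))) ≤ 8 := by
        refine le_trans ?_ (card_S_le Sh hd)
        refine le_trans (Nat.le_of_dvd Nat.card_pos (card_map_dvd _ _)) (le_of_eq ?_)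
        exact Nat.card_congr (subgroupOfEquivOfLe (S_le Sh hx)).toEquiv
      have hle : C.index ≤ Nat.card ↥(P : Subgroup (↥(centralizer ({x} : Set G)) ⧸ Cfsg.oddCore ↥(centralizer ({x} : Set G)))) := by
        rw [Subgroup.index]
        refine Nat.card_le_card_of_injective (Quotient.lift
          (fun g => (⟨g * f tX * g⁻¹, hPn.conj_mem _ ⟨tX, Sh.memt, rfl⟩ g⟩ : ↥(P : Subgroup (↥(centralizer ({x} : Set G)) ⧸ Cfsg.oddCore ↥(centralizer ({x} : Set G)))))) ?_) ?_
        · intro a b hab'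
          have h1 := mem_centralizer_singleton_iff.1 (QuotientGroup.leftRel_apply.1 hab' : a⁻¹ * b ∈ C)
          refine Subtype.ext ?_
          show a * f tX * a⁻¹ = b * f tX * b⁻¹
          calc a * f tX * a⁻¹ = a * (f tX * (a⁻¹ * b)) * b⁻¹ := by group
            _ = a * (a⁻¹ * b * f tX) * b⁻¹ := by rw [h1]
            _ = b * f tX * b⁻¹ := by group
        · intro p q
          refine Quotient.inductionOn₂ p q fun a b e => Quotient.sound (QuotientGroup.leftRel_apply.2 ?_)
          have h1 : a * f tX * a⁻¹ = b * f tX * b⁻¹ := congrArg Subtype.val e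
          refine mem_centralizer_singleton_iff.2 ?_
          calc a⁻¹ * b * f tX = a⁻¹ * (b * f tX * b⁻¹) * b := by group
            _ = a⁻¹ * (a * f tX * a⁻¹) * b := by rw [h1]
            _ = f tX * (a⁻¹ * b) := by group
      exact (factorization_three_le_one (hle.trans hP8)).trans (by omega)
    · haveI := hNn
      haveI := hNs
      let a₀ : ↥N := ⟨f tX, hall _ hft⟩
      have ha2 : orderOf a₀ = 2 := by rw [← Subgroup.orderOf_coe]; exact hft
      have hsmall : ∀ Q : Sylow 2 ↥N, Nat.card ↥(Q : Subgroup ↥N) ≤ 8 := by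
        intro Q
        obtain ⟨k, hk⟩ := Q.2.exists_card_eq
        have h1 : 2 ^ k ∣ Nat.card G := hk ▸ ((Q : Subgroup ↥N).card_subgroup_dvd_card.trans
          (N.card_subgroup_dvd_card.trans ((card_quotient_dvd_card _).trans
            (centralizer ({x} : Set G)).card_subgroup_dvd_card)))
        rw [hk]
        exact (Nat.le_of_dvd Nat.card_pos (S.pow_dvd_card_of_pow_dvd_card h1)).trans (card_S_le Sh hd)
      have hone' := oneTwoClass_of_small hNnc (habQ.subgroup N) hsmall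
      have hfus : ∀ g, ∃ m ∈ N, m * f tX * m⁻¹ = g * f tX * g⁻¹ := by
        intro g
        let b : ↥N := ⟨g * f tX * g⁻¹, hNn.conj_mem _ (hall _ hft) g⟩
        have hb : orderOf b = 2 := by
          rw [← Subgroup.orderOf_coe, show (b : _ ⧸ _) = MulAut.conj g (f tX) from rfl,
            MulEquiv.orderOf_eq, hft]
        obtain ⟨c, hc⟩ := isConj_iff.1 (isConj_of_oneTwo hone' ha2 hb)
        exact ⟨c, c.2, (congrArg Subtype.val hc :)⟩
      have h := card_mul_card_cent hfus
      rw [← hC, ← C.card_mul_index, mul_assoc, mul_comm (Nat.card ↥N)] at h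
      have h' := Nat.eq_of_mul_eq_mul_left Nat.card_pos h
      have hv := congrArg (fun z : ℕ => z.factorization 3) h'
      simp only [Nat.factorization_mul C.index_ne_zero_of_finite Nat.card_pos.ne', Finsupp.add_apply] at hv
      have hs := socle_three Sh hd hab hFB hn hFc eL hx hO hxG hW hxW N hNnc hall a₀ rfl hcent
      rw [card_centralizer_subgroup N a₀] at hs
      change _ ≤ 2 * n + (Nat.card ↥(N ⊓ centralizer ({f tX} : Set _))).factorization 3 at hs
      rw [← hC] at hs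
      omega
  have hXc : Nat.card ↥(centralizer ({x} : Set G)) =
      Nat.card ↥(centralizer ({tX} : Set ↥(centralizer ({x} : Set G)))) *
        (centralizer ({f tX} : Set _)).index := by
    rw [← index_comap_of_surjective _ (QuotientGroup.mk'_surjective _), hcomap, card_mul_index]
  have hvF : (2 * Nat.card ↥(L₀ E₀ x)).factorization 3 = n := by
    rw [Nat.card_congr eL.toEquiv, card_psl_double hFodd, hFc]
    have h3 : 3 ∣ 3 ^ n := dvd_pow_self 3 hn.ne'
    have hne : ¬ 3 ∣ (3 ^ n - 1) * (3 ^ n + 1) := fun h => by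
      have := Nat.one_le_pow n 3 (by norm_num)
      rcases (Nat.Prime.dvd_mul Nat.prime_three).1 h with h | h <;> omega
    rw [Nat.factorization_mul (by positivity) (fun e => hne (by rw [e]; exact dvd_zero 3)),
      Finsupp.add_apply, Nat.factorization_eq_zero_of_not_dvd hne,
      Nat.Prime.factorization_pow Nat.prime_three]
    simp
  rw [hXc, card_centralizer_subgroup, show ((tX : ↥(centralizer ({x} : Set G))) : G) = t from rfl,
    inf_comm, card_D Sh hd hx,
    Nat.factorization_mul (Nat.mul_ne_zero (Nat.mul_ne_zero two_ne_zero Nat.card_pos.ne') Nat.card_pos.ne')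
      Subgroup.index_ne_zero_of_finite, Finsupp.add_apply,
    Nat.factorization_mul (Nat.mul_ne_zero two_ne_zero Nat.card_pos.ne') Nat.card_pos.ne',
    Finsupp.add_apply, hvF]
  omega

end

end Cfsg.Agent.Walter.Field.Bound

namespace Cfsg.Agent.Walter.Field

open Subgroup Other

universe u v

/-- Step 0 for `r = p = 3`. -/
theorem bound_fact : BoundFact.{u, v} := by
  intro G _ _ hs hab hFB t K _ _ E₀ x q₀ h5 hd hx hchar hq P hP hPle
  classical
  haveI := hs
  haveI : Fact (Nat.Prime 3) := ⟨Nat.prime_three⟩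
  obtain ⟨S, Sh, hxO, -⟩ := exists_shape_of_elt hd hab h5 hx
  have hnc : ¬ IsMulCommutative G := fun hc => Sh.frame.ne (Sh.φ.symm.injective (Subtype.ext (by
    rw [← Sh.y_I, hc.is_comm.comm Sh.y _, mul_inv_cancel_right])))
  set F := fixF (Sh.σ ⟨x, hxO⟩) with hFdef
  letI : Fintype ↥F := Fintype.ofFinite _
  have hKF : Fintype.card K = Fintype.card ↥F ^ 3 := by
    rw [Sh.card_eq_pow hd hxO, hx.order]
  have hqF : Fintype.card ↥F = q₀ :=
    Nat.pow_left_injective (by norm_num) (hKF.symm.trans hq)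
  haveI : CharP K 3 := ringChar.of_eq hchar
  obtain ⟨⟨f, hf0⟩, -, hKf⟩ := FiniteField.card K 3
  obtain ⟨p, hp, ⟨n, hn⟩, hpp, hFn⟩ : ∃ (p : ℕ) (_ : CharP ↥F p) (m : ℕ+), p.Prime ∧
      Fintype.card ↥F = p ^ (m : ℕ) := by
    obtain ⟨p, hp⟩ := CharP.exists ↥F
    obtain ⟨m, hm⟩ := FiniteField.card ↥F p
    exact ⟨p, hp, m, hm⟩
  have h3 : p = 3 := by
    refine (Nat.prime_dvd_prime_iff_eq hpp Nat.prime_three).1 (hpp.dvd_of_dvd_pow (n := f) ?_)
    rw [← show Fintype.card K = 3 ^ f from hKf, hKF, hFn, ← pow_mul]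
    exact dvd_pow_self p (Nat.mul_pos hn (by norm_num)).ne'
  subst h3
  obtain ⟨eL⟩ := Sh.fixed_iso hd hxO
  have hO : n = 1 → Nat.card ↥Sh.O = 3 := by
    rintro rfl
    obtain ⟨e⟩ := AutPSL.Out.exists_ringAut_equiv (F := K) (p := 3) (f := 3)
      (by rw [hKF, hFn]; rfl)
    haveI : Finite (K ≃+* K) := Finite.of_injective (fun a => (a : K → K)) DFunLike.coe_injective
    refine Nat.dvd_antisymm ?_ (hx.order ▸ Sh.O.orderOf_dvd_natCard hxO)
    have h := card_dvd_of_injective Sh.σ Sh.σ_inj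
    rwa [Nat.card_congr e.toEquiv, Nat.card_congr Multiplicative.toAdd, Nat.card_zmod] at h
  have hv := Bound.three_part Sh hd hnc hab hFB hn hFn eL hxO hx.order hO
  obtain ⟨k, hk⟩ := hP.exists_card_eq
  have hkle : k ≤ (Nat.card ↥(centralizer ({x} : Set G))).factorization 3 :=
    (Nat.prime_three.pow_dvd_iff_le_factorization Nat.card_pos.ne').1 (hk ▸ card_dvd_of_le hPle)
  rw [hk, Sh.outIndex_eq hd, ← hqF, hFn]
  refine (pow_dvd_pow 3 (hkle.trans hv)).trans ?_
  rw [pow_add, PNat.mk_coe, ← pow_mul, mul_comm n 3]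
  exact mul_dvd_mul dvd_rfl (Nat.ordProj_dvd _ _)

end Cfsg.Agent.Walter.Field
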