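import Cfsg.Agent.Lib.SEAbelian.ReduceQuotient
import Cfsg.Agent.Lib.Cores.Basic

/-!
# The socle of a group with one class of involutions

Without odd core, with abelian Sylow 2-subgroups of exponent two and one class of involutions, either
the Sylow subgroup is normal or a simple normal subgroup contains all involutions.
-/

set_option autoImplicit false
set_option linter.unusedSectionVars false
set_option linter.style.haveILetI false

namespace Cfsg.Agent.Walter.Field

open Subgroup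
open Cfsg.Agent.Involutions

universe u

variable {G : Type u} [Group G] [Finite G]

/-- The socle is either the Sylow subgroup or simple. -/
theorem exists_simple_of_oneClass (h : SEAbelian.AbTwo G) (h0 : Cfsg.oddCore G = ⊥)
    (hone : ∀ a b : G, orderOf a = 2 → orderOf b = 2 → IsConj a b) (S : Sylow 2 G)
    (hS1 : (S : Subgroup G) ≠ ⊥) (hinv : ∀ s ∈ (S : Subgroup G), s * s = 1) :
    (S : Subgroup G).Normal ∨ ∃ N : Subgroup G, N.Normal ∧ IsSimpleGroup ↥N ∧
      ¬ IsMulCommutative ↥N ∧ ∀ a : G, orderOf a = 2 → a ∈ N := by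
  haveI : Fact (Nat.Prime 2) := ⟨Nat.prime_two⟩
  obtain ⟨N, ⟨hNn, hN1⟩, hmin⟩ := SEAbelian.exists_min (P := fun K : Subgroup G => K.Normal ∧ K ≠ ⊥)
    ⟨⊤, inferInstance, fun e => hS1 (le_bot_iff.1 (e ▸ le_top))⟩
  haveI := hNn
  have hNeq : ∀ K : Subgroup G, K.Normal → K ≤ N → K ≠ ⊥ → K = N := fun K hK hle hne =>
    eq_of_le_of_card_ge hle (hmin K ⟨hK, hne⟩)
  have hall : ∀ K : Subgroup G, K.Normal → K ≠ ⊥ → ∀ a : G, orderOf a = 2 → a ∈ K := by
    intro K hK hne a ha
    haveI := hK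
    obtain ⟨b, hb, hb2⟩ := StronglyEmbedded.exists_involution_mem (H := K)
      (Nat.not_odd_iff_even.1 fun hodd => hne (le_bot_iff.1 (h0 ▸ Agent.Cores.le_oddCore hodd)))
    obtain ⟨g, rfl⟩ := isConj_iff.1 (hone b a hb2 ha)
    exact hK.conj_mem b hb g
  by_cases hNab : ∀ a ∈ N, ∀ b ∈ N, Commute a b
  · left
    let N₂ : Subgroup G :=
      { carrier := {x | x ∈ N ∧ x * x = 1}
        one_mem' := ⟨one_mem _, one_mul 1⟩
        mul_mem' := fun {a b} ha hb => ⟨mul_mem ha.1 hb.1, by
          rw [show a * b * (a * b) = a * (b * a) * b by group, ← (hNab a ha.1 b hb.1).eq,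
            show a * (a * b) * b = (a * a) * (b * b) by group, ha.2, hb.2, one_mul]⟩
        inv_mem' := fun {a} ha => ⟨inv_mem ha.1, by rw [← mul_inv_rev, ha.2, inv_one]⟩ }
    have hN₂n : N₂.Normal := ⟨fun x hx g => ⟨hNn.conj_mem x hx.1 g, by
      rw [show g * x * g⁻¹ * (g * x * g⁻¹) = g * (x * x) * g⁻¹ by group, hx.2, mul_one,
        mul_inv_cancel]⟩⟩
    have hp : IsPGroup 2 ↥N₂ := fun x => ⟨1, Subtype.ext (by
      rw [Subgroup.coe_pow, pow_one, pow_two]; exact x.2.2)⟩
    haveI := hN₂n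
    have hle : N₂ ≤ (S : Subgroup G) := (Agent.Cores.le_pCore hp).trans (Agent.Cores.pCore_le_sylow S)
    have hge : (S : Subgroup G) ≤ N₂ := fun s hs => by
      by_cases hs1 : s = 1
      · rw [hs1]; exact one_mem _
      · exact ⟨hall N hNn hN1 s (orderOf_eq_prime (by rw [pow_two, hinv s hs]) hs1), hinv s hs⟩
    exact le_antisymm hle hge ▸ hN₂n
  right
  obtain ⟨L, ⟨hLN, hL1, hLn⟩, hLmin⟩ := SEAbelian.exists_min
    (P := fun K : Subgroup G => K ≤ N ∧ K ≠ ⊥ ∧ N ≤ normalizer (K : Set G))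
    ⟨N, le_rfl, hN1, le_normalizer⟩
  have hLeq : ∀ K : Subgroup G, K ≤ L → K ≠ ⊥ → N ≤ normalizer (K : Set G) → K = L :=
    fun K hle hne hn => eq_of_le_of_card_ge hle (hLmin K ⟨hle.trans hLN, hne, hn⟩)
  have hconj_mem : ∀ g x : G, x ∈ L.map (MulAut.conj g).toMonoidHom ↔ g⁻¹ * x * g ∈ L := fun g x =>
    ⟨by rintro ⟨r, hr, rfl⟩; simpa [mul_assoc] using hr, fun hx => ⟨_, hx, by simp [mul_assoc]⟩⟩
  -- conjugates of `L` commute or are equal
  have hconj : ∀ g : G, L.map (MulAut.conj g).toMonoidHom = L ∨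
      (L ⊓ L.map (MulAut.conj g).toMonoidHom = ⊥ ∧
        ∀ a ∈ L, ∀ b ∈ L.map (MulAut.conj g).toMonoidHom, Commute a b) := by
    intro g
    set L' := L.map (MulAut.conj g).toMonoidHom with hL'
    have hL'N : L' ≤ N := fun x hx => by
      have := hNn.conj_mem _ (hLN ((hconj_mem g x).1 hx)) g
      simpa [mul_assoc] using this
    have hn' : N ≤ normalizer (L' : Set G) := by
      intro n hn
      have hn1 := mem_normalizer_iff.1 (hLn (show g⁻¹ * n * g ∈ N by
        simpa using hNn.conj_mem n hn g⁻¹))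
      refine mem_normalizer_iff.2 fun x => ?_
      rw [hconj_mem, hconj_mem, hn1 (g⁻¹ * x * g)]
      simp [mul_assoc]
    by_cases hi : L ⊓ L' = ⊥
    · refine Or.inr ⟨hi, ?_⟩
      intro a ha b hb
      have h1 : a * b * a⁻¹ * b⁻¹ ∈ L ⊓ L' := ⟨by
        have := mul_mem ha ((mem_normalizer_iff.1 (hLn (hL'N hb)) _).1 (inv_mem ha))
        simpa [mul_assoc] using this,
        L'.mul_mem ((mem_normalizer_iff.1 (hn' (hLN ha)) _).1 hb) (L'.inv_mem hb)⟩
      rw [hi, mem_bot] at h1
      exact mul_inv_eq_iff_eq_mul.1 (mul_inv_eq_one.1 h1)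
    · left
      have h1 : L ⊓ L' = L := hLeq _ inf_le_left hi fun n hn => mem_normalizer_iff.2 fun x => by
        simp only [mem_inf]
        rw [← mem_normalizer_iff.1 (hLn hn) x, ← mem_normalizer_iff.1 (hn' hn) x]
      exact (eq_of_le_of_card_ge (inf_eq_left.1 h1)
        (Subgroup.card_map_of_injective (MulAut.conj g).injective).le).symm
  -- `L` is not abelian
  have hLab : ¬ ∀ a ∈ L, ∀ b ∈ L, Commute a b := by
    intro hab
    apply hNab
    have hNC : normalClosure (L : Set G) = N := hNeq _ inferInstance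
      (normalClosure_le_normal hLN) fun e => hL1 (le_bot_iff.1 (e ▸ subset_normalClosure))
    have hsc : IsMulCommutative ↥(closure (Group.conjugatesOfSet (L : Set G))) := by
      refine isMulCommutative_closure fun x hx y hy => ?_
      obtain ⟨a, ha, hxa⟩ := Group.mem_conjugatesOfSet_iff.1 hx
      obtain ⟨b, hb, hyb⟩ := Group.mem_conjugatesOfSet_iff.1 hy
      obtain ⟨g, rfl⟩ := isConj_iff.1 hxa
      obtain ⟨g', rfl⟩ := isConj_iff.1 hyb
      have h1 : Commute a (g⁻¹ * (g' * b * g'⁻¹) * g) := by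
        have hmem : g⁻¹ * (g' * b * g'⁻¹) * g ∈ L.map (MulAut.conj (g⁻¹ * g')).toMonoidHom :=
          ⟨b, hb, by simp [mul_assoc]⟩
        rcases hconj (g⁻¹ * g') with h2 | ⟨-, h2⟩
        · exact hab a ha _ (h2 ▸ hmem)
        · exact h2 a ha _ hmem
      have h2 := (h1.map (MulAut.conj g).toMonoidHom).eq
      simpa [mul_assoc] using h2
    intro a ha b hb
    rw [← hNC] at ha hb
    exact congrArg Subtype.val (hsc.is_comm.comm ⟨a, ha⟩ ⟨b, hb⟩)
  -- so its centre is trivial
  have hZ : ∀ a ∈ L, (∀ b ∈ L, Commute a b) → a = 1 := by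
    intro a ha hc
    by_contra ha1
    refine hLab fun p hp q hq => ?_
    have hCL : L ⊓ centralizer (L : Set G) = L := by
      refine hLeq _ inf_le_left (fun e => ha1 (mem_bot.1 (e ▸ mem_inf.2 ⟨ha, ?_⟩))) fun n hn => ?_
      · exact mem_centralizer_iff.2 fun b hb => (hc b hb).eq.symm
      · refine EqualOrderConj.mem_normalizer_of_conj_mem fun y hy => mem_inf.2 ?_
        obtain ⟨hyL, hyC⟩ := mem_inf.1 hy
        refine ⟨(mem_normalizer_iff.1 (hLn hn) y).1 hyL, mem_centralizer_iff.2 fun b hb => ?_⟩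
        have hb' : n⁻¹ * b * n ∈ L := (mem_normalizer_iff''.1 (hLn hn) b).1 hb
        have h2 := mem_centralizer_iff.1 hyC _ hb'
        calc b * (n * y * n⁻¹) = n * ((n⁻¹ * b * n) * y) * n⁻¹ := by group
          _ = n * (y * (n⁻¹ * b * n)) * n⁻¹ := by rw [h2]
          _ = n * y * n⁻¹ * b := by group
    have hp' : p ∈ centralizer (L : Set G) := (mem_inf.1 (hCL.symm ▸ hp)).2
    exact (mem_centralizer_iff.1 hp' q hq).symm
  have hLeven : ∃ a ∈ L, orderOf a = 2 := by
    obtain ⟨s, hs, hs1⟩ := (S : Subgroup G).bot_or_exists_ne_one.resolve_left hS1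
    have hsN := hall N hNn hN1 s (orderOf_eq_prime (by rw [pow_two, hinv s hs]) hs1)
    refine StronglyEmbedded.exists_involution_mem (Nat.not_odd_iff_even.1 fun hodd => hL1 ?_)
    -- an odd normal subgroup of the minimal normal subgroup
    haveI : (L.subgroupOf N).Normal := normal_subgroupOf_of_le_normalizer hLn
    have h1 := Agent.Cores.le_oddCore (N := L.subgroupOf N)
      (by rwa [Nat.card_congr (subgroupOfEquivOfLe hLN).toEquiv])
    have h2 : (Cfsg.oddCore ↥N).map N.subtype = ⊥ := by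
      haveI : (Cfsg.oddCore ↥N).Characteristic := Agent.Cores.pPrimeCore_characteristic 2
      refine le_bot_iff.1 (h0 ▸ Agent.Cores.le_oddCore ?_)
      rw [card_subtype]
      exact Agent.Cores.oddCore_odd
    refine le_bot_iff.1 fun y hy => ?_
    rw [← h2]
    exact ⟨⟨y, hLN hy⟩, h1 hy, rfl⟩
  have hLnormal : L.Normal := by
    refine ⟨fun x hx g => ?_⟩
    rcases hconj g with h1 | ⟨hi, hc⟩
    · rw [← h1]
      exact ⟨x, hx, rfl⟩
    exfalso
    obtain ⟨a, haL, ha2⟩ := hLeven
    set L' := L.map (MulAut.conj g).toMonoidHom with hL'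
    set b := g * a * g⁻¹ with hb
    have hbL' : b ∈ L' := ⟨a, haL, rfl⟩
    have hb2 : orderOf b = 2 := by rw [hb, ← MulAut.conj_apply, MulEquiv.orderOf_eq, ha2]
    have hcab : Commute a b := hc a haL b hbL'
    have hab2 : orderOf (a * b) = 2 := by
      refine orderOf_eq_prime (by
        rw [hcab.mul_pow, ← ha2, pow_orderOf_eq_one, ha2, ← hb2, pow_orderOf_eq_one, one_mul]) fun e => ?_
      have h1 : a ∈ L ⊓ L' := mem_inf.2 ⟨haL, by rw [eq_inv_of_mul_eq_one_left e]; exact inv_mem hbL'⟩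
      rw [hi, mem_bot] at h1
      rw [h1, orderOf_one] at ha2
      omega
    obtain ⟨h', hh'⟩ := isConj_iff.1 (hone a (a * b) ha2 hab2)
    set K := L.map (MulAut.conj h').toMonoidHom with hK
    have habK : a * b ∈ K := ⟨a, haL, hh'⟩
    -- `K` meets `L L'` in a central element
    rcases hconj h' with h1 | ⟨-, hcK⟩
    · rw [hK, h1] at habK
      have h2 : b ∈ L ⊓ L' := mem_inf.2 ⟨by
        have := mul_mem (inv_mem haL) habK
        rwa [inv_mul_cancel_left] at this, hbL'⟩
      rw [hi, mem_bot] at h2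
      rw [h2, orderOf_one] at hb2
      omega
    · have h3 : ∀ y ∈ L, Commute a y := fun y hy => by
        have hyab : Commute y (a * b) := hcK y hy _ habK
        have hyb : Commute y b := hc y hy b hbL'
        have := hyab.mul_right hyb.inv_right
        rw [mul_inv_cancel_right] at this
        exact this.symm
      have := hZ a haL h3
      rw [this, orderOf_one] at ha2
      omega
  obtain rfl : L = N := hNeq L hLnormal hLN hL1
  refine ⟨L, hNn, ?_, fun hc => hLab fun a ha b hb =>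
    congrArg Subtype.val (hc.is_comm.comm ⟨a, ha⟩ ⟨b, hb⟩), hall L hNn hL1⟩
  haveI : Nontrivial ↥L := (Subgroup.nontrivial_iff_ne_bot L).2 hN1
  refine ⟨fun K hK => ?_⟩
  by_cases hK0 : K = ⊥
  · exact Or.inl hK0
  · right
    have hmap : K.map L.subtype = L := hLeq _ (map_subtype_le K)
      (fun e => hK0 ((map_eq_bot_iff_of_injective _ L.subtype_injective).1 e)) fun n hn =>
        mem_normalizer_iff.2 fun x => ⟨by
          rintro ⟨k, hk, rfl⟩
          exact ⟨⟨n, hn⟩ * k * ⟨n, hn⟩⁻¹, hK.conj_mem k hk _, rfl⟩, by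
          rintro ⟨k, hk, hkx⟩
          refine ⟨⟨n, hn⟩⁻¹ * k * ⟨n, hn⟩, hK.conj_mem' k hk _, ?_⟩
          show n⁻¹ * (k : G) * n = x
          rw [show (k : G) = n * x * n⁻¹ from hkx]
          group⟩
    refine (eq_top_iff' _).2 fun x => ?_
    obtain ⟨y, hy, hyx⟩ := (hmap.symm ▸ x.2 : (x : G) ∈ K.map L.subtype)
    exact Subtype.ext hyx ▸ hy

/-- Counting over a normal subgroup fusing the class of `t`. -/
theorem card_mul_card_cent {t : G} {N : Subgroup G} [N.Normal]
    (hfus : ∀ g : G, ∃ n ∈ N, n * t * n⁻¹ = g * t * g⁻¹) :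
    Nat.card G * Nat.card ↥(N ⊓ centralizer ({t} : Set G)) =
      Nat.card N * Nat.card ↥(centralizer ({t} : Set G)) := by
  have htop : centralizer ({t} : Set G) ⊔ N = ⊤ := by
    refine (eq_top_iff' _).2 fun g => ?_
    obtain ⟨n, hn, hng⟩ := hfus g
    have h1 : n⁻¹ * g ∈ centralizer ({t} : Set G) := by
      refine mem_centralizer_singleton_iff.2 ?_
      calc n⁻¹ * g * t = n⁻¹ * (g * t * g⁻¹) * g := by group
        _ = n⁻¹ * (n * t * n⁻¹) * g := by rw [hng]
        _ = t * (n⁻¹ * g) := by group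
    have h2 : g = n * (n⁻¹ * g) := by group
    rw [h2]
    exact mul_mem (mem_sup_right hn) (mem_sup_left h1)
  have h := Agent.Cores.card_sup_mul_card_inf (centralizer ({t} : Set G)) N
  rw [htop, card_top, inf_comm] at h
  rw [h, mul_comm]

end Cfsg.Agent.Walter.Field
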