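import Mathlib

/-!
# The case `r = p = 3` of the field part: a Frobenius group of order `3 l` on a 3-group

An element `x` of order 3 normalising `⟨τ⟩`, `τ` fixed point free, acts freely: the order of the
group is the cube of the order of the centraliser of `x`, and the elements of order 3 of the coset
of `x` are conjugate to it.
-/

set_option autoImplicit false
set_option linter.unusedSectionVars false
set_option linter.style.haveILetI false

namespace Cfsg.Agent.Walter.Field.ThreeCase

universe u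

section Module

variable {V : Type u} [AddCommGroup V] [Finite V]

/-- The additive version. -/
theorem free_module {l j : ℕ} [hl : Fact l.Prime] (hl3 : l ≠ 3) (h3 : ∀ v : V, 3 • v = 0)
    {T X : AddMonoid.End V} (hT : T ^ l = 1) (hX : X ^ 3 = 1) (hXT : X * T = T ^ j * X)
    (hj : (j : ZMod l) ≠ 1) (hcube : (j : ZMod l) * j * j = 1) (hfix : ∀ v, T v = v → v = 0) :
    (∀ v, v + X v + X (X v) = 0 → ∃ w, v = w - X w) ∧
      Nat.card V = Nat.card (AddMonoidHom.ker ((1 - X : AddMonoid.End V) : V →+ V)) ^ 3 := by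
  classical
  let P : ZMod l → AddMonoid.End V := fun i => T ^ i.val
  have hP : ∀ i k, P i * P k = P (i + k) := fun i k => by
    show T ^ _ * T ^ _ = T ^ _
    rw [← pow_add]
    exact pow_eq_pow_of_modEq (by rw [ZMod.val_add]; exact (Nat.mod_modEq _ _).symm) hT
  have hPa : ∀ i k v, P i (P k v) = P (i + k) v := fun i k v => DFunLike.congr_fun (hP i k) v
  have hP0 : P 0 = 1 := by show T ^ (0 : ZMod l).val = 1; rw [ZMod.val_zero, pow_zero]
  have hsum : ∀ v, ∑ i, P i v = 0 := by
    intro v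
    refine hfix _ ?_
    rw [map_sum]
    have h1 : T = P 1 := by
      haveI : Fact (1 < l) := ⟨hl.out.one_lt⟩
      show T = T ^ (1 : ZMod l).val
      rw [ZMod.val_one, pow_one]
    conv_lhs => rw [h1]
    exact Fintype.sum_equiv (Equiv.addLeft 1) _ _ fun i => DFunLike.congr_fun (hP 1 i) v
  have hXP : ∀ i, X * P i = P ((j : ZMod l) * i) * X := by
    intro i
    have h1 : ∀ k : ℕ, X * T ^ k = T ^ (j * k) * X := by
      intro k
      induction k with
      | zero => simp
      | succ k ih =>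
        rw [pow_succ, ← mul_assoc, ih, mul_assoc, hXT, ← mul_assoc, ← pow_add, Nat.mul_succ]
    show X * T ^ i.val = T ^ _ * X
    rw [h1]
    congr 1
    exact pow_eq_pow_of_modEq ((ZMod.natCast_eq_natCast_iff _ _ _).1 (by simp)) hT
  set N : AddMonoid.End V := 1 + X + X * X with hN
  have hXN : ∀ v, N v = v + X v + X (X v) := fun _ => rfl
  have hX3 : ∀ v, X (X (X v)) = v := fun v => by
    have := DFunLike.congr_fun hX v
    rw [pow_succ, pow_two] at this
    exact this
  have hX2 : ∀ i v, X (X (P i v)) = P ((j : ZMod l) * j * i) (X (X v)) := fun i v => by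
    rw [show X (P i v) = P ((j : ZMod l) * i) (X v) from DFunLike.congr_fun (hXP i) v,
      show X (P _ (X v)) = P ((j : ZMod l) * ((j : ZMod l) * i)) (X (X v)) from
        DFunLike.congr_fun (hXP _) (X v), mul_assoc]
  have hres : ∀ v, X v = v → ∃ w, v = N w := by
    intro v hv
    let f : ZMod l → V := fun i => P i (N (P (-i) v))
    have hf : ∀ i, X (f i) = f ((j : ZMod l) * i) := fun i => by
      show X (P i (N _)) = P _ (N (P _ v))
      rw [show X (P i (N (P (-i) v))) = P ((j : ZMod l) * i) (X (N (P (-i) v))) from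
        DFunLike.congr_fun (hXP i) _]
      have h1 : P (-((j : ZMod l) * i)) v = X (P (-i) v) := by
        rw [show X (P (-i) v) = P ((j : ZMod l) * (-i)) (X v) from DFunLike.congr_fun (hXP _) v, hv,
          mul_neg]
      simp only [h1, hXN, map_add, hX3]

    have htot : ∑ i, f i = l • v := by
      have h1 : ∀ i, f i = v + P ((1 - (j : ZMod l)) * i) (X v) +
          P ((1 - (j : ZMod l) * j) * i) (X (X v)) := fun i => by
        show P i (N (P (-i) v)) = _
        rw [hXN, map_add, map_add, hX2,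
          show X (P (-i) v) = P ((j : ZMod l) * (-i)) (X v) from DFunLike.congr_fun (hXP _) v,
          hPa, hPa, hPa,
          add_neg_cancel, hP0,
          show i + (j : ZMod l) * -i = (1 - (j : ZMod l)) * i by ring,
          show i + (j : ZMod l) * j * -i = (1 - (j : ZMod l) * j) * i by ring]
        rfl
      have hperm : ∀ c : ZMod l, c ≠ 0 → ∀ w, ∑ i, P (c * i) w = 0 := fun c hc w =>
        (Fintype.sum_equiv (Equiv.mulLeft₀ c hc) _ (fun i => P i w) fun _ => rfl).trans (hsum w)
      have hj2 : (j : ZMod l) * j ≠ 1 := fun h => hj (by rw [← hcube, h, one_mul])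
      simp only [h1, Finset.sum_add_distrib, hperm _ (sub_ne_zero.2 (Ne.symm hj)),
        hperm _ (sub_ne_zero.2 (Ne.symm hj2)), add_zero, Finset.sum_const, Finset.card_univ, ZMod.card]
    have horb : ∀ s : Finset (ZMod l), 0 ∉ s → (∀ i ∈ s, (j : ZMod l) * i ∈ s) →
        ∃ w, ∑ i ∈ s, f i = N w := by
      intro s
      induction s using Finset.strongInduction with
      | _ s ih =>
        intro h0 hs
        rcases s.eq_empty_or_nonempty with rfl | ⟨i, hi⟩
        · exact ⟨0, by rw [Finset.sum_empty, map_zero]⟩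
        have hi0 : i ≠ 0 := fun e => h0 (e ▸ hi)
        set o : Finset (ZMod l) := {i, (j : ZMod l) * i, (j : ZMod l) * j * i} with ho
        have hos : o ⊆ s := by
          intro k hk
          simp only [ho, Finset.mem_insert, Finset.mem_singleton] at hk
          rcases hk with rfl | rfl | rfl
          exacts [hi, hs i hi, by rw [mul_assoc]; exact hs _ (hs i hi)]
        obtain ⟨w, hw⟩ := ih (s \ o)
          (Finset.sdiff_ssubset hos ⟨i, by simp [ho]⟩) (fun h => h0 (Finset.mem_sdiff.1 h).1)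
          (fun k hk => by
            obtain ⟨hk1, hk2⟩ := Finset.mem_sdiff.1 hk
            refine Finset.mem_sdiff.2 ⟨hs k hk1, fun hk' => hk2 ?_⟩
            simp only [ho, Finset.mem_insert, Finset.mem_singleton] at hk' ⊢
            have e : ∀ a, (j : ZMod l) * k = a → k = (j : ZMod l) * j * a := fun a ha => by
              rw [← ha, ← mul_assoc, hcube, one_mul]
            rcases hk' with h | h | h
            · exact Or.inr (Or.inr (e _ h))
            · refine Or.inl ?_
              rw [e _ h, ← mul_assoc, hcube, one_mul]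
            · refine Or.inr (Or.inl ?_)
              rw [e _ h, ← mul_assoc, ← mul_assoc, hcube, one_mul])
        refine ⟨f i + w, ?_⟩
        rw [← Finset.sum_sdiff hos, hw, map_add, add_comm (N (f i))]
        congr 1
        have hne1 : i ≠ (j : ZMod l) * i := fun e => hj (mul_right_cancel₀ hi0 (by rw [one_mul]; exact e.symm))
        have hne2 : i ≠ (j : ZMod l) * j * i := fun e => hne1 (by
          conv_rhs => rw [e, ← mul_assoc, ← mul_assoc, hcube, one_mul])
        have hne3 : (j : ZMod l) * i ≠ (j : ZMod l) * j * i := fun e => hne1 (by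
          have h := congrArg ((j : ZMod l) * j * ·) e
          simp only [← mul_assoc, hcube, one_mul] at h
          exact h)
        rw [ho, Finset.sum_insert (by simp [hne1, hne2]), Finset.sum_insert (by simp [hne3]),
          Finset.sum_singleton, hXN, hf, hf, add_assoc, mul_assoc]
    obtain ⟨w, hw⟩ := horb (Finset.univ.erase 0) (Finset.notMem_erase _ _) fun i hi => by
      simp only [Finset.mem_erase, Finset.mem_univ, and_true] at hi ⊢
      exact mul_ne_zero (fun h => by rw [h, mul_zero] at hcube; exact zero_ne_one hcube) hi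
    have hf0 : f 0 = 0 := by
      show P 0 (N (P (-0) v)) = 0
      rw [neg_zero, hP0, AddMonoid.End.coe_one, id, id, hXN, hv, hv]
      rw [show v + v + v = 3 • v by rw [succ_nsmul, two_nsmul], h3]
    have h4 : l • v = N w := by
      rw [← htot, ← Finset.add_sum_erase _ _ (Finset.mem_univ 0), hw, hf0, zero_add]
    have hcop : Nat.Coprime l 3 := (Nat.coprime_primes hl.out Nat.prime_three).2 hl3
    obtain ⟨a, ha⟩ := (Nat.exists_mul_mod_eq_one_of_coprime hcop (by norm_num))
    refine ⟨a • w, ?_⟩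
    rw [map_nsmul, ← h4, ← mul_nsmul']
    conv_lhs => rw [← one_nsmul v]
    rw [← Nat.mod_add_div (a * l) 3, add_nsmul, mul_comm a l, ha.2, mul_nsmul, h3, smul_zero, add_zero]
  set D : V →+ V := ((1 - X : AddMonoid.End V) : V →+ V) with hD
  have hDv : ∀ v, D v = v - X v := fun _ => rfl
  have hDD : ∀ v, D (D v) = N v := fun v => by
    have h2 : (3 : ℕ) • X v = 0 := h3 _
    rw [succ_nsmul, two_nsmul] at h2
    rw [hDv, hDv, hXN, map_sub]
    rw [← sub_eq_zero, show (v - X v - (X v - X (X v))) - (v + X v + X (X v)) =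
      -(X v + X v + X v) by abel, h2, neg_zero]
  have hker : ∀ v, D v = 0 ↔ X v = v := fun v => by rw [hDv, sub_eq_zero, eq_comm]
  have hNfix : ∀ v, D (N v) = 0 := fun v => by
    rw [hDv, hXN, map_add, map_add, hX3]; abel
  let D2 : ↥D.range →+ V := D.comp D.range.subtype
  have h2r : D2.range = D.ker := by
    ext v
    constructor
    · rintro ⟨⟨_, w, rfl⟩, rfl⟩
      show D (D (D w)) = 0
      rw [hDD w, hNfix]
    · intro hv
      obtain ⟨w, rfl⟩ := hres v ((hker v).1 hv)
      exact ⟨⟨D w, w, rfl⟩, hDD w⟩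
  have h2k : Nat.card D2.ker = Nat.card D.ker := by
    refine Nat.card_congr
      { toFun := fun v => ⟨((v : ↥D.range) : V), v.2⟩
        invFun := fun v => ⟨⟨v, ?_⟩, v.2⟩
        left_inv := fun v => rfl
        right_inv := fun v => rfl }
    obtain ⟨w, hw⟩ := hres v ((hker _).1 v.2)
    exact ⟨D w, by rw [hDD, hw]⟩
  have c1 : Nat.card V = Nat.card D.range * Nat.card D.ker := by
    rw [AddSubgroup.card_eq_card_quotient_mul_card_addSubgroup D.ker,
      Nat.card_congr (QuotientAddGroup.quotientKerEquivRange D).toEquiv]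
  have c2 : Nat.card ↥D.range = Nat.card D.ker * Nat.card D.ker := by
    rw [AddSubgroup.card_eq_card_quotient_mul_card_addSubgroup D2.ker,
      Nat.card_congr (QuotientAddGroup.quotientKerEquivRange D2).toEquiv, h2r, h2k]
  refine ⟨fun v hv => ?_, by rw [c1, c2, pow_three, mul_assoc]⟩
  let NR : V →+ V := (N : V →+ V)
  have hle : D.range ≤ NR.ker := by
    rintro _ ⟨w, rfl⟩
    show N (D w) = 0
    rw [hXN, hDv, map_sub, map_sub, hX3]; abel
  have hNr : NR.range = D.ker := by
    ext u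
    exact ⟨fun ⟨w, hw⟩ => hw ▸ hNfix w, fun hu => (hres u ((hker u).1 hu)).imp fun w hw => hw.symm⟩
  have c3 : Nat.card V = Nat.card D.ker * Nat.card NR.ker := by
    rw [AddSubgroup.card_eq_card_quotient_mul_card_addSubgroup NR.ker,
      Nat.card_congr (QuotientAddGroup.quotientKerEquivRange NR).toEquiv, hNr]
  have heq : D.range = NR.ker := AddSubgroup.eq_of_le_of_card_ge hle (le_of_eq (by
    have := c1.symm.trans c3
    rw [mul_comm] at this
    exact (Nat.eq_of_mul_eq_mul_left Nat.card_pos this).symm))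
  obtain ⟨w, hw⟩ := heq.ge (show v ∈ NR.ker by show N v = 0; rw [hXN, hv])
  exact ⟨w, by rw [← hw, hDv]⟩

end Module

section Group

open Subgroup

/-- The group version. -/
theorem free_group {W : Type u} [Group W] [Finite W] {l j : ℕ} [hl : Fact l.Prime] (hl3 : l ≠ 3)
    {τ x : W} (hτ : orderOf τ = l) (hx : x ^ 3 = 1) (hconj : x * τ * x⁻¹ = τ ^ j)
    (hj : (j : ZMod l) ≠ 1) {Q : Subgroup W} (hQ : IsPGroup 3 ↥Q)
    (hτQ : τ ∈ normalizer (Q : Set W)) (hxQ : x ∈ normalizer (Q : Set W))
    (hfpf : ∀ a ∈ Q, Commute τ a → a = 1) :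
    (∀ a ∈ Q, (a * x) ^ 3 = 1 → ∃ z ∈ Q, a * x = z * x * z⁻¹) ∧
      Nat.card ↥Q = Nat.card ↥(Q ⊓ centralizer ({x} : Set W)) ^ 3 := by
  classical
  haveI : Fact (Nat.Prime 3) := ⟨Nat.prime_three⟩
  have hcube : (j : ZMod l) * j * j = 1 := by
    have hk : ∀ k : ℕ, x ^ k * τ * (x ^ k)⁻¹ = τ ^ j ^ k := by
      intro k
      induction k with
      | zero => simp
      | succ k ih =>
        rw [pow_succ' x, show x * x ^ k * τ * (x * x ^ k)⁻¹ = x * (x ^ k * τ * (x ^ k)⁻¹) * x⁻¹ by group,
          ih, ← conj_pow, hconj, ← pow_mul, pow_succ' j]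
    have h := hk 3
    rw [hx, one_mul, inv_one, mul_one] at h
    nth_rw 1 [← pow_one τ] at h
    rw [pow_eq_pow_iff_modEq, hτ, ← ZMod.natCast_eq_natCast_iff] at h
    push_cast at h
    rw [h]; ring
  induction hn : Nat.card ↥Q using Nat.strong_induction_on generalizing W with
  | _ N ih =>
  subst hn
  by_cases hbot : Q = ⊥
  · subst hbot
    exact ⟨fun a ha _ => ⟨1, one_mem _, by rw [mem_bot] at ha; rw [ha]; group⟩,
      by rw [bot_inf_eq, card_bot, one_pow]⟩
  -- the elements of order dividing three of the centre of `Q`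
  let A : Subgroup W :=
    { carrier := {a | a ∈ Q ∧ a ^ 3 = 1 ∧ ∀ b ∈ Q, Commute a b}
      one_mem' := ⟨one_mem _, one_pow 3, fun b _ => Commute.one_left b⟩
      mul_mem' := fun {a b} ha hb => ⟨mul_mem ha.1 hb.1,
        by rw [(ha.2.2 b hb.1).mul_pow, ha.2.1, hb.2.1, one_mul],
        fun c hc => (ha.2.2 c hc).mul_left (hb.2.2 c hc)⟩
      inv_mem' := fun {a} ha => ⟨inv_mem ha.1, by rw [inv_pow, ha.2.1, inv_one],
        fun c hc => (ha.2.2 c hc).inv_left⟩ }
  have hAQ : A ≤ Q := fun a ha => ha.1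
  have hAc : ∀ a ∈ A, ∀ b ∈ A, Commute a b := fun a ha b hb => ha.2.2 b hb.1
  have hAn : normalizer (Q : Set W) ≤ normalizer (A : Set W) := fun g hg =>
    Subgroup.mem_normalizer_fintype fun a ha => ⟨(mem_normalizer_iff.1 hg a).1 ha.1,
      by rw [conj_pow, ha.2.1, mul_one, mul_inv_cancel],
      fun b hb => by
        have h := (ha.2.2 _ ((mem_normalizer_iff''.1 hg b).1 hb)).map (MulAut.conj g).toMonoidHom
        simpa [mul_assoc] using h⟩
  obtain ⟨z, hz, hz1⟩ : ∃ z ∈ A, z ≠ 1 := by
    haveI : Nontrivial ↥Q := (nontrivial_iff_ne_bot Q).2 hbot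
    haveI := hQ.center_nontrivial
    obtain ⟨c, hc⟩ := exists_prime_orderOf_dvd_card' (G := ↥(center ↥Q)) 3 (by
      obtain ⟨k, hk, hc⟩ := (hQ.to_subgroup (center ↥Q)).nontrivial_iff_card.1 inferInstance
      exact hc ▸ dvd_pow_self 3 hk.ne')
    refine ⟨((c : ↥Q) : W), ⟨(c : ↥Q).2, ?_, fun b hb => ?_⟩, fun e => ?_⟩
    · rw [← SubgroupClass.coe_pow, ← SubgroupClass.coe_pow, ← hc, pow_orderOf_eq_one]; rfl
    · exact (congrArg Subtype.val (mem_center_iff.1 c.2 ⟨b, hb⟩)).symm
    · have h1 : c = 1 := Subtype.ext (Subtype.ext e)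
      rw [h1, orderOf_one] at hc
      exact absurd hc (by norm_num)
  -- the module
  letI : CommGroup ↥A :=
    { (inferInstance : Group ↥A) with mul_comm := fun a b => Subtype.ext (hAc a a.2 b b.2).eq }
  let cj : ∀ g : W, g ∈ normalizer (Q : Set W) → AddMonoid.End (Additive ↥A) := fun g hg =>
    { toFun := fun a => Additive.ofMul
        ⟨g * (a.toMul : W) * g⁻¹, (mem_normalizer_iff.1 (hAn hg) _).1 a.toMul.2⟩
      map_zero' := congrArg Additive.ofMul (Subtype.ext (by simp))
      map_add' := fun a b => congrArg Additive.ofMul (Subtype.ext (by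
        show g * ((a.toMul : W) * (b.toMul : W)) * g⁻¹ = _
        simp [mul_assoc])) }
  have hcjv : ∀ g hg (a : Additive ↥A), (((cj g hg) a).toMul : W) = g * (a.toMul : W) * g⁻¹ :=
    fun g hg a => rfl
  have hcjm : ∀ g hg k hk, cj g hg * cj k hk = cj (g * k) (mul_mem hg hk) := fun g hg k hk =>
    AddMonoidHom.ext fun a => congrArg Additive.ofMul (Subtype.ext (by
      show g * (k * (a.toMul : W) * k⁻¹) * g⁻¹ = g * k * (a.toMul : W) * (g * k)⁻¹
      group))
  have hcjp : ∀ g hg (k : ℕ), cj g hg ^ k = cj (g ^ k) (pow_mem hg k) := by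
    intro g hg k
    induction k with
    | zero => exact AddMonoidHom.ext fun a => congrArg Additive.ofMul (Subtype.ext (by
        show (a.toMul : W) = g ^ 0 * (a.toMul : W) * (g ^ 0)⁻¹
        simp))
    | succ k ih =>
      rw [pow_succ, ih, hcjm _ (pow_mem hg k) g hg]
      simp only [pow_succ]
  have hcje : ∀ g hg k hk, g = k → cj g hg = cj k hk := by
    rintro g hg k hk rfl; rfl
  have hcj1 : ∀ g hg, g = 1 → cj g hg = 1 := fun g hg e => AddMonoidHom.ext fun a =>
    congrArg Additive.ofMul (Subtype.ext (by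
      show g * (a.toMul : W) * g⁻¹ = (a.toMul : W)
      rw [e, one_mul, inv_one, mul_one]))
  obtain ⟨hmod, hcardA⟩ := free_module (V := Additive ↥A) (l := l) (j := j) hl3
    (fun v => congrArg Additive.ofMul (Subtype.ext v.toMul.2.2.1))
    (T := cj τ hτQ) (X := cj x hxQ)
    ((hcjp τ hτQ l).trans (hcj1 _ (pow_mem hτQ l) (by rw [← hτ, pow_orderOf_eq_one])))
    ((hcjp x hxQ 3).trans (hcj1 _ (pow_mem hxQ 3) hx))
    ((hcjm x hxQ τ hτQ).trans ((hcje _ (mul_mem hxQ hτQ) _ (mul_mem (pow_mem hτQ j) hxQ)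
      (by rw [← hconj]; group)).trans ((hcjm _ (pow_mem hτQ j) x hxQ).symm.trans (by rw [hcjp τ hτQ j]))))
    hj hcube
    (fun v hv => congrArg Additive.ofMul (Subtype.ext (hfpf _ (hAQ v.toMul.2)
      (mul_inv_eq_iff_eq_mul.1 (congrArg (fun u : Additive ↥A => ((Additive.toMul u : ↥A) : W)) hv :
        τ * (v.toMul : W) * τ⁻¹ = v.toMul)))))
  have hvx : ∀ v ∈ A, (v * x) ^ 3 = 1 → ∃ w ∈ A, v * x = w * x * w⁻¹ := by
    intro v hv h
    obtain ⟨w, hw⟩ := hmod (Additive.ofMul ⟨v, hv⟩) (congrArg Additive.ofMul (Subtype.ext (by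
      show v * (x * v * x⁻¹) * (x * (x * v * x⁻¹) * x⁻¹) = 1
      have e : v * (x * v * x⁻¹) * (x * (x * v * x⁻¹) * x⁻¹) = (v * x) ^ 3 * (x ^ 3)⁻¹ := by
        rw [pow_three, pow_three]; group
      rw [e, h, hx, inv_one, mul_one])))
    refine ⟨(w.toMul : W), w.toMul.2, ?_⟩
    have h2 := congrArg (fun u : Additive ↥A => ((Additive.toMul u : ↥A) : W)) hw
    change v = (w.toMul : W) / (x * (w.toMul : W) * x⁻¹) at h2
    rw [h2, div_eq_mul_inv]
    group
  have hcard : Nat.card ↥A = Nat.card ↥(A ⊓ centralizer ({x} : Set W)) ^ 3 := by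
    rw [show Nat.card ↥A = Nat.card (Additive ↥A) from rfl, hcardA]
    congr 1
    refine Nat.card_congr
      { toFun := fun v => ⟨((v : Additive ↥A).toMul : W), (v : Additive ↥A).toMul.2, ?_⟩
        invFun := fun a => ⟨Additive.ofMul ⟨a, a.2.1⟩, ?_⟩
        left_inv := fun v => rfl
        right_inv := fun a => rfl }
    · refine mem_centralizer_singleton_iff.2 ?_
      have h2 := congrArg (fun u : Additive ↥A => ((Additive.toMul u : ↥A) : W)) (AddMonoidHom.mem_ker.1 v.2)
      change ((v : Additive ↥A).toMul : W) / (x * ((v : Additive ↥A).toMul : W) * x⁻¹) = 1 at h2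
      exact (mul_inv_eq_iff_eq_mul.1 (div_eq_one.1 h2).symm).symm
    · refine AddMonoidHom.mem_ker.2 (congrArg Additive.ofMul (Subtype.ext ?_))
      show (a : W) / (x * (a : W) * x⁻¹) = 1
      rw [← (show Commute (a : W) x from mem_centralizer_singleton_iff.1 a.2.2).eq, mul_inv_cancel_right, div_self']
  -- the quotient
  let W' := normalizer (A : Set W)
  let A' : Subgroup ↥W' := A.subgroupOf W'
  haveI : A'.Normal := normal_in_normalizer
  let f : ↥W' →* ↥W' ⧸ A' := QuotientGroup.mk' A'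
  have hQW : Q ≤ W' := le_normalizer.trans hAn
  let Qb : Subgroup (↥W' ⧸ A') := (Q.subgroupOf W').map f
  let τ' : ↥W' := ⟨τ, hAn hτQ⟩
  let x' : ↥W' := ⟨x, hAn hxQ⟩
  have hf : ∀ u v : ↥W', f u = f v ↔ (u : W)⁻¹ * v ∈ A := fun u v => QuotientGroup.eq.trans Iff.rfl
  have hAp : IsPGroup 3 ↥A := hQ.to_le hAQ
  have hl_ndvd : ¬ l ∣ Nat.card ↥A := by
    obtain ⟨k, hk⟩ := hAp.exists_card_eq
    rw [hk]
    exact fun h => hl3 ((Nat.prime_dvd_prime_iff_eq hl.out Nat.prime_three).1 (hl.out.dvd_of_dvd_pow h))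
  have hτA : τ ∉ A := fun h => hl_ndvd (hτ ▸ orderOf_dvd_natCard A h)
  have hordτ : orderOf (f τ') = l := by
    refine orderOf_eq_prime (by rw [← map_pow, ← map_one f]; congr 1; exact Subtype.ext (by
      simp [τ', ← hτ, pow_orderOf_eq_one])) fun e => hτA ?_
    rw [← map_one f, hf] at e
    simpa [τ'] using inv_mem e
  have hnQb : ∀ g : ↥W', (g : W) ∈ normalizer (Q : Set W) → f g ∈ normalizer (Qb : Set (↥W' ⧸ A')) :=
    fun g hg => le_normalizer_map f ⟨g, Subgroup.mem_normalizer_fintype fun u hu =>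
      show (g : W) * (u : W) * (g : W)⁻¹ ∈ Q from (mem_normalizer_iff.1 hg u).1 hu, rfl⟩
  have hfpf' : ∀ a ∈ Qb, Commute (f τ') a → a = 1 := by
    rintro _ ⟨a, ha, rfl⟩ hc
    -- a fixed point of `τ` in the coset
    let S : Set W := {b | (a : W)⁻¹ * b ∈ A}
    have hinv : ∀ b ∈ S, τ * b * τ⁻¹ ∈ S := by
      intro b hb
      have h1 : (a : W)⁻¹ * (τ * a * τ⁻¹) ∈ A := by
        have := (hf a (τ' * a * τ'⁻¹)).1 (by
          rw [map_mul, map_mul, map_inv, hc.eq, mul_inv_cancel_right])
        simpa [τ'] using this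
      have h2 := (mem_normalizer_iff.1 (hAn hτQ) _).1 hb
      have h3 := mul_mem h1 h2
      show (a : W)⁻¹ * (τ * b * τ⁻¹) ∈ A
      convert h3 using 1
      group
    have hpow : ∀ k : ℕ, ∀ b ∈ S, τ ^ k * b * (τ ^ k)⁻¹ ∈ S := by
      intro k
      induction k with
      | zero => intro b hb; simpa using hb
      | succ k ih =>
        intro b hb
        rw [pow_succ', show τ * τ ^ k * b * (τ * τ ^ k)⁻¹ = τ * (τ ^ k * b * (τ ^ k)⁻¹) * τ⁻¹ by group]
        exact hinv _ (ih b hb)
    letI : MulAction ↥(zpowers τ) ↥S :=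
      { smul := fun g b => ⟨(g : W) * b * (g : W)⁻¹, by
          obtain ⟨k, hk : τ ^ k = (g : W)⟩ := (isOfFinOrder_of_finite τ).mem_powers_iff_mem_zpowers.2 g.2
          rw [← hk]; exact hpow k b b.2⟩
        one_smul := fun b => Subtype.ext (by show (1 : W) * b * (1 : W)⁻¹ = b; simp)
        mul_smul := fun g k b => Subtype.ext (by
          show ((g * k : ↥(zpowers τ)) : W) * b * ((g * k : ↥(zpowers τ)) : W)⁻¹ =
            (g : W) * ((k : W) * b * (k : W)⁻¹) * (g : W)⁻¹
          rw [Subgroup.coe_mul]; group) }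
    have hcS : Nat.card ↥S = Nat.card ↥A := Nat.card_congr
      { toFun := fun b => ⟨(a : W)⁻¹ * b, b.2⟩
        invFun := fun c => ⟨(a : W) * c, by show (a : W)⁻¹ * ((a : W) * c) ∈ A; rw [inv_mul_cancel_left]; exact c.2⟩
        left_inv := fun b => Subtype.ext (by simp)
        right_inv := fun c => Subtype.ext (by simp) }
    have h := (IsPGroup.of_card (n := 1) (G := ↥(zpowers τ)) (p := l)
      (by rw [Nat.card_zpowers, hτ, pow_one])).card_modEq_card_fixedPoints ↥S
    have hne : Nat.card ↥(MulAction.fixedPoints ↥(zpowers τ) ↥S) ≠ 0 := fun e => hl_ndvd (by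
      rw [e, hcS] at h; exact Nat.modEq_zero_iff_dvd.1 h)
    obtain ⟨⟨b, hb⟩⟩ := (Nat.card_ne_zero.1 hne).1
    have hb' : Commute τ (b : W) :=
      mul_inv_eq_iff_eq_mul.1 (congrArg Subtype.val (hb ⟨τ, mem_zpowers τ⟩))
    have hbQ : (b : W) ∈ Q := by
      have := mul_mem (mem_subgroupOf.1 ha) (hAQ b.2)
      rwa [mul_inv_cancel_left] at this
    have hb1 := hfpf _ hbQ hb'
    rw [← map_one f, hf, OneMemClass.coe_one, mul_one]
    have hb2 := b.2
    simp only [S, Set.mem_ofPred_eq, hb1, mul_one] at hb2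
    exact hb2
  have hlt : Nat.card ↥Qb < Nat.card ↥Q := by
    refine lt_of_le_of_ne ((Nat.le_of_dvd Nat.card_pos (card_map_dvd _ _)).trans_eq
      (Nat.card_congr (subgroupOfEquivOfLe hQW).toEquiv)) fun e => hz1 ?_
    let g : ↥Q → ↥Qb := fun q => ⟨f ⟨q, hQW q.2⟩, ⟨q, hQW q.2⟩, q.2, rfl⟩
    have hs : Function.Surjective g := fun u => by
      obtain ⟨_, v, hv, rfl⟩ := u
      exact ⟨⟨v, hv⟩, rfl⟩
    have hb := (Nat.bijective_iff_surjective_and_card g).2 ⟨hs, e.symm⟩
    have h := hb.1 (a₁ := ⟨z, hAQ hz⟩) (a₂ := 1) (Subtype.ext ((hf _ _).2 (by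
      show z⁻¹ * 1 ∈ A
      rw [mul_one]; exact inv_mem hz)))
    exact congrArg Subtype.val h
  obtain ⟨h1, h2⟩ := ih _ hlt (W := ↥W' ⧸ A') (τ := f τ') (x := f x') hordτ
    (by rw [← map_pow, ← map_one f]; congr 1; exact Subtype.ext (by simp [x', hx]))
    (by rw [← map_inv, ← map_mul, ← map_mul, ← map_pow]; congr 1; exact Subtype.ext (by
      simp [x', τ', hconj]))
    (Q := Qb) ((hQ.of_equiv (subgroupOfEquivOfLe hQW).symm).map f) (hnQb τ' hτQ) (hnQb x' hxQ)
    hfpf' rfl
  refine ⟨fun a ha h => ?_, ?_⟩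
  · obtain ⟨_, ⟨w, hw, rfl⟩, hwe⟩ := h1 (f ⟨a, hQW ha⟩) (mem_map_of_mem f ha) (by
      rw [← map_mul, ← map_pow, ← map_one f]; congr 1; exact Subtype.ext (by simpa [x'] using h))
    rw [← map_mul, ← map_inv, ← map_mul, ← map_mul, hf] at hwe
    simp only [Subgroup.coe_mul, Subgroup.coe_inv, x'] at hwe
    -- the element of order three in the coset of `x`
    set v := (w : W)⁻¹ * (a * x) * (w : W) * x⁻¹ with hv
    have hvA : v ∈ A := by
      have h' := inv_mem hwe
      have e : x * (w : W)⁻¹ * ((a * x)⁻¹ * ((w : W) * x * (w : W)⁻¹))⁻¹ * (x * (w : W)⁻¹)⁻¹ = v := by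
        rw [hv]; group
      rw [← e]
      exact (mem_normalizer_iff.1 (mul_mem (hAn hxQ) (inv_mem (w : ↥W').2)) _).1 h'
    obtain ⟨u, hu, hue⟩ := hvx v hvA (by
      rw [hv, show (w : W)⁻¹ * (a * x) * (w : W) * x⁻¹ * x = (w : W)⁻¹ * (a * x) * ((w : W)⁻¹)⁻¹ by group,
        conj_pow, h, mul_one, mul_inv_cancel])
    refine ⟨(w : W) * u, mul_mem (mem_subgroupOf.1 hw) (hAQ hu), ?_⟩
    calc a * x = (w : W) * (v * x) * (w : W)⁻¹ := by rw [hv]; group
      _ = _ := by rw [hue]; group
  · -- the orders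
    set C := Q ⊓ centralizer ({x} : Set W) with hC
    let g : ↥C →* ↥W' ⧸ A' := f.comp (inclusion (inf_le_left.trans hQW : C ≤ W'))
    have hker : Nat.card ↥g.ker = Nat.card ↥(A ⊓ centralizer ({x} : Set W)) := by
      refine Nat.card_congr
        { toFun := fun c => ⟨(c : ↥C), ?_, (c : ↥C).2.2⟩
          invFun := fun a => ⟨⟨a, hAQ a.2.1, a.2.2⟩, ?_⟩
          left_inv := fun c => rfl
          right_inv := fun a => rfl }
      · have h := c.2
        rw [MonoidHom.mem_ker] at h
        have h' := (hf _ 1).1 (h.trans (map_one f).symm)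
        rw [OneMemClass.coe_one, mul_one] at h'
        simpa using inv_mem h'
      · exact ((hf _ 1).2 (by rw [OneMemClass.coe_one, mul_one]; exact inv_mem a.2.1)).trans (map_one f)
    have hrange : g.range = Qb ⊓ centralizer ({f x'} : Set (↥W' ⧸ A')) := by
      ext y
      constructor
      · rintro ⟨c, rfl⟩
        exact ⟨⟨⟨c, hQW c.2.1⟩, c.2.1, rfl⟩, mem_centralizer_singleton_iff.2 ((show Commute
          (inclusion (inf_le_left.trans hQW : C ≤ W') c) x' from Subtype.ext
            (mem_centralizer_singleton_iff.1 c.2.2 :)).map f).eq⟩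
      · rintro ⟨⟨q, hq, rfl⟩, hc⟩
        have hc' : Commute (f q) (f x') := mem_centralizer_singleton_iff.1 hc
        have hv : (q : W) * x * (q : W)⁻¹ * x⁻¹ ∈ A := by
          have e : f (x' * q * x'⁻¹ * q⁻¹) = f 1 := by
            rw [map_mul, map_mul, map_mul, map_inv, map_inv, ← hc'.eq, mul_inv_cancel_right,
              mul_inv_cancel, map_one]
          have e' := (hf _ _).1 e
          rw [OneMemClass.coe_one, mul_one] at e'
          simp only [Subgroup.coe_mul, Subgroup.coe_inv, x'] at e'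
          convert e' using 1
          group
        obtain ⟨u, hu, hue⟩ := hvx _ hv (by
          rw [show (q : W) * x * (q : W)⁻¹ * x⁻¹ * x = (q : W) * x * (q : W)⁻¹ by group, conj_pow, hx,
            mul_one, mul_inv_cancel])
        have hcu : Commute (u⁻¹ * (q : W)) x := by
          have e : (q : W) * x * (q : W)⁻¹ = u * x * u⁻¹ := by rw [← hue]; group
          refine mul_inv_eq_iff_eq_mul.1 ?_
          calc u⁻¹ * (q : W) * x * (u⁻¹ * (q : W))⁻¹ = u⁻¹ * ((q : W) * x * (q : W)⁻¹) * u := by group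
            _ = x := by rw [e]; group
        refine ⟨⟨u⁻¹ * (q : W), Q.mul_mem (Q.inv_mem (hAQ hu)) (mem_subgroupOf.1 hq),
          mem_centralizer_singleton_iff.2 hcu.eq⟩, ?_⟩
        refine (hf _ _).2 ?_
        show (u⁻¹ * (q : W))⁻¹ * (q : W) ∈ A
        rw [show (u⁻¹ * (q : W))⁻¹ * (q : W) = (q : W)⁻¹ * u * (q : W) by group]
        exact (mem_normalizer_iff''.1 (hAn (le_normalizer (mem_subgroupOf.1 hq))) u).1 hu
    have cQ : Nat.card ↥Q = Nat.card ↥A * Nat.card ↥Qb := by
      let gQ : ↥Q →* ↥W' ⧸ A' := f.comp (inclusion hQW)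
      have hk : Nat.card ↥gQ.ker = Nat.card ↥A := by
        refine Nat.card_congr
          { toFun := fun c => ⟨(c : ↥Q), ?_⟩
            invFun := fun a => ⟨⟨a, hAQ a.2⟩, ?_⟩
            left_inv := fun c => rfl
            right_inv := fun a => rfl }
        · have h' := (hf _ 1).1 ((MonoidHom.mem_ker.1 c.2).trans (map_one f).symm)
          rw [OneMemClass.coe_one, mul_one] at h'
          simpa using inv_mem h'
        · exact ((hf _ 1).2 (by rw [OneMemClass.coe_one, mul_one]; exact inv_mem a.2)).trans (map_one f)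
      have hr : gQ.range = Qb := by
        ext y
        exact ⟨fun ⟨q, hq⟩ => ⟨⟨q, hQW q.2⟩, q.2, hq⟩, fun ⟨q, hq, e⟩ => ⟨⟨q, hq⟩, e⟩⟩
      rw [card_eq_card_quotient_mul_card_subgroup gQ.ker,
        Nat.card_congr (QuotientGroup.quotientKerEquivRange gQ).toEquiv, hk, hr, mul_comm]
    have cC : Nat.card ↥C = Nat.card ↥(A ⊓ centralizer ({x} : Set W)) *
        Nat.card ↥(Qb ⊓ centralizer ({f x'} : Set (↥W' ⧸ A'))) := by
      rw [card_eq_card_quotient_mul_card_subgroup g.ker,
        Nat.card_congr (QuotientGroup.quotientKerEquivRange g).toEquiv, hker, hrange, mul_comm]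
    rw [cQ, cC, hcard, h2, mul_pow]

end Group

end Cfsg.Agent.Walter.Field.ThreeCase
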