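import Mathlib

/-!
# The case `r = p = 3` of the field part: interface of the linear half

`LinFact` is the abstract half of `ThreeFact`: an odd group with a self-centralising normal
3-subgroup of order dividing `3 ^ (2 n)` on which an element of large primitive prime order is
fixed point free has a homomorphism into an abelian group that does not vanish on an element of
order 3 moving that element.
-/

set_option autoImplicit false

namespace Cfsg.Agent.Walter.Field.ThreeCase

open Subgroup

universe u

/-- The linear half of `ThreeFact` (`Q` of order dividing `q ^ 2`, `q = 3 ^ n`). -/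
def LinFact : Prop :=
  ∀ (W : Type u) [Group W] [Finite W], Odd (Nat.card W) →
    ∀ (n l j : ℕ), 0 < n → l.Prime → 4 * n + 1 ≤ l → l ∣ 3 ^ n - 1 →
      (∀ i, 0 < i → i < n → ¬ l ∣ 3 ^ i - 1) →
    ∀ (Q : Subgroup W), Q.Normal → IsPGroup 3 ↥Q →
      (∀ P : Subgroup W, P.Normal → IsPGroup 3 ↥P → P ≤ Q) →
      centralizer (Q : Set W) ≤ Q → Nat.card ↥Q ∣ 3 ^ (2 * n) →
    ∀ (τ x : W), orderOf τ = l → (∀ a ∈ Q, Commute τ a → a = 1) → x ^ 3 = 1 →
      x * τ * x⁻¹ = τ ^ j → ¬ j ≡ 1 [MOD l] →
      ∃ ψ : W →* (ZMod l)ˣ, ψ x ≠ 1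

end Cfsg.Agent.Walter.Field.ThreeCase
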