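import Cfsg.Agent.Lib.Walter.Field.ThreeCentral
import Cfsg.Agent.Lib.Walter.Field.ThreeCaseDefs
import Cfsg.Agent.GenA.HallHigmanReduction
import Cfsg.Agent.Lib.PLocal.SolvableSeparable
import Cfsg.Agent.Lib.Coprime.Action

/-!
# The homomorphism of the linear half of `ThreeFact`

Modulo `Q` the normal closure of `τ` is an elementary abelian `l`-group `A`; a maximal subgroup `B` with
fixed points on `Q / Φ(Q)` is normal and misses `τ`, and `ψ` is the action on `A / B`.
-/

set_option autoImplicit false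
set_option linter.unusedSectionVars false
set_option linter.style.haveILetI false

open Subgroup

namespace Cfsg.Agent.Walter.Field.ThreeCase

universe u

theorem prim_of_min {n l : ℕ} (hl : l.Prime) (hbig : 4 * n + 1 ≤ l) (hn : 0 < n) (hd : l ∣ 3 ^ n - 1)
    (hmin : ∀ i, 0 < i → i < n → ¬ l ∣ 3 ^ i - 1) : Prim n l := by
  refine ⟨hl, by omega, hl.odd_of_ne_two (by omega), fun k hk => ?_⟩
  have hg : l ∣ 3 ^ Nat.gcd k n - 1 := by
    rw [← Nat.pow_sub_one_gcd_pow_sub_one]
    exact Nat.dvd_gcd hk hd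
  have hle : Nat.gcd k n ≤ n := Nat.le_of_dvd hn (Nat.gcd_dvd_right k n)
  rcases lt_or_eq_of_le hle with hlt | heq
  · exact absurd hg (hmin _ (Nat.gcd_pos_of_pos_right k hn) hlt)
  · exact heq ▸ Nat.gcd_dvd_left k n

variable {n l : ℕ}

/-- The linear statement for a faithful group of automorphisms. -/
theorem exists_hom_of_faithful (P : Prim n l) {L : Type u} [Group L] [Finite L] {V : Type u} [CommGroup V]
    [Finite V] (ρ : L →* MulAut V) (hρ : Function.Injective ρ) (hodd : Odd (Nat.card L))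
    (hV : Nat.card V ≤ 3 ^ (2 * n)) (h3 : ∀ v : V, v ^ 3 = 1) (hO : Cfsg.pCore 3 L = ⊥) {τ x : L}
    (hτ : τ ^ l = 1) (hτ1 : τ ≠ 1) (hfpf : ∀ v, ρ τ v = v → v = 1) {j : ℕ} (hj : x * τ * x⁻¹ = τ ^ j)
    (hj1 : ¬ j ≡ 1 [MOD l]) : ∃ ψ : L →* (ZMod l)ˣ, ψ x ≠ 1 := by
  classical
  haveI : Fact l.Prime := ⟨P.prime⟩
  haveI : NeZero l := ⟨P.prime.ne_zero⟩
  haveI : Group.IsSolvable L := S0205.result hodd
  haveI : Nontrivial V := by
    by_contra hnt
    rw [not_nontrivial_iff_subsingleton] at hnt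
    exact hτ1 (hρ (MulEquiv.ext fun v => Subsingleton.elim _ _))
  set F := Cfsg.fittingSubgroup L
  have hFτ : F ≤ centralizer ({τ} : Set L) := fitting_commute ρ P hodd hρ hV h3 hO hτ hfpf
  haveI hCF : (centralizer (F : Set L)).Normal := inferInstance
  have hτC : τ ∈ centralizer (F : Set L) :=
    mem_centralizer_iff.2 fun g hg => mem_centralizer_singleton_iff.1 (hFτ hg)
  have hC : centralizer (F : Set L) ≤ F := Agent.Cores.centralizer_fittingSubgroup_le
  -- the normal closure of `τ`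
  have hcomm : ∀ a ∈ centralizer (F : Set L), ∀ b ∈ centralizer (F : Set L), Commute a b := fun a ha b hb =>
    (mem_centralizer_iff.1 ha b (hC hb)).symm
  let Z : Subgroup L :=
    { carrier := {z | z ∈ centralizer (F : Set L) ∧ z ^ l = 1}
      one_mem' := ⟨one_mem _, one_pow l⟩
      mul_mem' := fun {a b} ha hb => ⟨mul_mem ha.1 hb.1, by
        rw [(hcomm a ha.1 b hb.1).mul_pow, ha.2, hb.2, one_mul]⟩
      inv_mem' := fun {a} ha => ⟨inv_mem ha.1, by rw [inv_pow, ha.2, inv_one]⟩ }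
  haveI : Z.Normal := ⟨fun z hz g => ⟨hCF.conj_mem z hz.1 g, by rw [conj_pow, hz.2, mul_one, mul_inv_cancel]⟩⟩
  set A := normalClosure ({τ} : Set L)
  have hAZ : A ≤ Z := normalClosure_le_normal (by rintro _ rfl; exact ⟨hτC, hτ⟩)
  have hτA : τ ∈ A := subset_normalClosure rfl
  have hA : Free ρ P A := ⟨fun e he => (hAZ he).2, fun a ha b hb => hcomm a (hAZ ha).1 b (hAZ hb).1,
    (eq_bot_iff_forall _).2 fun v hv => hfpf v (hv τ hτA), hV, h3⟩
  obtain ⟨B, hB⟩ := hA.exists_axis ρ inferInstance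
  have hτB : τ ∉ B := fun h => hB.fixed ((eq_bot_iff_forall _).2 fun v hv => hfpf v (hv τ h))
  have hBn : ∀ g, ∀ b ∈ B, g * b * g⁻¹ ∈ B := fun g =>
    hA.axis_conj ρ hB (hodd.of_dvd_nat (orderOf_dvd_natCard g)) fun e he =>
      ⟨(normalClosure_normal.conj_mem e he g), by simpa using normalClosure_normal.conj_mem e he g⁻¹⟩
  haveI : B.Normal := ⟨fun b hb g => hBn g b hb⟩
  -- the image of `τ` in `L ⧸ B`
  set π := QuotientGroup.mk' B with hπ
  set T := π τ with hTdef
  have hT : T ^ l = 1 := by rw [hTdef, ← map_pow, hτ, map_one]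
  have hT1 : T ≠ 1 := fun e => hτB ((QuotientGroup.eq_one_iff τ).1 e)
  have hTo : orderOf T = l := orderOf_eq_prime hT hT1
  have hex : ∀ g : L, ∃ k : ZMod l, π g * T * (π g)⁻¹ = T ^ k.val := by
    intro g
    have hg : g * τ * g⁻¹ ∈ B ⊔ zpowers τ := hB.maxi τ hτA hτB (normalClosure_normal.conj_mem τ hτA g)
    obtain ⟨b, hb, z, hz, e⟩ := mem_sup_of_normal_left.1 hg
    rw [← mem_powers_iff_mem_zpowers] at hz
    obtain ⟨i, rfl⟩ := hz
    refine ⟨(i : ZMod l), ?_⟩
    rw [hTdef, ← map_inv, ← map_mul, ← map_mul, ← e, map_mul,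
      show π b = 1 from (QuotientGroup.eq_one_iff b).2 hb, one_mul, show π (τ ^ i) = π τ ^ i from map_pow π τ i, ← hTdef, ZMod.val_natCast, ← pow_eq_pow_mod _ hT]
  choose k hk using hex
  have hinj : ∀ a b : ZMod l, T ^ a.val = T ^ b.val → a = b := fun a b h => by
    have h1 := pow_injOn_Iio_orderOf (x := T) (by rw [hTo]; exact ZMod.val_lt a) (by rw [hTo]; exact ZMod.val_lt b) h
    exact ZMod.val_injective l h1
  let ψ : L →* ZMod l :=
    { toFun := k
      map_one' := hinj _ _ (by rw [← hk 1, map_one, one_mul, inv_one, mul_one, ZMod.val_one, pow_one])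
      map_mul' := fun g h => hinj _ _ (by
        rw [← hk (g * h), map_mul, ZMod.val_mul, ← pow_eq_pow_mod _ hT,
          show π g * π h * T * (π g * π h)⁻¹ = π g * (π h * T * (π h)⁻¹) * (π g)⁻¹ by group, hk h,
          ← conj_pow, hk g, ← pow_mul]) }
  refine ⟨ψ.toHomUnits, fun h => hj1 ?_⟩
  have h1 : k x = 1 := congrArg Units.val h
  have h2 := hk x
  rw [h1, ZMod.val_one, pow_one, hTdef, ← map_inv, ← map_mul, ← map_mul, hj, map_pow, ← hTdef] at h2
  rw [← hTo]
  exact pow_eq_pow_iff_modEq.1 (h2.trans (pow_one T).symm)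

/-- The linear half of `ThreeFact`. -/
theorem linFact : LinFact.{u} := by
  intro W _ _ hodd n l j hn hl hbig hdvd hmin Q hQn hQ3 hQmax hCQ hcard τ x hτ hfpf _ hj hj1
  haveI : Fact (Nat.Prime 3) := ⟨Nat.prime_three⟩
  haveI : Fact l.Prime := ⟨hl⟩
  have hP := prim_of_min hl hbig hn hdvd hmin
  haveI : Group.IsSolvable W := S0205.result hodd
  have hQc : Q = Cfsg.pCore 3 W :=
    le_antisymm (PLocal.Cores.le_pCore hQ3) (hQmax _ inferInstance PLocal.Cores.isPGroup_pCore)
  subst hQc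
  have hO : Cfsg.pPrimeCore 3 W = ⊥ := by
    have h1 : Cfsg.pPrimeCore 3 W ≤ centralizer (Cfsg.pCore 3 W : Set W) :=
      le_centralizer_iff.1 PLocal.Cores.pCore_le_centralizer_pPrimeCore
    rw [← le_bot_iff, ← PLocal.Cores.pCore_inf_pPrimeCore (G := W) (p := 3)]
    exact le_inf (h1.trans hCQ) le_rfl
  set Φ := (frattini ↥(Cfsg.pCore 3 W)).map (Cfsg.pCore 3 W).subtype with hΦ
  haveI : Φ.Normal := inferInstance
  set π := QuotientGroup.mk' Φ with hπ
  obtain ⟨hel, hVc, hVcore, hmem⟩ := GenA.HallHigmanReduction.frattini_quotient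
    (PLocal.SolvableSeparable.isPSolvable_of_isSolvable 3 W) hO Φ hΦ _ rfl
  set V := (Cfsg.pCore 3 W).map π with hVdef
  haveI : V.Normal := Subgroup.Normal.map inferInstance π (QuotientGroup.mk'_surjective Φ)
  obtain ⟨hVcomm, hVexp⟩ := PLocal.ThompsonSubgroup.isElementaryAbelian_iff.1 hel
  letI : CommGroup ↥V :=
    { (inferInstance : Group ↥V) with mul_comm := fun a b => Subtype.ext (hVcomm a a.2 b b.2) }
  set ρ : (W ⧸ Φ) →* MulAut ↥V := MulAut.conjNormal with hρ
  haveI : Finite ρ.range := Finite.of_surjective ρ.rangeRestrict ρ.rangeRestrict_surjective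
  have hker : ρ.ker ≤ V := fun g hg => hVc.le (mem_centralizer_iff.2 fun v hv => by
    have h1 := congrArg (fun a : MulAut ↥V => ((a ⟨v, hv⟩ : ↥V) : W ⧸ Φ)) (MonoidHom.mem_ker.1 hg)
    exact (mul_inv_eq_iff_eq_mul.1 h1).symm)
  set L := ρ.range
  have hoddL : Odd (Nat.card ↥L) := hodd.of_dvd_nat
    ((card_dvd_of_surjective ρ.rangeRestrict ρ.rangeRestrict_surjective).trans
      (card_dvd_of_surjective π (QuotientGroup.mk'_surjective Φ)))
  have hOL : Cfsg.pCore 3 ↥L = ⊥ := by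
    have h1 : IsPGroup 3 ↥((Cfsg.pCore 3 ↥L).comap ρ.rangeRestrict) := by
      refine IsPGroup.comap_of_ker_isPGroup (PLocal.Cores.isPGroup_pCore) _ ?_
      rw [MonoidHom.ker_rangeRestrict]
      refine IsPGroup.to_le ?_ hker
      rw [hVdef]
      exact PLocal.Cores.isPGroup_pCore.map π
    have h2 := (PLocal.Cores.le_pCore h1).trans hVcore.le
    refine (eq_bot_iff_forall _).2 fun a ha => ?_
    obtain ⟨g, rfl⟩ := ρ.rangeRestrict_surjective a
    have hgV : g ∈ V := h2 ha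
    refine Subtype.ext (MulEquiv.ext fun v => Subtype.ext ?_)
    show g * (v : W ⧸ Φ) * g⁻¹ = v
    rw [hVcomm g hgV v v.2, mul_inv_cancel_right]
  -- `τ` and `x`
  set τ' : ↥L := ρ.rangeRestrict (π τ) with hτ'
  have hτl : τ ^ l = 1 := hτ ▸ pow_orderOf_eq_one τ
  have hlift : ∀ v : ↥V, π τ * (v : W ⧸ Φ) * (π τ)⁻¹ = v → v = 1 := by
    rintro ⟨_, q, hq, rfl⟩ hv
    obtain ⟨i, hi⟩ := IsPGroup.iff_card.1 ((PLocal.Cores.isPGroup_pCore (G := W) (p := 3)).to_le
      (map_subtype_le _ : Φ ≤ Cfsg.pCore 3 W))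
    have hcop : (Nat.card ↥(zpowers τ)).Coprime (Nat.card ↥Φ) := by
      rw [Nat.card_zpowers, hτ, hi]
      exact ((Nat.coprime_primes hl Nat.prime_three).2 hP.ne_three).pow_right i
    obtain ⟨z, hz, hzc⟩ := Coprime.exists_fixed_in_coset (k := q) (le_normalizer_of_normal (H := Φ)) hcop
      (Or.inl inferInstance) fun a ha => by
        have hc : Commute (π a) (π q) := by
          obtain ⟨m, rfl⟩ := ha
          show Commute (π (τ ^ m)) (π q)
          rw [map_zpow]
          exact ((show Commute (π τ) (π q) from mul_inv_eq_iff_eq_mul.1 hv)).zpow_left m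
        rw [← QuotientGroup.eq_one_iff]
        show π (q⁻¹ * (a * q * a⁻¹)) = 1
        rw [map_mul, map_mul, map_mul, map_inv, map_inv, hc.eq]
        group
    have h1 := hfpf (q * z) (mul_mem hq (map_subtype_le _ hz))
      ((mem_centralizer_iff.1 hzc τ (mem_zpowers τ)) : Commute τ (q * z))
    refine Subtype.ext ?_
    show π q = 1
    calc π q = π q * π z := by rw [show π z = 1 from (QuotientGroup.eq_one_iff z).2 hz, mul_one]
      _ = 1 := by rw [← map_mul, h1, map_one]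
  have hτ'1 : τ' ≠ 1 := fun e => by
    have h1 : π τ ∈ V := hker (MonoidHom.mem_ker.2 (congrArg Subtype.val e))
    have h2 := (hmem τ).1 h1
    obtain ⟨i, hi⟩ := IsPGroup.iff_card.1 (PLocal.Cores.isPGroup_pCore (G := W) (p := 3))
    have h4 := orderOf_dvd_natCard _ h2
    rw [hτ, hi] at h4
    exact hP.ne_three ((Nat.prime_dvd_prime_iff_eq hl Nat.prime_three).1 (hl.dvd_of_dvd_pow h4))
  have hVcard : Nat.card ↥V ≤ 3 ^ (2 * n) := Nat.le_of_dvd (by positivity)
    ((card_map_dvd _ _).trans hcard)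
  obtain ⟨ψ, hψ⟩ := exists_hom_of_faithful hP (L := ↥L) (V := ↥V) L.subtype L.subtype_injective hoddL hVcard
    (fun v => Subtype.ext (by simpa using hVexp v v.2)) hOL (τ := τ') (x := ρ.rangeRestrict (π x))
    (by rw [hτ', ← map_pow, ← map_pow, hτl, map_one, map_one]) hτ'1
    (fun v hv => hlift v (congrArg Subtype.val hv)) (j := j)
    (by rw [hτ', ← map_inv, ← map_mul, ← map_mul, ← map_inv, ← map_mul, ← map_mul, hj, map_pow, map_pow]) hj1
  exact ⟨ψ.comp (ρ.rangeRestrict.comp π), hψ⟩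

end Cfsg.Agent.Walter.Field.ThreeCase
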