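import Cfsg.Agent.Lib.Walter.Field.ThreeCaseQuotDefs
import Cfsg.Agent.Lib.Walter.Field.ThreeCaseFree
import Cfsg.Agent.Lib.Walter.Field.ThreeHom
import Cfsg.Agent.Solvable.Fitting

/-!
# The quotient by `O_{3'}`: `QuotFact`

With `Q = O_3(W)` of order `3 ^ (3 m a)`, the bound on the 3-part of `C(x)` gives `a ≤ 3`. For `a ≤ 2`
the linear half applies; for `a = 3` the Sylow 3-subgroups of `W / Q` are cyclic and Burnside's
transfer gives the homomorphism.
-/

set_option autoImplicit false
set_option linter.unusedSectionVars false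
set_option linter.style.haveILetI false

open Subgroup

namespace Cfsg.Agent.Walter.Field.ThreeCase

universe u

variable {W : Type u} [Group W] [Finite W]

/-- A fixed-point-free automorphism of prime order `l` gives `|Q| ≡ 1 (mod l)`. -/
theorem card_modEq_one {l : ℕ} (hl : l.Prime) {τ : W} (hτ : orderOf τ = l) {Q : Subgroup W} [Q.Normal]
    (hfpf : ∀ a ∈ Q, Commute τ a → a = 1) : Nat.card ↥Q ≡ 1 [MOD l] := by
  haveI : Fact l.Prime := ⟨hl⟩
  letI : MulAction ↥(zpowers τ) ↥Q :=
    MulAction.compHom ↥Q ((MulAut.conjNormal (H := Q)).comp (zpowers τ).subtype)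
  have h := (IsPGroup.of_card (n := 1) (G := ↥(zpowers τ)) (p := l)
    (by rw [Nat.card_zpowers, hτ, pow_one])).card_modEq_card_fixedPoints ↥Q
  have hone : MulAction.fixedPoints ↥(zpowers τ) ↥Q = {(1 : ↥Q)} := by
    ext a
    refine ⟨fun ha => Subtype.ext (hfpf a a.2
      (mul_inv_eq_iff_eq_mul.1 (congrArg Subtype.val (ha ⟨τ, mem_zpowers τ⟩)))), ?_⟩
    rintro rfl g
    show (MulAut.conjNormal (H := Q)) ((g : W)) (1 : ↥Q) = 1
    exact map_one _
  rwa [hone, Nat.card_coe_set_eq, Set.ncard_singleton] at h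

/-- In a cyclic subgroup, two elements of order three generate the same subgroup. -/
theorem mem_zpowers_of_cyclic {O : Subgroup W} (hO : IsCyclic ↥O) {a b : W} (ha : a ∈ O) (hb : b ∈ O)
    (ha3 : orderOf a = 3) (hb3 : orderOf b = 3) : a ∈ zpowers b := by
  haveI := hO
  letI : CommGroup ↥O := IsCyclic.commGroup
  have hle : zpowers (⟨b, hb⟩ : ↥O) ≤ (powMonoidHom 3 : ↥O →* ↥O).ker :=
    zpowers_le.2 (MonoidHom.mem_ker.2 (Subtype.ext (by
      show b ^ 3 = 1
      rw [← hb3, pow_orderOf_eq_one])))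
  have heq : zpowers (⟨b, hb⟩ : ↥O) = (powMonoidHom 3 : ↥O →* ↥O).ker := eq_of_le_of_card_ge hle (by
    rw [IsCyclic.card_powMonoidHom_ker, Nat.card_zpowers, ← orderOf_coe, hb3]
    exact Nat.le_of_dvd (by norm_num) (Nat.gcd_dvd_right _ _))
  have h1 : (⟨a, ha⟩ : ↥O) ∈ zpowers ⟨b, hb⟩ := heq ▸ MonoidHom.mem_ker.2 (Subtype.ext (by
    show a ^ 3 = 1
    rw [← ha3, pow_orderOf_eq_one]))
  obtain ⟨k, hk⟩ := h1
  exact ⟨k, congrArg Subtype.val hk⟩

/-- The numerical step: at most three blocks. -/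
theorem blocks_le {m a e : ℕ} (hm : 0 < m) (he : 3 ^ e ∣ 3 * m) (h : m * a + 1 ≤ 3 * m + e) : a ≤ 3 := by
  have hem : e ≤ m := by
    by_contra hc
    have h1 : 3 ^ (m + 1) ≤ 3 * m :=
      (Nat.pow_le_pow_right (by norm_num) (by omega)).trans (Nat.le_of_dvd (by omega) he)
    have h2 := Nat.lt_pow_self (n := m) (by norm_num : 1 < 3)
    rw [pow_succ] at h1
    omega
  by_contra hc
  have : m * 4 ≤ m * a := Nat.mul_le_mul_left m (by omega)
  omega

/-- A self-centralising element `x` in an odd group with a small 3-part of its centraliser makes the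
Sylow 3-subgroups cyclic, and `x` survives in the transfer. -/
theorem exists_transfer {H : Type u} [Group H] [Finite H] (hodd : Odd (Nat.card H)) {x : H} {e : ℕ}
    {O : Subgroup H} (hO : IsCyclic ↥O) (hxO : x ∈ O) (hx : orderOf x = 3) (hOcard : Nat.card ↥O = 3 ^ e)
    (hbound : ∀ P : Subgroup H, IsPGroup 3 ↥P → P ≤ centralizer ({x} : Set H) → Nat.card ↥P ∣ 3 ^ e) :
    ∃ (A : Type u) (_ : CommGroup A) (ψ : H →* A), ψ x ≠ 1 := by
  classical
  haveI : Fact (Nat.Prime 3) := ⟨Nat.prime_three⟩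
  haveI := hO
  letI : CommGroup ↥O := IsCyclic.commGroup
  have hOp : IsPGroup 3 ↥O := IsPGroup.of_card hOcard
  have hOx : O ≤ centralizer ({x} : Set H) := fun g hg => mem_centralizer_singleton_iff.2
    (congrArg Subtype.val (mul_comm (⟨g, hg⟩ : ↥O) ⟨x, hxO⟩))
  have hmax : ∀ P : Subgroup H, IsPGroup 3 ↥P → P ≤ centralizer ({x} : Set H) → O ≤ P → P = O :=
    fun P hP hPx hle => (eq_of_le_of_card_ge hle (by
      rw [hOcard]; exact Nat.le_of_dvd (by positivity) (hbound P hP hPx))).symm
  obtain ⟨S, hOS⟩ := hOp.exists_le_sylow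
  haveI : Nontrivial ↥(S : Subgroup H) := ⟨⟨⟨x, hOS hxO⟩, 1, fun h => by
    have h1 : x = 1 := congrArg Subtype.val h
    rw [h1, orderOf_one] at hx
    exact absurd hx (by norm_num)⟩⟩
  haveI := S.2.center_nontrivial
  obtain ⟨c, hc⟩ := exists_prime_orderOf_dvd_card' (G := ↥(center ↥(S : Subgroup H))) 3 (by
    obtain ⟨k, hk, hcard⟩ := (S.2.to_subgroup (center ↥(S : Subgroup H))).nontrivial_iff_card.1 inferInstance
    exact hcard ▸ dvd_pow_self 3 hk.ne')
  set z : H := ((c : ↥(S : Subgroup H)) : H) with hz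
  have hzS : z ∈ (S : Subgroup H) := (c : ↥(S : Subgroup H)).2
  have hzord : orderOf z = 3 := by
    rw [hz, orderOf_coe, orderOf_coe, hc]
  have hzc : ∀ g ∈ (S : Subgroup H), Commute g z := fun g hg =>
    congrArg Subtype.val (mem_center_iff.1 c.2 ⟨g, hg⟩)
  have hzO : z ∈ O := by
    have hle : O ⊔ zpowers z ≤ (S : Subgroup H) := sup_le hOS (zpowers_le.2 hzS)
    have heq := hmax _ (S.2.to_le hle) (sup_le hOx (zpowers_le.2
      (mem_centralizer_singleton_iff.2 (hzc x (hOS hxO)).symm))) le_sup_left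
    exact heq.le (mem_sup_right (mem_zpowers z))
  have hxz : x ∈ zpowers z := mem_zpowers_of_cyclic hO hxO hzO hx hzord
  have hSx : (S : Subgroup H) ≤ centralizer ({x} : Set H) := fun g hg => by
    obtain ⟨k, hk⟩ := hxz
    rw [mem_centralizer_singleton_iff, ← hk]
    exact (hzc g hg).zpow_right k
  have hSO : (S : Subgroup H) = O := hmax _ S.2 hSx hOS
  have hmin : (Nat.card H).minFac = 3 := by
    have h3 : 3 ∣ Nat.card H := hx ▸ orderOf_dvd_natCard x
    have h1 := Nat.minFac_le_of_dvd (by norm_num) h3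
    have h2 := Nat.minFac_prime (n := Nat.card H) (fun h => by rw [h] at h3; norm_num at h3)
    have h4 : (Nat.card H).minFac ≠ 2 := fun h => by
      have := Nat.minFac_dvd (Nat.card H)
      rw [h] at this
      exact (Nat.not_even_iff_odd.2 hodd) (even_iff_two_dvd.2 this)
    have := h2.two_le
    omega
  have hP : normalizer (S : Set H) ≤ centralizer (S : Set H) :=
    IsCyclic.normalizer_le_centralizer hmin (by rw [hSO]; exact hO)
  haveI : IsMulCommutative ↥(S : Subgroup H) :=
    ⟨⟨fun a b => Subtype.ext (hP (le_normalizer b.2) a a.2)⟩⟩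
  refine ⟨↥(S : Subgroup H),
    { (inferInstance : Group ↥(S : Subgroup H)) with mul_comm := mul_comm' }, MonoidHom.transferSylow S hP, fun h => ?_⟩
  have hd := MonoidHom.ker_transferSylow_disjoint S hP S S.2
  have : x = 1 := (mem_bot).1 (hd.le_bot ⟨MonoidHom.mem_ker.2 h, hOS hxO⟩)
  rw [this, orderOf_one] at hx
  exact absurd hx (by norm_num)

/-- `QuotFact` holds. -/
theorem quotFact : QuotFact.{u} := by
  intro W _ _ hodd hO m l j e hm hl hbig hdvd hmin τ x hτ hfree hx hconj hj O hOc hxO hOcard he hbound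
  classical
  haveI : Fact (Nat.Prime 3) := ⟨Nat.prime_three⟩
  haveI : Fact l.Prime := ⟨hl⟩
  haveI : Group.IsSolvable W := S0205.result hodd
  have hPr := prim_of_min hl hbig (by omega : 0 < 3 * m) hdvd hmin
  set Q := Cfsg.pCore 3 W with hQdef
  haveI : Q.Normal := PLocal.Cores.pCore_normal'
  have hQp : IsPGroup 3 ↥Q := PLocal.Cores.isPGroup_pCore
  have hCQ : centralizer (Q : Set W) ≤ Q := Cfsg.Agent.Solvable.Fitting.centralizer_pCore_le 3 hO
  have hx3 : x ^ 3 = 1 := hx ▸ pow_orderOf_eq_one x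
  -- `τ` is fixed point free on `Q`
  have hfpf : ∀ a ∈ Q, Commute τ a → a = 1 := by
    intro a ha hc
    obtain ⟨k, hk⟩ := hQp ⟨a, ha⟩
    have hk' : a ^ 3 ^ k = 1 := congrArg Subtype.val hk
    clear hk
    induction k with
    | zero => simpa using hk'
    | succ k ih => exact ih (hfree _ (by rw [← pow_mul, ← pow_succ, hk']) (hc.pow_right _))
  have hj' : (j : ZMod l) ≠ 1 := fun h => hj ((ZMod.natCast_eq_natCast_iff _ _ _).1 (by simpa using h))
  obtain ⟨hconjQ, hQcard⟩ := free_group hPr.ne_three hτ hx3 hconj hj' hQp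
    (by rw [normalizer_eq_top]; exact mem_top _) (by rw [normalizer_eq_top]; exact mem_top _) hfpf
  -- `x ∉ Q`
  have hxQ : x ∉ Q := by
    intro hxQ
    have h1 : x * τ * x⁻¹ * τ⁻¹ ∈ Q := by
      rw [show x * τ * x⁻¹ * τ⁻¹ = x * (τ * x⁻¹ * τ⁻¹) by group]
      exact mul_mem hxQ (Normal.conj_mem inferInstance _ (inv_mem hxQ) τ)
    have h2 := hfpf _ h1 (by
      rw [hconj]
      exact ((Commute.refl τ).pow_right j).mul_right ((Commute.refl τ).inv_right))
    rw [hconj, mul_inv_eq_one] at h2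
    nth_rw 2 [← pow_one τ] at h2
    exact hj (hτ ▸ pow_eq_pow_iff_modEq.1 h2)
  -- the order of `Q`
  obtain ⟨c, hc⟩ := IsPGroup.iff_card.1 (hQp.to_le (inf_le_left : Q ⊓ centralizer ({x} : Set W) ≤ Q))
  rw [hc, ← pow_mul] at hQcard
  obtain ⟨a, ha⟩ : 3 * m ∣ c * 3 := hPr.order _ ((Nat.modEq_iff_dvd' (Nat.one_le_pow _ _ (by norm_num))).1
    (hQcard ▸ card_modEq_one hl hτ hfpf).symm)
  -- the 3-part of the centraliser
  set C := Q ⊓ centralizer ({x} : Set W) with hC
  have hCn : centralizer ({x} : Set W) ≤ normalizer (C : Set W) := by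
    intro g hg
    refine Subgroup.mem_normalizer_fintype fun a ha' => ⟨Normal.conj_mem inferInstance _ ha'.1 g, ?_⟩
    exact (centralizer ({x} : Set W)).mul_mem ((centralizer ({x} : Set W)).mul_mem hg ha'.2)
      ((centralizer ({x} : Set W)).inv_mem hg)
  have hxC : x ∉ C := fun h => hxQ h.1
  have ha3 : a ≤ 3 := by
    have hxc : zpowers x ≤ centralizer ({x} : Set W) :=
      zpowers_le.2 (mem_centralizer_singleton_iff.2 rfl)
    have hp : IsPGroup 3 ↥(zpowers x) := IsPGroup.of_card (n := 1) (by rw [Nat.card_zpowers, hx, pow_one])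
    have hsup : IsPGroup 3 ↥(C ⊔ zpowers x) :=
      (hQp.to_le inf_le_left).to_sup_of_normal_left' hp (hxc.trans hCn)
    obtain ⟨s, hs⟩ := IsPGroup.iff_card.1 hsup
    have h1 := hbound _ hsup (sup_le inf_le_right hxc)
    rw [hs, ← pow_add, Nat.pow_dvd_pow_iff_le_right (by norm_num)] at h1
    have h2 : Nat.card ↥C < Nat.card ↥(C ⊔ zpowers x : Subgroup W) := by
      refine lt_of_le_of_ne (card_le_of_le le_sup_left) fun h => hxC ?_
      exact (eq_of_le_of_card_ge le_sup_left h.ge).ge (mem_sup_right (mem_zpowers x))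
    rw [hc, hs, Nat.pow_lt_pow_iff_right (by norm_num)] at h2
    exact blocks_le hm he (by nlinarith)
  by_cases ha2 : a ≤ 2
  · obtain ⟨ψ, hψ⟩ := linFact W hodd (3 * m) l j (by omega) hl hbig hdvd hmin Q inferInstance hQp
      (fun P hP hP3 => by haveI := hP; exact PLocal.Cores.le_pCore hP3) hCQ
      (by rw [hQcard, ha]; exact pow_dvd_pow 3 (by nlinarith)) τ x hτ hfpf hx3 hconj hj
    exact ⟨ULift.{u} (ZMod l)ˣ, inferInstance, (MulEquiv.ulift.symm.toMonoidHom).comp ψ,
      fun h => hψ (MulEquiv.ulift.symm.map_eq_one_iff.1 h)⟩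
  · have hc3 : c = 3 * m := by
      have : a = 3 := by omega
      subst this
      omega
    set π := QuotientGroup.mk' Q with hπ
    haveI : IsCyclic ↥(O.map π) := isCyclic_of_surjective (π.subgroupMap O) (π.subgroupMap_surjective O)
    have hinj : Function.Injective (π.comp O.subtype) := by
      rw [injective_iff_map_eq_one]
      rintro ⟨g, hg⟩ hg1
      have hgQ : g ∈ Q := (QuotientGroup.eq_one_iff g).1 hg1
      by_contra hne
      have hne' : g ≠ 1 := fun h => hne (Subtype.ext h)
      obtain ⟨k, hk, hgk⟩ : ∃ k, orderOf g = 3 ^ k ∧ 0 < k := by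
        obtain ⟨k, -, hk⟩ := (Nat.dvd_prime_pow Nat.prime_three).1 (hOcard ▸ orderOf_dvd_natCard O hg)
        exact ⟨k, hk, Nat.pos_of_ne_zero fun h => hne' (orderOf_eq_one_iff.1 (by rw [hk, h, pow_zero]))⟩
      obtain ⟨i, rfl⟩ := Nat.exists_eq_succ_of_ne_zero hgk.ne'
      obtain ⟨r, hr⟩ := mem_zpowers_of_cyclic hOc hxO (pow_mem hg (3 ^ i)) hx (by
        rw [orderOf_pow_of_dvd (by positivity) (by rw [hk, pow_succ]; exact dvd_mul_right _ _), hk,
          pow_succ, Nat.mul_div_cancel_left _ (by positivity)])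
      refine hxQ ?_
      rw [← show (g ^ 3 ^ i) ^ r = x from hr]
      exact zpow_mem (pow_mem hgQ _) r
    have hOcard' : Nat.card ↥(O.map π) = 3 ^ e := by
      rw [← hOcard]
      refine (Nat.card_congr (MonoidHom.ofInjective hinj).toEquiv).trans ?_ |>.symm
      rw [MonoidHom.range_comp, Subgroup.range_subtype]
    have hπx : π x ≠ 1 := fun h => hxQ ((QuotientGroup.eq_one_iff x).1 h)
    obtain ⟨A, iA, ψ, hψ⟩ := exists_transfer (H := W ⧸ Q)
      (hodd.of_dvd_nat (card_dvd_of_surjective π (QuotientGroup.mk'_surjective Q))) (x := π x) (e := e)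
      (O := O.map π) inferInstance (mem_map_of_mem π hxO)
      (orderOf_eq_prime (by rw [← map_pow, hx3, map_one]) hπx) hOcard' (by
        intro P hP hPx
        set R := P.comap π ⊓ centralizer ({x} : Set W) with hR
        have hmap : R.map π = P := by
          refine le_antisymm (map_le_iff_le_comap.2 inf_le_left) fun y hy => ?_
          obtain ⟨g, rfl⟩ := QuotientGroup.mk'_surjective Q y
          have hgx : Commute (π g) (π x) := mem_centralizer_singleton_iff.1 (hPx hy)
          have hmem : g * x * g⁻¹ * x⁻¹ ∈ Q := (QuotientGroup.eq_one_iff _).1 (by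
            show π (g * x * g⁻¹ * x⁻¹) = 1
            simp only [map_mul, map_inv]
            rw [hgx.eq]; group)
          obtain ⟨z, hz, hzx⟩ := hconjQ _ hmem (by
            rw [inv_mul_cancel_right, conj_pow, hx3, mul_one, mul_inv_cancel])
          rw [inv_mul_cancel_right] at hzx
          refine ⟨z⁻¹ * g, ⟨?_, mem_centralizer_singleton_iff.2 ?_⟩, ?_⟩
          · show π (z⁻¹ * g) ∈ P
            rw [map_mul, show π z⁻¹ = 1 from (QuotientGroup.eq_one_iff _).2 (inv_mem hz), one_mul]
            exact hy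
          · calc z⁻¹ * g * x = z⁻¹ * (g * x * g⁻¹) * g := by group
              _ = z⁻¹ * (z * x * z⁻¹) * g := by rw [hzx]
              _ = x * (z⁻¹ * g) := by group
          · show π (z⁻¹ * g) = π g
            rw [map_mul, show π z⁻¹ = 1 from (QuotientGroup.eq_one_iff _).2 (inv_mem hz), one_mul]
        have hRp : IsPGroup 3 ↥R :=
          (hP.comap_of_ker_isPGroup π (by rw [hπ, QuotientGroup.ker_mk']; exact hQp)).to_le inf_le_left
        have h1 := hbound R hRp inf_le_right
        have h2 : Nat.card ↥R = Nat.card ↥P * Nat.card ↥C := by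
          have h3 := card_eq_card_quotient_mul_card_subgroup (α := ↥R) (π.domRestrict R).ker
          have h4 : Nat.card (↥R ⧸ (π.domRestrict R).ker) = Nat.card ↥P := by
            rw [← hmap]
            exact (Nat.card_congr (QuotientGroup.quotientKerEquivRange _).toEquiv).trans
              (by rw [MonoidHom.domRestrict_range])
          have h5 : Nat.card ↥(π.domRestrict R).ker = Nat.card ↥C := by
            rw [MonoidHom.ker_domRestrict, hπ, QuotientGroup.ker_mk']
            have h6 : Q.subgroupOf R = C.subgroupOf R := by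
              ext g
              exact ⟨fun h => ⟨h, g.2.2⟩, fun h => h.1⟩
            rw [h6]
            exact Nat.card_congr (subgroupOfEquivOfLe (show C ≤ R from fun g hg =>
              ⟨by show π g ∈ P; rw [show π g = 1 from (QuotientGroup.eq_one_iff g).2 hg.1]; exact one_mem P,
                hg.2⟩)).toEquiv
          rw [h3, h4, h5]
        rw [h2, hc, hc3, mul_comm (3 ^ (3 * m))] at h1
        exact Nat.dvd_of_mul_dvd_mul_right (by positivity) h1)
    exact ⟨A, iA, ψ.comp π, hψ⟩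

end Cfsg.Agent.Walter.Field.ThreeCase
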