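import Cfsg.Agent.Lib.Walter.Field.ThreeCaseSetup
import Cfsg.Agent.Lib.Walter.Field.ThreeCaseLocal
import Cfsg.Agent.Lib.Walter.Field.ThreeCaseQuot

/-!
# The case `r = p = 3` of the field part

`three_fact`: an element of order 3 of the field part of an involution centraliser in characteristic
3 gives, through `W = O^2(N(Z(J(R))))`, a homomorphism of a Sylow 3-subgroup invariant under fusion
that is not trivial at the element, which contradicts the transfer.
-/

set_option autoImplicit false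
set_option linter.unusedSectionVars false
set_option linter.style.haveILetI false

namespace Cfsg.Agent.Walter.Field.ThreeCase

open Subgroup

universe u v

variable {G : Type u} [Group G] [Finite G] {t x τ : G} {m l j e : ℕ} {E₀ U O B W : Subgroup G}

namespace TData

variable (D : TData t x m l j e E₀ U O B τ)
include D

/-- A Sylow 3-subgroup of the preimage of a centraliser centralises, if `t` fixes the element. -/
theorem exists_sylow_preimage (hWodd : Odd (Nat.card ↥W)) (htW : t ∈ normalizer (W : Set G))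
    (hBW : B ≤ W) (hWB : ∀ a ∈ W, Commute a t → a ∈ B) [(Cfsg.pPrimeCore 3 ↥W).Normal] {c : ↥W}
    (hct : Commute (c : G) t) :
    ∃ P : Subgroup G, P ≤ centralizer ({(c : G)} : Set G) ∧ IsPGroup 3 P ∧
      ∀ k : ℕ, 3 ^ k ∣ Nat.card ↥((centralizer ({QuotientGroup.mk' (Cfsg.pPrimeCore 3 ↥W) c} : Set
        (↥W ⧸ Cfsg.pPrimeCore 3 ↥W))).comap (QuotientGroup.mk' (Cfsg.pPrimeCore 3 ↥W))) →
        3 ^ k ∣ Nat.card ↥P := by
  haveI : Fact (Nat.Prime 3) := ⟨Nat.prime_three⟩
  haveI : Fact (Nat.Prime 2) := ⟨Nat.prime_two⟩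
  set N := Cfsg.pPrimeCore 3 ↥W with hN
  set f := QuotientGroup.mk' N with hf
  set Hw := (centralizer ({f c} : Set (↥W ⧸ N))).comap f with hHw
  let tc : ↥W ≃* ↥W :=
    { toFun := fun y => ⟨t * y * t⁻¹, (mem_normalizer_iff.1 htW y).1 y.2⟩
      invFun := fun y => ⟨t⁻¹ * y * t, (mem_normalizer_iff''.1 htW y).1 y.2⟩
      left_inv := fun y => Subtype.ext (by simp [mul_assoc])
      right_inv := fun y => Subtype.ext (by simp [mul_assoc])
      map_mul' := fun y z => Subtype.ext (by simp [mul_assoc]) }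
  have htcN : ∀ y ∈ N, tc y ∈ N := fun y hy => by
    rw [hN, ← PLocal.Cores.map_pPrimeCore_equiv (p := 3) tc]
    exact ⟨y, hy, rfl⟩
  have htcc : tc c = c := Subtype.ext (by
    show t * (c : G) * t⁻¹ = c
    rw [← hct.eq, mul_inv_cancel_right])
  have hmemH : ∀ y : ↥W, y ∈ Hw ↔ c * y * c⁻¹ * y⁻¹ ∈ N := fun y => by
    rw [hHw, mem_comap, mem_centralizer_singleton_iff, ← QuotientGroup.eq_one_iff,
      ← QuotientGroup.mk'_apply N, map_mul, map_mul, map_mul, map_inv, map_inv, ← hf,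
      mul_inv_eq_one, mul_inv_eq_iff_eq_mul]
    exact eq_comm
  set H := Hw.map W.subtype with hH
  have hHodd : Odd (Nat.card ↥H) := hWodd.of_dvd_nat (card_dvd_of_le (map_subtype_le _))
  have htH : t ∈ normalizer (H : Set G) := Subgroup.mem_normalizer_fintype (by
    rintro _ ⟨y, hy, rfl⟩
    refine ⟨tc y, (hmemH _).2 ?_, rfl⟩
    have h := htcN _ ((hmemH y).1 hy)
    rwa [map_mul, map_mul, map_mul, map_inv, map_inv, htcc] at h)
  obtain ⟨P₀, hP₀⟩ := Coprime.exists_invariant_sylow 3 (zpowers_le.2 htH : zpowers t ≤ _)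
    (by rw [Nat.card_zpowers, D.ht]; exact Nat.coprime_two_left.2 hHodd)
    (Or.inr (S0205.result hHodd))
  set P := (P₀ : Subgroup ↥H).map H.subtype with hP
  have hPH : P ≤ H := map_subtype_le _
  have hPp : IsPGroup 3 P := P₀.2.map _
  refine ⟨P, fun g hg => ?_, hPp, fun k hk => ?_⟩
  · have ht2 : t * t = 1 := mul_self_of_two D.ht
    obtain ⟨a, ha, b, hb, hai, hbt, rfl⟩ := Other.exists_inv_mul ht2
      (hHodd.of_dvd_nat (card_dvd_of_le hPH))
      (fun y hy => (mem_normalizer_iff.1 (hP₀ (mem_zpowers t)) y).1 hy) hg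
    refine mem_centralizer_singleton_iff.2 (Commute.mul_left ?_ ?_).eq
    · -- the inverted factor
      obtain ⟨a', ha', rfl⟩ := hPH ha
      set d : ↥W := c * a' * c⁻¹ * a'⁻¹ with hd
      have hdN : d ∈ N := (hmemH a').1 ha'
      have hinv : ∀ y ∈ N, t * (y : G) * t⁻¹ = (y : G)⁻¹ := by
        intro y hy
        obtain ⟨p, hp, q, hq, hpi, hqt, he⟩ := Other.exists_inv_mul ht2
          (hWodd.of_dvd_nat (card_dvd_of_le (map_subtype_le N)))
          (K := N.map W.subtype) (by rintro _ ⟨z, hz, rfl⟩; exact ⟨tc z, htcN z hz, rfl⟩)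
          (mem_map_of_mem W.subtype hy)
        obtain ⟨q', hq', rfl⟩ := hq
        rw [D.core_fixed hBW hWB hq' hqt.symm, map_one, mul_one] at he
        change (y : G) = p at he
        rw [he]
        exact hpi
      have hdi := hinv d hdN
      have hai' : t * (a' : G) * t⁻¹ = (a' : G)⁻¹ := hai
      have hca : (c : G) * a' * (c : G)⁻¹ = (d : G) * a' := by
        rw [hd]; simp [mul_assoc]
      have hcai : t * ((c : G) * a' * (c : G)⁻¹) * t⁻¹ = ((c : G) * a' * (c : G)⁻¹)⁻¹ :=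
        Other.Inv.conj (hai : Other.Inv t (a' : G)) hct
      have hcomm : Commute (d : G) (a' : G) := by
        rw [hca, ← conj_mul, hdi, hai', ← mul_inv_rev, inv_inj] at hcai
        exact hcai.symm
      obtain ⟨i, hi⟩ := hPp ⟨_, ha⟩
      have hai3 : (a' : G) ^ 3 ^ i = 1 := congrArg Subtype.val hi
      have hd3 : (d : G) ^ 3 ^ i = 1 := by
        have h1 : ((d : G) * a') ^ 3 ^ i = 1 := by
          rw [← hca, conj_pow, hai3, mul_one, mul_inv_cancel]
        rwa [hcomm.mul_pow, hai3, mul_one] at h1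
      have hd1 : d = 1 := orderOf_eq_one_iff.1 (Nat.eq_one_of_dvd_coprimes
        ((Cores.pPrimeCore_card_coprime (G := ↥W) 3).pow_right i) (orderOf_dvd_natCard _ hdN)
        (by rw [← Subgroup.orderOf_coe]; exact orderOf_dvd_of_pow_eq_one hd3))
      rw [hd1, OneMemClass.coe_one, one_mul] at hca
      exact (mul_inv_eq_iff_eq_mul.1 hca).symm
    · obtain ⟨b', hb', rfl⟩ := hPH hb
      have h1 := D.core_fixed hBW hWB ((hmemH b').1 hb') (by
        show Commute ((c : G) * b' * (c : G)⁻¹ * (b' : G)⁻¹) t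
        exact ((hct.mul_left hbt.symm).mul_left hct.inv_left).mul_left hbt.symm.inv_left)
      have h2 := congrArg Subtype.val (mul_inv_eq_one.1 h1)
      exact (mul_inv_eq_iff_eq_mul.1 h2).symm
  · rw [hP, card_subtype, P₀.card_eq_multiplicity]
    refine pow_dvd_pow 3 ((Nat.Prime.pow_dvd_iff_le_factorization Nat.prime_three Nat.card_pos.ne').1 ?_)
    rwa [hH, card_subtype]

end TData

/-- Step 1 for `r = p = 3`. -/
theorem false_of_data [IsSimpleGroup G] (hnc : ¬ IsMulCommutative G) (hab : SEAbelian.AbTwo G)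
    (D : TData t x m l j e E₀ U O B τ)
    (hbd : ∀ P : Subgroup G, IsPGroup 3 ↥P → P ≤ centralizer ({x} : Set G) →
      Nat.card ↥P ∣ 3 ^ (3 * m) * 3 ^ e) : False := by
  haveI : Fact (Nat.Prime 3) := ⟨Nat.prime_three⟩
  obtain ⟨W, R, hWodd, htW, hRW, hBW, hWB, hfus⟩ := D.exists_local hnc hab
  haveI : (Cfsg.pPrimeCore 3 ↥W).Normal := PLocal.Cores.pPrimeCore_normal'
  set N := Cfsg.pPrimeCore 3 ↥W with hN
  set f := QuotientGroup.mk' N with hf
  let τW : ↥W := ⟨τ, hBW D.τ_mem⟩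
  let xW : ↥W := ⟨x, hBW (D.O_le D.x_mem)⟩
  have hBt : ∀ b ∈ B, Commute b t := fun b hb => mem_centralizer_singleton_iff.1 (D.B_le hb)
  have hBker : ∀ b : ↥W, (b : G) ∈ B → f b = 1 → b = 1 := fun b hb h =>
    D.core_fixed hBW hWB ((QuotientGroup.eq_one_iff _).1 h) (hBt _ hb)
  obtain ⟨P₁, hP₁, hP₁p, hP₁d⟩ := D.exists_sylow_preimage hWodd htW hBW hWB (c := τW) (hBt _ D.τ_mem)
  obtain ⟨P₂, hP₂, hP₂p, hP₂d⟩ := D.exists_sylow_preimage hWodd htW hBW hWB (c := xW)
    (hBt _ (D.O_le D.x_mem))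
  have hoτ : orderOf (f τW) = l := by
    haveI : Fact l.Prime := ⟨D.l_prime⟩
    refine orderOf_eq_prime (by rw [← map_pow, show τW ^ l = 1 from Subtype.ext (by
      show τ ^ l = 1; rw [← D.τ_ord, pow_orderOf_eq_one]), map_one]) fun h => ?_
    have h1 := congrArg Subtype.val (hBker τW D.τ_mem h)
    have h2 := D.τ_ord
    rw [show τ = 1 from h1, orderOf_one] at h2
    exact D.l_prime.one_lt.ne h2
  have hox : orderOf (f xW) = 3 := by
    refine orderOf_eq_prime (by rw [← map_pow, show xW ^ 3 = 1 from Subtype.ext (by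
      show x ^ 3 = 1; rw [← D.x_ord, pow_orderOf_eq_one]), map_one]) fun h => ?_
    have h1 := congrArg Subtype.val (hBker xW (D.O_le D.x_mem) h)
    have h2 := D.x_ord
    rw [show x = 1 from h1, orderOf_one] at h2
    exact absurd h2 (by norm_num)
  let ι : ↥O →* ↥W ⧸ N := f.comp (inclusion (D.O_le.trans hBW))
  have hι : Function.Injective ι := (injective_iff_map_eq_one ι).2 fun o ho =>
    Subtype.ext (congrArg Subtype.val (hBker _ (D.O_le o.2) ho) :)
  haveI := D.O_cyclic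
  obtain ⟨A, _, ψ, hψ⟩ := quotFact (↥W ⧸ N) (hWodd.of_dvd_nat (Subgroup.card_quotient_dvd_card N))
    (Cores.pPrimeCore_quotient_self 3) m l j e D.m_pos D.l_prime D.l_big D.l_dvd D.l_prim (f τW) (f xW)
    hoτ (fun z hz hzc => by
      by_contra hne
      obtain ⟨g, rfl⟩ := QuotientGroup.mk'_surjective N z
      have hgH : g ∈ (centralizer ({f τW} : Set (↥W ⧸ N))).comap f :=
        mem_centralizer_singleton_iff.2 hzc.symm.eq
      have hd : 3 ^ 1 ∣ Nat.card ↥((centralizer ({f τW} : Set (↥W ⧸ N))).comap f) := by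
        rw [pow_one, ← orderOf_eq_prime hz hne]
        exact (orderOf_map_dvd f g).trans (orderOf_dvd_natCard _ hgH)
      exact D.cent_τ ((pow_one 3 ▸ hP₁d 1 hd).trans (card_dvd_of_le hP₁)))
    hox (by rw [← map_inv, ← map_mul, ← map_mul, ← map_pow]; exact congrArg f (Subtype.ext D.conj))
    D.j_ne ι.range (isCyclic_of_surjective ι.rangeRestrict ι.rangeRestrict_surjective)
    ⟨⟨x, D.x_mem⟩, rfl⟩
    ((Nat.card_congr (MonoidHom.ofInjective hι).toEquiv).symm.trans D.O_card) D.O_dvd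
    (fun P hP hPx => by
      obtain ⟨k, hk⟩ := hP.exists_card_eq
      rw [hk]
      refine (hP₂d k ?_).trans (hbd P₂ hP₂p hP₂)
      rw [← hk]
      refine (card_dvd_of_le hPx).trans ?_
      conv_lhs => rw [← map_comap_eq_self_of_surjective (QuotientGroup.mk'_surjective N)
        (centralizer ({f xW} : Set (↥W ⧸ N)))]
      exact card_map_dvd _ _)
  -- the invariant homomorphism on the Sylow subgroup
  let Ψ : ↥W →* A := ψ.comp f
  have hΨ : ∀ (k y : ↥W), Ψ (k * y * k⁻¹) = Ψ y := fun k y => by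
    rw [map_mul, map_mul, map_inv, mul_comm (Ψ k), mul_inv_cancel_right]
  let cjt : ↥W →* ↥W :=
    { toFun := fun y => ⟨t * y * t⁻¹, (mem_normalizer_iff.1 htW y).1 y.2⟩
      map_one' := Subtype.ext (by simp)
      map_mul' := fun y z => Subtype.ext (by simp [mul_assoc]) }
  have hcc : ∀ y : ↥W, cjt (cjt y) = y := fun y => Subtype.ext (by
    show t * (t * (y : G) * t⁻¹) * t⁻¹ = y
    have ht2 := mul_self_of_two D.ht
    rw [inv_eq_of_mul_eq_one_right ht2, ← mul_assoc, ← mul_assoc, ht2, one_mul, mul_assoc, ht2, mul_one])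
  let Φ : ↥W →* A := Ψ * Ψ.comp cjt
  have hΦ : ∀ (k y : ↥W), Φ (k * y * k⁻¹) = Φ y := fun k y => by
    show Ψ (k * y * k⁻¹) * Ψ (cjt (k * y * k⁻¹)) = Ψ y * Ψ (cjt y)
    rw [map_mul cjt, map_mul cjt, map_inv cjt, hΨ, hΨ]
  have hΦt : ∀ y : ↥W, Φ (cjt y) = Φ y := fun y => by
    show Ψ (cjt y) * Ψ (cjt (cjt y)) = Ψ y * Ψ (cjt y)
    rw [hcc, mul_comm]
  have h1 := Other.hom_eq_one_of_fusion hnc R (Φ.comp (inclusion hRW)) fun g a b hgab => by
    obtain ⟨k, hk, h | h⟩ := hfus g a a.2 (by rw [hgab]; exact b.2)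
    · show Φ (inclusion hRW a) = Φ (inclusion hRW b)
      rw [← hΦ ⟨k, hk⟩ (inclusion hRW a)]
      exact congrArg Φ (Subtype.ext (h.symm.trans hgab))
    · show Φ (inclusion hRW a) = Φ (inclusion hRW b)
      rw [← hΦt, ← hΦ ⟨k, hk⟩ (cjt (inclusion hRW a))]
      exact congrArg Φ (Subtype.ext (h.symm.trans hgab))
  obtain ⟨Q, hQ⟩ := (IsPGroup.of_card (n := 1) (G := zpowers xW) (p := 3) (by
    rw [Nat.card_zpowers, pow_one, ← orderOf_coe, show (xW : G) = x from rfl, D.x_ord])).exists_le_sylow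
  obtain ⟨k, hk⟩ := MulAction.exists_smul_eq ↥W Q (R.subtype hRW)
  have hxR : ((k * xW * k⁻¹ : ↥W) : G) ∈ (R : Subgroup G) := by
    have h : k * xW * k⁻¹ ∈ ((k • Q : Sylow 3 ↥W) : Subgroup ↥W) := by
      rw [Sylow.coe_subgroup_smul]
      exact ⟨xW, hQ (mem_zpowers xW), rfl⟩
    rw [hk, Sylow.coe_subtype, mem_subgroupOf] at h
    exact h
  have h2 : Φ (k * xW * k⁻¹) = 1 := DFunLike.congr_fun h1 ⟨_, hxR⟩
  have hxt : cjt xW = xW := Subtype.ext (by
    show t * x * t⁻¹ = x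
    rw [← (hBt _ (D.O_le D.x_mem)).eq, mul_inv_cancel_right])
  rw [hΦ] at h2
  change Ψ xW * Ψ (cjt xW) = 1 at h2
  rw [hxt] at h2
  refine hψ (orderOf_eq_one_iff.1 (Nat.eq_one_of_dvd_coprimes (by norm_num : Nat.Coprime 3 2)
    ((orderOf_map_dvd ψ (f xW)).trans hox.dvd) (orderOf_dvd_of_pow_eq_one ?_)))
  rw [pow_two]
  exact h2

/-- `ThreeFact` holds. -/
theorem three_fact : ThreeFact.{u, v} := by
  intro G _ _ hs hab t K _ _ E₀ x q₀ h5 hd hx hchar hq hbd
  haveI := hs
  obtain ⟨hnc, m, l, j, e, U, O, B, τ, D, hb⟩ := exists_data hab h5 hd hx hchar hq hbd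
  exact false_of_data hnc hab D hb

end Cfsg.Agent.Walter.Field.ThreeCase

/-- `ThreeFact` holds. -/
theorem Cfsg.Agent.Walter.Field.three_fact.{u, v} : Cfsg.Agent.Walter.Field.ThreeFact.{u, v} :=
  Cfsg.Agent.Walter.Field.ThreeCase.three_fact
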