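import Cfsg.Agent.Lib.Walter.Field.Torus
import Cfsg.Agent.Lib.Walter.Master
import Cfsg.Agent.Lib.Walter.Field.OtherNorm
import Cfsg.Agent.Lib.Walter.Field.Bound
import Cfsg.Agent.Lib.Walter.Field.ThreeCase

/-!
# The field part is trivial

The induction over `BoundFact`, `ThreeFact`, `OtherFact` and the existence of field elements; `TorusFact`
is `torus_fact`, the first two are `bound_fact` and `three_fact`.
-/

set_option autoImplicit false
set_option linter.unusedSectionVars false

namespace Cfsg.Agent.Walter.Field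

open Subgroup

universe u v

/-- A prime of the field part has a field element and is the degree of an extension. -/
def EltFact : Prop :=
  ∀ (G : Type u) [Group G] [Finite G], IsSimpleGroup G → SEAbelian.AbTwo G →
    ∀ (t : G) (K : Type v) [Field K] [Fintype K] (E₀ : Subgroup G), 5 ≤ Fintype.card K →
      TwoPSL t K E₀ → ∀ r : ℕ, r.Prime → r ∣ outIndex t E₀ →
        (∃ x, FieldElt t E₀ x r) ∧ ∃ q₀, Fintype.card K = q₀ ^ r

/-- `EltFact` holds. -/
theorem elt_fact : EltFact.{u, v} := by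
  intro G _ _ _ hab t K _ _ E₀ h5 hd r hr hdvd
  obtain ⟨x, hx⟩ := exists_fieldElt hab h5 hd hr hdvd
  exact ⟨⟨x, hx⟩, fieldElt_pow hab h5 hd hx⟩

/-- The induction. -/
theorem fieldBelow_of_facts (hE : EltFact.{u, v}) (hB : BoundFact.{u, v}) (h3 : ThreeFact.{u, v})
    (hO : OtherFact.{u, v}) (n : ℕ) : FieldBelow.{u, v} n := by
  induction n with
  | zero => exact fun T _ _ _ _ hlt => absurd hlt (Nat.not_lt_zero _)
  | succ n ih =>
    intro T _ _ hs hab hlt t K _ _ E₀ h5 hP
    have hb : FieldBelow.{u, v} (Nat.card T) := fun U _ _ h1 h2 h4 => ih U h1 h2 (by omega)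
    refine le_antisymm (relIndex_eq_one.1 ?_) (sup_le ?_ hP.le)
    · by_contra hne
      have hne' : outIndex t E₀ ≠ 1 := hne
      by_cases h33 : ringChar K = 3 ∧ 3 ∣ outIndex t E₀
      · obtain ⟨⟨x, hx⟩, q₀, hq⟩ := hE T hs hab t K E₀ h5 hP 3 Nat.prime_three h33.2
        exact h3 T hs hab t K E₀ x q₀ h5 hP hx h33.1 hq (hB T hs hab hb t K E₀ x q₀ h5 hP hx h33.1 hq)
      · obtain ⟨r, hr, hrd⟩ := Nat.exists_prime_and_dvd hne'
        obtain ⟨⟨x, hx⟩, -⟩ := hE T hs hab t K E₀ h5 hP r hr hrd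
        exact hO T hs hab hb torus_fact t K E₀ x r h5 hP hx h33
    · exact zpowers_le.2 (mem_centralizer_singleton_iff.2 rfl)

/-- `FieldFact` of the master induction. -/
theorem fieldFact_of (hO : OtherFact.{u, 0}) : Walter.FieldFact.{u} :=
  fun G _ _ hs _ hab _ t K _ _ E₀ h5 hP =>
    fieldBelow_of_facts elt_fact bound_fact three_fact hO (Nat.card G + 1) G hs hab (Nat.lt_succ_self _) t K E₀ h5 hP

end Cfsg.Agent.Walter.Field
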