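import Cfsg.Agent.Lib.AutPSL.Out
import Cfsg.Agent.Lib.AutPSL.Frame
import Cfsg.Agent.Lib.JankoReeType.KleinFour
import Cfsg.Agent.Lib.TimesPSLTwo.PSLFacts

/-!
# The automorphisms of `PSL₂(q)` fixing the quaternion four group are field automorphisms

`q` is odd, congruent to 3 or 5 modulo 8.  The fixed points of a field automorphism form `PSL₂` of
the fixed field, and they determine the subgroup the automorphism generates.
-/

set_option autoImplicit false
set_option linter.unusedSectionVars false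
set_option linter.style.haveILetI false

namespace Cfsg.Agent.Walter.Field.Other

open Matrix Cfsg.Agent.AutPSL.Basic Cfsg.Agent.AutPSL.Out
open Cfsg.Agent.JankoReeType.KleinFour

universe v

variable {F : Type v} [Field F] [Fintype F]

local notation "SL" => Matrix.SpecialLinearGroup (Fin 2) F
local notation "PG" => Matrix.ProjectiveSpecialLinearGroup (Fin 2) F
local notation "M" => Matrix (Fin 2) (Fin 2) F

theorem two_ne_zero' (hodd : Odd (Fintype.card F)) : (2 : F) ≠ 0 :=
  Cfsg.Agent.Classical.SylowSL2.two_ne_zero_of_odd hodd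

/-- Two involutions in a four group fixed by all field automorphisms. -/
structure Frame (I J : PG) : Prop where
  sqI : I * I = 1
  sqJ : J * J = 1
  comm : Commute I J
  neI : I ≠ 1
  neJ : J ≠ 1
  ne : I ≠ J
  fixI : ∀ σ : F ≃+* F, fAut σ I = I
  fixJ : ∀ σ : F ≃+* F, fAut σ J = J
  decomp : ∀ β : MulAut PG, β I = I → β J = J →
    ∃ v ∈ ({1, I, J, I * J} : Set PG), ∃ σ : F ≃+* F, β = MulAut.conj v * fAut σ

theorem conj_eq_one (h3 : 3 < Fintype.card F) {v : PG} (h : MulAut.conj v = 1) : v = 1 := by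
  refine TimesPSLTwo.psl_center h3 v fun y => ?_
  have h1 := DFunLike.congr_fun h y
  rw [MulAut.conj_apply, MulAut.one_apply, mul_inv_eq_iff_eq_mul] at h1
  exact h1

theorem conj_field_inj (h3 : 3 < Fintype.card F) {v : PG} {σ : F ≃+* F}
    (h : MulAut.conj v * fAut σ = 1) : v = 1 ∧ σ = 1 := by
  obtain ⟨s, rfl⟩ := QuotientGroup.mk_surjective v
  rw [conjAut_eq] at h
  have hσ := (mul_field_eq_one le_rfl h).1
  refine ⟨conj_eq_one h3 ?_, hσ⟩
  rw [hσ, map_one, mul_one] at h
  rw [conjAut_eq, h]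

theorem fieldSL_eq_of_entries {σ : F ≃+* F} {s : SL}
    (h : ∀ i j, σ ((s : M) i j) = (s : M) i j) :
    fAut σ (QuotientGroup.mk s : PG) = QuotientGroup.mk s := by
  show (QuotientGroup.mk (fieldSL σ s) : PG) = _
  congr 1
  exact Subtype.ext (Matrix.ext fun i j => h i j)

theorem exists_frame (hodd : Odd (Fintype.card F)) : ∃ I J : PG, Frame I J := by
  classical
  have h2 := two_ne_zero' hodd
  obtain ⟨a, b, hab⟩ : ∃ a b : ℕ, (a : F) ^ 2 + (b : F) ^ 2 = -1 := by
    haveI : NeZero (ringChar F) := ⟨CharP.ringChar_ne_zero_of_finite F⟩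
    obtain ⟨a, b, hab'⟩ := CharP.sq_add_sq F (ringChar F) (-1)
    exact ⟨a, b, by simpa using hab'⟩
  let I : SL := ⟨qI, qI_det⟩
  let J : SL := ⟨qJ (a : F) b, qJ_det hab⟩
  let mkP : SL →* PG := QuotientGroup.mk' _
  have hnegone : ∀ U : SL, (U : M) = -1 → mkP U = 1 := fun U hU =>
    (mk_eq_one_iff U).2 ⟨-1, by rw [hU, neg_one_smul]⟩
  have hne : ∀ U : SL, (U : M) * (U : M) = -1 → mkP U ≠ 1 := fun U hU h1 => by
    obtain ⟨c, hc⟩ := (mk_eq_one_iff U).1 h1
    have hd : (U : M).det = 1 := U.prop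
    rw [hc, det_smul, det_one, Fintype.card_fin, mul_one, sq] at hd
    rw [hc, smul_mul_assoc, one_mul, smul_smul, hd, one_smul] at hU
    have := congrFun (congrFun hU 0) 0
    simp only [Matrix.one_apply_eq, Matrix.neg_apply] at this
    exact h2 (by linear_combination this)
  have hsq : ∀ U : SL, (U : M) * (U : M) = -1 → mkP U * mkP U = 1 := fun U hU => by
    rw [← map_mul]; exact hnegone _ (by simpa using hU)
  have hKK : ((I * J : SL) : M) * ((I * J : SL) : M) = -1 := by
    show qI * qJ (a : F) b * (qI * qJ (a : F) b) = -1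
    rw [mul_assoc, ← mul_assoc (qJ (a : F) b), qJ_qI, neg_mul, mul_neg, ← mul_assoc, ← mul_assoc, qI_sq,
      neg_mul, neg_mul, one_mul, qJ_sq hab, neg_neg]
  have hI2 := hsq I qI_sq
  have hJ2 := hsq J (qJ_sq hab)
  have hcomm : Commute (mkP I) (mkP J) := by
    show mkP I * mkP J = mkP J * mkP I
    rw [← map_mul, ← map_mul]
    refine (mk_eq_mk_iff _ _).2 ⟨-1, ?_⟩
    rw [neg_one_smul]
    exact qJ_qI (a : F) b
  have hfI : ∀ σ : F ≃+* F, fAut σ (mkP I) = mkP I := fun σ => fieldSL_eq_of_entries fun i j => by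
    show σ (qI i j) = qI i j
    fin_cases i <;> fin_cases j <;> simp [qI]
  have hfJ : ∀ σ : F ≃+* F, fAut σ (mkP J) = mkP J := fun σ => fieldSL_eq_of_entries fun i j => by
    show σ (qJ (a : F) b i j) = qJ (a : F) b i j
    fin_cases i <;> fin_cases j <;> simp [qJ]
  refine ⟨mkP I, mkP J, hI2, hJ2, hcomm, hne I qI_sq, hne J (qJ_sq hab), fun e => ?_, hfI, hfJ,
    fun β hβI hβJ => ?_⟩
  · apply hne (I * J) hKK
    rw [map_mul, ← e, hI2]
  obtain ⟨g, σ, rfl⟩ := exists_decomp_two β
  rw [MulAut.mul_apply, hfI] at hβI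
  rw [MulAut.mul_apply, hfJ] at hβJ
  obtain ⟨w, hw, hw'⟩ := gAut_fixing hab h2 I J rfl rfl hβI hβJ
  refine ⟨w, ?_, σ, by rw [hw']⟩
  rwa [show mkP I * mkP J = QuotientGroup.mk (I * J) from (map_mul mkP I J).symm]

theorem orderOf_odd (hodd : Odd (Fintype.card F))
    (h8 : Fintype.card F % 8 = 3 ∨ Fintype.card F % 8 = 5) (σ : F ≃+* F) : Odd (orderOf σ) := by
  obtain ⟨p, hchar⟩ := CharP.exists F
  obtain ⟨f, hp, hF⟩ := FiniteField.card F p
  haveI := Fact.mk hp
  obtain ⟨e⟩ := exists_ringAut_equiv hF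
  haveI : NeZero (f : ℕ) := ⟨f.ne_zero⟩
  have hf : Odd (f : ℕ) := by
    by_contra hcon
    obtain ⟨m, hm⟩ := Nat.not_odd_iff_even.1 hcon
    have hp2 : Odd (p ^ m) := by
      rw [hF] at hodd
      exact ((Nat.odd_pow_iff f.ne_zero).1 hodd).pow
    obtain ⟨r, hr⟩ := hp2
    have : Fintype.card F = 8 * (r * (r + 1) / 2) + 1 := by
      obtain ⟨k, hk⟩ := Nat.even_mul_succ_self r
      rw [hF, hm, pow_add, hr, hk, show (k + k) / 2 = k by omega]
      nlinarith
    omega
  refine hf.of_dvd_nat ?_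
  have h := orderOf_dvd_natCard (e σ)
  rwa [MulEquiv.orderOf_eq, Nat.card_congr Multiplicative.toAdd, Nat.card_zmod] at h

theorem ringAut_cyclic : IsCyclic (F ≃+* F) := by
  obtain ⟨p, hchar⟩ := CharP.exists F
  obtain ⟨f, hp, hF⟩ := FiniteField.card F p
  haveI := Fact.mk hp
  obtain ⟨e⟩ := exists_ringAut_equiv hF
  exact isCyclic_of_surjective e.symm.toMonoidHom e.symm.surjective

section Fixed

variable (σ : F ≃+* F)

/-- The fixed field. -/
abbrev fixF : Subfield F := FixedPoints.subfield (Subgroup.zpowers (σ : RingAut F)) F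

theorem mem_fixF {x : F} : x ∈ fixF σ ↔ σ x = x := by
  refine ⟨fun h => h ⟨σ, Subgroup.mem_zpowers σ⟩, fun h => ?_⟩
  rintro ⟨g, hg⟩
  obtain ⟨k, rfl⟩ := Subgroup.mem_zpowers_iff.1 hg
  exact MulAction.mem_fixedBy_zpow (show x ∈ MulAction.fixedBy F (σ : RingAut F) from h) k

theorem card_fixF [Fintype ↥(fixF σ)] :
    Fintype.card F = Fintype.card ↥(fixF σ) ^ orderOf σ := by
  classical
  haveI : Finite (F ≃+* F) := Finite.of_injective (fun e => (e : F → F)) DFunLike.coe_injective
  letI : Fintype ↥(Subgroup.zpowers (σ : RingAut F)) := Fintype.ofFinite _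
  have h1 := Module.natCard_eq_pow_finrank (K := ↥(fixF σ)) (V := F)
  rw [FixedPoints.finrank_eq_card, ← Nat.card_eq_fintype_card (α := ↥(Subgroup.zpowers (σ : RingAut F))),
    Nat.card_zpowers, Nat.card_eq_fintype_card, Nat.card_eq_fintype_card] at h1
  exact h1

/-- `SL₂` of the fixed field inside `PSL₂(F)`. -/
def fixHom : Matrix.SpecialLinearGroup (Fin 2) ↥(fixF σ) →* PG :=
  (QuotientGroup.mk' _).comp (Matrix.SpecialLinearGroup.map (fixF σ).subtype)

theorem fixHom_fixed (s : Matrix.SpecialLinearGroup (Fin 2) ↥(fixF σ)) :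
    fAut σ (fixHom σ s) = fixHom σ s :=
  fieldSL_eq_of_entries fun i j => (mem_fixF σ).1 ((s : Matrix (Fin 2) (Fin 2) ↥(fixF σ)) i j).2

theorem fixed_mem_range (hodd : Odd (Fintype.card F)) (ho : Odd (orderOf σ)) {x : PG}
    (hx : fAut σ x = x) : x ∈ (fixHom σ).range := by
  obtain ⟨s, rfl⟩ := QuotientGroup.mk_surjective x
  obtain ⟨c, hc⟩ := (mk_eq_mk_iff (fieldSL σ s) s).1 hx
  rw [fieldSL_coe] at hc
  have hd : c * c = 1 := by
    have h := congrArg Matrix.det hc
    rw [s.prop, det_smul, Fintype.card_fin,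
      show (s : M).map σ = σ.toRingHom.mapMatrix (s : M) from rfl, ← RingHom.map_det, s.prop,
      map_one, mul_one, sq] at h
    exact h.symm
  have hc1 : c = 1 := by
    rcases mul_self_eq_one_iff.1 hd with h | h
    · exact h
    exfalso
    subst h
    obtain ⟨i, j, hij⟩ : ∃ i j, (s : M) i j ≠ 0 := by
      by_contra hcon
      push Not at hcon
      have h1 : (s : M).det = 1 := s.prop
      rw [show (s : M) = 0 from Matrix.ext hcon, det_zero] at h1
      exact zero_ne_one h1
    have h1 : σ ((s : M) i j) = -((s : M) i j) := by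
      have e : (s : M) i j = (-1 : F) * σ ((s : M) i j) := congrFun (congrFun hc i) j
      linear_combination e
    have hk : ∀ k : ℕ, (σ ^ k) ((s : M) i j) = (-1) ^ k * (s : M) i j := fun k => by
      induction k with
      | zero => simp
      | succ k ih =>
        rw [pow_succ' σ]
        show σ ((σ ^ k) ((s : M) i j)) = _
        rw [ih, map_mul, map_pow, map_neg, map_one, pow_succ, h1]
        ring
    have h0 := hk (orderOf σ)
    rw [pow_orderOf_eq_one, ho.neg_one_pow, show (1 : F ≃+* F) ((s : M) i j) = (s : M) i j from rfl] at h0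
    exact two_ne_zero' hodd ((mul_eq_zero.1 (show (2 : F) * (s : M) i j = 0 by linear_combination h0)).resolve_right hij)
  subst hc1
  rw [one_smul] at hc
  have hmem : ∀ i j, (s : M) i j ∈ fixF σ := fun i j =>
    (mem_fixF σ).2 (congrFun (congrFun hc i) j).symm
  refine ⟨⟨Matrix.of fun i j => ⟨(s : M) i j, hmem i j⟩, (fixF σ).subtype.injective ?_⟩, ?_⟩
  · rw [RingHom.map_det, map_one]
    exact s.prop
  · show (QuotientGroup.mk _ : PG) = QuotientGroup.mk s
    exact congrArg _ (Subtype.ext (Matrix.ext fun i j => rfl))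

theorem fixHom_ker : (fixHom σ).ker =
    Subgroup.center (Matrix.SpecialLinearGroup (Fin 2) ↥(fixF σ)) := by
  ext s
  rw [MonoidHom.mem_ker, show fixHom σ s = QuotientGroup.mk (Matrix.SpecialLinearGroup.map
    (fixF σ).subtype s) from rfl, ← QuotientGroup.eq_one_iff (N := Subgroup.center _) s,
    mk_eq_one_iff, mk_eq_one_iff]
  constructor
  · rintro ⟨c, hc⟩
    refine ⟨(s : Matrix (Fin 2) (Fin 2) ↥(fixF σ)) 0 0, Matrix.ext fun i j => (fixF σ).subtype.injective ?_⟩
    have h : ∀ k l, ((s : Matrix (Fin 2) (Fin 2) ↥(fixF σ)) k l : F) = (c • (1 : M)) k l :=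
      fun k l => congrFun (congrFun hc k) l
    fin_cases i <;> fin_cases j <;> simp [h]
  · rintro ⟨c, hc⟩
    refine ⟨(c : F), Matrix.ext fun i j => ?_⟩
    show ((s : Matrix (Fin 2) (Fin 2) ↥(fixF σ)) i j : F) = _
    rw [hc]
    fin_cases i <;> fin_cases j <;> simp

/-- The fixed points are `PSL₂` of the fixed field. -/
theorem fixed_equiv : Nonempty (↥(fixHom σ).range ≃*
    Matrix.ProjectiveSpecialLinearGroup (Fin 2) ↥(fixF σ)) :=
  ⟨(QuotientGroup.quotientKerEquivRange (fixHom σ)).symm.trans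
    (QuotientGroup.quotientMulEquivOfEq (fixHom_ker σ))⟩

/-- The fixed points determine the group generated by the automorphism. -/
theorem mem_zpowers_of_fix {τ : F ≃+* F}
    (h : ∀ x ∈ (fixHom σ).range, fAut τ x = x) : τ ∈ Subgroup.zpowers σ := by
  classical
  haveI : Finite (F ≃+* F) := Finite.of_injective (fun e => (e : F → F)) DFunLike.coe_injective
  have hfix : ∀ a : F, σ a = a → τ a = a := by
    intro a ha
    let u : Matrix.SpecialLinearGroup (Fin 2) ↥(fixF σ) :=
      Matrix.SpecialLinearGroup.transvection (show (0 : Fin 2) ≠ 1 by decide) ⟨a, (mem_fixF σ).2 ha⟩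
    obtain ⟨c, hc⟩ := (mk_eq_mk_iff (fieldSL τ (Matrix.SpecialLinearGroup.map (fixF σ).subtype u))
      (Matrix.SpecialLinearGroup.map (fixF σ).subtype u)).1 (h _ ⟨u, rfl⟩)
    rw [fieldSL_coe] at hc
    have e00 := congrFun (congrFun hc 0) 0
    have e01 := congrFun (congrFun hc 0) 1
    simp [u, Matrix.SpecialLinearGroup.transvection_coe, Matrix.single_apply] at e00 e01
    rw [← e00, one_mul] at e01
    exact e01.symm
  let G := Subgroup.zpowers (σ : RingAut F)
  let e : F →ₐ[↥(FixedPoints.subfield G F)] F :=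
    { τ.toRingHom with commutes' := fun x => hfix x ((mem_fixF σ).1 x.2) }
  obtain ⟨g, hg⟩ := (FixedPoints.toAlgHom_bijective G F).2 e
  have : (g : RingAut F) = τ := RingEquiv.ext fun x => DFunLike.congr_fun hg x
  exact this ▸ g.2

end Fixed

end Cfsg.Agent.Walter.Field.Other
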