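import Cfsg.Agent.Lib.Walter.Field.Defs
import Cfsg.Agent.Lib.Walter.Field.OtherTools
import Cfsg.Agent.Lib.Walter.Field.OtherModel
import Cfsg.Agent.Lib.JT.LocalBasic

/-!
# The centraliser of the involution: `C(t) = (⟨t⟩ × E₀) O` with `O` acting by field automorphisms

`O` is the odd part of the centraliser of a Sylow 2-subgroup through `t`; it is isomorphic to a
group of field automorphisms.
-/

set_option autoImplicit false
set_option linter.unusedSectionVars false
set_option linter.style.haveILetI false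

namespace Cfsg.Agent.Walter.Field.Other

open Subgroup
open Cfsg.Agent.AutPSL.Basic

universe u v

variable {G : Type u} [Group G] {K : Type v} [Field K] [Fintype K]

local notation "PG" => Matrix.ProjectiveSpecialLinearGroup (Fin 2) K

/-- Everything used about `C(t)`. -/
structure Shape (t : G) (K : Type v) [Field K] [Fintype K] (E₀ : Subgroup G) (S : Sylow 2 G) where
  φ : ↥E₀ ≃* Matrix.ProjectiveSpecialLinearGroup (Fin 2) K
  I : Matrix.ProjectiveSpecialLinearGroup (Fin 2) K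
  J : Matrix.ProjectiveSpecialLinearGroup (Fin 2) K
  y : G
  O : Subgroup G
  σ : ↥O →* RingAut K
  frame : Frame I J
  h5 : 5 ≤ Fintype.card K
  h8 : Fintype.card K % 8 = 3 ∨ Fintype.card K % 8 = 5
  memt : t ∈ (S : Subgroup G)
  memI : (φ.symm I : G) ∈ (S : Subgroup G)
  memJ : (φ.symm J : G) ∈ (S : Subgroup G)
  sylow : ∀ s ∈ (S : Subgroup G), ∃ a ∈ zpowers t, ∃ v ∈ ({1, I, J, I * J} : Set _),
    s = a * (φ.symm v : G)
  four : ∀ e : ↥E₀, Commute (e : G) (φ.symm I : G) → Commute (e : G) (φ.symm J : G) →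
    φ e ∈ ({1, I, J, I * J} : Set _)
  y_mem : y ∈ E₀
  y_order : orderOf y = 3
  y_I : y * (φ.symm I : G) * y⁻¹ = (φ.symm J : G)
  y_J : y * (φ.symm J : G) * y⁻¹ = (φ.symm I : G) * (φ.symm J : G)
  σ_inj : Function.Injective σ
  act : ∀ (o : ↥O) (e e' : ↥E₀), (o : G) * (e : G) * (o : G)⁻¹ = (e' : G) → φ e' = fAut (σ o) (φ e)
  mem_O : ∀ c, c ∈ O ↔ c ∈ centralizer ((S : Subgroup G) : Set G) ∧ Odd (orderOf c)
  cent_split : ∀ c ∈ centralizer ((S : Subgroup G) : Set G), ∃ s ∈ (S : Subgroup G), ∃ o ∈ O, c = s * o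
  cent_comm : ∀ c ∈ centralizer ((S : Subgroup G) : Set G),
    ∀ d ∈ centralizer ((S : Subgroup G) : Set G), Commute c d
  surj : ∀ c ∈ centralizer ({t} : Set G), ∃ d ∈ zpowers t ⊔ E₀, ∃ o ∈ O, c = d * o
  uniq : ∀ d ∈ zpowers t ⊔ E₀, d ∈ O → d = 1

theorem zpow_cases {t : G} (ht : orderOf t = 2) {a : G} (ha : a ∈ zpowers t) : a = 1 ∨ a = t := by
  obtain ⟨m, rfl⟩ := mem_zpowers_iff.1 ha
  have h2 : t ^ (2 : ℤ) = 1 := by
    show t ^ ((2 : ℕ) : ℤ) = 1
    rw [zpow_natCast, ← ht, pow_orderOf_eq_one]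
  obtain ⟨k, rfl | rfl⟩ := Int.even_or_odd' m
  · left; rw [zpow_mul, h2, one_zpow]
  · right; rw [zpow_add, zpow_mul, h2, one_zpow, one_mul, zpow_one]

theorem mem_sup_cases {t : G} {E₀ : Subgroup G} (hle : E₀ ≤ centralizer ({t} : Set G)) {d : G}
    (hd : d ∈ zpowers t ⊔ E₀) : ∃ a ∈ zpowers t, ∃ e ∈ E₀, d = a * e := by
  have hn : zpowers t ≤ normalizer (E₀ : Set G) := fun a ha => centralizer_le_normalizer _
    (mem_centralizer_iff.2 fun e he => by
      obtain ⟨m, rfl⟩ := mem_zpowers_iff.1 ha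
      exact ((show Commute e t from mem_centralizer_singleton_iff.1 (hle he)).zpow_right m).eq)
  rw [sup_comm] at hd
  obtain ⟨e, he, a, ha, rfl⟩ := (Coprime.mem_sup_of_le_normalizer hn).1 hd
  obtain ⟨m, rfl⟩ := mem_zpowers_iff.1 ha
  exact ⟨_, zpow_mem_zpowers t m, e, he,
    ((show Commute e t from mem_centralizer_singleton_iff.1 (hle he)).zpow_right m).eq⟩

variable [Finite G]

theorem card_mod_eight (h : SEAbelian.AbTwo G) (h5 : 5 ≤ Fintype.card K) (hodd : Odd (Fintype.card K))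
    {E₀ : Subgroup G} (φ : ↥E₀ ≃* PG) :
    ∃ r, JT.Loc.KFacts PG r ∧ (Fintype.card K % 8 = 3 ∨ Fintype.card K % 8 = 5) := by
  obtain ⟨r, hK, h8⟩ := JT.Loc.exists_kfacts (F := K) hodd (by omega) fun P a ha b hb => by
    have h1 := (h _ (P.2.map (E₀.subtype.comp φ.symm.toMonoidHom)) _ (mem_map_of_mem _ ha) _
      (mem_map_of_mem _ hb)).eq
    rw [← map_mul, ← map_mul] at h1
    exact φ.symm.injective (Subtype.ext h1)
  exact ⟨r, hK, h8.elim (fun e => Or.inr e.1) fun e => Or.inl e.1⟩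

/-- The identification moved onto a given Sylow 2-subgroup through `t`. -/
theorem exists_equiv_frame {t : G} {E₀ : Subgroup G} (hd : TwoPSL t K E₀) (h : SEAbelian.AbTwo G)
    (S : Sylow 2 G) (htS : t ∈ (S : Subgroup G)) :
    ∃ (φ : ↥E₀ ≃* PG) (I J : PG), Frame I J ∧ (φ.symm I : G) ∈ (S : Subgroup G) ∧
      (φ.symm J : G) ∈ (S : Subgroup G) := by
  classical
  haveI : Fact (Nat.Prime 2) := ⟨Nat.prime_two⟩
  obtain ⟨φ⟩ := hd.iso
  obtain ⟨I, J, hf⟩ := exists_frame (F := K) hd.odd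
  set C := centralizer ({t} : Set G) with hC
  have hSC : (S : Subgroup G) ≤ C := fun s hs =>
    mem_centralizer_singleton_iff.2 (h _ S.2 s hs t htS).eq
  let i : ↥C := ⟨φ.symm I, hd.le (φ.symm I).2⟩
  let j : ↥C := ⟨φ.symm J, hd.le (φ.symm J).2⟩
  have hij : Commute i j := Subtype.ext ((congrArg Subtype.val ((hf.comm.map φ.symm).eq) :))
  have hi : i ^ 2 = 1 := Subtype.ext (by
    have e := congrArg (fun z => ((φ.symm z : ↥E₀) : G)) hf.sqI
    simp only [map_mul, map_one, Subgroup.coe_mul, Subgroup.coe_one] at e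
    rw [SubgroupClass.coe_pow, pow_two]; exact e)
  have hj : j ^ 2 = 1 := Subtype.ext (by
    have e := congrArg (fun z => ((φ.symm z : ↥E₀) : G)) hf.sqJ
    simp only [map_mul, map_one, Subgroup.coe_mul, Subgroup.coe_one] at e
    rw [SubgroupClass.coe_pow, pow_two]; exact e)
  let D : Subgroup ↥C :=
    { carrier := {1, i, j, i * j}
      one_mem' := Or.inl rfl
      mul_mem' := by
        have h1 : i * i = 1 := by rw [← pow_two, hi]
        have h2 : j * j = 1 := by rw [← pow_two, hj]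
        have h3 : i * (i * j) = j := by rw [← mul_assoc, h1, one_mul]
        have h4 : j * (i * j) = i := by rw [← mul_assoc, ← hij.eq, mul_assoc, h2, mul_one]
        have h6 : i * j * i = j := by rw [hij.eq, mul_assoc, h1, mul_one]
        have h7 : i * j * j = i := by rw [mul_assoc, h2, mul_one]
        have h8 : i * j * (i * j) = 1 := by rw [mul_assoc, h4, h1]
        rintro x y (e | e | e | e) (e' | e' | e' | e') <;> rw [e, e'] <;>
          simp [h1, h2, h3, h4, h6, h7, h8, ← hij.eq]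
      inv_mem' := by
        rintro x (e | e | e | e) <;> rw [e]
        · simp
        · exact Or.inr (Or.inl (inv_eq_of_mul_eq_one_right (by rw [← pow_two, hi])))
        · exact Or.inr (Or.inr (Or.inl (inv_eq_of_mul_eq_one_right (by rw [← pow_two, hj]))))
        · refine Or.inr (Or.inr (Or.inr ?_))
          rw [mul_inv_rev, inv_eq_of_mul_eq_one_right (show i * i = 1 by rw [← pow_two, hi]),
            inv_eq_of_mul_eq_one_right (show j * j = 1 by rw [← pow_two, hj])]
          exact hij.eq.symm }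
  have hD : IsPGroup 2 ↥D := fun x => ⟨1, Subtype.ext (by
    show (x : ↥C) ^ 2 ^ 1 = 1
    rcases x.2 with e | e | e | e <;> rw [e, pow_one]
    exacts [one_pow 2, hi, hj, by rw [hij.mul_pow, hi, hj, one_mul]])⟩
  obtain ⟨P, hP⟩ := hD.exists_le_sylow
  obtain ⟨c, hc⟩ := MulAction.exists_smul_eq ↥C P (S.subtype hSC)
  have key : ∀ x : ↥C, x ∈ D → (c : G) * x * (c : G)⁻¹ ∈ (S : Subgroup G) := by
    intro x hx
    have h1 : c * x * c⁻¹ ∈ ((c • P : Sylow 2 ↥C) : Subgroup ↥C) := by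
      rw [Sylow.coe_subgroup_smul]
      exact ⟨x, hP hx, rfl⟩
    rwa [hc, Sylow.coe_subtype, mem_subgroupOf] at h1
  let μ : MulAut ↥E₀ := Subgroup.normalizerMonoidHom E₀ ⟨c, hd.normal c.2⟩
  refine ⟨μ.symm.trans φ, I, J, hf, ?_, ?_⟩
  · exact key i (Or.inr (Or.inl rfl))
  · exact key j (Or.inr (Or.inr (Or.inl rfl)))

theorem exists_shape {t : G} {E₀ : Subgroup G} (hd : TwoPSL t K E₀) (h : SEAbelian.AbTwo G)
    (h5 : 5 ≤ Fintype.card K) (S : Sylow 2 G) (htS : t ∈ (S : Subgroup G)) :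
    Nonempty (Shape t K E₀ S) := by
  classical
  haveI : Fact (Nat.Prime 2) := ⟨Nat.prime_two⟩
  obtain ⟨φ, I, J, hf, hiS, hjS⟩ := exists_equiv_frame hd h S htS
  obtain ⟨r, hK, h8⟩ := card_mod_eight h h5 hd.odd φ
  have h3 : 3 < Fintype.card K := by omega
  have hoI : orderOf I = 2 := orderOf_eq_prime (by rw [pow_two, hf.sqI]) hf.neI
  have hoJ : orderOf J = 2 := orderOf_eq_prime (by rw [pow_two, hf.sqJ]) hf.neJ
  set C := centralizer ({t} : Set G) with hC
  let ρ : ↥C →* MulAut PG := (MulAut.congr φ).toMonoidHom.comp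
    ((Subgroup.normalizerMonoidHom E₀).comp (Subgroup.inclusion hd.normal))
  have hρ : ∀ (c : ↥C) (e e' : ↥E₀), (c : G) * e * (c : G)⁻¹ = e' → ρ c (φ e) = φ e' := by
    intro c e e' he
    show φ (Subgroup.normalizerMonoidHom E₀ (Subgroup.inclusion hd.normal c) (φ.symm (φ e))) = φ e'
    rw [φ.symm_apply_apply]
    exact congrArg φ (Subtype.ext he)
  have hker : ∀ c : ↥C, ρ c = 1 → (c : G) ∈ zpowers t := by
    intro c hc
    rw [← hd.faithful]
    refine ⟨c.2, mem_centralizer_iff.2 fun e he => ?_⟩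
    have h1 := DFunLike.congr_fun hc (φ ⟨e, he⟩)
    rw [MulAut.one_apply, hρ c ⟨e, he⟩ ⟨(c : G) * e * (c : G)⁻¹,
      (mem_normalizer_iff.1 (hd.normal c.2) e).1 he⟩ rfl] at h1
    have h2 : (c : G) * e * (c : G)⁻¹ = e := congrArg Subtype.val (φ.injective h1)
    exact (mul_inv_eq_iff_eq_mul.1 h2).symm
  have hρE : ∀ (e : ↥E₀), ρ ⟨e, hd.le e.2⟩ = MulAut.conj (φ e) := by
    intro e
    refine MulEquiv.ext fun z => ?_
    conv_lhs => rw [← φ.apply_symm_apply z]
    rw [hρ _ (φ.symm z) (e * φ.symm z * e⁻¹) rfl, map_mul, map_mul, map_inv, φ.apply_symm_apply,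
      MulAut.conj_apply]
  have hSC : (S : Subgroup G) ≤ C := fun s hs =>
    mem_centralizer_singleton_iff.2 (h _ S.2 s hs t htS).eq
  set CS := centralizer ((S : Subgroup G) : Set G) with hCS
  have hCSC : CS ≤ C := fun c hc => mem_centralizer_singleton_iff.2 (mem_centralizer_iff.1 hc t htS).symm
  have hSCS : (S : Subgroup G) ≤ CS := fun s hs =>
    mem_centralizer_iff.2 fun b hb => (h _ S.2 b hb s hs).eq
  -- the four group
  have hfour : ∀ e : ↥E₀, Commute (e : G) (φ.symm I : G) → Commute (e : G) (φ.symm J : G) →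
      φ e ∈ ({1, I, J, I * J} : Set PG) := by
    intro e hi hj
    have e1 : Commute (φ e) I := by
      have h1 : Commute e (φ.symm I) := Subtype.ext hi.eq
      simpa using h1.map φ
    have e2 : Commute (φ e) J := by
      have h1 : Commute e (φ.symm J) := Subtype.ext hj.eq
      simpa using h1.map φ
    rcases hK.cent_four hoI hoJ hf.comm hf.ne e1 e2 with e | e | e | e <;> simp [e]
  have hvfix : ∀ v ∈ ({1, I, J, I * J} : Set PG), ∀ τ : K ≃+* K, fAut τ v = v := by
    rintro v (rfl | rfl | rfl | rfl) τ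
    exacts [map_one _, hf.fixI τ, hf.fixJ τ, by rw [map_mul, hf.fixI, hf.fixJ]]
  have hvcomm : ∀ v ∈ ({1, I, J, I * J} : Set PG), ∀ τ : K ≃+* K,
      Commute (MulAut.conj v) (fAut (n := 2) τ) := by
    intro v hv τ
    refine MulEquiv.ext fun z => ?_
    show v * fAut τ z * v⁻¹ = fAut τ (v * z * v⁻¹)
    rw [map_mul, map_mul, map_inv, hvfix v hv τ]
  have hvsq : ∀ v ∈ ({1, I, J, I * J} : Set PG), v * v = 1 := by
    rintro v (rfl | rfl | rfl | rfl)
    exacts [one_mul 1, hf.sqI, hf.sqJ, by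
      rw [hf.comm.symm.mul_mul_mul_comm, hf.sqI, hf.sqJ, one_mul]]
  have hfixS : ∀ c : ↥CS, ρ ⟨c, hCSC c.2⟩ I = I ∧ ρ ⟨c, hCSC c.2⟩ J = J := by
    intro c
    constructor
    · conv_lhs => rw [← φ.apply_symm_apply I]
      rw [hρ _ (φ.symm I) (φ.symm I) (by
        rw [← mem_centralizer_iff.1 c.2 _ hiS, mul_inv_cancel_right]), φ.apply_symm_apply]
    · conv_lhs => rw [← φ.apply_symm_apply J]
      rw [hρ _ (φ.symm J) (φ.symm J) (by
        rw [← mem_centralizer_iff.1 c.2 _ hjS, mul_inv_cancel_right]), φ.apply_symm_apply]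
  choose v hv s hs using fun c : ↥CS => hf.decomp _ (hfixS c).1 (hfixS c).2
  have hVmul : ∀ a ∈ ({1, I, J, I * J} : Set PG), ∀ b ∈ ({1, I, J, I * J} : Set PG),
      a * b ∈ ({1, I, J, I * J} : Set PG) := by
    have k1 : J * I = I * J := hf.comm.eq.symm
    have k2 : I * (I * J) = J := by rw [← mul_assoc, hf.sqI, one_mul]
    have k3 : I * J * J = I := by rw [mul_assoc, hf.sqJ, mul_one]
    have k4 : J * (I * J) = I := by rw [← mul_assoc, k1, k3]
    have k5 : I * J * I = J := by rw [mul_assoc, k1, k2]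
    have k6 : I * J * (I * J) = 1 := by rw [mul_assoc, k4, hf.sqI]
    rintro a (rfl | rfl | rfl | rfl) b (rfl | rfl | rfl | rfl) <;>
      simp [hf.sqI, hf.sqJ, k1, k2, k3, k4, k5, k6]
  have huniq : ∀ a ∈ ({1, I, J, I * J} : Set PG), ∀ b ∈ ({1, I, J, I * J} : Set PG),
      ∀ σ τ : K ≃+* K, MulAut.conj a * fAut (n := 2) σ = MulAut.conj b * fAut τ → a = b ∧ σ = τ := by
    intro a ha b hb σ τ e
    have h1 : MulAut.conj (b⁻¹ * a) * fAut (n := 2) (σ * τ⁻¹) = 1 := by
      rw [map_mul, map_mul, map_inv, map_inv, mul_assoc, ← mul_assoc (MulAut.conj a) _ _, e,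
        mul_assoc, mul_inv_cancel, mul_one, inv_mul_cancel]
    obtain ⟨h2, h2'⟩ := conj_field_inj h3 h1
    exact ⟨(inv_mul_eq_one.1 h2).symm, mul_inv_eq_one.1 h2'⟩
  have hmul : ∀ c d : ↥CS, v (c * d) = v c * v d ∧ s (c * d) = s c * s d := by
    intro c d
    refine huniq _ (hv _) _ (hVmul _ (hv c) _ (hv d)) _ _ ?_
    rw [← hs, show (⟨((c * d : ↥CS) : G), hCSC (c * d).2⟩ : ↥C) = ⟨c, hCSC c.2⟩ * ⟨d, hCSC d.2⟩ from rfl,
      map_mul ρ, hs, hs, map_mul, map_mul,
      (hvcomm _ (hv d) (s c)).symm.mul_mul_mul_comm]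
  let ψ : ↥CS →* RingAut K := MonoidHom.mk' s fun c d => (hmul c d).2
  -- the 2-subgroup
  let V' : Subgroup G := (S : Subgroup G)
  have hψker : ∀ c : ↥CS, ψ c = 1 → ∃ a ∈ zpowers t, (c : G) = a * (φ.symm (v c) : G) := by
    intro c hc
    have h1 : ρ (⟨c, hCSC c.2⟩ * ⟨(φ.symm (v c) : G), hd.le (φ.symm (v c)).2⟩) = 1 := by
      rw [map_mul, hρE, φ.apply_symm_apply, hs, show s c = 1 from hc, map_one, mul_one, ← map_mul,
        hvsq _ (hv c), map_one]
    refine ⟨_, hker _ h1, ?_⟩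
    show (c : G) = (c : G) * (φ.symm (v c) : G) * (φ.symm (v c) : G)
    rw [mul_assoc, ← Subgroup.coe_mul, ← map_mul, hvsq _ (hv c), map_one, Subgroup.coe_one, mul_one]
  have hVS : ∀ w ∈ ({1, I, J, I * J} : Set PG), (φ.symm w : G) ∈ (S : Subgroup G) := by
    rintro w (rfl | rfl | rfl | rfl)
    exacts [by rw [map_one]; exact one_mem _, hiS, hjS, by
      rw [map_mul, Subgroup.coe_mul]; exact mul_mem hiS hjS]
  have hkerS : ψ.ker ≤ (S : Subgroup G).subgroupOf CS := by
    intro c hc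
    obtain ⟨a, ha, e⟩ := hψker c (MonoidHom.mem_ker.1 hc)
    rw [mem_subgroupOf, e]
    exact mul_mem ((zpowers_le.2 htS) ha) (hVS _ (hv c))
  have hsylow : ∀ x ∈ (S : Subgroup G), ∃ a ∈ zpowers t, ∃ w ∈ ({1, I, J, I * J} : Set PG),
      x = a * (φ.symm w : G) := by
    intro x hx
    have h1 : ψ ⟨x, hSCS hx⟩ = 1 := by
      obtain ⟨k, hk⟩ := S.2 ⟨x, hx⟩
      have h2 : orderOf (ψ ⟨x, hSCS hx⟩) ∣ 2 ^ k := orderOf_dvd_of_pow_eq_one (by
        rw [← map_pow, show (⟨x, hSCS hx⟩ : ↥CS) ^ 2 ^ k = 1 from Subtype.ext (congrArg Subtype.val hk :), map_one])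
      exact orderOf_eq_one_iff.1 (Nat.eq_one_of_dvd_coprimes
        ((Nat.coprime_two_right.2 (orderOf_odd hd.odd h8 _)).pow_right k) dvd_rfl h2)
    obtain ⟨a, ha, e⟩ := hψker _ h1
    exact ⟨a, ha, _, hv _, e⟩
  -- the centraliser of the Sylow subgroup is abelian
  haveI := ringAut_cyclic (F := K)
  have hkerc : ψ.ker ≤ Subgroup.center ↥CS := fun c hc => Subgroup.mem_center_iff.2 fun d =>
    Subtype.ext (mem_centralizer_iff.1 d.2 _ (mem_subgroupOf.1 (hkerS hc))).symm
  have hcomm : ∀ c ∈ CS, ∀ d ∈ CS, Commute c d := fun c hc d hd' =>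
    congrArg Subtype.val (commutative_of_cyclic_center_quotient ψ hkerc ⟨c, hc⟩ ⟨d, hd'⟩)
  let O : Subgroup G :=
    { carrier := {c | c ∈ CS ∧ Odd (orderOf c)}
      one_mem' := ⟨one_mem _, by rw [orderOf_one]; exact odd_one⟩
      mul_mem' := fun {a b} ha hb => ⟨mul_mem ha.1 hb.1,
        (ha.2.mul hb.2).of_dvd_nat ((hcomm a ha.1 b hb.1).orderOf_mul_dvd_mul_orderOf)⟩
      inv_mem' := fun {a} ha => ⟨inv_mem ha.1, by rw [orderOf_inv]; exact ha.2⟩ }
  have hOCS : O ≤ CS := fun c hc => hc.1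
  let σ : ↥O →* RingAut K := ψ.comp (Subgroup.inclusion hOCS)
  have hσv : ∀ o : ↥O, v ⟨o, hOCS o.2⟩ = 1 := by
    intro o
    set c : ↥CS := ⟨o, hOCS o.2⟩
    have hoo : Odd (orderOf c) := by rw [← Subgroup.orderOf_coe]; exact o.2.2
    have h1 : ρ ⟨c, hCSC c.2⟩ ^ orderOf c = 1 := by
      rw [← map_pow, show (⟨(c : G), hCSC c.2⟩ : ↥C) ^ orderOf c = 1 from Subtype.ext (by
        rw [SubgroupClass.coe_pow]; exact (congrArg Subtype.val (pow_orderOf_eq_one c) :)), map_one]
    rw [hs, (hvcomm _ (hv c) (s c)).mul_pow, ← map_pow, ← map_pow] at h1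
    have h2 := (conj_field_inj h3 h1).1
    obtain ⟨i, hi⟩ := hoo
    rwa [hi, pow_succ, pow_mul, pow_two, hvsq _ (hv c), one_pow, one_mul] at h2
  have hact : ∀ (o : ↥O) (e e' : ↥E₀), (o : G) * (e : G) * (o : G)⁻¹ = (e' : G) →
      φ e' = fAut (σ o) (φ e) := by
    intro o e e' he
    rw [← hρ ⟨o, hCSC (hOCS o.2)⟩ e e' he]
    have h1 := hs ⟨o, hOCS o.2⟩
    rw [hσv o, map_one, one_mul] at h1
    exact DFunLike.congr_fun h1 (φ e)
  have hσinj : Function.Injective σ := (injective_iff_map_eq_one σ).2 fun o ho => by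
    obtain ⟨a, ha, e⟩ := hψker ⟨o, hOCS o.2⟩ ho
    rw [hσv o, map_one, Subgroup.coe_one, mul_one] at e
    rcases zpow_cases hd.ht ha with ha' | ha' <;> rw [ha'] at e
    · exact Subtype.ext e
    · have h1 := o.2.2
      rw [show (o : G) = t from e, hd.ht] at h1
      exact absurd h1 (by decide)
  have hsplit : ∀ c ∈ CS, ∃ x ∈ (S : Subgroup G), ∃ o ∈ O, c = x * o := by
    intro c hc
    obtain ⟨j, m, hm, hjm⟩ := SEAbelian.exists_parts c
    have hn : O ≤ normalizer ((S : Subgroup G) : Set G) := fun o ho => centralizer_le_normalizer _ ho.1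
    have h1 : c ∈ (S : Subgroup G) ⊔ O := by
      refine SEAbelian.mem_of_parts hm (mem_sup_right ⟨pow_mem hc _,
        SEAbelian.odd_orderOf_of_pow hm (by rw [← pow_mul, hjm])⟩) (mem_sup_left ?_)
      exact SEAbelian.mem_sylow_of_normalizer S (centralizer_le_normalizer _ (pow_mem hc _))
        (k := j) (by rw [← pow_mul, mul_comm, hjm])
    obtain ⟨x, hx, o, ho, e⟩ := (Coprime.mem_sup_of_le_normalizer hn).1 h1
    exact ⟨x, hx, o, ho, e.symm⟩
  -- the element of order three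
  obtain ⟨w, hw3, hwI, hwJ⟩ := hK.rot I J hoI hoJ hf.comm hf.ne
  set y : G := (φ.symm w : G) with hy
  have hyE : y ∈ E₀ := (φ.symm w).2
  have hyI : y * (φ.symm I : G) * y⁻¹ = (φ.symm J : G) := by
    rw [hy, ← Subgroup.coe_mul, ← Subgroup.coe_inv, ← Subgroup.coe_mul, ← map_mul, ← map_inv,
      ← map_mul, hwI]
  have hyJ : y * (φ.symm J : G) * y⁻¹ = (φ.symm I : G) * (φ.symm J : G) := by
    rw [hy, ← Subgroup.coe_mul, ← Subgroup.coe_inv, ← Subgroup.coe_mul, ← map_mul, ← map_inv,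
      ← map_mul, hwJ, map_mul, Subgroup.coe_mul]
  have hCScent : ∀ x : G, Commute x t → Commute x (φ.symm I : G) → Commute x (φ.symm J : G) → x ∈ CS := by
    intro x hxt hxi hxj
    refine mem_centralizer_iff.2 fun z hz => ?_
    obtain ⟨a, ha, u, hu, rfl⟩ := hsylow z hz
    obtain ⟨m, rfl⟩ := mem_zpowers_iff.1 ha
    refine ((hxt.zpow_right m).mul_right ?_).eq.symm
    rcases hu with rfl | rfl | rfl | rfl
    · rw [map_one, Subgroup.coe_one]; exact Commute.one_right x
    · exact hxi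
    · exact hxj
    · rw [map_mul, Subgroup.coe_mul]; exact hxi.mul_right hxj
  have hsurj : ∀ c ∈ C, ∃ d ∈ zpowers t ⊔ E₀, ∃ o ∈ O, c = d * o := by
    intro c hc
    -- move the conjugate four group back
    set i : ↥E₀ := φ.symm I
    set j : ↥E₀ := φ.symm J
    let ci : ↥E₀ := ⟨c * i * c⁻¹, (mem_normalizer_iff.1 (hd.normal hc) _).1 i.2⟩
    let cj : ↥E₀ := ⟨c * j * c⁻¹, (mem_normalizer_iff.1 (hd.normal hc) _).1 j.2⟩
    have hconjS : IsPGroup 2 ↥(((S : Subgroup G).map (MulAut.conj c).toMonoidHom).subgroupOf E₀) :=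
      (S.2.map (MulAut.conj c).toMonoidHom).comap_subtype
    obtain ⟨P, hP⟩ := hconjS.exists_le_sylow
    obtain ⟨Q, hQ⟩ := (S.2.comap_subtype (K := E₀)).exists_le_sylow
    obtain ⟨e, he⟩ := MulAction.exists_smul_eq ↥E₀ P Q
    have hQS : ∀ z : ↥E₀, z ∈ (Q : Subgroup ↥E₀) → φ z ∈ ({1, I, J, I * J} : Set PG) := by
      intro z hz
      refine hfour z ?_ ?_
      · exact h _ (Q.2.map E₀.subtype) _ (mem_map_of_mem _ hz) _
          (mem_map_of_mem _ (hQ (mem_subgroupOf.2 hiS)))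
      · exact h _ (Q.2.map E₀.subtype) _ (mem_map_of_mem _ hz) _
          (mem_map_of_mem _ (hQ (mem_subgroupOf.2 hjS)))
    have hin : ∀ z : ↥E₀, (z : G) ∈ (S : Subgroup G).map (MulAut.conj c).toMonoidHom →
        φ (e * z * e⁻¹) ∈ ({1, I, J, I * J} : Set PG) := by
      intro z hz
      refine hQS _ ?_
      rw [← he, Sylow.coe_subgroup_smul]
      exact ⟨z, hP (mem_subgroupOf.2 hz), rfl⟩
    have hi' := hin ci (mem_map_of_mem (MulAut.conj c).toMonoidHom hiS)
    have hj' := hin cj (mem_map_of_mem (MulAut.conj c).toMonoidHom hjS)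
    -- adjust by a power of `y`
    have hne_one : ∀ z : G, z ≠ 1 → c * z * c⁻¹ ≠ 1 := fun z hz e' => hz (by
      rw [mul_inv_eq_one, mul_eq_left] at e'; exact e')
    obtain ⟨k, hk⟩ : ∃ k : ℕ, φ (⟨y, hyE⟩ ^ k * (e * ci * e⁻¹) * (⟨y, hyE⟩ ^ k)⁻¹) = I := by
      have hy2 : φ ⟨y, hyE⟩ = w := φ.apply_symm_apply w
      rcases hi' with e' | e' | e' | e'
      · exfalso
        rw [MulEquiv.map_eq_one_iff, conj_eq_one_iff] at e'
        refine hne_one i (fun e'' => hf.neI ?_) (congrArg Subtype.val e')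
        exact φ.symm.injective (by rw [map_one]; exact Subtype.ext e'')
      · exact ⟨0, by rw [pow_zero, one_mul, inv_one, mul_one, e']⟩
      · refine ⟨2, ?_⟩
        rw [map_mul, map_mul, map_inv, map_pow, hy2, e', pow_two, mul_inv_rev,
          show w * w * J * (w⁻¹ * w⁻¹) = w * (w * J * w⁻¹) * w⁻¹ by group, hwJ,
          show w * (I * J) * w⁻¹ = (w * I * w⁻¹) * (w * J * w⁻¹) by group, hwI, hwJ, ← mul_assoc,
          ← hf.comm.eq, mul_assoc, hf.sqJ, mul_one]
      · refine ⟨1, ?_⟩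
        rw [map_mul, map_mul, map_inv, map_pow, hy2, e', pow_one,
          show w * (I * J) * w⁻¹ = (w * I * w⁻¹) * (w * J * w⁻¹) by group, hwI, hwJ, ← mul_assoc,
          ← hf.comm.eq, mul_assoc, hf.sqJ, mul_one]
    set g : ↥E₀ := ⟨y, hyE⟩ ^ k * e with hg
    set d : G := (g : G) * c with hdd
    have hdC : d ∈ C := mul_mem (hd.le g.2) hc
    have hdI : d * (i : G) * d⁻¹ = i := by
      have h1 : g * ci * g⁻¹ = i := φ.injective (((congrArg φ (by rw [hg]; group)).trans hk).trans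
        (φ.apply_symm_apply I).symm)
      have h2 : (g : G) * (c * i * c⁻¹) * (g : G)⁻¹ = i := congrArg Subtype.val h1
      refine Eq.trans ?_ h2
      rw [hdd]; group
    have hdJ : d * (j : G) * d⁻¹ = j ∨ d * (j : G) * d⁻¹ = (i : G) * j := by
      have h1 : φ (g * cj * g⁻¹) ∈ ({1, I, J, I * J} : Set PG) := by
        have hy2 : φ ⟨y, hyE⟩ = w := φ.apply_symm_apply w
        have hW : ∀ u ∈ ({1, I, J, I * J} : Set PG), w * u * w⁻¹ ∈ ({1, I, J, I * J} : Set PG) := by
          rintro u (rfl | rfl | rfl | rfl)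
          · simp
          · simp [hwI]
          · simp [hwJ]
          · rw [show w * (I * J) * w⁻¹ = (w * I * w⁻¹) * (w * J * w⁻¹) by group, hwI, hwJ]
            exact hVmul _ (by simp) _ (by simp)
        have hall : ∀ n : ℕ, w ^ n * φ (e * cj * e⁻¹) * (w ^ n)⁻¹ ∈ ({1, I, J, I * J} : Set PG) := by
          intro n
          induction n with
          | zero => simpa using hj'
          | succ n ih => rw [pow_succ', show w * w ^ n * φ (e * cj * e⁻¹) * (w * w ^ n)⁻¹ =
              w * (w ^ n * φ (e * cj * e⁻¹) * (w ^ n)⁻¹) * w⁻¹ by group]; exact hW _ ih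
        have h2 := hall k
        rw [← hy2, ← map_pow, ← map_mul, ← map_inv, ← map_mul] at h2
        rwa [show g * cj * g⁻¹ = ⟨y, hyE⟩ ^ k * (e * cj * e⁻¹) * (⟨y, hyE⟩ ^ k)⁻¹ by rw [hg]; group]
      have hval : ((g * cj * g⁻¹ : ↥E₀) : G) = d * (j : G) * d⁻¹ := by
        show (g : G) * (c * j * c⁻¹) * (g : G)⁻¹ = _
        rw [hdd]; group
      have h3' : ∀ u : PG, φ (g * cj * g⁻¹) = u → d * (j : G) * d⁻¹ = (φ.symm u : G) := fun u e' => by
        rw [← hval, ← e', φ.symm_apply_apply]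
      rcases h1 with e' | e' | e' | e'
      · exfalso
        have h4 := h3' _ e'
        rw [map_one, Subgroup.coe_one, conj_eq_one_iff] at h4
        exact hf.neJ (φ.symm.injective (by rw [map_one]; exact Subtype.ext h4))
      · exfalso
        have h4 : d * (j : G) * d⁻¹ = d * (i : G) * d⁻¹ := (h3' _ e').trans hdI.symm
        exact hf.ne (φ.symm.injective (Subtype.ext (mul_left_cancel (mul_right_cancel h4)))).symm
      · exact Or.inl (h3' _ e')
      · exact Or.inr (by rw [h3' _ e', map_mul, Subgroup.coe_mul])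
    have hdt : Commute d t := mem_centralizer_singleton_iff.1 hdC
    have hd2 : d * d ∈ CS := by
      refine hCScent _ (hdt.mul_left hdt) ?_ ?_
      · refine mul_inv_eq_iff_eq_mul.1 ?_
        calc d * d * i * (d * d)⁻¹ = d * (d * i * d⁻¹) * d⁻¹ := by group
          _ = i := by rw [hdI, hdI]
      · refine mul_inv_eq_iff_eq_mul.1 ?_
        calc d * d * j * (d * d)⁻¹ = d * (d * j * d⁻¹) * d⁻¹ := by group
          _ = j := by
            rcases hdJ with e' | e'
            · rw [e', e']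
            · rw [e', show d * (i * j : G) * d⁻¹ = (d * i * d⁻¹) * (d * j * d⁻¹) by group, hdI, e',
                ← mul_assoc, show (i : G) * i = ((i * i : ↥E₀) : G) from rfl, ← map_mul, hf.sqI, map_one,
                Subgroup.coe_one, one_mul]
    have hdCS : d ∈ CS := by
      refine hCScent d hdt (mul_inv_eq_iff_eq_mul.1 hdI) ?_
      rcases hdJ with e' | e'
      · exact mul_inv_eq_iff_eq_mul.1 e'
      exfalso
      have hdN : d ∈ normalizer ((S : Subgroup G) : Set G) := by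
        refine Subgroup.mem_normalizer_fintype fun z hz => ?_
        obtain ⟨a, ha, u, hu, rfl⟩ := hsylow z hz
        have ha' : d * a * d⁻¹ = a := by
          obtain ⟨m, rfl⟩ := mem_zpowers_iff.1 ha
          rw [(hdt.zpow_right m).eq, mul_inv_cancel_right]
        rw [show d * (a * (φ.symm u : G)) * d⁻¹ = d * a * d⁻¹ * (d * (φ.symm u : G) * d⁻¹) by group, ha']
        refine mul_mem ((zpowers_le.2 htS) ha) ?_
        rcases hu with rfl | rfl | rfl | rfl
        · rw [map_one, Subgroup.coe_one, mul_one, mul_inv_cancel]; exact one_mem _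
        · rw [hdI]; exact hiS
        · rw [e']; exact mul_mem hiS hjS
        · rw [map_mul, Subgroup.coe_mul, show d * ((i : G) * j) * d⁻¹ = (d * i * d⁻¹) * (d * j * d⁻¹) by group,
            hdI, e']
          exact mul_mem hiS (mul_mem hiS hjS)
      obtain ⟨a, m, hm, ham⟩ := SEAbelian.exists_parts d
      have hdm : d ^ m ∈ (S : Subgroup G) := SEAbelian.mem_sylow_of_normalizer S (pow_mem hdN m)
        (k := a) (by rw [← pow_mul, mul_comm, ham])
      have h4 : Commute (d ^ m) (j : G) := (mem_centralizer_iff.1 (hSCS hdm) _ hjS).symm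
      obtain ⟨q, rfl⟩ := hm
      rw [pow_succ, pow_mul, pow_two] at h4
      have h5' : Commute ((d * d) ^ q) (j : G) :=
        (show Commute (d * d) (j : G) from (mem_centralizer_iff.1 hd2 _ hjS).symm).pow_left q
      have h6 : Commute d (j : G) := by
        have := h5'.inv_left.mul_left h4
        rwa [inv_mul_cancel_left] at this
      rw [h6.eq, mul_inv_cancel_right] at e'
      refine hf.neI (φ.symm.injective ?_)
      rw [map_one]
      exact Subtype.ext (mul_eq_right.1 e'.symm)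
    obtain ⟨x, hx, o, ho, hxo⟩ := hsplit d hdCS
    refine ⟨(g : G)⁻¹ * x, mul_mem (mem_sup_right (inv_mem g.2)) ?_, o, ho, ?_⟩
    · obtain ⟨a, ha, u, -, rfl⟩ := hsylow x hx
      exact mul_mem (mem_sup_left ha) (mem_sup_right (φ.symm u).2)
    · rw [mul_assoc, ← hxo, hdd, inv_mul_cancel_left]
  have hyo : orderOf y = 3 := by rw [hy, Subgroup.orderOf_coe, MulEquiv.orderOf_eq, hw3]
  refine ⟨{ φ := φ, I := I, J := J, y := y, O := O, σ := σ, frame := hf, h5 := h5, h8 := h8,
            memt := htS, memI := hiS, memJ := hjS, sylow := hsylow, four := hfour, y_mem := hyE,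
            y_order := hyo, y_I := hyI, y_J := hyJ, σ_inj := hσinj, act := hact,
            mem_O := fun c => Iff.rfl, cent_split := hsplit, cent_comm := hcomm, surj := hsurj,
            uniq := ?_ }⟩
  intro d hd' hdO
  obtain ⟨a, ha, e, he, rfl⟩ := mem_sup_cases hd.le hd'
  have hac : a ∈ CS := (zpowers_le.2 (hSCS htS)) ha
  have heC : e ∈ CS := by
    have := mul_mem (inv_mem hac) hdO.1
    rwa [inv_mul_cancel_left] at this
  have h1 := hVS _ (hfour ⟨e, he⟩ (mem_centralizer_iff.1 heC _ hiS).symm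
    (mem_centralizer_iff.1 heC _ hjS).symm)
  rw [φ.symm_apply_apply] at h1
  have h2 : a * e ∈ (S : Subgroup G) := mul_mem ((zpowers_le.2 htS) ha) h1
  obtain ⟨k, hk⟩ := IsPGroup.iff_orderOf.1 S.2 ⟨_, h2⟩
  rw [← Subgroup.orderOf_coe] at hk
  have h3' : Odd (orderOf (a * e)) := hdO.2
  refine orderOf_eq_one_iff.1 ?_
  rcases Nat.eq_zero_or_pos k with rfl | hk0
  · simpa using hk
  · rw [show orderOf (a * e) = 2 ^ k from hk, Nat.odd_pow_iff hk0.ne'] at h3'
    exact absurd h3' (by decide)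

end Cfsg.Agent.Walter.Field.Other
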