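import Cfsg.Agent.Lib.SEAbelian.ReduceTools

/-!
# The field part away from the characteristic: interface of the two halves

`OData` is everything the local and transfer half uses: an element `x` of order `r` of the field
part, a nontrivial `r`-group `P₁` of `C(x)` inverted by `t`, and an element `l` of prime order `s`
of `C(t) ∩ C(x)` acting on `P₁` as a scalar `J ≠ 1`.
-/

set_option autoImplicit false

namespace Cfsg.Agent.Walter.Field.Other

open Subgroup

universe u

variable {G : Type u} [Group G]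

/-- The data for the transfer at the prime `r`. -/
structure OData (t x l : G) (r s J : ℕ) (P₁ : Subgroup G) {Λ : Type u} [CommGroup Λ]
    (lam : ↥(centralizer ({t} : Set G)) →* Λ) : Prop where
  r_prime : r.Prime
  s_prime : s.Prime
  s_odd : Odd s
  s_dvd : s ∣ r - 1
  ht : orderOf t = 2
  fused : ∀ i : G, orderOf i = 2 → IsConj t i
  sylow_sq : ∀ S : Sylow 2 G, ∀ a ∈ (S : Subgroup G), a * a = 1
  x_ord : orderOf x = r
  x_t : Commute x t
  l_ord : orderOf l = s
  l_t : Commute l t
  l_x : Commute l x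
  /-- The field part is cyclic and catches all `r`-elements of `C(t)`. -/
  lam_cyclic : IsCyclic Λ
  lam_inj : ∀ c : ↥(centralizer ({t} : Set G)), (∃ k : ℕ, c ^ r ^ k = 1) → lam c = 1 → c = 1
  lam_l : ∀ c : ↥(centralizer ({t} : Set G)), (c : G) = l → lam c = 1
  J_ne : ¬ J ≡ 1 [MOD r]
  J_pow : J ^ s ≡ 1 [MOD r ^ (Nat.card G).factorization r]
  P_pgroup : IsPGroup r ↥P₁
  P_ne : P₁ ≠ ⊥
  P_le : P₁ ≤ centralizer ({x} : Set G)
  P_inv : ∀ a ∈ P₁, t * a * t⁻¹ = a⁻¹
  P_norm : l ∈ normalizer (P₁ : Set G)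
  /-- In `C(x)` the inverted part of an invariant `r`-group over `P₁` is abelian and `l` is a scalar. -/
  inverted : ∀ R : Subgroup G, IsPGroup r ↥R → R ≤ centralizer ({x} : Set G) → x ∈ R → P₁ ≤ R →
    t ∈ normalizer (R : Set G) → l ∈ normalizer (R : Set G) →
    ∀ a ∈ R, t * a * t⁻¹ = a⁻¹ →
      l * a * l⁻¹ = a ^ J ∧ ∀ b ∈ R, t * b * t⁻¹ = b⁻¹ → Commute a b
  /-- No element of order `s` of `C(t)` centralises `x` and `P₁`. -/
  coprime : ∀ c : G, Commute c t → Commute c x → (∀ a ∈ P₁, Commute c a) → c ^ s = 1 → c = 1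

/-- The transfer half: the data are contradictory in a simple group. -/
def TransferHalf : Prop :=
  ∀ (G : Type u) [Group G] [Finite G], IsSimpleGroup G → ¬ IsMulCommutative G → SEAbelian.AbTwo G →
    ∀ (t x l : G) (r s J : ℕ) (P₁ : Subgroup G) (Λ : Type u) (_ : CommGroup Λ)
      (lam : ↥(centralizer ({t} : Set G)) →* Λ), OData t x l r s J P₁ lam → False

end Cfsg.Agent.Walter.Field.Other
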