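import Cfsg.Agent.Lib.SEAbelian.ReduceTools

/-!
# The field part, `r` not the characteristic: the interface between the set-up and the transfer

`R` is a Sylow `r`-subgroup normalised by `t`; the elements of `R` inverted by `t` commute with each
other and `k` raises them to the power `j`; the elements of `R` fixed by `t` form a cyclic group.
-/

set_option autoImplicit false

namespace Cfsg.Agent.Walter.Field.Other

open Subgroup

universe u

/-- What the set-up delivers to the transfer argument (`OtherHom.false_of_data`). -/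
structure HomData {G : Type u} [Group G] [Finite G] (t x : G) (r j : ℕ) (k : G) (R : Sylow r G) : Prop where
  abTwo : SEAbelian.AbTwo G
  ht : orderOf t = 2
  prime : r.Prime
  ne_two : r ≠ 2
  /-- `j` is neither a square root of one nor one modulo `r`. -/
  sq_ne_one : ¬ j * j ≡ 1 [MOD r]
  t_norm : t ∈ normalizer ((R : Subgroup G) : Set G)
  k_norm : k ∈ normalizer ((R : Subgroup G) : Set G)
  k_t : Commute k t
  k_odd : Odd (orderOf k)
  /-- The fixed points of `t` on `R` form a cyclic group. -/
  fixed_cyclic : ∃ y : G, ∀ u ∈ (R : Subgroup G), Commute u t → u ∈ zpowers y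
  k_fixed : ∀ u ∈ (R : Subgroup G), Commute u t → Commute k u
  inverted_comm : ∀ u ∈ (R : Subgroup G), ∀ v ∈ (R : Subgroup G),
    t * u * t⁻¹ = u⁻¹ → t * v * t⁻¹ = v⁻¹ → Commute u v
  scalar : ∀ u ∈ (R : Subgroup G), t * u * t⁻¹ = u⁻¹ → k * u * k⁻¹ = u ^ j
  /-- Some inverted element of the centre of `R`. -/
  center_inverted : ∃ z ∈ (R : Subgroup G), z ≠ 1 ∧ t * z * t⁻¹ = z⁻¹ ∧
    ∀ u ∈ (R : Subgroup G), Commute z u
  /-- An inverted `r`-element commutes with no second involution of `C(t)`. -/
  four : ∀ w : G, orderOf w = 2 → Commute w t → w ≠ t →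
    ∀ a : G, IsPGroup r ↥(zpowers a) → Commute a w → t * a * t⁻¹ = a⁻¹ → a = 1
  /-- The Sylow 2-subgroups of `C(t)` are elementary. -/
  sq : ∀ w : G, Commute w t → (∃ i : ℕ, w ^ 2 ^ i = 1) → w * w = 1
  x_mem : x ∈ (R : Subgroup G)
  x_t : Commute x t
  /-- A homomorphism of `C(t)` to an abelian `r`-group that does not vanish at `x`. -/
  theta : ∃ (A : Type u) (_ : CommGroup A) (θ : ↥(centralizer ({t} : Set G)) →* A),
    IsPGroup r A ∧ θ ⟨x, mem_centralizer_singleton_iff.2 x_t⟩ ≠ 1

end Cfsg.Agent.Walter.Field.Other
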