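import Cfsg.Agent.Lib.Walter.Field.OtherNormalPair

/-!
# An element of order seven whose centraliser has Sylow 7-subgroups of order 49

`x` is conjugate to no other power of itself, `a` is independent of `x` and `y` centralises `x` and
scales `a` by an element of order three. The Sylow case: `N(P)` fixes `x`; the general case: `a` is
central in every Sylow subgroup over `P`.
-/

set_option autoImplicit false
set_option linter.unusedSectionVars false
set_option linter.style.haveILetI false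

namespace Cfsg.Agent.Walter.Field.Other.Seven

open Subgroup

universe u

attribute [local instance] fact_seven

local instance fact_one_lt_seven' : Fact (1 < 7) := ⟨by norm_num⟩

variable {G : Type u} [Group G]

/-- The hypotheses. -/
structure Data (x a y : G) (j : ZMod 7) : Prop extends Pair x a where
  y_x : Commute y x
  y_a : y * a * y⁻¹ = a ^ j.val
  j_cube : j ^ 3 = 1
  j_ne : j ≠ 1
  rigid : ∀ (g : G) (m : ℕ), g * x * g⁻¹ = x ^ m → g * x * g⁻¹ = x
  small : ¬ 7 ^ 3 ∣ Nat.card ↥(centralizer ({x} : Set G))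

variable [Finite G]

namespace Pair

variable {w b : G} (h : Pair w b)
include h

theorem grp_le_cent : h.grp ≤ centralizer ({w} : Set G) := fun _ hp =>
  mem_centralizer_singleton_iff.2 (h.grp_comm hp h.x_mem).eq

/-- The group is a Sylow subgroup of the centraliser. -/
theorem eq_grp (hs : ¬ 7 ^ 3 ∣ Nat.card ↥(centralizer ({w} : Set G))) {Q : Subgroup G}
    (hQ : IsPGroup 7 ↥Q) (hle : h.grp ≤ Q) (hc : Q ≤ centralizer ({w} : Set G)) : Q = h.grp := by
  obtain ⟨n, hn⟩ := IsPGroup.iff_card.1 hQ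
  refine (Subgroup.eq_of_le_of_card_ge hle ?_).symm
  have h3 : n < 3 := by
    by_contra h3
    exact hs ((pow_dvd_pow 7 (by omega : 3 ≤ n)).trans (hn ▸ card_dvd_of_le hc))
  rw [h.card_grp, hn]
  calc 7 ^ n ≤ 7 ^ 2 := Nat.pow_le_pow_right (by norm_num) (by omega)
    _ = 49 := by norm_num

theorem conj_le (hs : ¬ 7 ^ 3 ∣ Nat.card ↥(centralizer ({w} : Set G))) {Q : Subgroup G}
    (hQ : IsPGroup 7 ↥Q) (hc : Q ≤ centralizer ({w} : Set G)) :
    ∃ c, Commute c w ∧ ∀ q ∈ Q, c * q * c⁻¹ ∈ h.grp := by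
  set C := centralizer ({w} : Set G) with hC
  have hidx : ¬ 7 ∣ (h.grp.subgroupOf C).index := fun hd => by
    have h1 := (h.grp.subgroupOf C).card_mul_index
    rw [Nat.card_congr (subgroupOfEquivOfLe h.grp_le_cent).toEquiv, h.card_grp] at h1
    exact hs (h1 ▸ (show 7 ^ 3 = 49 * 7 by norm_num) ▸ mul_dvd_mul_left 49 hd)
  set T : Sylow 7 ↥C := (h.grp_pgroup.comap_subtype (K := C)).toSylow hidx
  obtain ⟨Q', hQ'⟩ := (hQ.comap_subtype (K := C)).exists_le_sylow
  obtain ⟨c, hcT⟩ := MulAction.exists_smul_eq ↥C Q' T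
  refine ⟨c, mem_centralizer_singleton_iff.1 c.2, fun q hq => ?_⟩
  have h1 : c * ⟨q, hc hq⟩ * c⁻¹ ∈ (T : Subgroup ↥C) := by
    rw [← hcT, Sylow.coe_subgroup_smul]
    exact ⟨_, hQ' (mem_subgroupOf.2 hq), rfl⟩
  exact mem_subgroupOf.1 h1

omit h in
theorem exists_normalizing {P R : Subgroup G} (hR : IsPGroup 7 ↥R) (hle : P ≤ R) (hne : R ≠ P) :
    ∃ u ∈ R, u ∉ P ∧ u ∈ normalizer (P : Set G) := by
  haveI := hR.isNilpotent
  have h1 : P.subgroupOf R < ⊤ := lt_top_iff_ne_top.2 fun e =>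
    hne (le_antisymm (fun r hr => mem_subgroupOf.1 (e ▸ mem_top (⟨r, hr⟩ : ↥R))) hle)
  obtain ⟨u, hu, huP⟩ := SetLike.exists_of_lt (Group.normalizerCondition_of_isNilpotent _ h1)
  refine ⟨u, u.2, fun hP => huP (mem_subgroupOf.2 hP), mem_normalizer_fintype fun p hp => ?_⟩
  exact mem_subgroupOf.1 ((mem_normalizer_iff.1 hu ⟨p, hle hp⟩).1 (mem_subgroupOf.2 hp))

omit h in
theorem exists_pow {R : Subgroup G} (hR : IsPGroup 7 ↥R) {u : G} (hu : u ∈ R) :
    ∃ e : ℕ, u ^ 7 ^ e = 1 := by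
  obtain ⟨e, he⟩ := hR ⟨u, hu⟩
  exact ⟨e, congrArg Subtype.val he⟩

end Pair

theorem commute_of_conj_eq {g z : G} (h : g * z * g⁻¹ = z) : Commute g z :=
  mul_inv_eq_iff_eq_mul.1 h

theorem conj_eq_of_commute {g z : G} (h : Commute g z) : g * z * g⁻¹ = z := by
  rw [h.eq, mul_inv_cancel_right]

theorem pow_conj_pow {g : G} {e : ℕ} (h : g ^ 7 ^ e = 1) (c : G) : (c * g * c⁻¹) ^ 7 ^ e = 1 := by
  rw [conj_pow, h, mul_one, mul_inv_cancel]

theorem exists_nat_pow {z z' : G} (h : z' ∈ zpowers z) : ∃ n : ℕ, z ^ n = z' :=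
  (Submonoid.mem_powers_iff _ _).1 ((isOfFinOrder_of_finite z).mem_powers_iff_mem_zpowers.2 h)

namespace Data

variable {x a y : G} {j : ZMod 7} (D : Data x a y j)
include D

theorem x_ne_one : x ≠ 1 := fun e => by
  have := D.x_ord
  rw [e, orderOf_one] at this
  omega

theorem no_inversion {n : G} (hn : n * x * n⁻¹ = x⁻¹) : False := by
  have h6 : x⁻¹ = x ^ 6 := inv_eq_of_mul_eq_one_right (by
    rw [← pow_succ']
    show x ^ 7 = 1
    rw [← D.x_ord, pow_orderOf_eq_one])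
  have h1 := D.rigid n 6 (hn.trans h6)
  rw [hn, h6] at h1
  have h2 : x ^ 5 = 1 := mul_right_cancel (b := x) (by rw [← pow_succ, one_mul]; exact h1)
  have h3 := orderOf_dvd_of_pow_eq_one h2
  rw [D.x_ord] at h3
  exact absurd h3 (by norm_num)

/-- Two elements with different fixed lines do not exist. -/
theorem no_two {z z' v w : G} (hz : z ∈ D.toPair.grp) (hz' : z' ∈ D.toPair.grp) (hz1 : z ≠ 1)
    (hnz : z' ∉ zpowers z) {d e : ℕ} (hd : v ^ 7 ^ d = 1) (he : w ^ 7 ^ e = 1)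
    (hv : v ∈ normalizer (D.toPair.grp : Set G)) (hw : w ∈ normalizer (D.toPair.grp : Set G))
    (hvz : Commute v z) (hwz : Commute w z') (hvx : ¬ Commute v x) (hwx : ¬ Commute w x) : False := by
  have hz'1 : z' ≠ 1 := fun e' => hnz (e' ▸ one_mem _)
  have hP : Pair z z' :=
    ⟨D.toPair.order_eq hz hz1, D.toPair.order_eq hz' hz'1, D.toPair.grp_comm hz hz', hnz⟩
  have hgrp := D.toPair.grp_eq hP hz hz'
  have hsw := D.toPair.grp_eq hP.swap hz' hz
  have hmem : ∀ g ∈ normalizer (D.toPair.grp : Set G), ∀ p ∈ D.toPair.grp, g * p * g⁻¹ ∈ hP.swap.grp :=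
    fun g hg p hp => hsw.symm ▸ (mem_normalizer_iff.1 hg p).1 hp
  have hx : x ∈ hP.grp := hgrp.symm ▸ D.toPair.x_mem
  obtain ⟨n, hn⟩ := hP.swap.inversion (v := v) (w := w) (hmem v hv z' hz') (conj_eq_of_commute hvz)
    (hmem w hw z hz) (conj_eq_of_commute hwz) hd he
    (fun e' => hvx (hP.commute_grp hvz (commute_of_conj_eq e') hx))
    (fun e' => hwx (hP.commute_grp (commute_of_conj_eq e') hwz hx))
  exact D.no_inversion (hn x (hsw.symm ▸ D.toPair.x_mem))

theorem y_mem_normalizer : y ∈ normalizer (D.toPair.grp : Set G) :=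
  D.toPair.mem_normalizer (by rw [conj_eq_of_commute D.y_x]; exact D.toPair.x_mem)
    (by rw [D.y_a]; exact pow_mem D.toPair.a_mem _)

theorem y_conj (i k : ZMod 7) : y * D.toPair.el i k * y⁻¹ = D.toPair.el i (j * k) := by
  rw [D.toPair.conj_el, conj_eq_of_commute D.y_x, D.y_a, ← pow_mul_val D.a_ord]

variable (R : Sylow 7 G) (hR : D.toPair.grp ≤ R)
include hR

theorem not_commute {u : G} (hu : u ∈ (R : Subgroup G)) (huP : u ∉ D.toPair.grp) : ¬ Commute u x := by
  intro hc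
  refine huP ((D.toPair.eq_grp D.small (R.2.to_le inf_le_left) ?_ inf_le_right).le
    ⟨hu, mem_centralizer_singleton_iff.2 hc.eq⟩)
  exact le_inf hR D.toPair.grp_le_cent

/-- Above the group of order 49 the element `a` is central. -/
theorem a_central (hne : (R : Subgroup G) ≠ D.toPair.grp) {r : G} (hr : r ∈ (R : Subgroup G)) :
    Commute r a := by
  haveI : Nontrivial ↥(R : Subgroup G) := ⟨⟨⟨x, hR D.toPair.x_mem⟩, 1, fun e =>
    D.x_ne_one (congrArg Subtype.val e)⟩⟩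
  haveI := R.2.center_nontrivial
  obtain ⟨⟨⟨z, hzR⟩, hzc⟩, hz1⟩ := exists_ne (1 : ↥(center ↥(R : Subgroup G)))
  have hz1' : z ≠ 1 := fun e => hz1 (Subtype.ext (Subtype.ext e))
  have hcom : ∀ s ∈ (R : Subgroup G), Commute s z := fun s hs =>
    congrArg Subtype.val (Subgroup.mem_center_iff.1 hzc ⟨s, hs⟩)
  have hzP : z ∈ D.toPair.grp := by
    by_contra hzP
    exact D.not_commute R hR hzR hzP (hcom x (hR D.toPair.x_mem)).symm
  obtain ⟨u, huR, huP, huN⟩ := Pair.exists_normalizing R.2 hR hne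
  obtain ⟨e, he⟩ := Pair.exists_pow R.2 huR
  have hux := D.not_commute R hR huR huP
  have hyN := D.y_mem_normalizer
  have hzy : y * z * y⁻¹ ∈ zpowers z := by
    by_contra hn
    refine D.no_two hzP ((mem_normalizer_iff.1 hyN z).1 hzP) hz1' hn he (pow_conj_pow he y) huN
      (mul_mem (mul_mem hyN huN) (inv_mem hyN)) (hcom u huR) ?_ hux ?_
    · show y * u * y⁻¹ * (y * z * y⁻¹) = y * z * y⁻¹ * (y * u * y⁻¹)
      calc y * u * y⁻¹ * (y * z * y⁻¹) = y * (u * z) * y⁻¹ := by group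
        _ = y * (z * u) * y⁻¹ := by rw [(hcom u huR).eq]
        _ = y * z * y⁻¹ * (y * u * y⁻¹) := by group
    · intro hc
      refine hux ?_
      have hxy : y⁻¹ * x * y = x := by rw [mul_assoc, ← D.y_x.eq, inv_mul_cancel_left]
      calc u * x = u * (y⁻¹ * x * y) := by rw [hxy]
        _ = y⁻¹ * ((y * u * y⁻¹) * x) * y := by group
        _ = y⁻¹ * (x * (y * u * y⁻¹)) * y := by rw [hc.eq]
        _ = x * u := by
          calc y⁻¹ * (x * (y * u * y⁻¹)) * y = (y⁻¹ * x * y) * u := by group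
            _ = x * u := by rw [hxy]
  obtain ⟨m, k, hz⟩ := D.toPair.exists_el hzP
  obtain ⟨n, hn⟩ := exists_nat_pow hzy
  rw [hz, D.toPair.el_pow, D.y_conj] at hn
  obtain ⟨h1, h2⟩ := D.toPair.el_inj hn
  have hk : k ≠ 0 := by
    rintro rfl
    have hm : m ≠ 0 := fun e' => hz1' (by rw [hz, e']; simp [Pair.el])
    have hzpow : z = x ^ m.val := by rw [hz]; simp [Pair.el]
    refine hux ?_
    have hxz : x = z ^ (m⁻¹).val := by
      rw [hzpow, ← pow_mul_val D.x_ord, mul_inv_cancel₀ hm, ZMod.val_one, pow_one]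
    rw [hxz]
    exact (hcom u huR).pow_right _
  have hnj : (n : ZMod 7) = j := mul_right_cancel₀ hk h2
  have hm : m = 0 := by
    have : (j - 1) * m = 0 := by linear_combination h1 - hnj * m
    exact (mul_eq_zero.1 this).resolve_left (sub_ne_zero.2 D.j_ne)
  have ha : a = z ^ (k⁻¹).val := by
    rw [hz, hm, D.toPair.el_pow, ZMod.natCast_zmod_val, mul_zero, inv_mul_cancel₀ hk, D.toPair.a_eq]
  rw [ha]
  exact (hcom r hr).pow_right _

omit hR in
/-- The Sylow case. -/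
theorem base (hR' : (R : Subgroup G) = D.toPair.grp) {g : G}
    (hg : g ∈ normalizer (D.toPair.grp : Set G)) : g * x * g⁻¹ = x := by
  set h := D.toPair
  set Act : G → M7 → Prop := fun g A => g * x * g⁻¹ = h.el (A 0 0) (A 1 0) ∧
    g * a * g⁻¹ = h.el (A 0 1) (A 1 1) with hAct
  have hmk : ∀ g ∈ normalizer (h.grp : Set G), ∃ A, Act g A := by
    intro g hg
    obtain ⟨p, q, h1⟩ := h.exists_el ((mem_normalizer_iff.1 hg x).1 h.x_mem)
    obtain ⟨r, s, h2⟩ := h.exists_el ((mem_normalizer_iff.1 hg a).1 h.a_mem)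
    exact ⟨!![p, r; q, s], h1.trans (by simp), h2.trans (by simp)⟩
  have huniq : ∀ g A B, Act g A → Act g B → A = B := by
    intro g A B hA hB
    obtain ⟨h1, h2⟩ := h.el_inj (hA.1.symm.trans hB.1)
    obtain ⟨h3, h4⟩ := h.el_inj (hA.2.symm.trans hB.2)
    ext i k; fin_cases i <;> fin_cases k <;> assumption
  have hmul : ∀ g g' A B, Act g A → Act g' B → Act (g * g') (A * B) := by
    intro g g' A B hA hB
    have key : ∀ i k, g * h.el i k * g⁻¹ = h.el (A 0 0 * i + A 0 1 * k) (A 1 0 * i + A 1 1 * k) := by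
      intro i k
      rw [h.conj_el, hA.1, hA.2, h.el_pow, h.el_pow, h.el_mul, ZMod.natCast_zmod_val,
        ZMod.natCast_zmod_val]
      congr 1 <;> ring
    constructor
    · rw [show g * g' * x * (g * g')⁻¹ = g * (g' * x * g'⁻¹) * g⁻¹ by group, hB.1, key]
      simp [Matrix.mul_apply, Fin.sum_univ_two]
    · rw [show g * g' * a * (g * g')⁻¹ = g * (g' * a * g'⁻¹) * g⁻¹ by group, hB.2, key]
      simp [Matrix.mul_apply, Fin.sum_univ_two]
  have hone : ∀ g, g * x * g⁻¹ = x → g * a * g⁻¹ = a → Act g 1 := by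
    intro g h1 h2
    exact ⟨by simp [h1, Pair.el, ZMod.val_one], by simp [h2, Pair.el, ZMod.val_one]⟩
  have hpow : ∀ g A, Act g A → ∀ n : ℕ, Act (g ^ n) (A ^ n) := by
    intro g A hA n
    induction n with
    | zero => rw [pow_zero, pow_zero]; exact hone 1 (by group) (by group)
    | succ n ih => rw [pow_succ, pow_succ]; exact hmul _ _ _ _ ih hA
  obtain ⟨A, hA⟩ := hmk g hg
  have key := fixes_first (S := {A | ∃ g ∈ normalizer (h.grp : Set G), Act g A})
    ⟨1, one_mem _, hone 1 (by group) (by group)⟩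
    (fun A ⟨g, hg, hA⟩ B ⟨g', hg', hB⟩ => ⟨g * g', mul_mem hg hg', hmul _ _ _ _ hA hB⟩)
    (fun A ⟨g, hg, hA⟩ => by
      obtain ⟨B, hB⟩ := hmk g⁻¹ (inv_mem hg)
      refine ⟨B, ⟨g⁻¹, inv_mem hg, hB⟩, huniq 1 _ _ ?_ (hone 1 (by group) (by group))⟩
      simpa using hmul _ _ _ _ hB hA)
    (fun A ⟨g, hg, hA⟩ h10 => by
      have h1 : g * x * g⁻¹ = x ^ (A 0 0).val := by rw [hA.1, h10]; simp [Pair.el]
      exact (h.el_inj ((hA.1.symm.trans (D.rigid g _ h1)).trans h.x_eq.symm)).1)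
    (fun A ⟨g, hg, hA⟩ h7 => by
      obtain ⟨e, m, hm, hem⟩ : ∃ e m : ℕ, ¬ 7 ∣ m ∧ orderOf g = 7 ^ e * m :=
        Nat.exists_eq_pow_mul_and_not_dvd (orderOf_pos g).ne' 7 (by norm_num)
      have hp : IsPGroup 7 ↥(zpowers (g ^ m)) := by
        refine IsPGroup.of_card (n := e) ?_
        rw [Nat.card_zpowers, orderOf_pow_of_dvd (fun h0 => hm (by rw [h0]; exact dvd_zero 7)) ⟨_, hem.trans (mul_comm _ _)⟩,
          hem, Nat.mul_div_cancel _ (Nat.pos_of_ne_zero fun h0 => hm (by rw [h0]; exact dvd_zero 7))]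
      have hgm : g ^ m ∈ h.grp := by
        rw [← hR']
        have h2 : g ^ m ∈ zpowers (g ^ m) ⊓ normalizer ((R : Subgroup G) : Set G) :=
          ⟨mem_zpowers _, by rw [hR']; exact pow_mem hg m⟩
        have h3 : g ^ m ∈ zpowers (g ^ m) ⊓ normalizer (R : Set G) := h2
        rw [hp.inf_normalizer_sylow] at h3
        exact h3.2
      have hAm : A ^ m = 1 := huniq (g ^ m) _ _ (hpow g A hA m)
        (hone _ (conj_eq_of_commute (h.grp_comm hgm h.x_mem)) (conj_eq_of_commute (h.grp_comm hgm h.a_mem)))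
      have := pow_gcd_eq_one.2 ⟨h7, hAm⟩
      rwa [show Nat.gcd 7 m = 1 from (Nat.Prime.coprime_iff_not_dvd prime_seven).2 hm, pow_one] at this)
    D.j_cube D.j_ne
    ⟨y, D.y_mem_normalizer, by rw [conj_eq_of_commute D.y_x]; simp [Pair.el, ZMod.val_one],
      by rw [D.y_a]; simp [Pair.el]⟩ (M := A) ⟨g, hg, hA⟩
  rw [hA.1, key.1, key.2, h.x_eq]

end Data

end Cfsg.Agent.Walter.Field.Other.Seven
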