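import Cfsg.Agent.Lib.Walter.Field.OtherNormalData
import Cfsg.Agent.Lib.CharTheory.TransferExt

/-!
# One class: the conjugates of `x` in a Sylow 7-subgroup over `P` are conjugate there

Induction through `N(⟨a⟩) / ⟨a⟩`. With a homomorphism of the Sylow subgroup nontrivial at `x` the
transfer gives a quotient of order seven.
-/

set_option autoImplicit false
set_option linter.unusedSectionVars false
set_option linter.style.haveILetI false

namespace Cfsg.Agent.Walter.Field.Other.Seven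

open Subgroup

universe u

attribute [local instance] fact_seven

local instance fact_one_lt_seven'' : Fact (1 < 7) := ⟨by norm_num⟩

/-- The conclusion of the induction. -/
def OneClass {G : Type u} [Group G] (x : G) (R : Sylow 7 G) : Prop :=
  (∀ w ∈ (R : Subgroup G), IsConj x w → ∃ r ∈ (R : Subgroup G), r * x * r⁻¹ = w) ∧
    ∃ ψ : ↥(R : Subgroup G) →* Multiplicative (ZMod 7), ∀ hx, ψ ⟨x, hx⟩ ≠ 1

namespace Data

variable {G : Type u} [Group G] [Finite G] {x a y : G} {j : ZMod 7} (D : Data x a y j)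
variable (R : Sylow 7 G) (hR : D.toPair.grp ≤ R)
include D hR

theorem small_conj {w : G} (hw : IsConj x w) : ¬ 7 ^ 3 ∣ Nat.card ↥(centralizer ({w} : Set G)) := by
  obtain ⟨g, rfl⟩ := isConj_iff.1 hw
  intro hd
  refine D.small (dvd_trans hd (dvd_of_eq ?_))
  rw [← card_map_of_injective (K := centralizer ({g * x * g⁻¹} : Set G))
    (f := (MulAut.conj g⁻¹).toMonoidHom) (MulAut.conj g⁻¹).injective]
  refine congrArg (fun H : Subgroup G => Nat.card ↥H) ?_
  ext c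
  constructor
  · rintro ⟨d, hd', rfl⟩
    refine mem_centralizer_singleton_iff.2 ?_
    have h1 : d * (g * x * g⁻¹) = g * x * g⁻¹ * d := mem_centralizer_singleton_iff.1 hd'
    show g⁻¹ * d * g⁻¹⁻¹ * x = x * (g⁻¹ * d * g⁻¹⁻¹)
    calc g⁻¹ * d * g⁻¹⁻¹ * x = g⁻¹ * (d * (g * x * g⁻¹)) * g := by group
      _ = g⁻¹ * (g * x * g⁻¹ * d) * g := by rw [h1]
      _ = x * (g⁻¹ * d * g⁻¹⁻¹) := by group
  · intro hc
    refine ⟨g * c * g⁻¹, mem_centralizer_singleton_iff.2 ?_, ?_⟩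
    · calc g * c * g⁻¹ * (g * x * g⁻¹) = g * (c * x) * g⁻¹ := by group
        _ = g * (x * c) * g⁻¹ := by rw [mem_centralizer_singleton_iff.1 hc]
        _ = g * x * g⁻¹ * (g * c * g⁻¹) := by group
    · show g⁻¹ * (g * c * g⁻¹) * g⁻¹⁻¹ = c
      group

theorem oneClass_eq (he : (R : Subgroup G) = D.toPair.grp) : OneClass x R := by
  refine ⟨fun w hw hxw => ⟨1, one_mem _, ?_⟩, ?_⟩
  · obtain ⟨g, rfl⟩ := isConj_iff.1 hxw
    haveI : IsMulCommutative ↥(R : Subgroup G) := ⟨⟨fun p q => Subtype.ext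
      (D.toPair.grp_comm (he ▸ p.2) (he ▸ q.2)).eq⟩⟩
    obtain ⟨n, hn, hne⟩ := R.conj_eq_normalizer_conj_of_mem x g⁻¹ (hR D.toPair.x_mem)
      (show g⁻¹⁻¹ * x * g⁻¹ ∈ (R : Subgroup G) by simpa using hw)
    rw [inv_inv] at hne
    have hn' : n⁻¹ ∈ normalizer (D.toPair.grp : Set G) := he ▸ inv_mem hn
    have h1 := D.base R he hn'
    rw [inv_inv] at h1
    rw [one_mul, inv_one, mul_one, hne, h1]
  · refine ⟨(AddMonoidHom.fst (ZMod 7) (ZMod 7)).toMultiplicative.comp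
      ((MonoidHom.ofInjective D.toPair.hom_injective).symm.toMonoidHom.comp
        (MulEquiv.subgroupCongr he).toMonoidHom), fun hx e => ?_⟩
    have h1 : (MonoidHom.ofInjective D.toPair.hom_injective).symm (MulEquiv.subgroupCongr he ⟨x, hx⟩) =
        Multiplicative.ofAdd ((1 : ZMod 7), (0 : ZMod 7)) := by
      rw [MulEquiv.symm_apply_eq]
      exact Subtype.ext D.toPair.x_eq.symm
    simp only [MonoidHom.coe_comp, MulEquiv.coe_toMonoidHom, Function.comp_apply, h1] at e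
    exact one_ne_zero (Multiplicative.ofAdd.injective e : (1 : ZMod 7) = 0)

/-- A conjugate in `R` is obtained inside the normaliser of `⟨a⟩`. -/
theorem conj_in_normalizer (hne : (R : Subgroup G) ≠ D.toPair.grp) {w : G}
    (hw : w ∈ (R : Subgroup G)) (hxw : IsConj x w) :
    ∃ g ∈ normalizer ((zpowers a : Subgroup G) : Set G), g * x * g⁻¹ = w := by
  have hsm := D.small_conj R hR hxw
  have hac : ∀ {r : G}, r ∈ (R : Subgroup G) → Commute r a := fun hr => D.a_central R hR hne hr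
  obtain ⟨u, huR, huP, huN⟩ := Pair.exists_normalizing R.2 hR hne
  obtain ⟨e, he⟩ := Pair.exists_pow R.2 huR
  have hux := D.not_commute R hR huR huP
  have hwo : orderOf w = 7 := by
    obtain ⟨g, rfl⟩ := isConj_iff.1 hxw
    rw [← MulAut.conj_apply, MulEquiv.orderOf_eq, D.x_ord]
  have hind : a ∉ zpowers w := by
    intro ha
    refine hsm (dvd_trans ?_ (card_dvd_of_le (show (R : Subgroup G) ≤ centralizer ({w} : Set G) from
      fun r hr => mem_centralizer_singleton_iff.2 ?_)))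
    · obtain ⟨n, hn⟩ := IsPGroup.iff_card.1 R.2
      rw [hn]
      refine pow_dvd_pow 7 ?_
      by_contra h3
      refine hne (Subgroup.eq_of_le_of_card_ge hR ?_).symm
      rw [hn, D.toPair.card_grp]
      calc 7 ^ n ≤ 7 ^ 2 := Nat.pow_le_pow_right (by norm_num) (by omega)
        _ = 49 := by norm_num
    · have hwa : w ∈ zpowers a := by
        rw [Subgroup.eq_of_le_of_card_ge (zpowers_le.2 ha) (by
          rw [Nat.card_zpowers, Nat.card_zpowers, hwo, D.a_ord])]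
        exact mem_zpowers w
      obtain ⟨m, rfl⟩ := mem_zpowers_iff.1 hwa
      exact ((hac hr).zpow_right m).eq
  have hW : Pair w a := ⟨hwo, D.a_ord, hac hw, hind⟩
  have hWR : hW.grp ≤ (R : Subgroup G) := hW.grp_le hw (hR D.toPair.a_mem)
  obtain ⟨g, hg⟩ := isConj_iff.1 hxw
  -- conjugate into `P`
  obtain ⟨c, hcx, hc⟩ := D.toPair.conj_le D.small
    (Q := hW.grp.map (MulAut.conj g⁻¹).toMonoidHom) (hW.grp_pgroup.map _) (by
      rintro _ ⟨p, hp, rfl⟩
      refine mem_centralizer_singleton_iff.2 ?_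
      show g⁻¹ * p * g⁻¹⁻¹ * x = x * (g⁻¹ * p * g⁻¹⁻¹)
      calc g⁻¹ * p * g⁻¹⁻¹ * x = g⁻¹ * (p * (g * x * g⁻¹)) * g := by group
        _ = g⁻¹ * ((g * x * g⁻¹) * p) * g := by
          rw [hg, (hW.grp_comm hp hW.x_mem).eq]
        _ = x * (g⁻¹ * p * g⁻¹⁻¹) := by group)
  set g₁ := g * c⁻¹ with hg₁
  have hg₁x : g₁ * x * g₁⁻¹ = w := by
    rw [hg₁, show g * c⁻¹ * x * (g * c⁻¹)⁻¹ = g * (c⁻¹ * x * c⁻¹⁻¹) * g⁻¹ by group,
      conj_eq_of_commute hcx.inv_left, hg]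
  have hin : ∀ p ∈ hW.grp, g₁⁻¹ * p * g₁ ∈ D.toPair.grp := fun p hp => by
    have h1 := hc _ (mem_map_of_mem _ hp)
    rw [show g₁⁻¹ * p * g₁ = c * (g⁻¹ * p * g⁻¹⁻¹) * c⁻¹ by rw [hg₁]; group]
    exact h1
  set a' := g₁⁻¹ * a * g₁ with ha'
  have ha'P : a' ∈ D.toPair.grp := hin a hW.a_mem
  have ha'1 : a' ≠ 1 := fun e' => by
    have h1 : a = 1 := by
      calc a = g₁ * a' * g₁⁻¹ := by rw [ha']; group
        _ = 1 := by rw [e', mul_one, mul_inv_cancel]
    exact D.toPair.indep (h1 ▸ one_mem _)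
  refine ⟨g₁, ?_, hg₁x⟩
  by_cases hline : a' ∈ zpowers a
  · have heq : zpowers a' = zpowers a := Subgroup.eq_of_le_of_card_ge (zpowers_le.2 hline) (by
      rw [Nat.card_zpowers, Nat.card_zpowers, D.a_ord, D.toPair.order_eq ha'P ha'1])
    refine mem_normalizer_fintype fun p hp => ?_
    obtain ⟨m, rfl⟩ := mem_zpowers_iff.1 (heq.symm ▸ hp : p ∈ zpowers a')
    rw [← conj_zpow, show g₁ * a' * g₁⁻¹ = a by rw [ha']; group]
    exact zpow_mem_zpowers a m
  exfalso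
  have hne' : (R : Subgroup G) ≠ hW.grp := fun e' => hne (le_antisymm
    (Subgroup.eq_of_le_of_card_ge hR (by rw [e', hW.card_grp, D.toPair.card_grp])).ge hR)
  obtain ⟨v, hvR, hvW, hvN⟩ := Pair.exists_normalizing R.2 hWR hne'
  obtain ⟨d, hd⟩ := Pair.exists_pow R.2 hvR
  refine D.no_two (z := a) (z' := a') (v := u) (w := g₁⁻¹ * v * g₁) D.toPair.a_mem ha'P
    (fun e' => D.toPair.indep (e' ▸ one_mem _)) hline he
    (e := d) (by
      have := pow_conj_pow hd g₁⁻¹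
      rwa [inv_inv] at this) huN ?_ (hac huR) ?_ hux ?_
  · have key : ∀ p, g₁ * p * g₁⁻¹ ∈ hW.grp → g₁⁻¹ * v * g₁ * p * (g₁⁻¹ * v * g₁)⁻¹ ∈ D.toPair.grp := by
      intro p hp
      rw [show g₁⁻¹ * v * g₁ * p * (g₁⁻¹ * v * g₁)⁻¹ = g₁⁻¹ * (v * (g₁ * p * g₁⁻¹) * v⁻¹) * g₁ by group]
      exact hin _ ((mem_normalizer_iff.1 hvN _).1 hp)
    have hxm : g₁ * x * g₁⁻¹ ∈ hW.grp := by rw [hg₁x]; exact hW.x_mem
    have ham : g₁ * a' * g₁⁻¹ ∈ hW.grp := by
      rw [show g₁ * a' * g₁⁻¹ = a by rw [ha']; group]; exact hW.a_mem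
    have hind' : a' ∉ zpowers x := fun hz => hind (by
      obtain ⟨m, hm⟩ := mem_zpowers_iff.1 hz
      refine mem_zpowers_iff.2 ⟨m, ?_⟩
      rw [← hg₁x, conj_zpow, hm, ha']; group)
    have hP' : Pair x a' :=
      ⟨D.x_ord, D.toPair.order_eq ha'P ha'1, D.toPair.grp_comm D.toPair.x_mem ha'P, hind'⟩
    rw [← D.toPair.grp_eq hP' D.toPair.x_mem ha'P]
    refine hP'.mem_normalizer ?_ ?_ <;> rw [D.toPair.grp_eq hP' D.toPair.x_mem ha'P]
    · exact key x hxm
    · exact key a' ham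
  · show g₁⁻¹ * v * g₁ * (g₁⁻¹ * a * g₁) = g₁⁻¹ * a * g₁ * (g₁⁻¹ * v * g₁)
    calc g₁⁻¹ * v * g₁ * (g₁⁻¹ * a * g₁) = g₁⁻¹ * (v * a) * g₁ := by group
      _ = g₁⁻¹ * (a * v) * g₁ := by rw [(hac hvR).eq]
      _ = g₁⁻¹ * a * g₁ * (g₁⁻¹ * v * g₁) := by group
  · intro hcm
    have hvw : Commute v w := by
      rw [← hg₁x]
      calc v * (g₁ * x * g₁⁻¹) = g₁ * (g₁⁻¹ * v * g₁ * x) * g₁⁻¹ := by group
        _ = g₁ * (x * (g₁⁻¹ * v * g₁)) * g₁⁻¹ := by rw [hcm.eq]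
        _ = g₁ * x * g₁⁻¹ * v := by group
    refine hvW ((hW.eq_grp hsm (R.2.to_le inf_le_left) ?_ inf_le_right).le
      ⟨hvR, mem_centralizer_singleton_iff.2 hvw.eq⟩)
    exact le_inf hWR hW.grp_le_cent

end Data

end Cfsg.Agent.Walter.Field.Other.Seven
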