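import Cfsg.Agent.Lib.Walter.Field.OtherNormalSeven

/-!
# Pairs of commuting elements of order seven

The elementary group of order 49 on such a pair, coordinates, and the fact that two elements of
seven power order in its normaliser with different fixed lines give the inversion of the group.
-/

set_option autoImplicit false
set_option linter.unusedSectionVars false
set_option linter.style.haveILetI false

namespace Cfsg.Agent.Walter.Field.Other.Seven

open Subgroup

universe u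

variable {G : Type u} [Group G]

attribute [local instance] fact_seven

local instance fact_one_lt_seven : Fact (1 < 7) := ⟨by norm_num⟩

/-- Two commuting elements of order seven, independent. -/
structure Pair (x a : G) : Prop where
  x_ord : orderOf x = 7
  a_ord : orderOf a = 7
  comm : Commute x a
  indep : a ∉ zpowers x

theorem pow_val {g : G} (hg : orderOf g = 7) (n : ℕ) : g ^ (n : ZMod 7).val = g ^ n := by
  rw [ZMod.val_natCast]
  conv_rhs => rw [← pow_mod_orderOf, hg]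

theorem pow_add_val {g : G} (hg : orderOf g = 7) (u v : ZMod 7) :
    g ^ (u + v).val = g ^ u.val * g ^ v.val := by
  conv_lhs => rw [← ZMod.natCast_zmod_val u, ← ZMod.natCast_zmod_val v, ← Nat.cast_add, pow_val hg]
  rw [pow_add]

theorem pow_mul_val {g : G} (hg : orderOf g = 7) (u v : ZMod 7) :
    g ^ (u * v).val = (g ^ u.val) ^ v.val := by
  conv_lhs => rw [← ZMod.natCast_zmod_val u, ← ZMod.natCast_zmod_val v, ← Nat.cast_mul, pow_val hg]
  rw [pow_mul]

theorem eq_of_pow_val {g : G} (hg : orderOf g = 7) {u : ZMod 7} (h : g ^ u.val = 1) : u = 0 := by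
  have h1 := Nat.eq_zero_of_dvd_of_lt (dvd_trans hg.symm.dvd (orderOf_dvd_of_pow_eq_one h)) (ZMod.val_lt u : u.val < 7)
  exact (ZMod.val_eq_zero u).1 h1

namespace Pair

variable {x a : G}

/-- Coordinates. -/
noncomputable abbrev el (_ : Pair x a) (i k : ZMod 7) : G := x ^ i.val * a ^ k.val

/-- The homomorphism of coordinates. -/
noncomputable def hom (h : Pair x a) : Multiplicative (ZMod 7 × ZMod 7) →* G :=
  MonoidHom.mk' (fun u => h.el (Multiplicative.toAdd u).1 (Multiplicative.toAdd u).2) fun u v => by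
    show x ^ ((Multiplicative.toAdd u).1 + (Multiplicative.toAdd v).1).val *
      a ^ ((Multiplicative.toAdd u).2 + (Multiplicative.toAdd v).2).val = _
    rw [pow_add_val h.x_ord, pow_add_val h.a_ord, (h.comm.symm.pow_pow _ _).mul_mul_mul_comm]

/-- The group. -/
noncomputable abbrev grp (h : Pair x a) : Subgroup G := h.hom.range

variable (h : Pair x a)
include h

theorem el_mem (i k : ZMod 7) : h.el i k ∈ h.grp := ⟨Multiplicative.ofAdd (i, k), rfl⟩

theorem exists_el {g : G} (hg : g ∈ h.grp) : ∃ i k : ZMod 7, g = h.el i k := by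
  obtain ⟨u, rfl⟩ := hg
  exact ⟨_, _, rfl⟩

theorem el_natCast (i k : ℕ) : h.el (i : ZMod 7) (k : ZMod 7) = x ^ i * a ^ k := by
  rw [el, pow_val h.x_ord, pow_val h.a_ord]

theorem x_eq : h.el 1 0 = x := by
  rw [el, ZMod.val_one, pow_one, ZMod.val_zero, pow_zero, mul_one]

theorem a_eq : h.el 0 1 = a := by
  rw [el, ZMod.val_one, pow_one, ZMod.val_zero, pow_zero, one_mul]

theorem x_mem : x ∈ h.grp := by
  have := h.el_mem 1 0
  rwa [h.x_eq] at this

theorem a_mem : a ∈ h.grp := by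
  have := h.el_mem 0 1
  rwa [h.a_eq] at this

theorem el_mul (i k i' k' : ZMod 7) : h.el i k * h.el i' k' = h.el (i + i') (k + k') :=
  (map_mul h.hom (Multiplicative.ofAdd (i, k)) (Multiplicative.ofAdd (i', k'))).symm

theorem el_pow (i k : ZMod 7) (n : ℕ) : h.el i k ^ n = h.el (n * i) (n * k) := by
  induction n with
  | zero => simp [el]
  | succ n ih => rw [pow_succ, ih, el_mul]; push_cast; ring_nf

theorem el_eq_one {i k : ZMod 7} (e : h.el i k = 1) : i = 0 ∧ k = 0 := by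
  have hk : k = 0 := by
    by_contra hk
    haveI := fact_seven
    refine h.indep ?_
    have h1 : a ^ k.val ∈ zpowers x := by
      rw [eq_inv_of_mul_eq_one_right e]; exact inv_mem (pow_mem (mem_zpowers x) _)
    have h2 : a ^ (k * k⁻¹).val ∈ zpowers x := by rw [pow_mul_val h.a_ord]; exact pow_mem h1 _
    rwa [mul_inv_cancel₀ hk, ZMod.val_one, pow_one] at h2
  subst hk
  rw [el, ZMod.val_zero, pow_zero, mul_one] at e
  exact ⟨eq_of_pow_val h.x_ord e, rfl⟩

theorem hom_injective : Function.Injective h.hom :=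
  (injective_iff_map_eq_one h.hom).2 fun u hu => by
    obtain ⟨h1, h2⟩ := h.el_eq_one hu
    exact Multiplicative.toAdd.injective (Prod.ext h1 h2)

theorem el_inj {i k i' k' : ZMod 7} (e : h.el i k = h.el i' k') : i = i' ∧ k = k' := by
  have := congrArg Multiplicative.toAdd
    (h.hom_injective (a₁ := Multiplicative.ofAdd (i, k)) (a₂ := Multiplicative.ofAdd (i', k')) e)
  exact Prod.mk.injEq _ _ _ _ ▸ this

theorem card_grp : Nat.card ↥h.grp = 49 := by
  rw [← Nat.card_congr (MonoidHom.ofInjective h.hom_injective).toEquiv,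
    Nat.card_congr Multiplicative.toAdd, Nat.card_prod, Nat.card_zmod]

theorem grp_pgroup : IsPGroup 7 ↥h.grp :=
  IsPGroup.of_card (n := 2) (by rw [h.card_grp]; norm_num)

theorem grp_comm {g g' : G} (hg : g ∈ h.grp) (hg' : g' ∈ h.grp) : Commute g g' := by
  obtain ⟨u, rfl⟩ := hg
  obtain ⟨v, rfl⟩ := hg'
  exact (Commute.all u v).map h.hom

theorem grp_le {Q : Subgroup G} (hx : x ∈ Q) (ha : a ∈ Q) : h.grp ≤ Q := by
  rintro _ ⟨u, rfl⟩
  exact mul_mem (pow_mem hx _) (pow_mem ha _)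

theorem commute_grp {g : G} (hx : Commute g x) (ha : Commute g a) {p : G} (hp : p ∈ h.grp) :
    Commute g p := by
  obtain ⟨i, k, rfl⟩ := h.exists_el hp
  exact (hx.pow_right _).mul_right (ha.pow_right _)

theorem grp_eq [Finite G] {z z' : G} (h' : Pair z z') (hz : z ∈ h.grp) (hz' : z' ∈ h.grp) :
    h'.grp = h.grp :=
  Subgroup.eq_of_le_of_card_ge (h'.grp_le hz hz') (by rw [h.card_grp, h'.card_grp])

theorem pow_seven {g : G} (hg : g ∈ h.grp) : g ^ 7 = 1 := by
  obtain ⟨i, k, rfl⟩ := h.exists_el hg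
  rw [h.el_pow, show ((7 : ℕ) : ZMod 7) = 0 from rfl, zero_mul, zero_mul]
  simp [el]

theorem order_eq {g : G} (hg : g ∈ h.grp) (h1 : g ≠ 1) : orderOf g = 7 :=
  haveI := fact_seven
  orderOf_eq_prime (h.pow_seven hg) h1

theorem conj_el (g : G) (i k : ZMod 7) :
    g * h.el i k * g⁻¹ = (g * x * g⁻¹) ^ i.val * (g * a * g⁻¹) ^ k.val := by
  rw [conj_pow, conj_pow, el]; group

omit h in
theorem conj_mem_of {P : Subgroup G} (h : Pair x a) (hP : P = h.grp) (g : G)
    (hx : g * x * g⁻¹ ∈ P) (ha : g * a * g⁻¹ ∈ P) {p : G} (hp : p ∈ P) : g * p * g⁻¹ ∈ P := by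
  subst hP
  obtain ⟨i, k, rfl⟩ := h.exists_el hp
  rw [h.conj_el]
  exact mul_mem (pow_mem hx _) (pow_mem ha _)

theorem mem_normalizer [Finite G] {g : G} (hx : g * x * g⁻¹ ∈ h.grp) (ha : g * a * g⁻¹ ∈ h.grp) :
    g ∈ normalizer (h.grp : Set G) :=
  mem_normalizer_fintype fun _ hp => conj_mem_of h rfl g hx ha hp

/-- A member of seven power order of the normaliser fixing the second element. -/
theorem unipotent {g : G} (hgx : g * x * g⁻¹ ∈ h.grp) (hga : g * a * g⁻¹ = a) {e : ℕ}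
    (he : g ^ 7 ^ e = 1) : ∃ c : ZMod 7, g * x * g⁻¹ = h.el 1 c := by
  haveI := fact_seven
  obtain ⟨m, c, hmc⟩ := h.exists_el hgx
  refine ⟨c, ?_⟩
  suffices m = 1 by rw [hmc, this]
  have key : ∀ n : ℕ, ∃ c', g ^ n * x * (g ^ n)⁻¹ = h.el (m ^ n) c' := by
    intro n
    induction n with
    | zero => exact ⟨0, by rw [pow_zero, pow_zero, one_mul, inv_one, mul_one, h.x_eq]⟩
    | succ n ih =>
      obtain ⟨c', hc'⟩ := ih
      refine ⟨(m ^ n) * c + c', ?_⟩
      calc g ^ (n + 1) * x * (g ^ (n + 1))⁻¹ = g * (g ^ n * x * (g ^ n)⁻¹) * g⁻¹ := by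
            rw [pow_succ']; group
        _ = h.el m c ^ (m ^ n).val * a ^ c'.val := by rw [hc', h.conj_el, hmc, hga]
        _ = h.el (m ^ (n + 1)) (m ^ n * c + c') := by
            rw [h.el_pow, ZMod.natCast_zmod_val, show a ^ c'.val = h.el 0 c' by simp [el],
              h.el_mul, add_zero, pow_succ]
  obtain ⟨c', hc'⟩ := key (7 ^ e)
  rw [he, one_mul, inv_one, mul_one, ZMod.pow_card_pow] at hc'
  exact (h.el_inj (hc'.symm.trans h.x_eq.symm)).1

/-- Shearing by every amount. -/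
theorem shear {g : G} (hga : g * a * g⁻¹ = a) {c : ZMod 7} (hgx : g * x * g⁻¹ = h.el 1 c) (n : ℕ) :
    g ^ n * x * (g ^ n)⁻¹ = h.el 1 (n * c) ∧ g ^ n * a * (g ^ n)⁻¹ = a := by
  induction n with
  | zero => simp [el, ZMod.val_one]
  | succ n ih =>
    refine ⟨?_, ?_⟩
    · calc g ^ (n + 1) * x * (g ^ (n + 1))⁻¹ = g * (g ^ n * x * (g ^ n)⁻¹) * g⁻¹ := by
            rw [pow_succ']; group
        _ = h.el 1 c * a ^ ((n : ZMod 7) * c).val := by
            rw [ih.1, h.conj_el, hgx, hga, ZMod.val_one, pow_one]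
        _ = h.el 1 ((n + 1 : ℕ) * c) := by
            rw [show a ^ ((n : ZMod 7) * c).val = h.el 0 (n * c) by simp [el], h.el_mul, add_zero]
            push_cast; ring_nf
    · calc g ^ (n + 1) * a * (g ^ (n + 1))⁻¹ = g * (g ^ n * a * (g ^ n)⁻¹) * g⁻¹ := by
            rw [pow_succ']; group
        _ = a := by rw [ih.2, hga]

/-- A shear by one unit. -/
theorem shear_one {g : G} (hgx : g * x * g⁻¹ ∈ h.grp) (hga : g * a * g⁻¹ = a) {e : ℕ}
    (he : g ^ 7 ^ e = 1) (hne : g * x * g⁻¹ ≠ x) (c' : ZMod 7) :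
    ∃ n : ℕ, g ^ n * x * (g ^ n)⁻¹ = h.el 1 c' ∧ g ^ n * a * (g ^ n)⁻¹ = a := by
  haveI := fact_seven
  obtain ⟨c, hc⟩ := h.unipotent hgx hga he
  have hc0 : c ≠ 0 := fun e' => hne (by rw [hc, e', h.x_eq])
  refine ⟨(c' * c⁻¹).val, ?_⟩
  have := h.shear hga hc (c' * c⁻¹).val
  rwa [ZMod.natCast_zmod_val, inv_mul_cancel_right₀ hc0] at this

omit h in
theorem swap (h : Pair x a) : Pair a x where
  x_ord := h.a_ord
  a_ord := h.x_ord
  comm := h.comm.symm
  indep hx := h.indep (by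
    obtain ⟨m, hm⟩ := mem_zpowers_iff.1 hx
    haveI := fact_seven
    have e : zpowers x = zpowers a := by
      haveI : Finite ↥(zpowers a) := Nat.finite_of_card_ne_zero (by rw [Nat.card_zpowers, h.a_ord]; norm_num)
      exact Subgroup.eq_of_le_of_card_ge (zpowers_le.2 hx) (by rw [Nat.card_zpowers, Nat.card_zpowers, h.a_ord, h.x_ord])
    rw [e]; exact mem_zpowers a)

/-- Two different fixed lines give the inversion. -/
theorem inversion [Finite G] {v w : G} (hvx : v * x * v⁻¹ ∈ h.grp) (hva : v * a * v⁻¹ = a)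
    (hwa : w * a * w⁻¹ ∈ h.grp) (hwx : w * x * w⁻¹ = x) {d e : ℕ} (hd : v ^ 7 ^ d = 1)
    (he : w ^ 7 ^ e = 1) (hv : v * x * v⁻¹ ≠ x) (hw : w * a * w⁻¹ ≠ a) :
    ∃ n : G, ∀ p ∈ h.grp, n * p * n⁻¹ = p⁻¹ := by
  obtain ⟨m, hU1, hU2⟩ := h.shear_one hvx hva hd hv 1
  have hwa' : w * a * w⁻¹ ∈ h.swap.grp := by
    rw [h.grp_eq h.swap h.a_mem h.x_mem]; exact hwa
  obtain ⟨l, hV1, hV2⟩ := h.swap.shear_one hwa' hwx he hw (-1)
  set U := v ^ m
  set V := w ^ l
  have hV1' : V * a * V⁻¹ = h.el (-1) 1 := by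
    rw [hV1]; exact (h.comm.symm.pow_pow _ _).eq
  have hel : ∀ (g : G) (p q r s : ZMod 7), g * x * g⁻¹ = h.el p q → g * a * g⁻¹ = h.el r s →
      ∀ i k, g * h.el i k * g⁻¹ = h.el (i * p + k * r) (i * q + k * s) := fun g p q r s hp hr i k => by
    rw [h.conj_el, hp, hr, h.el_pow, h.el_pow, ZMod.natCast_zmod_val, ZMod.natCast_zmod_val, h.el_mul]
  have eU := hel U 1 1 0 1 hU1 (hU2.trans h.a_eq.symm)
  have eV := hel V 1 0 (-1) 1 (hV2.trans h.x_eq.symm) hV1'
  have eN : ∀ i k, (U * V * U) * h.el i k * (U * V * U)⁻¹ = h.el (-k) i := fun i k => by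
    calc (U * V * U) * h.el i k * (U * V * U)⁻¹ = U * (V * (U * h.el i k * U⁻¹) * V⁻¹) * U⁻¹ := by group
      _ = h.el (-k) i := by rw [eU, eV, eU]; congr 2 <;> ring
  refine ⟨(U * V * U) * (U * V * U), fun p hp => ?_⟩
  obtain ⟨i, k, rfl⟩ := h.exists_el hp
  refine eq_inv_of_mul_eq_one_left ?_
  calc (U * V * U) * (U * V * U) * h.el i k * ((U * V * U) * (U * V * U))⁻¹ * h.el i k
      = (U * V * U) * ((U * V * U) * h.el i k * (U * V * U)⁻¹) * (U * V * U)⁻¹ * h.el i k := by group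
    _ = 1 := by rw [eN, eN, h.el_mul]; simp [el]

end Pair

end Cfsg.Agent.Walter.Field.Other.Seven
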