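import Mathlib

/-!
# A small group of matrices modulo seven

A set of invertible matrices over `ZMod 7` closed under products and inverses, with no nontrivial
element of order seven, containing `diag (1, d)` with `d` of order three and in which every matrix
fixing the first line fixes the first vector, fixes the first vector.
-/

set_option autoImplicit false
set_option linter.unusedSectionVars false
set_option linter.unusedSimpArgs false
set_option linter.unnecessarySeqFocus false
set_option linter.unusedTactic false
set_option linter.unreachableTactic false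

namespace Cfsg.Agent.Walter.Field.Other.Seven

open Matrix

abbrev M7 : Type := Matrix (Fin 2) (Fin 2) (ZMod 7)

theorem prime_seven : Nat.Prime 7 := by norm_num

local instance fact_seven : Fact (Nat.Prime 7) := ⟨prime_seven⟩

theorem sq_eq (k : M7) (hk : k.det = 1) : k * k = k.trace • k + (-1 : ZMod 7) • (1 : M7) := by
  rw [det_fin_two] at hk
  ext i j
  fin_cases i <;> fin_cases j <;> simp [mul_apply, trace_fin_two, Fin.sum_univ_two] <;>
    first | ring1 | linear_combination hk | linear_combination -hk

/-- The coefficients of the powers. -/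
def coef (τ : ZMod 7) : ℕ → ZMod 7 × ZMod 7
  | 0 => (0, 1)
  | n + 1 => ((coef τ n).1 * τ + (coef τ n).2, -(coef τ n).1)

theorem pow_eq (k : M7) (hk : k.det = 1) (n : ℕ) :
    k ^ n = (coef k.trace n).1 • k + (coef k.trace n).2 • (1 : M7) := by
  induction n with
  | zero => simp [coef]
  | succ n ih =>
    rw [pow_succ', ih, coef, mul_add, mul_smul_comm, mul_smul_comm, sq_eq k hk, mul_one]
    module

theorem coef_cases : ∀ τ : ZMod 7, τ = -1 ∨ coef τ 7 = (0, 1) ∨
    coef τ 2 = (0, -1) ∨ coef τ 3 = (0, -1) ∨ coef τ 4 = (0, -1) ∨ coef τ 7 = (0, -1) := by decide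

theorem trace_cases {S : Set M7} (hone : (1 : M7) ∈ S) (hmul : ∀ A ∈ S, ∀ B ∈ S, A * B ∈ S)
    (hneg : (-1 : M7) ∉ S) (h7 : ∀ A ∈ S, A ^ 7 = 1 → A = 1) {k : M7} (hk : k ∈ S)
    (hd : k.det = 1) : k = 1 ∨ k.trace = -1 := by
  have hpow : ∀ n : ℕ, k ^ n ∈ S := fun n => by
    induction n with
    | zero => rw [pow_zero]; exact hone
    | succ n ih => rw [pow_succ]; exact hmul _ ih _ hk
  rcases coef_cases k.trace with h | h | h | h | h | h
  · exact Or.inr h
  · exact Or.inl (h7 k hk (by rw [pow_eq k hd, h]; simp))
  · exact absurd (by simpa [pow_eq k hd, h] using hpow 2) hneg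
  · exact absurd (by simpa [pow_eq k hd, h] using hpow 3) hneg
  · exact absurd (by simpa [pow_eq k hd, h] using hpow 4) hneg
  · exact absurd (by simpa [pow_eq k hd, h] using hpow 7) hneg

/-- The first vector is fixed. -/
theorem fixes_first {S : Set M7} (hone : (1 : M7) ∈ S) (hmul : ∀ A ∈ S, ∀ B ∈ S, A * B ∈ S)
    (hinv : ∀ A ∈ S, ∃ B ∈ S, B * A = 1) (hrig : ∀ A ∈ S, A 1 0 = 0 → A 0 0 = 1)
    (h7 : ∀ A ∈ S, A ^ 7 = 1 → A = 1) {j : ZMod 7} (hj : j ^ 3 = 1) (hj1 : j ≠ 1)
    (hdS : !![1, 0; 0, j] ∈ S) {M : M7} (hM : M ∈ S) : M 1 0 = 0 ∧ M 0 0 = 1 := by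
  have hquad : j * j + j + 1 = 0 := by
    have h1 : (j - 1) * (j * j + j + 1) = 0 := by linear_combination hj
    exact (mul_eq_zero.1 h1).resolve_left (sub_ne_zero.2 hj1)
  have hneg : (-1 : M7) ∉ S := fun h => by
    have := hrig _ h (by simp)
    revert this; simp only [Matrix.neg_apply, Matrix.one_apply_eq]; decide
  obtain ⟨d', hd'S, hd'⟩ := hinv _ hdS
  have hd'eq : d' = !![1, 0; 0, j * j] := by
    refine left_inv_eq_right_inv hd' ?_
    ext a b
    fin_cases a <;> fin_cases b <;> simp [mul_apply, Fin.sum_univ_two, vecMul, dotProduct] <;>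
      linear_combination hj
  subst hd'eq
  set d : M7 := !![1, 0; 0, j] with hd
  set d' : M7 := !![1, 0; 0, j * j] with hd'def
  have hdd : d.det * d'.det = 1 := by rw [← det_mul, mul_eq_one_comm.1 hd', det_one]
  -- no element of determinant one other than the identity
  have hone' : ∀ k ∈ S, k.det = 1 → k = 1 := by
    intro k hk hkd
    rcases trace_cases hone hmul hneg h7 hk hkd with h | h
    · exact h
    exfalso
    obtain ⟨k', hk'S, hk'⟩ := hinv k hk
    have hk'eq : k' = !![k 1 1, -k 0 1; -k 1 0, k 0 0] := by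
      refine left_inv_eq_right_inv hk' ?_
      rw [det_fin_two] at hkd
      ext a b
      fin_cases a <;> fin_cases b <;> simp [mul_apply, Fin.sum_univ_two] <;> first | ring1 | linear_combination hkd | linear_combination -hkd
    subst hk'eq
    rw [trace_fin_two] at h
    rw [det_fin_two] at hkd
    have hc : d * k * d' = !![k 0 0, k 0 1 * (j * j); j * k 1 0, k 1 1] := by
      ext a b
      fin_cases a <;> fin_cases b <;> simp [hd, hd'def, mul_apply, Fin.sum_univ_two, vecMul, dotProduct] <;>
        first | ring1 | linear_combination k 1 1 * hj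
    have hA : d * k * d' * !![k 1 1, -k 0 1; -k 1 0, k 0 0] ∈ S := hmul _ (hmul _ (hmul _ hdS _ hk) _ hd'S) _ hk'S
    have hB : k * (d * k * d') ∈ S := hmul _ hk _ (hmul _ (hmul _ hdS _ hk) _ hd'S)
    have hkdet : k.det = 1 := by rw [det_fin_two]; exact hkd
    have hdk : (d * k * d').det = 1 := by
      rw [det_mul, det_mul, hkdet, mul_one, hdd]
    rcases trace_cases hone hmul hneg h7 hA (by
        rw [det_mul, hdk, det_fin_two_of]; linear_combination hkd) with hA1 | hA1
    · have e : d * k * d' = k := by
        have h1 : (d * k * d' * !![k 1 1, -k 0 1; -k 1 0, k 0 0]) * k = k := by rw [hA1, one_mul]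
        rwa [mul_assoc, hk', mul_one] at h1
      rw [hc] at e
      have e10 := congrFun (congrFun e 1) 0
      simp at e10
      have h10 : k 1 0 = 0 := by
        have : (j - 1) * k 1 0 = 0 := by linear_combination e10
        exact (mul_eq_zero.1 this).resolve_left (sub_ne_zero.2 hj1)
      have h00 := hrig k hk h10
      rw [h00, h10] at hkd
      rw [h00] at h
      have : (2 : ZMod 7) = -1 := by linear_combination h - hkd
      revert this; decide
    · rw [hc, trace_fin_two] at hA1
      simp [mul_apply, Fin.sum_univ_two] at hA1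
      have hbc : k 0 1 * k 1 0 = -1 := by
        have h3 : (3 : ZMod 7) * (k 0 1 * k 1 0 + 1) = 0 := by
          linear_combination hA1 + (k 0 1 * k 1 0) * hquad - 2 * hkd
        have h4 := (mul_eq_zero.1 h3).resolve_left (by decide)
        linear_combination h4
      rcases trace_cases hone hmul hneg h7 hB (by rw [det_mul, hdk, hkdet, one_mul]) with hB1 | hB1
      · rw [hc] at hB1
        have e := (left_inv_eq_right_inv hk' hB1).symm
        have e00 := congrFun (congrFun e 0) 0
        simp at e00
        rw [← e00] at h hkd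
        have ha : k 0 0 = 3 := by
          have : (2 : ZMod 7) * (k 0 0 - 3) = 0 := by
            rw [show (2 : ZMod 7) * (k 0 0 - 3) = k 0 0 + k 0 0 - 6 by ring, h]; decide
          exact sub_eq_zero.1 ((mul_eq_zero.1 this).resolve_left (by decide))
        rw [ha, hbc] at hkd
        revert hkd; decide
      · rw [hc, trace_fin_two] at hB1
        simp [mul_apply, Fin.sum_univ_two] at hB1
        have : (-1 : ZMod 7) = 2 := by
          linear_combination (-1 : ZMod 7) * hB1 + (k 0 1 * k 1 0) * hquad + (k 0 0 + k 1 1 - 1) * h - 3 * hbc - 2 * hkd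
        revert this; decide
  obtain ⟨M', hM'S, hM'⟩ := hinv M hM
  have hK := hone' (M * d * M' * d') (hmul _ (hmul _ (hmul _ hM _ hdS) _ hM'S) _ hd'S) (by
    have hMd : M.det * M'.det = 1 := by rw [← det_mul, mul_eq_one_comm.1 hM', det_one]
    rw [det_mul, det_mul, det_mul]
    linear_combination (d.det * d'.det) * hMd + hdd)
  have e : M * d = d * M := by
    calc M * d = (M * d * M' * d') * d * M := by
          rw [mul_assoc (M * d * M'), hd', mul_one, mul_assoc, hM', mul_one]
      _ = d * M := by rw [hK, one_mul]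
  have e10 := congrFun (congrFun e 1) 0
  simp [hd, mul_apply, Fin.sum_univ_two] at e10
  have h10 : M 1 0 = 0 := by
    have : (j - 1) * M 1 0 = 0 := by linear_combination (-1 : ZMod 7) * e10
    exact (mul_eq_zero.1 this).resolve_left (sub_ne_zero.2 hj1)
  exact ⟨h10, hrig M hM h10⟩

end Cfsg.Agent.Walter.Field.Other.Seven
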