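import Cfsg.Agent.Lib.Walter.Field.OtherX
import Cfsg.Agent.Lib.PLocal.PSolvable

/-!
# The quotient of `X` by its odd core, and its parts at the involution

`C(t) ∩ X = (⟨t⟩ × L) O`, the image is the centraliser of the image of `t`, and its index is the
number of involutions.
-/

set_option autoImplicit false
set_option linter.unusedSectionVars false
set_option linter.style.haveILetI false

namespace Cfsg.Agent.Walter.Field.Other

open Subgroup

universe u v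

variable {G : Type u} [Group G] [Finite G] {K : Type v} [Field K] [Fintype K] {t : G} {E₀ : Subgroup G}
  {S : Sylow 2 G}

/-- A central involution and a subgroup missing it. -/
theorem equiv_prod {A : Type*} [Group A] {P : Type*} [Group P] [Finite A] {t : A} (ht : orderOf t = 2)
    {E C : Subgroup A} (hEC : zpowers t ⊔ E ≤ C) (hE : ∀ e ∈ E, Commute e t) (htE : t ∉ E) (e : ↥E ≃* P)
    (hcard : Nat.card ↥C = 2 * Nat.card ↥E) :
    Nonempty (↥C ≃* Multiplicative (ZMod 2) × P) := by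
  classical
  have hcomm : ∀ a ∈ zpowers t, ∀ b ∈ E, a * b = b * a := fun a ha b hb => by
    obtain ⟨m, rfl⟩ := mem_zpowers_iff.1 ha
    exact ((hE b hb).zpow_right m).eq.symm
  let f : ↥(zpowers t) × ↥E →* ↥C :=
    MonoidHom.mk' (fun p => ⟨(p.1 : A) * p.2, hEC (mul_mem (mem_sup_left p.1.2) (mem_sup_right p.2.2))⟩)
      fun p q => Subtype.ext (by
        show (p.1 : A) * (q.1 : A) * ((p.2 : A) * (q.2 : A)) = (p.1 : A) * (p.2 : A) * ((q.1 : A) * (q.2 : A))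
        rw [mul_assoc (p.1 : A), ← mul_assoc (q.1 : A), hcomm _ q.1.2 _ p.2.2]
        group)
  have hinj : Function.Injective f := (injective_iff_map_eq_one f).2 fun p hp => by
    have e' : (p.1 : A) * p.2 = 1 := congrArg Subtype.val hp
    have h1 : (p.1 : A) ∈ E := by rw [eq_inv_of_mul_eq_one_left e']; exact inv_mem p.2.2
    rcases zpow_cases ht p.1.2 with h2 | h2
    · rw [h2, one_mul] at e'
      exact Prod.ext (Subtype.ext h2) (Subtype.ext e')
    · exact absurd (h2 ▸ h1) htE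
  have hbij : Function.Bijective f := (Nat.bijective_iff_injective_and_card _).2
    ⟨hinj, by rw [Nat.card_prod, Nat.card_zpowers, ht, hcard]⟩
  haveI : Fact (Nat.Prime 2) := ⟨Nat.prime_two⟩
  exact ⟨(MulEquiv.ofBijective f hbij).symm.trans ((mulEquivOfCyclicCardEq (by
    rw [Nat.card_zpowers, ht, Nat.card_congr Multiplicative.toAdd, Nat.card_zmod])).prodCongr e)⟩

theorem Shape.card_sylow (Sh : Shape t K E₀ S) (hd : TwoPSL t K E₀) :
    Nat.card ↥(S : Subgroup G) = 8 := by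
  classical
  set V : Set (Matrix.ProjectiveSpecialLinearGroup (Fin 2) K) := {1, Sh.I, Sh.J, Sh.I * Sh.J} with hV
  have hVcard : Nat.card ↥V = 4 := by
    rw [Nat.card_coe_set_eq, Set.ncard_insert_of_notMem, Set.ncard_insert_of_notMem,
      Set.ncard_insert_of_notMem, Set.ncard_singleton]
    · intro h
      exact Sh.frame.neI (mul_eq_right.1 (Set.mem_singleton_iff.1 h).symm)
    · rintro (h | h)
      · exact Sh.frame.ne h
      · exact Sh.frame.neJ (mul_eq_left.1 (Set.mem_singleton_iff.1 h).symm)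
    · rintro (h | h | h)
      · exact Sh.frame.neI h.symm
      · exact Sh.frame.neJ h.symm
      · exact Sh.frame.ne (calc Sh.I = Sh.I * (Sh.J * Sh.J) := by rw [Sh.frame.sqJ, mul_one]
          _ = Sh.J := by rw [← mul_assoc, ← Set.mem_singleton_iff.1 h, one_mul])
  have hv : ∀ v ∈ V, (Sh.φ.symm v : G) ∈ (S : Subgroup G) := fun v hv => by
    rcases Sh.coe_four hv with e | e | e | e <;> rw [e]
    exacts [one_mem _, Sh.memI, Sh.memJ, mul_mem Sh.memI Sh.memJ]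
  have e : Nat.card (↥(zpowers t) × ↥V) = Nat.card ↥(S : Subgroup G) := by
    refine Nat.card_congr (Equiv.ofBijective
      (fun p : ↥(zpowers t) × ↥V => (⟨(p.1 : G) * (Sh.φ.symm p.2.1 : G),
        mul_mem ((zpowers_le.2 Sh.memt) p.1.2) (hv _ p.2.2)⟩ : ↥(S : Subgroup G))) ⟨fun p q h => ?_, ?_⟩)
    · have h' : (p.1 : G) * (Sh.φ.symm p.2.1 : G) = q.1 * (Sh.φ.symm q.2.1 : G) := congrArg Subtype.val h
      have h1 : (q.1 : G)⁻¹ * p.1 = (Sh.φ.symm q.2.1 : G) * (Sh.φ.symm p.2.1 : G)⁻¹ := by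
        rw [inv_mul_eq_iff_eq_mul, ← mul_assoc, ← h', mul_inv_cancel_right]
      have h2 : (q.1 : G)⁻¹ * p.1 = 1 := by
        rcases zpow_cases hd.ht (mul_mem (inv_mem q.1.2) p.1.2) with e | e
        · exact e
        · exfalso
          rw [e] at h1
          exact hd.t_not (h1 ▸ mul_mem (Sh.φ.symm q.2.1).2 (inv_mem (Sh.φ.symm p.2.1).2))
      have h3 : (p.1 : G) = q.1 := (inv_mul_eq_one.1 h2).symm
      rw [h3] at h'
      exact Prod.ext (Subtype.ext h3) (Subtype.ext (Sh.φ.symm.injective (Subtype.ext (mul_left_cancel h'))))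
    · rintro ⟨s, hs⟩
      obtain ⟨a, ha, v, hv', rfl⟩ := Sh.sylow s hs
      exact ⟨(⟨a, ha⟩, ⟨v, hv'⟩), rfl⟩
  rw [← e, Nat.card_prod, Nat.card_zpowers, hd.ht, hVcard]

namespace Elt

variable (D : Elt t K E₀ S)

/-- The fixed field. -/
noncomputable abbrev K₀ : Subfield K := fixF (D.Sh.σ ⟨D.x, D.hx⟩)

/-- Its order. -/
noncomputable abbrev q₀ : ℕ := Nat.card ↥D.K₀

theorem card_K : Fintype.card K = D.q₀ ^ D.r := by
  classical
  letI : Fintype ↥(fixF (D.Sh.σ ⟨D.x, D.hx⟩)) := Fintype.ofFinite _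
  rw [D.Sh.card_eq_pow D.hd D.hx, D.hox, q₀, Nat.card_eq_fintype_card]

theorem iso_L : Nonempty (↥D.L ≃* Matrix.ProjectiveSpecialLinearGroup (Fin 2) ↥D.K₀) :=
  D.Sh.fixed_iso D.hd D.hx

theorem q₀_odd : Odd D.q₀ := by
  have := D.hd.odd
  rw [D.card_K, Nat.odd_pow_iff D.hr.ne_zero] at this
  exact this

theorem three_le : 3 ≤ D.q₀ := by
  haveI : Nontrivial ↥D.K₀ := inferInstance
  have h1 : 1 < D.q₀ := Finite.one_lt_card
  obtain ⟨k, hk⟩ := D.q₀_odd
  omega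

theorem two_card_L : 2 * Nat.card ↥D.L = D.q₀ * ((D.q₀ - 1) * (D.q₀ + 1)) := by
  classical
  letI : Fintype ↥D.K₀ := Fintype.ofFinite _
  obtain ⟨e⟩ := D.iso_L
  have h2 := Forms.DicksonCor.gcd_mul_natCard (F := ↥D.K₀)
  rw [← Nat.card_eq_fintype_card, Nat.gcd_eq_left (by
    obtain ⟨k, hk⟩ := D.q₀_odd
    exact ⟨k, by rw [show Nat.card ↥D.K₀ = D.q₀ from rfl, hk]; omega⟩), ← Nat.card_congr e.toEquiv] at h2
  exact h2

theorem card_L_dvd : Nat.card ↥D.L ∣ D.q₀ * ((D.q₀ - 1) * (D.q₀ + 1)) :=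
  ⟨2, by rw [← D.two_card_L, mul_comm]⟩

theorem x_mem_core : (⟨D.x, D.O_le D.hx⟩ : ↥D.X) ∈ Cfsg.oddCore ↥D.X := by
  set x' : ↥D.X := ⟨D.x, D.O_le D.hx⟩
  haveI : (zpowers x').Normal := ⟨fun z hz g => by
    obtain ⟨m, rfl⟩ := mem_zpowers_iff.1 hz
    rw [((show Commute g x' from Subtype.ext (D.x_central g g.2).eq).zpow_right m).eq, mul_inv_cancel_right]
    exact zpow_mem_zpowers x' m⟩
  refine Agent.Cores.le_oddCore (N := zpowers x') ?_ (mem_zpowers x')
  rw [Nat.card_zpowers, Subgroup.orderOf_mk, D.hox]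
  exact D.r_odd

/-- The quotient by the odd core. -/
abbrev Q : Type u := ↥D.X ⧸ Cfsg.oddCore ↥D.X

/-- The projection. -/
abbrev π : ↥D.X →* D.Q := QuotientGroup.mk' _

/-- The image of `t`. -/
abbrev tq : D.Q := D.π ⟨t, D.t_mem⟩

theorem π_eq_one {g : ↥D.X} (h : D.π g = 1) : (g : G) ∈ D.Y :=
  ⟨g, (QuotientGroup.eq_one_iff g).1 h, rfl⟩

theorem eq_one_of_two {g : ↥D.X} (h : D.π g = 1) {k : ℕ} (hk : (g : G) ^ 2 ^ k = 1) : g = 1 := by
  refine Subtype.ext ?_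
  obtain ⟨j, -, hj⟩ := (Nat.dvd_prime_pow Nat.prime_two).1 (orderOf_dvd_of_pow_eq_one hk)
  have ho := D.Sh.O_odd (D.Y_le_O (D.π_eq_one h))
  rw [hj] at ho
  rcases Nat.eq_zero_or_pos j with rfl | hj0
  · exact orderOf_eq_one_iff.1 (by simpa using hj)
  · rw [Nat.odd_pow_iff hj0.ne'] at ho; exact absurd ho (by decide)

theorem tq_order : orderOf D.tq = 2 := by
  refine orderOf_eq_prime (hp := ⟨Nat.prime_two⟩) ?_ fun e => ?_
  · rw [← map_pow, show (⟨t, D.t_mem⟩ : ↥D.X) ^ 2 = 1 from Subtype.ext (by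
      show t ^ 2 = 1
      rw [← D.hd.ht, pow_orderOf_eq_one]), map_one]
  · have h1 : t = 1 := congrArg Subtype.val (D.eq_one_of_two e (k := 1) (by
      show t ^ 2 ^ 1 = 1
      rw [pow_one, ← D.hd.ht, pow_orderOf_eq_one]))
    have h2 := D.hd.ht
    rw [h1, orderOf_one] at h2
    omega

theorem abTwo_Q : SEAbelian.AbTwo D.Q :=
  (D.hab.subgroup D.X).map (QuotientGroup.mk'_surjective _)

theorem core_Q : Cfsg.oddCore D.Q = ⊥ := Agent.Cores.pPrimeCore_quotient_self 2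

/-- An involution of the quotient lifts to one of `X`. -/
theorem exists_lift {w : D.Q} (hw : orderOf w = 2) : ∃ g : ↥D.X, orderOf (g : G) = 2 ∧ D.π g = w := by
  haveI : Fact (Nat.Prime 2) := ⟨Nat.prime_two⟩
  have hp : IsPGroup 2 ↥(zpowers w) := IsPGroup.of_card (n := 1) (by rw [Nat.card_zpowers, hw, pow_one])
  obtain ⟨P, hP⟩ := hp.exists_le_sylow
  obtain ⟨R, rfl⟩ := Sylow.mapSurjective_surjective (QuotientGroup.mk'_surjective (Cfsg.oddCore ↥D.X)) 2 P
  obtain ⟨g, hg, hgw⟩ := hP (mem_zpowers w)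
  obtain ⟨k, hk⟩ := R.2 ⟨g, hg⟩
  have hk' : (g : G) ^ 2 ^ k = 1 := by
    simpa using congrArg (fun z : ↥(R : Subgroup ↥D.X) => ((z : ↥D.X) : G)) hk
  have h1 : g * g = 1 := by
    refine D.eq_one_of_two (k := k) ?_ ?_
    · rw [map_mul, show D.π g = w from hgw, ← pow_two, ← hw, pow_orderOf_eq_one]
    · show ((g : G) * g) ^ 2 ^ k = 1
      rw [← pow_two, pow_right_comm, hk', one_pow]
  refine ⟨g, orderOf_eq_prime (hp := ⟨Nat.prime_two⟩) ?_ fun e => ?_, hgw⟩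
  · rw [pow_two]; exact congrArg Subtype.val h1
  · rw [show g = 1 from Subtype.ext e, map_one] at hgw
    rw [← hgw, orderOf_one] at hw
    omega

theorem conj_Q {w : D.Q} (hw : orderOf w = 2) : ∃ q, q * D.tq * q⁻¹ = w := by
  obtain ⟨g, hg, rfl⟩ := D.exists_lift hw
  obtain ⟨h, hh, hht⟩ := D.conj_invol g.2 hg
  exact ⟨D.π ⟨h, hh⟩, by rw [← map_inv, ← map_mul, ← map_mul]; exact congrArg D.π (Subtype.ext hht)⟩

/-- The centraliser of `tq` is the image. -/
theorem lift_commute {q : D.Q} (hq : Commute q D.tq) : ∃ c ∈ D.CX, D.π c = q := by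
  obtain ⟨g, rfl⟩ := QuotientGroup.mk'_surjective _ q
  refine ⟨g, mem_subgroupOf.2 (mem_centralizer_singleton_iff.2 ?_), rfl⟩
  set z : ↥D.X := g * ⟨t, D.t_mem⟩ * g⁻¹ * ⟨t, D.t_mem⟩⁻¹ with hz
  have hzπ : D.π z = 1 := by
    rw [hz, map_mul, map_mul, map_mul, map_inv, map_inv, hq.eq, mul_inv_cancel_right, mul_inv_cancel]
  have hzY := D.π_eq_one hzπ
  have htt : t * t = 1 := by rw [← pow_two, ← D.hd.ht, pow_orderOf_eq_one]
  have hzt : (z : G) * t = (g : G) * t * (g : G)⁻¹ := by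
    show (g : G) * t * (g : G)⁻¹ * t⁻¹ * t = _
    group
  have h1 : (z : G) * z = 1 := by
    have h2 : ((z : G) * t) * ((z : G) * t) = 1 := by
      rw [hzt]
      calc (g : G) * t * (g : G)⁻¹ * ((g : G) * t * (g : G)⁻¹) = (g : G) * (t * t) * (g : G)⁻¹ := by group
        _ = 1 := by rw [htt, mul_one, mul_inv_cancel]
    rwa [(D.Y_commute_t hzY).symm.mul_mul_mul_comm, htt, mul_one] at h2
  have h3 : (z : G) = 1 := eq_one_of_odd_sq (D.Sh.O_odd (D.Y_le_O hzY)) h1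
  rw [h3, one_mul] at hzt
  show (g : G) * t = t * g
  calc (g : G) * t = (g : G) * t * (g : G)⁻¹ * g := by group
    _ = t * g := by rw [← hzt]

theorem cent_Q : centralizer ({D.tq} : Set D.Q) = D.CX.map D.π := by
  ext q
  constructor
  · intro hq
    obtain ⟨c, hc, rfl⟩ := D.lift_commute (mem_centralizer_singleton_iff.1 hq)
    exact mem_map_of_mem _ hc
  · rintro ⟨c, hc, rfl⟩
    refine mem_centralizer_singleton_iff.2 ?_
    rw [← map_mul, ← map_mul]
    exact congrArg D.π (Subtype.ext (mem_centralizer_singleton_iff.1 (mem_subgroupOf.1 hc)))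

theorem core_le_CX : Cfsg.oddCore ↥D.X ≤ D.CX := fun g hg =>
  mem_subgroupOf.2 (mem_centralizer_singleton_iff.2 (D.Y_commute_t ⟨g, hg, rfl⟩).eq)

theorem index_cent_Q : (centralizer ({D.tq} : Set D.Q)).index = D.N := by
  rw [D.cent_Q, Subgroup.index_map_eq _ (QuotientGroup.mk'_surjective _)
    (by rw [QuotientGroup.ker_mk']; exact D.core_le_CX)]

/-- `⟨t⟩ × L` inside `X`. -/
abbrev DX : Subgroup ↥D.X := (zpowers t ⊔ D.L).subgroupOf D.X

theorem sup_le_X : zpowers t ⊔ D.L ≤ D.X := sup_le (zpowers_le.2 D.t_mem) inf_le_right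

theorem DX_le : D.DX ≤ D.CX := fun g hg => mem_subgroupOf.2
  (sup_le (zpowers_le.2 (mem_centralizer_singleton_iff.2 rfl)) D.L_le_C (mem_subgroupOf.1 hg))

theorem t_not_L : t ∉ D.L := fun h => D.hd.t_not h.1

theorem card_DX : Nat.card ↥(zpowers t ⊔ D.L) = 2 * Nat.card ↥D.L := by
  have h2 : Nat.card (↥(zpowers t) × ↥D.L) = Nat.card ↥(zpowers t ⊔ D.L) := by
    refine Nat.card_congr (Equiv.ofBijective (fun p : ↥(zpowers t) × ↥D.L => (⟨(p.1 : G) * p.2,
      mul_mem (mem_sup_left p.1.2) (mem_sup_right p.2.2)⟩ : ↥(zpowers t ⊔ D.L))) ⟨fun p q h => ?_, ?_⟩)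
    · have h' : (p.1 : G) * p.2 = q.1 * q.2 := congrArg Subtype.val h
      have h1 : (q.1 : G)⁻¹ * p.1 = q.2 * (p.2 : G)⁻¹ := by
        rw [inv_mul_eq_iff_eq_mul, ← mul_assoc, ← h', mul_inv_cancel_right]
      rcases zpow_cases D.hd.ht (mul_mem (inv_mem q.1.2) p.1.2) with e | e
      · have h3 : (p.1 : G) = q.1 := (inv_mul_eq_one.1 e).symm
        rw [h3] at h'
        exact Prod.ext (Subtype.ext h3) (Subtype.ext (mul_left_cancel h'))
      · rw [e] at h1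
        have h5 := mul_mem q.2.2 (inv_mem p.2.2)
        rw [← h1] at h5
        exact absurd h5 D.t_not_L
    · rintro ⟨d, hd'⟩
      obtain ⟨a, ha, e, he, rfl⟩ := mem_sup_cases D.L_le_C hd'
      exact ⟨(⟨a, ha⟩, ⟨e, he⟩), rfl⟩
  rw [← h2, Nat.card_prod, Nat.card_zpowers, D.hd.ht]

theorem card_CX : Nat.card ↥D.CX = 2 * Nat.card ↥D.L * Nat.card ↥D.Sh.O := by
  rw [← D.card_DX, ← Nat.card_prod]
  refine (Nat.card_congr (Equiv.ofBijective
    (fun p : ↥(zpowers t ⊔ D.L) × ↥D.Sh.O =>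
      (⟨⟨(p.1 : G) * p.2, mul_mem (D.sup_le_X p.1.2) (D.O_le p.2.2)⟩, mem_subgroupOf.2
        (mul_mem (sup_le (zpowers_le.2 (mem_centralizer_singleton_iff.2 rfl)) D.L_le_C p.1.2)
          (D.Sh.O_le_C p.2.2))⟩ : ↥D.CX)) ⟨fun p q h => ?_, fun c => ?_⟩)).symm
  · have h' : (p.1 : G) * p.2 = q.1 * q.2 := congrArg (fun z : ↥D.CX => ((z : ↥D.X) : G)) h
    have h1 : (q.1 : G)⁻¹ * p.1 = q.2 * (p.2 : G)⁻¹ := by
      rw [inv_mul_eq_iff_eq_mul, ← mul_assoc, ← h', mul_inv_cancel_right]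
    have hsub : zpowers t ⊔ D.L ≤ zpowers t ⊔ E₀ := sup_le_sup_left inf_le_left _
    have h2 := D.Sh.uniq _ (hsub (mul_mem (inv_mem q.1.2) p.1.2)) (h1 ▸ mul_mem q.2.2 (inv_mem p.2.2))
    have h3 : (p.1 : G) = q.1 := (inv_mul_eq_one.1 h2).symm
    rw [h3] at h'
    exact Prod.ext (Subtype.ext h3) (Subtype.ext (mul_left_cancel h'))
  · obtain ⟨a, ha, e, he, o, ho, hc⟩ := D.cent_cases (mem_subgroupOf.1 c.2) c.1.2
    exact ⟨(⟨a * e, mul_mem (mem_sup_left ha) (mem_sup_right he)⟩, ⟨o, ho⟩),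
      Subtype.ext (Subtype.ext hc.symm)⟩

theorem card_X : Nat.card ↥D.X = 2 * Nat.card ↥D.L * Nat.card ↥D.Sh.O * D.N := by
  rw [← D.card_CX, D.CX.card_mul_index]

theorem DX_relIndex : D.DX.relIndex D.CX = Nat.card ↥D.Sh.O := by
  have h1 := (D.DX.subgroupOf D.CX).card_mul_index
  rw [Nat.card_congr (subgroupOfEquivOfLe D.DX_le).toEquiv, D.card_CX,
    Nat.card_congr (subgroupOfEquivOfLe D.sup_le_X).toEquiv, D.card_DX] at h1
  exact Nat.eq_of_mul_eq_mul_left (Nat.mul_pos two_pos Nat.card_pos) h1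

theorem pow_cardO {n : ℕ} (h : Nat.card ↥D.Sh.O = n) {o : G} (ho : o ∈ D.Sh.O) : o ^ n = 1 := by
  rw [← h]
  exact congrArg Subtype.val (pow_card_eq_one' (x := (⟨o, ho⟩ : ↥D.Sh.O)))

end Elt

end Cfsg.Agent.Walter.Field.Other
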