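import Cfsg.Agent.Lib.Walter.Field.OtherCent
import Cfsg.Agent.Lib.CharTheory.BrauerSuzuki.Complement

/-!
# Consequences of the shape of `C(t)`

The order of the field part, the elements of the field part, their centralisers in `C(t)`, one
class of involutions and the normaliser of a Sylow 2-subgroup inside the centraliser of `x`.
-/

set_option autoImplicit false
set_option linter.unusedSectionVars false
set_option linter.style.haveILetI false

namespace Cfsg.Agent.Walter.Field.Other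

open Subgroup
open Cfsg.Agent.AutPSL.Basic

universe u v

variable {G : Type u} [Group G] {K : Type v} [Field K] [Fintype K] {t : G} {E₀ : Subgroup G}
  {S : Sylow 2 G}

namespace Shape

variable (Sh : Shape t K E₀ S)

theorem O_le : Sh.O ≤ centralizer ((S : Subgroup G) : Set G) := fun c hc => ((Sh.mem_O c).1 hc).1

theorem O_odd {c : G} (hc : c ∈ Sh.O) : Odd (orderOf c) := ((Sh.mem_O c).1 hc).2

theorem O_commute_S {c s : G} (hc : c ∈ Sh.O) (hs : s ∈ (S : Subgroup G)) : Commute c s :=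
  (mem_centralizer_iff.1 (Sh.O_le hc) s hs).symm

theorem O_commute_t {c : G} (hc : c ∈ Sh.O) : Commute c t := Sh.O_commute_S hc Sh.memt

theorem O_le_C : Sh.O ≤ centralizer ({t} : Set G) := fun _ hc =>
  mem_centralizer_singleton_iff.2 (Sh.O_commute_t hc).eq

theorem O_comm {c d : G} (hc : c ∈ Sh.O) (hd : d ∈ Sh.O) : Commute c d :=
  Sh.cent_comm c (Sh.O_le hc) d (Sh.O_le hd)

theorem i_comm : Commute (Sh.φ.symm Sh.I : G) (Sh.φ.symm Sh.J : G) :=
  (Sh.frame.comm.map Sh.φ.symm).map E₀.subtype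

/-- The elements of the Sylow subgroup. -/
theorem coe_four {v : Matrix.ProjectiveSpecialLinearGroup (Fin 2) K}
    (hv : v ∈ ({1, Sh.I, Sh.J, Sh.I * Sh.J} : Set _)) :
    (Sh.φ.symm v : G) = 1 ∨ (Sh.φ.symm v : G) = Sh.φ.symm Sh.I ∨ (Sh.φ.symm v : G) = Sh.φ.symm Sh.J ∨
      (Sh.φ.symm v : G) = (Sh.φ.symm Sh.I : G) * Sh.φ.symm Sh.J := by
  rcases hv with rfl | rfl | rfl | rfl
  · exact Or.inl (by rw [map_one, Subgroup.coe_one])
  · exact Or.inr (Or.inl rfl)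
  · exact Or.inr (Or.inr (Or.inl rfl))
  · exact Or.inr (Or.inr (Or.inr (by rw [map_mul, Subgroup.coe_mul])))

variable (hd : TwoPSL t K E₀)
include hd

/-- An element of `C(t)` normalising the Sylow subgroup centralises `O`. -/
theorem normalizer_commute {c : G} (hc : c ∈ centralizer ({t} : Set G))
    (hn : c ∈ normalizer ((S : Subgroup G) : Set G)) {o : G} (ho : o ∈ Sh.O) : Commute c o := by
  set D := zpowers t ⊔ E₀ with hD
  have hDC : D ≤ centralizer ({t} : Set G) := sup_le (zpowers_le.2 (mem_centralizer_singleton_iff.2 rfl)) hd.le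
  have hnorm : centralizer ({t} : Set G) ≤ normalizer (D : Set G) := fun g hg =>
    (le_inf (le_trans (zpowers_le.2 (show g ∈ normalizer ((zpowers t) : Set G) from
      centralizer_le_normalizer _ (mem_centralizer_iff.2 fun a ha => by
        obtain ⟨m, rfl⟩ := mem_zpowers_iff.1 ha
        exact ((show Commute g t from mem_centralizer_singleton_iff.1 hg).zpow_right m).eq.symm)))
      le_rfl) (zpowers_le.2 (hd.normal hg))).trans (normalizer_inf_normalizer_le_normalizer_sup _ _)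
      (mem_zpowers g)
  obtain ⟨d, hd', o', ho', rfl⟩ := Sh.surj c hc
  have hoc : d * o' * o * (d * o')⁻¹ ∈ Sh.O := by
    refine (Sh.mem_O _).2 ⟨mem_centralizer_iff.2 fun s hs => ?_, ?_⟩
    · have h1 : (d * o')⁻¹ * s * (d * o') ∈ (S : Subgroup G) := (mem_normalizer_iff''.1 hn s).1 hs
      have h2 : o * ((d * o')⁻¹ * s * (d * o')) = (d * o')⁻¹ * s * (d * o') * o :=
        (Sh.O_commute_S ho h1).eq
      calc s * (d * o' * o * (d * o')⁻¹) = d * o' * ((d * o')⁻¹ * s * (d * o') * o) * (d * o')⁻¹ := by group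
        _ = d * o' * (o * ((d * o')⁻¹ * s * (d * o'))) * (d * o')⁻¹ := by rw [h2]
        _ = d * o' * o * (d * o')⁻¹ * s := by group
    · rw [← MulAut.conj_apply, MulEquiv.orderOf_eq]; exact Sh.O_odd ho
  have he : d * o' * o * (d * o')⁻¹ = d * o * d⁻¹ := by
    calc d * o' * o * (d * o')⁻¹ = d * (o' * o) * o'⁻¹ * d⁻¹ := by group
      _ = d * (o * o') * o'⁻¹ * d⁻¹ := by rw [(Sh.O_comm ho' ho).eq]
      _ = d * o * d⁻¹ := by group
  rw [he] at hoc
  have h1 : d * o * d⁻¹ * o⁻¹ = 1 := by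
    refine Sh.uniq _ ?_ (mul_mem hoc (inv_mem ho))
    rw [show d * o * d⁻¹ * o⁻¹ = d * (o * d⁻¹ * o⁻¹) by group]
    exact mul_mem hd' ((mem_normalizer_iff.1 (hnorm (Sh.O_le_C ho)) _).1 (inv_mem hd'))
  have h2 : Commute d o := mul_inv_eq_iff_eq_mul.1 (mul_inv_eq_one.1 h1)
  exact h2.mul_left (Sh.O_comm ho' ho)

omit hd in
theorem y_normalizes [Finite G] (hC : E₀ ≤ centralizer ({t} : Set G)) :
    Sh.y ∈ normalizer ((S : Subgroup G) : Set G) := by
  refine Subgroup.mem_normalizer_fintype fun s hs => ?_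
  obtain ⟨a, ha, v, hv, rfl⟩ := Sh.sylow s hs
  have hya : Sh.y * a * Sh.y⁻¹ = a := by
    obtain ⟨m, rfl⟩ := mem_zpowers_iff.1 ha
    rw [((show Commute Sh.y t from mem_centralizer_singleton_iff.1 (hC Sh.y_mem)).zpow_right m).eq,
      mul_inv_cancel_right]
  rw [show Sh.y * (a * (Sh.φ.symm v : G)) * Sh.y⁻¹ = Sh.y * a * Sh.y⁻¹ * (Sh.y * (Sh.φ.symm v : G) * Sh.y⁻¹)
    by group, hya]
  refine mul_mem ((zpowers_le.2 Sh.memt) ha) ?_
  rcases Sh.coe_four hv with e | e | e | e <;> rw [e]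
  · simp
  · rw [Sh.y_I]; exact Sh.memJ
  · rw [Sh.y_J]; exact mul_mem Sh.memI Sh.memJ
  · rw [show Sh.y * ((Sh.φ.symm Sh.I : G) * Sh.φ.symm Sh.J) * Sh.y⁻¹ = (Sh.y * (Sh.φ.symm Sh.I : G) * Sh.y⁻¹) *
      (Sh.y * (Sh.φ.symm Sh.J : G) * Sh.y⁻¹) by group, Sh.y_I, Sh.y_J]
    exact mul_mem Sh.memJ (mul_mem Sh.memI Sh.memJ)

theorem y_commute [Finite G] {o : G} (ho : o ∈ Sh.O) : Commute Sh.y o :=
  Sh.normalizer_commute hd (hd.le Sh.y_mem) (Sh.y_normalizes hd.le) ho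

/-- The order of the field part. -/
theorem card_cent [Finite G] :
    Nat.card ↥(centralizer ({t} : Set G)) = Nat.card ↥(zpowers t ⊔ E₀) * Nat.card ↥Sh.O := by
  have hDC : zpowers t ⊔ E₀ ≤ centralizer ({t} : Set G) :=
    sup_le (zpowers_le.2 (mem_centralizer_singleton_iff.2 rfl)) hd.le
  rw [← Nat.card_prod]
  refine (Nat.card_congr (Equiv.ofBijective
    (fun p : ↥(zpowers t ⊔ E₀) × ↥Sh.O => (⟨(p.1 : G) * p.2, mul_mem (hDC p.1.2) (Sh.O_le_C p.2.2)⟩ :
      ↥(centralizer ({t} : Set G)))) ⟨fun p q e => ?_, fun c => ?_⟩)).symm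
  · have e' : (p.1 : G) * p.2 = q.1 * q.2 := congrArg Subtype.val e
    have h1 : (q.1 : G)⁻¹ * p.1 = q.2 * (p.2 : G)⁻¹ := by
      rw [inv_mul_eq_iff_eq_mul, ← mul_assoc, ← e', mul_inv_cancel_right]
    have h2 := Sh.uniq _ (mul_mem (inv_mem q.1.2) p.1.2) (h1 ▸ mul_mem q.2.2 (inv_mem p.2.2))
    have h3 : (p.1 : G) = q.1 := (inv_mul_eq_one.1 h2).symm
    refine Prod.ext (Subtype.ext h3) (Subtype.ext ?_)
    rw [h3] at e'
    exact mul_left_cancel e'
  · obtain ⟨d, hd', o, ho, e⟩ := Sh.surj c c.2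
    exact ⟨(⟨d, hd'⟩, ⟨o, ho⟩), Subtype.ext e.symm⟩

theorem outIndex_eq [Finite G] : outIndex t E₀ = Nat.card ↥Sh.O := by
  have hDC : zpowers t ⊔ E₀ ≤ centralizer ({t} : Set G) :=
    sup_le (zpowers_le.2 (mem_centralizer_singleton_iff.2 rfl)) hd.le
  have h1 := ((zpowers t ⊔ E₀).subgroupOf (centralizer ({t} : Set G))).card_mul_index
  rw [Nat.card_congr (subgroupOfEquivOfLe hDC).toEquiv, Sh.card_cent hd] at h1
  exact Nat.eq_of_mul_eq_mul_left Nat.card_pos h1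

omit hd in
theorem O_cyclic : IsCyclic ↥Sh.O := by
  haveI := ringAut_cyclic (F := K)
  exact isCyclic_of_injective Sh.σ Sh.σ_inj

theorem card_O_odd [Finite G] : Odd (Nat.card ↥Sh.O) := by
  by_contra he
  haveI : Fact (Nat.Prime 2) := ⟨Nat.prime_two⟩
  obtain ⟨g, hg⟩ := exists_prime_orderOf_dvd_card' (G := ↥Sh.O) 2
    (even_iff_two_dvd.1 (Nat.not_odd_iff_even.1 he))
  have h1 := Sh.O_odd g.2
  rw [Subgroup.orderOf_coe, hg] at h1
  exact absurd h1 (by decide)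

/-- Subgroups of `O` of the same prime order coincide. -/
theorem mem_zpowers_of_order [Finite G] {x z : G} (hx : x ∈ Sh.O) (hz : z ∈ Sh.O) {r : ℕ}
    (hr : r.Prime) (hox : orderOf x = r) (hzr : z ^ r = 1) : z ∈ zpowers x := by
  haveI := Sh.O_cyclic
  haveI : Fact r.Prime := ⟨hr⟩
  rcases eq_or_ne z 1 with rfl | hz1
  · exact one_mem _
  have hoz : orderOf z = r := orderOf_eq_prime hzr hz1
  have e : zpowers (⟨z, hz⟩ : ↥Sh.O) = zpowers (⟨x, hx⟩ : ↥Sh.O) :=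
    CharTheory.BrauerSuzuki.subgroup_eq_of_card _ _ (by
      rw [Nat.card_zpowers, Nat.card_zpowers, Subgroup.orderOf_mk, Subgroup.orderOf_mk, hoz, hox])
  have h1 : (⟨z, hz⟩ : ↥Sh.O) ∈ zpowers (⟨x, hx⟩ : ↥Sh.O) := e ▸ mem_zpowers _
  obtain ⟨m, hm⟩ := mem_zpowers_iff.1 h1
  exact ⟨m, congrArg Subtype.val hm⟩

omit hd in
/-- The fixed points of `o` in `E₀`. -/
theorem commute_iff {o : G} (ho : o ∈ Sh.O) (hn : o ∈ normalizer (E₀ : Set G)) (e : ↥E₀) :
    Commute o (e : G) ↔ fAut (Sh.σ ⟨o, ho⟩) (Sh.φ e) = Sh.φ e := by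
  have h1 := Sh.act ⟨o, ho⟩ e ⟨o * e * o⁻¹, (mem_normalizer_iff.1 hn _).1 e.2⟩ rfl
  constructor
  · intro hc
    rw [← h1]
    exact congrArg Sh.φ (Subtype.ext (by show o * e * o⁻¹ = (e : G); rw [hc.eq, mul_inv_cancel_right]))
  · intro hf
    rw [hf] at h1
    exact mul_inv_eq_iff_eq_mul.1 (congrArg Subtype.val (Sh.φ.injective h1))

theorem fixed_map [Finite G] {x : G} (hx : x ∈ Sh.O) :
    (((centralizer ({x} : Set G)).subgroupOf E₀).map Sh.φ.toMonoidHom) =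
      (fixHom (Sh.σ ⟨x, hx⟩)).range := by
  ext z
  constructor
  · rintro ⟨e, he, rfl⟩
    refine fixed_mem_range _ hd.odd ?_ ?_
    · refine (Sh.O_odd hx).of_dvd_nat ?_
      rw [← Subgroup.orderOf_mk x hx]
      exact orderOf_map_dvd _ _
    · exact (Sh.commute_iff hx (hd.normal (Sh.O_le_C hx)) e).1 (mem_centralizer_singleton_iff.1
        (mem_subgroupOf.1 he)).symm
  · rintro ⟨s, rfl⟩
    refine ⟨Sh.φ.symm (fixHom _ s), ?_, Sh.φ.apply_symm_apply _⟩
    exact mem_centralizer_singleton_iff.2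
      ((Sh.commute_iff hx (hd.normal (Sh.O_le_C hx)) _).2 (by
        rw [Sh.φ.apply_symm_apply]; exact fixHom_fixed _ s)).eq.symm

/-- `C_{E₀}(x)` is `PSL₂` of the fixed field. -/
theorem fixed_iso [Finite G] {x : G} (hx : x ∈ Sh.O) :
    Nonempty (↥(E₀ ⊓ centralizer ({x} : Set G)) ≃*
      Matrix.ProjectiveSpecialLinearGroup (Fin 2) ↥(fixF (Sh.σ ⟨x, hx⟩))) := by
  obtain ⟨e⟩ := fixed_equiv (Sh.σ ⟨x, hx⟩)
  exact ⟨((MulEquiv.subgroupCongr (show E₀ ⊓ centralizer ({x} : Set G) =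
      ((centralizer ({x} : Set G)).subgroupOf E₀).map E₀.subtype by
        rw [subgroupOf_map_subtype, inf_comm])).trans
    ((((centralizer ({x} : Set G)).subgroupOf E₀).equivMapOfInjective _ E₀.subtype_injective).symm.trans
      ((((centralizer ({x} : Set G)).subgroupOf E₀).equivMapOfInjective Sh.φ.toMonoidHom Sh.φ.injective).trans
        (MulEquiv.subgroupCongr (Sh.fixed_map hd hx))))).trans e⟩

theorem card_eq_pow [Finite G] {x : G} (hx : x ∈ Sh.O) [Fintype ↥(fixF (Sh.σ ⟨x, hx⟩))] :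
    Fintype.card K = Fintype.card ↥(fixF (Sh.σ ⟨x, hx⟩)) ^ orderOf x := by
  rw [card_fixF (Sh.σ ⟨x, hx⟩), orderOf_injective Sh.σ Sh.σ_inj, Subgroup.orderOf_mk]

/-- An element of `E₀ O` centralising `C_{E₀}(x)` lies in `⟨x⟩`. -/
theorem faithful_fixed [Finite G] {x : G} (hx : x ∈ Sh.O) {e o : G} (he : e ∈ E₀) (ho : o ∈ Sh.O)
    (hc : ∀ l ∈ E₀, Commute l x → Commute (e * o) l) : e = 1 ∧ o ∈ zpowers x := by
  have hyw : Commute (Sh.φ.symm (Sh.φ ⟨Sh.y, Sh.y_mem⟩) : G) x := by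
    rw [Sh.φ.symm_apply_apply]; exact Sh.y_commute hd hx
  have key : ∀ l : ↥E₀, Commute (l : G) x → Commute o (l : G) → Commute e (l : G) := fun l hlx hol => by
    have h1 : Commute (e * o) (l : G) := hc l l.2 hlx
    have h2 := h1.mul_left hol.inv_left
    rwa [mul_inv_cancel_right] at h2
  have hI : Commute e (Sh.φ.symm Sh.I : G) :=
    key _ (Sh.O_commute_S hx Sh.memI).symm (Sh.O_commute_S ho Sh.memI)
  have hJ : Commute e (Sh.φ.symm Sh.J : G) :=
    key _ (Sh.O_commute_S hx Sh.memJ).symm (Sh.O_commute_S ho Sh.memJ)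
  have hy : Commute e Sh.y := key ⟨Sh.y, Sh.y_mem⟩ (Sh.y_commute hd hx) (Sh.y_commute hd ho).symm
  have he1 : e = 1 := by
    have h4 := Sh.coe_four (Sh.four ⟨e, he⟩ hI hJ)
    rw [Sh.φ.symm_apply_apply] at h4
    have hfix : Sh.y * e * Sh.y⁻¹ = e := by rw [hy.symm.eq, mul_inv_cancel_right]
    rcases h4 with h4 | h4 | h4 | h4 <;> simp only at h4
    · exact h4
    · exfalso
      rw [h4, Sh.y_I] at hfix
      exact Sh.frame.ne (Sh.φ.symm.injective (Subtype.ext hfix)).symm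
    · exfalso
      rw [h4, Sh.y_J] at hfix
      exact Sh.frame.neI (Sh.φ.symm.injective (Subtype.ext (by
        rw [map_one, Subgroup.coe_one]; exact mul_eq_right.1 hfix)))
    · exfalso
      rw [h4, show Sh.y * ((Sh.φ.symm Sh.I : G) * Sh.φ.symm Sh.J) * Sh.y⁻¹ = (Sh.y * (Sh.φ.symm Sh.I : G) * Sh.y⁻¹) *
        (Sh.y * (Sh.φ.symm Sh.J : G) * Sh.y⁻¹) by group, Sh.y_I, Sh.y_J, ← mul_assoc, ← Sh.i_comm.eq] at hfix
      exact Sh.frame.neJ (Sh.φ.symm.injective (Subtype.ext (by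
        rw [map_one, Subgroup.coe_one]; exact mul_eq_left.1 hfix)))
  refine ⟨he1, ?_⟩
  have hsig : Sh.σ ⟨o, ho⟩ ∈ zpowers (Sh.σ ⟨x, hx⟩) := by
    refine mem_zpowers_of_fix _ fun z hz => ?_
    obtain ⟨l, hl, rfl⟩ := (Sh.fixed_map hd hx).ge hz
    refine (Sh.commute_iff ho (hd.normal (Sh.O_le_C ho)) l).1 ?_
    have h1 := hc l l.2 (mem_centralizer_singleton_iff.1 (mem_subgroupOf.1 hl))
    rwa [he1, one_mul] at h1
  obtain ⟨m, hm⟩ := mem_zpowers_iff.1 hsig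
  rw [← map_zpow] at hm
  exact ⟨m, congrArg Subtype.val (Sh.σ_inj hm)⟩

end Shape

end Cfsg.Agent.Walter.Field.Other
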