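import Cfsg.Agent.Lib.Walter.Field.OtherQuot
import Cfsg.Agent.Lib.Walter.OddTransitive
import Cfsg.Agent.S0343
import Cfsg.Agent.S1230

/-!
# The shape of `X` and the number of its involutions

Either the Sylow 2-subgroup is normal in `X` (then `q₀ = 3` and `N = 7`), or the quotient by the odd
core has a simple normal subgroup `T` with all involutions, whose centraliser of the involution is
`C₂ × PSL₂(q₀)` (then `S0343` gives `N`), or `q₀ = 3` and `T ≅ PSL₂(8)`, `N = 63`.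
-/

set_option autoImplicit false
set_option linter.unusedSectionVars false
set_option linter.style.haveILetI false

namespace Cfsg.Agent.Walter.Field.Other

open Subgroup

universe u v

variable {G : Type u} [Group G] [Finite G] {K : Type v} [Field K] [Fintype K] {t : G} {E₀ : Subgroup G}
  {S : Sylow 2 G}

/-- A transitive action on the nontrivial elements of a subgroup. -/
theorem relIndex_cent_add_one {A : Type*} [Group A] [Finite A] {P M : Subgroup A} {a : A}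
    (ha : a ∈ P) (ha1 : a ≠ 1) (hM : M ≤ normalizer (P : Set A))
    (htr : ∀ w ∈ P, w ≠ 1 → ∃ m ∈ M, m * a * m⁻¹ = w) :
    (centralizer ({a} : Set A)).relIndex M + 1 = Nat.card ↥P := by
  classical
  letI : Fintype ↥P := Fintype.ofFinite _
  have key : ∀ m n : ↥M, m⁻¹ * n ∈ (centralizer ({a} : Set A)).subgroupOf M ↔
      (m : A) * a * (m : A)⁻¹ = (n : A) * a * (n : A)⁻¹ := by
    intro m n
    rw [mem_subgroupOf, mem_centralizer_singleton_iff, Subgroup.coe_mul, Subgroup.coe_inv]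
    constructor
    · intro h
      calc (m : A) * a * (m : A)⁻¹ = (m : A) * (a * ((m : A)⁻¹ * n)) * (n : A)⁻¹ := by group
        _ = (m : A) * ((m : A)⁻¹ * n * a) * (n : A)⁻¹ := by rw [h]
        _ = (n : A) * a * (n : A)⁻¹ := by group
    · intro h
      calc (m : A)⁻¹ * n * a = (m : A)⁻¹ * ((n : A) * a * (n : A)⁻¹) * n := by group
        _ = (m : A)⁻¹ * ((m : A) * a * (m : A)⁻¹) * n := by rw [h]
        _ = a * ((m : A)⁻¹ * n) := by group
  let f : ↥M ⧸ (centralizer ({a} : Set A)).subgroupOf M → {w : ↥P // w ≠ 1} := fun z =>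
    Quotient.liftOn' z (fun m => ⟨⟨(m : A) * a * (m : A)⁻¹, (mem_normalizer_iff.1 (hM m.2) a).1 ha⟩,
      fun e => ha1 (conj_eq_one_iff.1 (congrArg Subtype.val e))⟩)
      fun m n h => Subtype.ext (Subtype.ext ((key m n).1 (QuotientGroup.leftRel_apply.1 h)))
  have hf : Function.Bijective f := by
    refine ⟨fun z z' => ?_, fun w => ?_⟩
    · refine QuotientGroup.induction_on z fun m => QuotientGroup.induction_on z' fun n h => ?_
      exact QuotientGroup.eq.2 ((key m n).2 (congrArg (fun w : {w : ↥P // w ≠ 1} => ((w : ↥P) : A)) h))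
    · obtain ⟨m, hm, e⟩ := htr _ w.1.2 fun e => w.2 (Subtype.ext e)
      refine ⟨QuotientGroup.mk (⟨m, hm⟩ : ↥M), ?_⟩
      exact Subtype.ext (Subtype.ext e)
  rw [Subgroup.relIndex, Subgroup.index_eq_card, Nat.card_congr (Equiv.ofBijective f hf),
    Nat.card_eq_fintype_card, Nat.card_eq_fintype_card, Fintype.card_subtype_compl,
    Fintype.card_subtype_eq]
  have := Fintype.card_pos (α := ↥P)
  omega

namespace Elt

variable (D : Elt t K E₀ S)

/-- The image of `L`. -/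
abbrev LQ : Subgroup D.Q := (D.L.subgroupOf D.X).map D.π

/-- The image of `S`. -/
noncomputable abbrev SQ : Sylow 2 D.Q := (S.subtype D.S_le).mapSurjective (QuotientGroup.mk'_surjective _)

theorem SQ_eq : (D.SQ : Subgroup D.Q) = ((S : Subgroup G).subgroupOf D.X).map D.π := rfl

theorem tq_mem : D.tq ∈ (D.SQ : Subgroup D.Q) :=
  ⟨_, mem_subgroupOf.2 D.Sh.memt, rfl⟩

theorem SQ_sq {w : D.Q} (hw : w ∈ (D.SQ : Subgroup D.Q)) : w * w = 1 := by
  obtain ⟨g, hg, rfl⟩ := hw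
  rw [← map_mul, show g * g = 1 from Subtype.ext (D.Sh.orbit_invol D.hab D.hd (mem_subgroupOf.1 hg)),
    map_one]

theorem SQ_order {w : D.Q} (hw : w ∈ (D.SQ : Subgroup D.Q)) (h1 : w ≠ 1) : orderOf w = 2 :=
  orderOf_eq_prime (hp := ⟨Nat.prime_two⟩) (by rw [pow_two]; exact D.SQ_sq hw) h1

theorem card_SQ : Nat.card ↥(D.SQ : Subgroup D.Q) = 8 := by
  rw [D.SQ_eq, ← MonoidHom.domRestrict_range, ← Nat.card_congr (MonoidHom.ofInjective (f :=
      D.π.domRestrict ((S : Subgroup G).subgroupOf D.X)) ((injective_iff_map_eq_one _).2 fun g hg =>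
        Subtype.ext (D.eq_one_of_two (k := 1) hg (by
          rw [pow_one, pow_two]; exact D.Sh.orbit_invol D.hab D.hd (mem_subgroupOf.1 g.2))))).toEquiv,
    Nat.card_congr (subgroupOfEquivOfLe D.S_le).toEquiv, D.Sh.card_sylow D.hd]

theorem SQ_trans {w : D.Q} (hw : w ∈ (D.SQ : Subgroup D.Q)) (h1 : w ≠ 1) :
    ∃ q ∈ normalizer ((D.SQ : Subgroup D.Q) : Set D.Q), q * D.tq * q⁻¹ = w := by
  haveI := D.hsimple
  obtain ⟨g, hg, rfl⟩ := hw
  obtain ⟨n, hn, hnt⟩ := D.Sh.trans D.hnc D.hab D.hd g (mem_subgroupOf.1 hg) fun e =>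
    h1 (by rw [show g = 1 from Subtype.ext e, map_one])
  refine ⟨D.π ⟨n, D.normalizer_le hn⟩, mem_normalizer_fintype fun z hz => ?_, ?_⟩
  · obtain ⟨z', hz', rfl⟩ := hz
    exact ⟨⟨n, D.normalizer_le hn⟩ * z' * ⟨n, D.normalizer_le hn⟩⁻¹,
      mem_subgroupOf.2 ((mem_normalizer_iff.1 hn _).1 (mem_subgroupOf.1 hz')), by
        rw [map_mul, map_mul, map_inv]⟩
  · rw [← map_inv, ← map_mul, ← map_mul]; exact congrArg D.π (Subtype.ext hnt)

theorem all_conj (a b : D.Q) (ha : orderOf a = 2) (hb : orderOf b = 2) :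
    ∃ q ∈ (⊤ : Subgroup D.Q), q * a * q⁻¹ = b := by
  obtain ⟨q₁, rfl⟩ := D.conj_Q ha
  obtain ⟨q₂, rfl⟩ := D.conj_Q hb
  exact ⟨q₂ * q₁⁻¹, mem_top _, by group⟩

/-- A normal subgroup with all the involutions, simple. -/
structure Simp (T : Subgroup D.Q) : Prop where
  normal : T.Normal
  simple : IsSimpleGroup ↥T
  nonab : ¬ IsMulCommutative ↥T
  mem : ∀ w : D.Q, orderOf w = 2 → w ∈ T
  cent : centralizer (T : Set D.Q) = ⊥

theorem normal_case (hn : ∀ P : Sylow 2 D.Q, (P : Subgroup D.Q).Normal) :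
    D.X ≤ normalizer ((S : Subgroup G) : Set G) ∧ D.q₀ = 3 ∧ D.N = 7 := by
  haveI := D.hsimple
  have hX : D.X ≤ normalizer ((S : Subgroup G) : Set G) := by
    intro g hg
    refine mem_normalizer_fintype fun s hs => ?_
    have h1 : D.π (⟨g, hg⟩ * ⟨s, D.S_le hs⟩ * ⟨g, hg⟩⁻¹) ∈ (D.SQ : Subgroup D.Q) := by
      rw [map_mul, map_mul, map_inv]
      exact (hn D.SQ).conj_mem _ ⟨_, mem_subgroupOf.2 hs, rfl⟩ _
    obtain ⟨s', hs', he⟩ := h1
    have h2 := D.π_eq_one (g := s'⁻¹ * (⟨g, hg⟩ * ⟨s, D.S_le hs⟩ * ⟨g, hg⟩⁻¹)) (by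
      rw [map_mul, map_inv, he, inv_mul_cancel])
    have hz := D.Y_le_O h2
    have hs2 : (s' : G) * s' = 1 := D.Sh.orbit_invol D.hab D.hd (mem_subgroupOf.1 hs')
    have hzz : ((s' : G)⁻¹ * (g * s * g⁻¹)) * ((s' : G)⁻¹ * (g * s * g⁻¹)) = 1 := by
      have h3 : Commute (s' : G) ((s' : G)⁻¹ * (g * s * g⁻¹)) :=
        (D.Sh.O_commute_S hz (mem_subgroupOf.1 hs')).symm
      have h4 : g * s * g⁻¹ * (g * s * g⁻¹) = 1 := by
        calc g * s * g⁻¹ * (g * s * g⁻¹) = g * (s * s) * g⁻¹ := by group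
          _ = 1 := by rw [D.Sh.orbit_invol D.hab D.hd hs, mul_one, mul_inv_cancel]
      have h6 : g * s * g⁻¹ = (s' : G) * ((s' : G)⁻¹ * (g * s * g⁻¹)) := (mul_inv_cancel_left _ _).symm
      calc ((s' : G)⁻¹ * (g * s * g⁻¹)) * ((s' : G)⁻¹ * (g * s * g⁻¹))
          = ((s' : G) * s') * (((s' : G)⁻¹ * (g * s * g⁻¹)) * ((s' : G)⁻¹ * (g * s * g⁻¹))) := by rw [hs2, one_mul]
        _ = ((s' : G) * ((s' : G)⁻¹ * (g * s * g⁻¹))) * ((s' : G) * ((s' : G)⁻¹ * (g * s * g⁻¹))) :=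
          (h3.symm.mul_mul_mul_comm _ _).symm
        _ = 1 := by rw [← h6, h4]
    have h5 : (s' : G)⁻¹ * (g * s * g⁻¹) = 1 := eq_one_of_odd_sq (D.Sh.O_odd hz) hzz
    rw [← inv_mul_eq_one.1 h5]
    exact mem_subgroupOf.1 hs'
  refine ⟨hX, ?_, ?_⟩
  · by_contra h3
    have h5 : 5 ≤ D.q₀ := by
      have := D.three_le
      obtain ⟨k, hk⟩ := D.q₀_odd
      omega
    letI : Fintype ↥D.K₀ := Fintype.ofFinite _
    obtain ⟨e⟩ := D.iso_L
    haveI : IsSimpleGroup ↥D.L := e.isSimpleGroup_congr.2 (TimesPSLTwo.psl_simple (by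
      rw [← Nat.card_eq_fintype_card]; exact le_trans (by norm_num) h5))
    set V := (S : Subgroup G).subgroupOf D.L
    haveI : V.Normal := ⟨fun v hv l => mem_subgroupOf.2
      ((mem_normalizer_iff.1 (hX l.2.2) _).1 (mem_subgroupOf.1 hv))⟩
    have hV : V = ⊤ := (‹V.Normal›).eq_bot_or_eq_top.resolve_left fun e0 => by
      have h1 : (⟨_, D.i_mem_L⟩ : ↥D.L) ∈ V := mem_subgroupOf.2 D.Sh.memI
      rw [e0, mem_bot] at h1
      exact D.four_ne.1 (congrArg Subtype.val h1)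
    have hle : D.L ≤ (S : Subgroup G) := fun l hl => mem_subgroupOf.1 (hV ▸ mem_top (⟨l, hl⟩ : ↥D.L))
    have h8 : Nat.card ↥D.L ∣ 8 := D.Sh.card_sylow D.hd ▸ card_dvd_of_le hle
    have hq : D.q₀ ∣ 2 ^ 4 := (dvd_mul_right _ _).trans (D.two_card_L ▸ mul_dvd_mul_left 2 h8)
    obtain ⟨j, -, hj⟩ := (Nat.dvd_prime_pow Nat.prime_two).1 hq
    have hodd := D.q₀_odd
    rw [hj] at hodd
    rcases Nat.eq_zero_or_pos j with rfl | hj0
    · rw [pow_zero] at hj; omega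
    · rw [Nat.odd_pow_iff hj0.ne'] at hodd; exact absurd hodd (by decide)
  · have h1 := relIndex_cent_add_one (P := (S : Subgroup G)) (M := D.X) (a := t) D.Sh.memt
      (fun e => by have := D.hd.ht; rw [e, orderOf_one] at this; omega) hX fun w hw hw1 => by
        obtain ⟨n, hn, e⟩ := D.Sh.trans D.hnc D.hab D.hd w hw hw1
        exact ⟨n, D.normalizer_le hn, e⟩
    rw [D.Sh.card_sylow D.hd] at h1
    have h2 : D.N = (centralizer ({t} : Set G)).relIndex D.X := rfl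
    omega

/-- The two cases. -/
theorem top_cases : (D.X ≤ normalizer ((S : Subgroup G) : Set G) ∧ D.q₀ = 3 ∧ D.N = 7) ∨
    ∃ T : Subgroup D.Q, D.Simp T := by
  rcases OddTransitive.closed_or_simple D.abTwo_Q D.core_Q D.all_conj with hn | ⟨T, h1, h2, h3, h4, h5⟩
  · exact Or.inl (D.normal_case hn)
  · exact Or.inr ⟨T, ⟨h1, h2, h3, h5, h4⟩⟩

theorem DX_map : D.DX.map D.π = zpowers D.tq ⊔ D.LQ := by
  rw [DX, subgroupOf_sup (zpowers_le.2 D.t_mem) inf_le_right, Subgroup.map_sup]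
  congr 1
  rw [show (zpowers t).subgroupOf D.X = zpowers (⟨t, D.t_mem⟩ : ↥D.X) from ?_, MonoidHom.map_zpowers]
  refine le_antisymm (fun g hg => ?_) (zpowers_le.2 (mem_subgroupOf.2 (mem_zpowers t)))
  obtain ⟨m, hm⟩ := mem_zpowers_iff.1 (mem_subgroupOf.1 hg)
  exact ⟨m, Subtype.ext (by simpa using hm)⟩

theorem π_inj_DX {g : ↥D.X} (hg : g ∈ D.DX) (h : D.π g = 1) : g = 1 :=
  Subtype.ext (D.Sh.uniq _ ((show zpowers t ⊔ D.L ≤ zpowers t ⊔ E₀ from sup_le_sup_left inf_le_left _) (mem_subgroupOf.1 hg))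
    (D.Y_le_O (D.π_eq_one h)))

theorem card_DX_map : Nat.card ↥(D.DX.map D.π) = 2 * Nat.card ↥D.L := by
  rw [← MonoidHom.domRestrict_range, ← Nat.card_congr (MonoidHom.ofInjective (f := D.π.domRestrict D.DX)
      ((injective_iff_map_eq_one _).2 fun g hg => Subtype.ext (D.π_inj_DX g.2 hg))).toEquiv,
    Nat.card_congr (subgroupOfEquivOfLe D.sup_le_X).toEquiv, D.card_DX]

theorem LQ_le_cent : D.LQ ≤ centralizer ({D.tq} : Set D.Q) := by
  rw [D.cent_Q]
  exact map_mono fun g hg => D.DX_le (mem_subgroupOf.2 (mem_sup_right (mem_subgroupOf.1 hg)))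

theorem tq_not_LQ : D.tq ∉ D.LQ := by
  rintro ⟨g, hg, he⟩
  have h1 : g = ⟨t, D.t_mem⟩ := by
    have h2 := D.π_inj_DX (g := g⁻¹ * ⟨t, D.t_mem⟩)
      (mul_mem (inv_mem (mem_subgroupOf.2 (mem_sup_right (mem_subgroupOf.1 hg))))
        (mem_subgroupOf.2 (mem_sup_left (mem_zpowers t)))) (by rw [map_mul, map_inv, he, inv_mul_cancel])
    exact inv_mul_eq_one.1 h2
  exact D.t_not_L (show ((⟨t, D.t_mem⟩ : ↥D.X) : G) ∈ D.L from h1 ▸ mem_subgroupOf.1 hg)

theorem iso_LQ : Nonempty (↥D.LQ ≃* Matrix.ProjectiveSpecialLinearGroup (Fin 2) ↥D.K₀) := by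
  obtain ⟨e⟩ := D.iso_L
  rw [LQ, ← MonoidHom.domRestrict_range]
  exact ⟨((MonoidHom.ofInjective (f := D.π.domRestrict (D.L.subgroupOf D.X))
    ((injective_iff_map_eq_one _).2 fun g hg => Subtype.ext
      (D.π_inj_DX (mem_subgroupOf.2 (mem_sup_right (mem_subgroupOf.1 g.2))) hg))).symm.trans
    (subgroupOfEquivOfLe inf_le_right)).trans e⟩

theorem LQ_normal_cent {c : D.Q} (hc : Commute c D.tq) {l : D.Q} (hl : l ∈ D.LQ) :
    c * l * c⁻¹ ∈ D.LQ := by
  obtain ⟨c, hc', rfl⟩ := D.lift_commute hc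
  obtain ⟨l, hl', rfl⟩ := hl
  refine ⟨c * l * c⁻¹, mem_subgroupOf.2 ?_, by rw [map_mul, map_mul, map_inv]⟩
  exact D.L_normal (mem_subgroupOf.1 hc') c.2 (mem_subgroupOf.1 hl')

/-- The centraliser of `L` in the centraliser of the involution. -/
theorem cent_inf_LQ : centralizer ({D.tq} : Set D.Q) ⊓ centralizer (D.LQ : Set D.Q) ≤ zpowers D.tq := by
  intro q hq
  obtain ⟨c, hc, rfl⟩ := D.lift_commute (mem_centralizer_singleton_iff.1 hq.1)
  have hcC : (c : G) ∈ centralizer ({t} : Set G) := mem_subgroupOf.1 hc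
  have hcL : ∀ l ∈ D.L, Commute (c : G) l := by
    intro l hl
    have h1 : D.π (c * ⟨l, hl.2⟩ * c⁻¹ * ⟨l, hl.2⟩⁻¹) = 1 := by
      rw [map_mul, map_mul, map_mul, map_inv, map_inv,
        ← mem_centralizer_iff.1 hq.2 _ ⟨⟨l, hl.2⟩, mem_subgroupOf.2 hl, rfl⟩, mul_inv_cancel_right,
        mul_inv_cancel]
    have h2 := D.π_inj_DX (mem_subgroupOf.2 (mem_sup_right
      (show (c : G) * l * (c : G)⁻¹ * l⁻¹ ∈ D.L from mul_mem (D.L_normal hcC c.2 hl) (inv_mem hl)))) h1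
    exact mul_inv_eq_iff_eq_mul.1 (mul_inv_eq_one.1 (congrArg Subtype.val h2))
  obtain ⟨a, ha, e, he, o, ho, hceq⟩ := D.cent_cases hcC c.2
  have h3 := D.Sh.faithful_fixed D.hd D.hx he.1 ho fun l hl hlx => by
    have hlL : l ∈ D.L := ⟨hl, mem_centralizer_singleton_iff.2 hlx.eq⟩
    have hal : Commute a l := by
      obtain ⟨m, rfl⟩ := mem_zpowers_iff.1 ha
      exact (show Commute t l from (mem_centralizer_singleton_iff.1 (D.L_le_C hlL)).symm).zpow_left m
    have h4 := hal.inv_left.mul_left (hcL l hlL)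
    rwa [hceq, mul_assoc a, inv_mul_cancel_left] at h4
  obtain ⟨rfl, hox⟩ := h3
  rw [mul_one] at hceq
  have haX : a ∈ D.X := (zpowers_le.2 D.t_mem) ha
  have hc2 : c = ⟨a, haX⟩ * ⟨o, D.O_le ho⟩ := Subtype.ext hceq
  have hoX : (⟨o, D.O_le ho⟩ : ↥D.X) ∈ Cfsg.oddCore ↥D.X := by
    obtain ⟨m, hm⟩ := mem_zpowers_iff.1 hox
    rw [show (⟨o, D.O_le ho⟩ : ↥D.X) = (⟨D.x, D.O_le D.hx⟩ : ↥D.X) ^ m from Subtype.ext (by simpa using hm.symm)]
    exact zpow_mem D.x_mem_core m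
  rw [hc2, map_mul, show D.π ⟨o, D.O_le ho⟩ = 1 from (QuotientGroup.eq_one_iff _).2 hoX, mul_one]
  obtain ⟨m, hm⟩ := mem_zpowers_iff.1 ha
  exact mem_zpowers_iff.2 ⟨m, by rw [← map_zpow]; exact congrArg D.π (Subtype.ext (by simpa using hm))⟩

theorem core_card_dvd : Nat.card ↥(Cfsg.oddCore ↥D.X) ∣ Nat.card ↥D.Sh.O := by
  rw [← card_subtype D.X]
  exact card_dvd_of_le D.Y_le_O

theorem card_cent_Q : Nat.card ↥(centralizer ({D.tq} : Set D.Q)) * Nat.card ↥(Cfsg.oddCore ↥D.X) =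
    Nat.card ↥D.CX := by
  have h1 := (centralizer ({D.tq} : Set D.Q)).card_mul_index
  rw [D.index_cent_Q] at h1
  have h2 := (Cfsg.oddCore ↥D.X).card_mul_index
  rw [Subgroup.index_eq_card, show Nat.card (↥D.X ⧸ Cfsg.oddCore ↥D.X) = Nat.card D.Q from rfl, ← h1,
    ← D.CX.card_mul_index] at h2
  have hN : D.N ≠ 0 := Subgroup.index_ne_zero_of_finite
  refine Nat.eq_of_mul_eq_mul_right (Nat.pos_of_ne_zero hN) ?_
  linarith

/-- `O` has order `r` when `q₀ = 3`. -/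
theorem card_O_three (h3 : D.q₀ = 3) : Nat.card ↥D.Sh.O = D.r := by
  classical
  haveI := D.Sh.O_cyclic
  obtain ⟨g, hg⟩ := IsCyclic.exists_generator (α := ↥D.Sh.O)
  have hcard : Nat.card ↥D.Sh.O = orderOf (g : G) := by
    rw [Subgroup.orderOf_coe]
    exact (orderOf_eq_card_of_forall_mem_zpowers hg).symm
  letI : Fintype ↥(fixF (D.Sh.σ ⟨g, g.2⟩)) := Fintype.ofFinite _
  have h1 := D.Sh.card_eq_pow D.hd g.2
  rw [D.card_K, h3] at h1
  have hn : orderOf (g : G) ≠ 0 := (orderOf_pos _).ne'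
  obtain ⟨a, -, ha⟩ := (Nat.dvd_prime_pow Nat.prime_three).1
    (show Fintype.card ↥(fixF (D.Sh.σ ⟨g, g.2⟩)) ∣ 3 ^ D.r by rw [h1]; exact dvd_pow_self _ hn)
  rw [ha, ← pow_mul] at h1
  have h2 : orderOf (g : G) ∣ D.r := Dvd.intro_left _ (Nat.pow_right_injective (by norm_num) h1).symm
  rcases (Nat.dvd_prime D.hr).1 h2 with h | h
  · have h4 : orderOf D.x ∣ Nat.card ↥D.Sh.O := Subgroup.orderOf_dvd_natCard _ D.hx
    rw [hcard, h, D.hox] at h4
    exact absurd (Nat.dvd_one.1 h4) D.hr.ne_one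
  · rw [hcard, h]

namespace Simp

variable {D} {T : Subgroup D.Q} (h : D.Simp T)
include h

theorem SQ_le : (D.SQ : Subgroup D.Q) ≤ T := fun w hw => by
  by_cases h1 : w = 1
  · rw [h1]; exact one_mem T
  · exact h.mem w (D.SQ_order hw h1)

theorem transitive (w : D.Q) (hw : orderOf w = 2) : ∃ q ∈ T, q * D.tq * q⁻¹ = w := by
  haveI := h.normal
  haveI := h.simple
  set P : Subgroup D.Q := (D.SQ : Subgroup D.Q) with hP
  set M := normalizer (P : Set D.Q) with hM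
  set MC := M ⊓ centralizer ({D.tq} : Set D.Q) with hMC
  set K' := (M ⊓ T) ⊔ MC with hK'
  have h7 : MC.relIndex M = 7 := by
    have h1 := relIndex_cent_add_one (M := M) D.tq_mem
      (fun e => by have := D.tq_order; rw [e, orderOf_one] at this; omega) le_rfl fun z hz hz1 => D.SQ_trans hz hz1
    rw [D.card_SQ] at h1
    rw [hMC, inf_comm, inf_relIndex_right]
    omega
  have hKM : K' ≤ M := sup_le inf_le_left inf_le_left
  have hmul := relIndex_mul_relIndex MC K' M le_sup_right hKM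
  rw [h7] at hmul
  rcases (Nat.dvd_prime (by norm_num : Nat.Prime 7)).1 ⟨_, hmul.symm⟩ with h1 | h1
  · exfalso
    have hfix : M ⊓ T ≤ centralizer ({D.tq} : Set D.Q) := le_sup_left.trans
      ((relIndex_eq_one.1 h1).trans inf_le_right)
    obtain ⟨y, hy, -, s, hs, hys⟩ :=
      SEAbelian.exists_acting h.nonab (D.abTwo_Q.subgroup T) (D.SQ.subtype h.SQ_le)
    have hyM : (y : D.Q) ∈ M := mem_normalizer_fintype fun z hz =>
      mem_subgroupOf.1 ((mem_normalizer_iff.1 hy ⟨z, h.SQ_le hz⟩).1 (mem_subgroupOf.2 hz))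
    have hsP : (s : D.Q) ∈ P := mem_subgroupOf.1 hs
    apply hys
    by_cases hs1 : (s : D.Q) = 1
    · rw [show s = 1 from Subtype.ext hs1]; exact Commute.one_right y
    obtain ⟨m, hm, hms⟩ := D.SQ_trans hsP hs1
    have h2 : m⁻¹ * (y : D.Q) * m ∈ centralizer ({D.tq} : Set D.Q) := hfix
      (mem_inf.2 ⟨mul_mem (mul_mem (inv_mem hm) hyM) hm, by simpa using h.normal.conj_mem _ y.2 m⁻¹⟩)
    have h3 := mem_centralizer_singleton_iff.1 h2
    refine Subtype.ext (show (y : D.Q) * s = s * y from ?_)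
    rw [← hms]
    calc (y : D.Q) * (m * D.tq * m⁻¹) = m * (m⁻¹ * y * m * D.tq) * m⁻¹ := by group
      _ = m * (D.tq * (m⁻¹ * y * m)) * m⁻¹ := by rw [h3]
      _ = m * D.tq * m⁻¹ * y := by group
  · have hone : K'.relIndex M = 1 := by
      rw [h1] at hmul
      omega
    have hMK : M ≤ K' := relIndex_eq_one.1 hone
    haveI : Fact (Nat.Prime 2) := ⟨Nat.prime_two⟩
    have hwT := h.mem w hw
    have hp : IsPGroup 2 ↥(zpowers (⟨w, hwT⟩ : ↥T)) :=
      IsPGroup.of_card (n := 1) (by rw [Nat.card_zpowers, Subgroup.orderOf_mk, hw, pow_one])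
    obtain ⟨R, hR⟩ := hp.exists_le_sylow
    obtain ⟨u, hu⟩ := MulAction.exists_smul_eq ↥T R (D.SQ.subtype h.SQ_le)
    have hwP : (u : D.Q) * w * (u : D.Q)⁻¹ ∈ P := by
      have h2 : u * ⟨w, hwT⟩ * u⁻¹ ∈ ((u • R : Sylow 2 ↥T) : Subgroup ↥T) := by
        rw [Sylow.coe_subgroup_smul]
        exact ⟨⟨w, hwT⟩, hR (mem_zpowers _), by simp⟩
      rw [hu] at h2
      exact mem_subgroupOf.1 h2
    obtain ⟨m, hm, hmw⟩ := D.SQ_trans hwP fun e => by
      have h2 : w = 1 := by rwa [conj_eq_one_iff] at e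
      rw [h2, orderOf_one] at hw
      omega
    have hsup : ∀ k ∈ K', ∃ a ∈ T, ∃ b ∈ centralizer ({D.tq} : Set D.Q), k = a * b := by
      intro k hk
      have h2 : k ∈ T ⊔ centralizer ({D.tq} : Set D.Q) := (show K' ≤ T ⊔ centralizer ({D.tq} : Set D.Q) from sup_le_sup inf_le_right inf_le_right) hk
      rw [← SetLike.mem_coe, normal_mul] at h2
      obtain ⟨a, ha, b, hb, rfl⟩ := Set.mem_mul.1 h2
      exact ⟨a, ha, b, hb, rfl⟩
    obtain ⟨a, ha, b, hb, rfl⟩ := hsup m (hMK hm)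
    refine ⟨(u : D.Q)⁻¹ * a, mul_mem (inv_mem u.2) ha, ?_⟩
    have hb' : b * D.tq * b⁻¹ = D.tq := by rw [mem_centralizer_singleton_iff.1 hb, mul_inv_cancel_right]
    calc (u : D.Q)⁻¹ * a * D.tq * ((u : D.Q)⁻¹ * a)⁻¹ = (u : D.Q)⁻¹ * (a * (b * D.tq * b⁻¹) * a⁻¹) * u := by
          rw [hb']; group
      _ = (u : D.Q)⁻¹ * (a * b * D.tq * (a * b)⁻¹) * u := by group
      _ = (u : D.Q)⁻¹ * ((u : D.Q) * w * (u : D.Q)⁻¹) * u := by rw [hmw]
      _ = w := by group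

omit h in
/-- The involution as an element of `T`. -/
abbrev tT (h : D.Simp T) : ↥T := ⟨D.tq, h.mem _ D.tq_order⟩

theorem tT_order : orderOf h.tT = 2 := by rw [Subgroup.orderOf_mk]; exact D.tq_order

theorem cent_map : (centralizer ({h.tT} : Set ↥T)).map T.subtype = T ⊓ centralizer ({D.tq} : Set D.Q) := by
  ext q
  constructor
  · rintro ⟨z, hz, rfl⟩
    exact ⟨z.2, mem_centralizer_singleton_iff.2 (congrArg Subtype.val (mem_centralizer_singleton_iff.1 hz))⟩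
  · rintro ⟨h1, h2⟩
    exact ⟨⟨q, h1⟩, mem_centralizer_singleton_iff.2 (Subtype.ext (mem_centralizer_singleton_iff.1 h2)), rfl⟩

theorem card_cent : Nat.card ↥(centralizer ({h.tT} : Set ↥T)) =
    Nat.card ↥(T ⊓ centralizer ({D.tq} : Set D.Q)) := by rw [← h.cent_map, card_subtype]

theorem sup_eq_top : centralizer ({D.tq} : Set D.Q) ⊔ T = ⊤ := eq_top_iff.2 fun q _ => by
  obtain ⟨u, hu, hut⟩ := h.transitive (q * D.tq * q⁻¹) (by rw [← MulAut.conj_apply, MulEquiv.orderOf_eq]; exact D.tq_order)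
  have h1 : u⁻¹ * q ∈ centralizer ({D.tq} : Set D.Q) := mem_centralizer_singleton_iff.2 (by
    calc u⁻¹ * q * D.tq = u⁻¹ * (q * D.tq * q⁻¹) * q := by group
      _ = u⁻¹ * (u * D.tq * u⁻¹) * q := by rw [hut]
      _ = D.tq * (u⁻¹ * q) := by group)
  rw [show q = u * (u⁻¹ * q) by group]
  exact mul_mem (mem_sup_right hu) (mem_sup_left h1)

theorem index_eq : T.index = T.relIndex (centralizer ({D.tq} : Set D.Q)) := by
  haveI := h.normal
  rw [← relIndex_top_right, ← h.sup_eq_top, relIndex_sup_right]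

theorem card_T : Nat.card ↥T = Nat.card ↥(centralizer ({h.tT} : Set ↥T)) * D.N := by
  have h1 := T.card_mul_index
  rw [← (centralizer ({D.tq} : Set D.Q)).card_mul_index, D.index_cent_Q, h.index_eq] at h1
  have h2 := (T.subgroupOf (centralizer ({D.tq} : Set D.Q))).card_mul_index
  rw [show (T.subgroupOf (centralizer ({D.tq} : Set D.Q))).index = T.relIndex (centralizer ({D.tq} : Set D.Q)) from rfl,
    ← card_subtype (centralizer ({D.tq} : Set D.Q)), subgroupOf_map_subtype] at h2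
  rw [← h2] at h1
  rw [h.card_cent]
  refine Nat.eq_of_mul_eq_mul_right (Nat.pos_of_ne_zero (Subgroup.index_ne_zero_of_finite
    (H := T.subgroupOf (centralizer ({D.tq} : Set D.Q))))) ?_
  change Nat.card ↥T * T.relIndex _ = _ * D.N * T.relIndex _
  linarith

theorem index_cent : (centralizer ({h.tT} : Set ↥T)).index = D.N := by
  have h1 := (centralizer ({h.tT} : Set ↥T)).card_mul_index
  rw [h.card_T] at h1
  exact Nat.eq_of_mul_eq_mul_left Nat.card_pos h1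

theorem card_lt : Nat.card ↥T < Nat.card G := by
  refine (Subgroup.card_le_card_group T).trans_lt (lt_of_le_of_lt ?_
    ((Subgroup.card_le_card_group D.X).lt_of_ne fun e => D.not_central (Subgroup.eq_top_of_card_eq _ e)))
  exact Nat.card_le_card_of_surjective _ (QuotientGroup.mk'_surjective _)

theorem equiv_cent (hL : D.LQ ≤ T) (hcard : Nat.card ↥(centralizer ({h.tT} : Set ↥T)) = 2 * Nat.card ↥D.L) :
    Nonempty (↥(centralizer ({h.tT} : Set ↥T)) ≃*
      Multiplicative (ZMod 2) × Matrix.ProjectiveSpecialLinearGroup (Fin 2) ↥D.K₀) := by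
  obtain ⟨e⟩ := D.iso_LQ
  refine equiv_prod h.tT_order (E := D.LQ.subgroupOf T) (sup_le (zpowers_le.2
    (mem_centralizer_singleton_iff.2 rfl)) fun l hl => ?_) (fun l hl => ?_)
    (fun e0 => D.tq_not_LQ (mem_subgroupOf.1 e0)) ((subgroupOfEquivOfLe hL).trans e) ?_
  · exact mem_centralizer_singleton_iff.2 (Subtype.ext
      (mem_centralizer_singleton_iff.1 (D.LQ_le_cent (mem_subgroupOf.1 hl))))
  · exact Subtype.ext (mem_centralizer_singleton_iff.1 (D.LQ_le_cent (mem_subgroupOf.1 hl)))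
  · rw [hcard]
    congr 1
    rw [Nat.card_congr (subgroupOfEquivOfLe hL).toEquiv, Nat.card_congr e.toEquiv,
      Nat.card_congr D.iso_L.some.toEquiv]

/-- The large case. -/
theorem big (hfb : FieldBelow.{u, v} (Nat.card G)) (h5 : 5 ≤ D.q₀) :
    Nonempty (↥(centralizer ({h.tT} : Set ↥T)) ≃*
      Multiplicative (ZMod 2) × Matrix.ProjectiveSpecialLinearGroup (Fin 2) ↥D.K₀) ∧
    T.index ∣ Nat.card ↥D.Sh.O ∧
    ((∃ m : ℕ, 1 ≤ m ∧ D.q₀ = 3 ^ (2 * m + 1) ∧ D.N = D.q₀ ^ 2 * (D.q₀ ^ 2 + 1 - D.q₀)) ∨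
      D.q₀ = 5 ∧ D.N = 1463) := by
  haveI := h.normal
  haveI := h.simple
  letI : Fintype ↥D.K₀ := Fintype.ofFinite _
  have h5' : 5 ≤ Fintype.card ↥D.K₀ := by rw [← Nat.card_eq_fintype_card]; exact h5
  obtain ⟨e⟩ := D.iso_LQ
  haveI : IsSimpleGroup ↥D.LQ := e.isSimpleGroup_congr.2 (TimesPSLTwo.psl_simple (by omega))
  have hL : D.LQ ≤ T := by
    rw [← subgroupOf_eq_top]
    refine (inferInstance : (T.subgroupOf D.LQ).Normal).eq_bot_or_eq_top.resolve_left fun e0 => ?_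
    set iX : ↥D.X := ⟨_, D.S_le D.Sh.memI⟩ with hiX
    have hi : D.π iX ∈ (D.SQ : Subgroup D.Q) := ⟨iX, mem_subgroupOf.2 D.Sh.memI, rfl⟩
    have hiL : D.π iX ∈ D.LQ := ⟨iX, mem_subgroupOf.2 D.i_mem_L, rfl⟩
    have h1 : (⟨D.π iX, hiL⟩ : ↥D.LQ) ∈ T.subgroupOf D.LQ := mem_subgroupOf.2 (h.SQ_le hi)
    rw [e0, mem_bot] at h1
    exact D.four_ne.1 (congrArg Subtype.val (D.π_inj_DX
      (mem_subgroupOf.2 (mem_sup_right D.i_mem_L) : iX ∈ D.DX) (congrArg Subtype.val h1)))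
  set LT := D.LQ.subgroupOf T with hLT
  have hle : LT ≤ centralizer ({h.tT} : Set ↥T) := fun l hl => mem_centralizer_singleton_iff.2
    (Subtype.ext (mem_centralizer_singleton_iff.1 (D.LQ_le_cent (mem_subgroupOf.1 hl))))
  have hP : TwoPSL h.tT ↥D.K₀ LT := by
    refine ⟨h.tT_order, by rw [← Nat.card_eq_fintype_card]; exact D.q₀_odd, hle, fun c hc => ?_,
      fun e0 => D.tq_not_LQ (mem_subgroupOf.1 e0), ?_, ⟨(subgroupOfEquivOfLe hL).trans e⟩⟩
    · refine mem_normalizer_fintype fun l hl => mem_subgroupOf.2 ?_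
      exact D.LQ_normal_cent (congrArg Subtype.val (mem_centralizer_singleton_iff.1 hc)) (mem_subgroupOf.1 hl)
    · refine le_antisymm (fun c hc => ?_) (zpowers_le.2 ⟨mem_centralizer_singleton_iff.2 rfl,
        mem_centralizer_iff.2 fun l hl => mem_centralizer_singleton_iff.1 (hle hl)⟩)
      obtain ⟨m, hm⟩ := mem_zpowers_iff.1 (D.cent_inf_LQ ⟨mem_centralizer_singleton_iff.2
        (congrArg Subtype.val (mem_centralizer_singleton_iff.1 hc.1)), mem_centralizer_iff.2 fun l hl =>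
          congrArg Subtype.val (mem_centralizer_iff.1 hc.2 ⟨l, hL hl⟩ (mem_subgroupOf.2 hl))⟩)
      exact mem_zpowers_iff.2 ⟨m, Subtype.ext (by rw [Subgroup.coe_zpow]; exact hm)⟩
  have hC := hfb ↥T h.simple (D.abTwo_Q.subgroup T) h.card_lt h.tT ↥D.K₀ LT h5' hP
  have hTC : T ⊓ centralizer ({D.tq} : Set D.Q) = D.DX.map D.π := by
    rw [← h.cent_map, hC, Subgroup.map_sup, MonoidHom.map_zpowers, hLT, map_subgroupOf_eq_of_le hL, D.DX_map]
    rfl
  have hcard : Nat.card ↥(centralizer ({h.tT} : Set ↥T)) = 2 * Nat.card ↥D.L := by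
    rw [h.card_cent, hTC, D.card_DX_map]
  obtain ⟨f⟩ := h.equiv_cent hL hcard
  refine ⟨⟨f⟩, ?_, ?_⟩
  · rw [h.index_eq, ← inf_relIndex_right, hTC, D.cent_Q, ← D.DX_relIndex]
    exact PLocal.PSolvable.relIndex_map_dvd D.π D.DX_le
  · have hT := h.card_T
    rw [hcard, D.two_card_L] at hT
    rcases S0343.result (G := ↥T) (fun P a b => Subtype.ext (D.abTwo_Q.subgroup T P P.2 a a.2 b b.2))
      (F := ↥D.K₀) (by omega) h.tT h.tT_order ⟨f⟩ with ⟨m, hm, hq, hc⟩ | ⟨hq, -, hJ⟩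
    · rw [← Nat.card_eq_fintype_card] at hq
      rw [← hq] at hc
      refine Or.inl ⟨m, hm, hq, Nat.eq_of_mul_eq_mul_left
        (show 0 < D.q₀ * ((D.q₀ - 1) * (D.q₀ + 1)) from
          Nat.mul_pos (by omega) (Nat.mul_pos (by omega) (by omega))) ?_⟩
      rw [← hT, hc]
      have h1 : D.q₀ ≤ D.q₀ ^ 2 + 1 := le_add_right (Nat.le_self_pow (by norm_num) _)
      change D.q₀ ^ 3 * (D.q₀ ^ 3 + 1) * (D.q₀ - 1) = _
      zify [h1, (by omega : 1 ≤ D.q₀)]
      ring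
    · rw [← Nat.card_eq_fintype_card] at hq
      have hq5 : D.q₀ = 5 := by
        rcases hq with h4 | h4
        · exact absurd h5 (by show ¬ (5 ≤ Nat.card ↥D.K₀); omega)
        · exact h4
      refine Or.inr ⟨hq5, ?_⟩
      rw [hJ, hq5] at hT
      omega

/-- The small case. -/
theorem small (h3 : D.q₀ = 3) : T.index = 3 ∧ D.N = 63 ∧
    ∃ (F : Type) (_ : Field F) (_ : Fintype F), Fintype.card F = 8 ∧
      Nonempty (↥T ≃* Matrix.ProjectiveSpecialLinearGroup (Fin 2) F) := by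
  classical
  haveI := h.normal
  haveI := h.simple
  haveI : Fact (Nat.Prime 2) := ⟨Nat.prime_two⟩
  set C := centralizer ({D.tq} : Set D.Q) with hC
  have hL : Nat.card ↥D.L = 12 := by
    have := D.two_card_L
    rw [h3] at this
    omega
  have hC24 : Nat.card ↥C = 24 := by
    have h1 := D.card_cent_Q
    rw [D.card_CX, hL, D.card_O_three h3] at h1
    have h2 : Nat.card ↥(Cfsg.oddCore ↥D.X) = D.r := Nat.dvd_antisymm (D.card_O_three h3 ▸ D.core_card_dvd)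
      (by
        have := Subgroup.orderOf_dvd_natCard _ D.x_mem_core
        rwa [Subgroup.orderOf_mk, D.hox] at this)
    rw [h2] at h1
    exact Nat.eq_of_mul_eq_mul_right D.hr.pos h1
  have hP8 : (8 : ℕ) ∣ Nat.card ↥(T ⊓ C) := D.card_SQ ▸ card_dvd_of_le (le_inf h.SQ_le fun z hz =>
    mem_centralizer_singleton_iff.2 (D.abTwo_Q _ D.SQ.2 z hz _ D.tq_mem).eq)
  have hd24 : Nat.card ↥(T ⊓ C) ∣ 24 := hC24 ▸ card_dvd_of_le inf_le_right
  have hcases : Nat.card ↥(T ⊓ C) = 8 ∨ Nat.card ↥(T ⊓ C) = 24 := by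
    obtain ⟨k, hk⟩ := hP8
    have := Nat.le_of_dvd (by norm_num) hd24
    have h0 : 0 < Nat.card ↥(T ⊓ C) := Nat.card_pos
    rw [hk] at hd24 this h0 ⊢
    have hk3 : k ≤ 3 := by omega
    interval_cases k <;> first | omega | (exfalso; revert hd24; decide)
  rcases hcases with h8 | h24
  swap
  · exfalso
    have hle : C ≤ T := by
      have := Subgroup.eq_of_le_of_card_ge (inf_le_right : T ⊓ C ≤ C) (by rw [h24, hC24])
      exact inf_eq_right.1 this
    obtain ⟨f⟩ := h.equiv_cent (D.LQ_le_cent.trans hle) (by rw [h.card_cent, h24, hL])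
    letI : Fintype ↥D.K₀ := Fintype.ofFinite _
    have hq3 : Fintype.card ↥D.K₀ = 3 := by rw [← Nat.card_eq_fintype_card]; exact h3
    rcases S0343.result (G := ↥T) (fun P a b => Subtype.ext (D.abTwo_Q.subgroup T P P.2 a a.2 b b.2))
      (F := ↥D.K₀) (by omega) h.tT h.tT_order ⟨f⟩ with ⟨m, hm, hq, -⟩ | ⟨hq, -⟩
    · rw [hq3] at hq
      have := Nat.pow_le_pow_right (show 1 ≤ 3 by norm_num) (show 3 ≤ 2 * m + 1 by omega)
      omega
    · omega
  set R := D.SQ.subtype h.SQ_le with hR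
  have hR8 : Nat.card ↥(R : Subgroup ↥T) = 8 :=
    (Nat.card_congr (subgroupOfEquivOfLe h.SQ_le).toEquiv).trans D.card_SQ
  have hSC : (D.SQ : Subgroup D.Q) = T ⊓ C :=
    Subgroup.eq_of_le_of_card_ge (le_inf h.SQ_le fun z hz => mem_centralizer_singleton_iff.2
      (D.abTwo_Q _ D.SQ.2 z hz _ D.tq_mem).eq) (by rw [h8, D.card_SQ])
  have hsq : ∀ z ∈ (R : Subgroup ↥T), z * z = 1 := fun z hz =>
    Subtype.ext (D.SQ_sq (mem_subgroupOf.1 hz))
  have hnn : ¬ (R : Subgroup ↥T).Normal := fun hn => by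
    rcases hn.eq_bot_or_eq_top with e | e
    · rw [e, Subgroup.card_bot] at hR8; omega
    · exact h.nonab ⟨⟨fun a b => Subtype.ext ((D.abTwo_Q _ D.SQ.2 _ (mem_subgroupOf.1 (e.ge (mem_top a)))
        _ (mem_subgroupOf.1 (e.ge (mem_top b)))).eq)⟩⟩
  have hnc : ¬ IsCyclic ↥(R : Subgroup ↥T) := fun hc => by
    obtain ⟨g, hg⟩ := hc.exists_generator
    have h1 := orderOf_eq_card_of_forall_mem_zpowers hg
    rw [hR8] at h1
    have h2 : orderOf g ∣ 2 := orderOf_dvd_of_pow_eq_one (by rw [pow_two]; exact Subtype.ext (hsq g g.2))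
    rw [h1] at h2
    exact absurd h2 (by decide)
  have hcent : ∀ z ∈ centralizer ({h.tT} : Set ↥T), z ∈ (R : Subgroup ↥T) := fun z hz =>
    mem_subgroupOf.2 (hSC.ge (h.cent_map.le (mem_map_of_mem T.subtype hz)))
  have hinv : ∀ w : ↥T, orderOf w = 2 →
      IsMulCommutative (centralizer ({w} : Set ↥T)) ∧ ∀ c ∈ centralizer ({w} : Set ↥T), c ^ 2 = 1 := by
    intro w hw
    obtain ⟨u, hu, hut⟩ := h.transitive w (by rw [Subgroup.orderOf_coe]; exact hw)
    set uT : ↥T := ⟨u, hu⟩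
    have hut' : w = uT * h.tT * uT⁻¹ := Subtype.ext hut.symm
    have hconj : ∀ c ∈ centralizer ({w} : Set ↥T), uT⁻¹ * c * uT ∈ (R : Subgroup ↥T) := by
      intro c hc
      refine hcent _ (mem_centralizer_singleton_iff.2 ?_)
      have h1 := mem_centralizer_singleton_iff.1 hc
      rw [hut'] at h1
      calc uT⁻¹ * c * uT * h.tT = uT⁻¹ * (c * (uT * h.tT * uT⁻¹)) * uT := by group
        _ = uT⁻¹ * (uT * h.tT * uT⁻¹ * c) * uT := by rw [h1]
        _ = h.tT * (uT⁻¹ * c * uT) := by group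
    refine ⟨⟨⟨fun a b => Subtype.ext ?_⟩⟩, fun c hc => ?_⟩
    · have h1 := (D.abTwo_Q.subgroup T _ R.2 _ (hconj a a.2) _ (hconj b b.2)).eq
      calc (a : ↥T) * b = uT * ((uT⁻¹ * a * uT) * (uT⁻¹ * b * uT)) * uT⁻¹ := by group
        _ = uT * ((uT⁻¹ * b * uT) * (uT⁻¹ * a * uT)) * uT⁻¹ := by rw [h1]
        _ = (b : ↥T) * a := by group
    · calc c ^ 2 = uT * ((uT⁻¹ * c * uT) * (uT⁻¹ * c * uT)) * uT⁻¹ := by rw [pow_two]; group
        _ = 1 := by rw [hsq _ (hconj c hc), mul_one, mul_inv_cancel]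
  obtain ⟨F, iF, iFF, hF, ⟨φ⟩⟩ := S1230.result R hnc hnn hinv
  have hF8 : Fintype.card F = 8 := hF.trans hR8
  have hT504 : Nat.card ↥T = 504 := by
    rw [Nat.card_congr φ.toEquiv]
    have h1 := Forms.DicksonCor.gcd_mul_natCard (F := F)
    rw [hF8] at h1
    rw [show Nat.gcd 2 (8 - 1) = 1 by decide] at h1
    omega
  refine ⟨?_, ?_, F, iF, iFF, hF8, ⟨φ⟩⟩
  · have h1 := (T.subgroupOf C).card_mul_index
    rw [← card_subtype C, subgroupOf_map_subtype, h8, hC24] at h1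
    rw [h.index_eq, ← hC, Subgroup.relIndex]
    omega
  · have hT := h.card_T
    rw [hT504, h.card_cent, h8] at hT
    omega

end Simp

end Elt

end Cfsg.Agent.Walter.Field.Other
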