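import Cfsg.Agent.Lib.Walter.Field.OtherTop

/-!
# The field part away from the characteristic: the torus in the simple top of `C(x)`

`Tor`: an element `a` of order `r` of the top inverted by the involution, and an element `k` of prime
order `s` of the image of `C_{E₀}(x)` acting on the inverted `r`-groups over `a` as the scalar `j`.
-/

set_option autoImplicit false
set_option linter.unusedSectionVars false

namespace Cfsg.Agent.Walter.Field.Other

open Subgroup

universe u v

variable {G : Type u} [Group G] [Finite G] {K : Type v} [Field K] [Fintype K] {t : G} {E₀ : Subgroup G}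
  {S : Sylow 2 G}

/-- What the top of `C(x)` delivers. -/
structure Elt.Tor (D : Elt t K E₀ S) (T : Subgroup D.Q) (a k : D.Q) (s j : ℕ) : Prop where
  simp : D.Simp T
  /-- `r` divides neither `|C_{E₀}(x)|` nor the centraliser of the involution in the top. -/
  not_dvd_L : ¬ D.r ∣ Nat.card ↥D.L
  not_dvd_cent : ¬ D.r ∣ Nat.card ↥(T ⊓ centralizer ({D.tq} : Set D.Q))
  s_prime : s.Prime
  s_odd : Odd s
  s_dvd : s ∣ D.r - 1
  a_order : orderOf a = D.r
  a_inv : D.tq * a * D.tq⁻¹ = a⁻¹
  k_mem : k ∈ D.LQ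
  k_order : orderOf k = s
  j_ne : ¬ j ≡ 1 [MOD D.r]
  scalar : ∀ R : Subgroup D.Q, IsPGroup D.r ↥R → R ≤ T → a ∈ R →
    (∀ b ∈ R, D.tq * b * D.tq⁻¹ = b⁻¹) → k ∈ normalizer (R : Set D.Q) → ∀ b ∈ R, k * b * k⁻¹ = b ^ j
  conj : k * a * k⁻¹ = a ^ j
  free : ∀ c ∈ D.LQ, c ^ s = 1 → Commute c a → c = 1

end Cfsg.Agent.Walter.Field.Other
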