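import Cfsg.Agent.Lib.Walter.Field.OtherTorDefs
import Cfsg.Agent.Lib.Walter.Field.OtherData
import Cfsg.Agent.Lib.Classical.GL2

/-!
# From the torus in the top of `C(x)` to the data of the transfer

The element and the scalar are lifted to `G`; the inverted lifts are unique because `t` centralises
`O(C(x))`.
-/

set_option autoImplicit false
set_option linter.unusedSectionVars false
set_option linter.style.haveILetI false

namespace Cfsg.Agent.Walter.Field.Other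

open Subgroup

universe u v

variable {G : Type u} [Group G] [Finite G] {K : Type v} [Field K] [Fintype K] {t : G} {E₀ : Subgroup G}
  {S : Sylow 2 G}

theorem ne_one_of_two {g : G} (h : orderOf g = 2) : g ≠ 1 := fun e => by
  rw [e, orderOf_one] at h
  omega

/-- The field part is commutative. -/
@[reducible]
def Shape.commO (Sh : Shape t K E₀ S) : CommGroup ↥Sh.O :=
  { Sh.O.toGroup with mul_comm := fun a b => Subtype.ext (Sh.O_comm a.2 b.2).eq }

/-- The field part as a homomorphism of `C(t)`. -/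
theorem Shape.exists_lam (Sh : Shape t K E₀ S) (hd : TwoPSL t K E₀) :
    ∃ lam : ↥(centralizer ({t} : Set G)) →* ↥Sh.O,
      (∀ c, lam c = 1 → (c : G) ∈ zpowers t ⊔ E₀) ∧
      ∀ c : ↥(centralizer ({t} : Set G)), (c : G) ∈ zpowers t ⊔ E₀ → lam c = 1 := by
  set M := zpowers t ⊔ E₀ with hM
  have hnorm : ∀ g ∈ centralizer ({t} : Set G), g ∈ normalizer (M : Set G) := fun g hg =>
    normalizer_inf_normalizer_le_normalizer_sup _ _ ⟨centralizer_le_normalizer _
      (mem_centralizer_iff.2 fun a ha => by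
        obtain ⟨m, rfl⟩ := mem_zpowers_iff.1 ha
        exact ((show Commute g t from mem_centralizer_singleton_iff.1 hg).zpow_right m).eq.symm),
      hd.normal hg⟩
  have hex : ∀ c : ↥(centralizer ({t} : Set G)), ∃ o : ↥Sh.O, (c : G) * (o : G)⁻¹ ∈ M := fun c => by
    obtain ⟨d, hd', o, ho, e⟩ := Sh.surj c c.2
    exact ⟨⟨o, ho⟩, by rw [e, mul_inv_cancel_right]; exact hd'⟩
  choose f hf using hex
  have huniq : ∀ (c : ↥(centralizer ({t} : Set G))) (o : ↥Sh.O), (c : G) * (o : G)⁻¹ ∈ M → f c = o := by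
    intro c o ho
    have h1 := mul_mem (inv_mem (hf c)) ho
    have h2 : ((c : G) * (f c : G)⁻¹)⁻¹ * ((c : G) * (o : G)⁻¹) = (f c : G) * (o : G)⁻¹ := by group
    rw [h2] at h1
    exact Subtype.ext (mul_inv_eq_one.1 (Sh.uniq _ h1 (mul_mem (f c).2 (inv_mem o.2))))
  refine ⟨MonoidHom.mk' f fun c d => huniq _ _ ?_, fun c hc => ?_, fun c hc => ?_⟩
  · show (c : G) * d * ((f c : G) * (f d : G))⁻¹ ∈ M
    rw [show (c : G) * d * ((f c : G) * (f d : G))⁻¹ =
      ((c : G) * (f c : G)⁻¹) * ((f c : G) * ((d : G) * (f d : G)⁻¹) * (f c : G)⁻¹) by group]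
    exact mul_mem (hf c) ((mem_normalizer_iff.1 (hnorm _ (Sh.O_le_C (f c).2)) _).1 (hf d))
  · have h1 := hf c
    rw [show f c = 1 from hc] at h1
    simpa using h1
  · exact huniq c 1 (by simpa using hc)

/-- All involutions are conjugate. -/
theorem Shape.fused [IsSimpleGroup G] (Sh : Shape t K E₀ S) (hnc : ¬ IsMulCommutative G)
    (hab : SEAbelian.AbTwo G) (hd : TwoPSL t K E₀) (i : G) (hi : orderOf i = 2) : IsConj t i := by
  haveI : Fact (Nat.Prime 2) := ⟨Nat.prime_two⟩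
  obtain ⟨P, hP⟩ := exists_sylow_mem (G := G) hi
  obtain ⟨g, hg⟩ := MulAction.exists_smul_eq G P S
  have hiS : g * i * g⁻¹ ∈ (S : Subgroup G) := by
    rw [← hg, Sylow.coe_subgroup_smul]
    exact ⟨i, hP, rfl⟩
  obtain ⟨n, -, hn⟩ := Sh.trans hnc hab hd _ hiS (fun e => ne_one_of_two hi (conj_eq_one_iff.1 e))
  refine isConj_iff.2 ⟨g⁻¹ * n, ?_⟩
  rw [show g⁻¹ * n * t * (g⁻¹ * n)⁻¹ = g⁻¹ * (n * t * n⁻¹) * g by group, hn]
  group

/-- The Sylow 2-subgroups have exponent two. -/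
theorem Shape.sylow_sq (Sh : Shape t K E₀ S) (hab : SEAbelian.AbTwo G) (hd : TwoPSL t K E₀)
    (P : Sylow 2 G) (a : G) (ha : a ∈ (P : Subgroup G)) : a * a = 1 := by
  haveI : Fact (Nat.Prime 2) := ⟨Nat.prime_two⟩
  obtain ⟨g, hg⟩ := MulAction.exists_smul_eq G P S
  have haS : g * a * g⁻¹ ∈ (S : Subgroup G) := by
    rw [← hg, Sylow.coe_subgroup_smul]
    exact ⟨a, ha, rfl⟩
  have h := Sh.orbit_invol hab hd haS
  rwa [show g * a * g⁻¹ * (g * a * g⁻¹) = g * (a * a) * g⁻¹ by group, conj_eq_one_iff] at h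

theorem conj_pow_pow {g b : G} {j : ℕ} (h : g * b * g⁻¹ = b ^ j) (i : ℕ) :
    g ^ i * b * (g ^ i)⁻¹ = b ^ j ^ i := by
  induction i with
  | zero => simp
  | succ i ih =>
    rw [pow_succ' g, show g * g ^ i * b * (g * g ^ i)⁻¹ = g * (g ^ i * b * (g ^ i)⁻¹) * g⁻¹ by group,
      ih, ← conj_pow, h, ← pow_mul, ← pow_succ']

/-- Commutators of powers when the commutator is central. -/
theorem conj_pow_of_central {a b c : G} (h : a * b * a⁻¹ = c * b) (hca : Commute c a) (hcb : Commute c b)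
    (n m : ℕ) : a ^ n * b ^ m * (a ^ n)⁻¹ = c ^ (n * m) * b ^ m := by
  induction n with
  | zero => simp
  | succ n ih =>
    rw [pow_succ' a, show a * a ^ n * b ^ m * (a * a ^ n)⁻¹ = a * (a ^ n * b ^ m * (a ^ n)⁻¹) * a⁻¹ by group,
      ih, show a * (c ^ (n * m) * b ^ m) * a⁻¹ = a * c ^ (n * m) * (b ^ m * a⁻¹) by group,
      ((hca.pow_left (n * m)).symm).eq, show c ^ (n * m) * a * (b ^ m * a⁻¹) = c ^ (n * m) * (a * b ^ m * a⁻¹) by group,
      ← conj_pow, h, hcb.mul_pow, ← mul_assoc, ← pow_add, Nat.succ_mul]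

namespace Elt

variable (D : Elt t K E₀ S)

theorem tt : (⟨t, D.t_mem⟩ : ↥D.X) * ⟨t, D.t_mem⟩ = 1 :=
  Subtype.ext (by show t * t = 1; rw [← pow_two, ← D.hd.ht, pow_orderOf_eq_one])

/-- An inverted element of odd order centralises `O(X)`. -/
theorem inverted_commute {b z : G} (hb : b ∈ D.X) (hbi : Inv t b) (hbo : Odd (orderOf b))
    (hz : z ∈ D.Y) : Commute b z := by
  have h1 : Commute (b * z * b⁻¹) t := D.Y_commute_t (D.Y_normal hb hz)
  have h2 : b * z * b⁻¹ = b⁻¹ * z * b := by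
    calc b * z * b⁻¹ = t * (b * z * b⁻¹) * t⁻¹ := by rw [← h1.eq, mul_inv_cancel_right]
      _ = (t * b * t⁻¹) * (t * z * t⁻¹) * (t * b * t⁻¹)⁻¹ := by group
      _ = b⁻¹ * z * b := by
        rw [show t * b * t⁻¹ = b⁻¹ from hbi, ← (D.Y_commute_t hz).eq, mul_inv_cancel_right, inv_inv]
  have h3 : Commute (b ^ 2) z := by
    show b ^ 2 * z = z * b ^ 2
    calc b ^ 2 * z = b * (b * z * b⁻¹) * b := by rw [pow_two]; group
      _ = b * (b⁻¹ * z * b) * b := by rw [h2]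
      _ = z * b ^ 2 := by rw [pow_two]; group
  obtain ⟨i, hi⟩ := hbo
  have h4 := h3.pow_left (i + 1)
  rwa [← pow_mul, show 2 * (i + 1) = 2 * i + 1 + 1 by ring, ← hi, pow_succ, pow_orderOf_eq_one, one_mul] at h4

/-- Inverted lifts are unique. -/
theorem inverted_unique {b b' : ↥D.X} (hb : Inv t (b : G)) (hb' : Inv t (b' : G))
    (hbo : Odd (orderOf (b : G))) (h : D.π b = D.π b') : b = b' := by
  set w := b⁻¹ * b' with hw
  have hwY : (w : G) ∈ D.Y := D.π_eq_one (by rw [hw, map_mul, map_inv, h, inv_mul_cancel])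
  have hc := D.inverted_commute b.2 hb hbo hwY
  have hwt := D.Y_commute_t hwY
  have h1 : (b : G) * w = b' := by rw [hw, Subgroup.coe_mul, Subgroup.coe_inv, mul_inv_cancel_left]
  have h2 : (b : G)⁻¹ * w = ((b : G) * w)⁻¹ := by
    rw [h1, ← show t * (b' : G) * t⁻¹ = (b' : G)⁻¹ from hb', ← h1,
      show t * ((b : G) * w) * t⁻¹ = (t * b * t⁻¹) * (t * w * t⁻¹) by group,
      show t * (b : G) * t⁻¹ = (b : G)⁻¹ from hb, ← hwt.eq, mul_inv_cancel_right]
  rw [hc.eq, _root_.mul_inv_rev] at h2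
  have h3 : (w : G) * w = 1 := by
    have h4 := mul_left_cancel h2
    calc (w : G) * w = (w : G) * (w : G)⁻¹ := by rw [← h4]
      _ = 1 := mul_inv_cancel _
  exact (inv_mul_eq_one.1 (Subtype.ext (eq_one_of_odd_sq (odd_orderOf D.Y_odd hwY) h3)))

/-- An inverted element of odd order lifts to an inverted element of odd order. -/
theorem exists_inverted_lift {b : D.Q} (hb : Inv D.tq b) (hbo : Odd (orderOf b)) :
    ∃ b' : ↥D.X, Inv t (b' : G) ∧ Odd (orderOf (b' : G)) ∧ D.π b' = b := by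
  set M := (zpowers b).comap D.π with hM
  have hMo : Odd (Nat.card ↥M) := by
    have h1 := (Cfsg.oddCore ↥D.X).card_mul_index
    have h2 : M.index = (zpowers b).index := index_comap_of_surjective _ (QuotientGroup.mk'_surjective _)
    have h3 := M.card_mul_index
    have h4 := (zpowers b).card_mul_index
    rw [h2, ← h1, Subgroup.index_eq_card (Cfsg.oddCore ↥D.X), ← h4, ← mul_assoc] at h3
    rw [Nat.eq_of_mul_eq_mul_right (Nat.pos_of_ne_zero Subgroup.index_ne_zero_of_finite) h3,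
      Nat.card_zpowers]
    exact Agent.Cores.oddCore_odd.mul hbo
  have hKt : ∀ k ∈ M, (⟨t, D.t_mem⟩ : ↥D.X) * k * ⟨t, D.t_mem⟩⁻¹ ∈ M := by
    intro k hk
    obtain ⟨m, hm⟩ := mem_zpowers_iff.1 (mem_comap.1 hk)
    refine mem_comap.2 (mem_zpowers_iff.2 ⟨-m, ?_⟩)
    rw [map_mul, map_mul, map_inv, ← hm, ← conj_zpow, show D.π ⟨t, D.t_mem⟩ * b * (D.π ⟨t, D.t_mem⟩)⁻¹ = b⁻¹ from hb,
      inv_zpow']
  obtain ⟨g, rfl⟩ := QuotientGroup.mk'_surjective _ b
  obtain ⟨a, haM, hai, hπ⟩ := exists_inv_mod D.tt hMo hKt D.π (g := g) (mem_comap.2 (mem_zpowers _)) hb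
  exact ⟨a, congrArg Subtype.val hai, by rw [Subgroup.orderOf_coe]; exact odd_orderOf hMo haM, hπ⟩

/-- The inverted elements of the top. -/
theorem inverted_mem {T : Subgroup D.Q} (hT : D.Simp T) {b : D.Q} (hb : Inv D.tq b)
    (hbo : Odd (orderOf b)) : b ∈ T := by
  obtain ⟨i, hi⟩ := hbo
  set c := b ^ (i + 1) with hc
  have hcb : c * c = b := by
    rw [hc, ← pow_add, show i + 1 + (i + 1) = 2 * i + 1 + 1 by ring, ← hi, pow_succ, pow_orderOf_eq_one,
      one_mul]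
  have htT : D.tq ∈ T := hT.mem _ D.tq_order
  have h1 : c * D.tq * c⁻¹ * D.tq⁻¹ ∈ T := mul_mem (hT.normal.conj_mem _ htT c) (inv_mem htT)
  rwa [show c * D.tq * c⁻¹ * D.tq⁻¹ = c * (D.tq * c⁻¹ * D.tq⁻¹) by group,
    show D.tq * c⁻¹ * D.tq⁻¹ = c from (hb.pow (i + 1)).inv.trans (inv_inv c), hcb] at h1

/-- `r` does not divide `|E₀|`. -/
theorem not_dvd_E (h : ¬ D.r ∣ Nat.card ↥D.L) : ¬ D.r ∣ Nat.card ↥E₀ := by
  haveI := Fact.mk D.hr
  have hr2 : D.r ≠ 2 := fun e => by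
    have := D.r_odd
    rw [e] at this
    exact absurd this (by decide)
  obtain ⟨e⟩ := D.hd.iso
  have hE : 2 * Nat.card ↥E₀ = Fintype.card K * ((Fintype.card K - 1) * (Fintype.card K + 1)) := by
    have h1 := Classical.SmallIso.natCard_pslTwo K
    obtain ⟨k, hk⟩ := D.hd.odd
    rw [hk, show 2 * k + 1 - 1 = 2 * k by omega, Nat.gcd_mul_right_right, Classical.GL2.natCard_SL_two, hk,
      show 2 * k + 1 - 1 = 2 * k by omega] at h1
    rw [Nat.card_congr e.toEquiv, hk, show 2 * k + 1 - 1 = 2 * k by omega]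
    exact h1
  intro hd'
  apply h
  have h2 : ((2 * Nat.card ↥E₀ : ℕ) : ZMod D.r) = ((2 * Nat.card ↥D.L : ℕ) : ZMod D.r) := by
    have hq1 : 1 ≤ Fintype.card K := Fintype.card_pos
    have hq0 : 1 ≤ D.q₀ := le_trans (by norm_num) D.three_le
    rw [hE, D.two_card_L]
    push_cast [Nat.cast_sub hq1, Nat.cast_sub hq0]
    rw [show (Fintype.card K : ZMod D.r) = (D.q₀ : ZMod D.r) by rw [D.card_K, Nat.cast_pow, ZMod.pow_card]]
  rw [(CharP.cast_eq_zero_iff (ZMod D.r) D.r (2 * Nat.card ↥E₀)).2 (hd'.mul_left 2)] at h2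
  exact ((Nat.coprime_primes D.hr Nat.prime_two).2 hr2).dvd_of_dvd_mul_left
    ((CharP.cast_eq_zero_iff (ZMod D.r) D.r _).1 h2.symm)

theorem false_of_tor (hTr : TransferHalf.{u}) (hmin : ∀ p : ℕ, p.Prime → p ∣ Nat.card ↥D.Sh.O → D.r ≤ p)
    {T : Subgroup D.Q} {a k : D.Q} {s j : ℕ} (P : D.Tor T a k s j) : False := by
  haveI := D.hsimple
  haveI := Fact.mk D.hr
  obtain ⟨lam, hlam1, hlam2⟩ := D.Sh.exists_lam D.hd
  have hs1 : s < D.r := lt_of_le_of_lt (Nat.le_of_dvd (by have := D.hr.two_le; omega) P.s_dvd)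
    (by have := D.hr.two_le; omega)
  -- the lifts
  obtain ⟨lX, hlL, hlk⟩ := P.k_mem
  set l : G := (lX : G) with hl
  have hlE : l ∈ D.L := mem_subgroupOf.1 hlL
  have hlC : l ∈ centralizer ({t} : Set G) := D.L_le_C hlE
  have hlt : Commute l t := mem_centralizer_singleton_iff.1 hlC
  have hlx : Commute l D.x := D.x_central l lX.2
  have hlo : orderOf l = s := by
    rw [hl, Subgroup.orderOf_coe, ← P.k_order, ← hlk]
    exact Nat.dvd_antisymm (orderOf_dvd_of_pow_eq_one (D.π_inj_DX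
      (pow_mem (mem_subgroupOf.2 (mem_sup_right hlE)) _) (by rw [map_pow, pow_orderOf_eq_one])))
      (orderOf_map_dvd _ _)
  obtain ⟨a', ha'i, ha'o, ha'π⟩ := D.exists_inverted_lift (b := a) P.a_inv (P.a_order ▸ D.r_odd)
  have hlconj : ∀ b : ↥D.X, Inv t (b : G) → Odd (orderOf (b : G)) → k * D.π b * k⁻¹ = D.π b ^ j →
      l * (b : G) * l⁻¹ = (b : G) ^ j := by
    intro b hbi hbo hb
    have h1 : lX * b * lX⁻¹ = b ^ j := D.inverted_unique (hbi.conj hlt)
      (by rw [Subgroup.coe_pow]; exact hbi.pow j)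
      (by rw [Subgroup.coe_mul, Subgroup.coe_mul, Subgroup.coe_inv, ← MulAut.conj_apply, MulEquiv.orderOf_eq]
          exact hbo)
      (by rw [map_mul, map_mul, map_inv, hlk, map_pow, hb])
    have h2 := congrArg Subtype.val h1
    rwa [Subgroup.coe_mul, Subgroup.coe_mul, Subgroup.coe_inv, Subgroup.coe_pow] at h2
  have ha'r : (a' : G) ^ D.r = 1 := by
    have h1 := D.inverted_unique (b := a' ^ D.r) (b' := 1) (by rw [Subgroup.coe_pow]; exact ha'i.pow _)
      (by show t * ((1 : ↥D.X) : G) * t⁻¹ = ((1 : ↥D.X) : G)⁻¹; simp)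
      (by rw [Subgroup.coe_pow]; exact ha'o.of_dvd_nat (orderOf_pow_dvd _))
      (by rw [map_pow, ha'π, ← P.a_order, pow_orderOf_eq_one, map_one])
    simpa using congrArg Subtype.val h1
  have ha'1 : (a' : G) ≠ 1 := fun e => D.hr.ne_one (by
    rw [← P.a_order, ← ha'π, show a' = 1 from Subtype.ext e, map_one, orderOf_one])
  have hla : l * (a' : G) * l⁻¹ = (a' : G) ^ j := hlconj a' ha'i ha'o (ha'π ▸ P.conj)
  -- the scalar modulo every power of `r`
  set e := (Nat.card G).factorization D.r with he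
  set J := j ^ D.r ^ e with hJ
  have hls : l ^ s = 1 := hlo ▸ pow_orderOf_eq_one l
  have hjs : j ^ s ≡ 1 [MOD D.r] := by
    have h1 := conj_pow_pow hla s
    rw [hls, one_mul, inv_one, mul_one] at h1
    have h2 : (a' : G) ^ j ^ s = (a' : G) ^ 1 := by rw [pow_one]; exact h1.symm
    rwa [pow_eq_pow_iff_modEq, orderOf_eq_prime ha'r ha'1] at h2
  obtain ⟨m, hm⟩ : ∃ m, D.r ^ e = 1 + s * m := by
    have h1 : D.r ≡ 1 [MOD s] := ((Nat.modEq_iff_dvd' D.hr.one_le).2 P.s_dvd).symm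
    have h2 : D.r ^ e ≡ 1 [MOD s] := by simpa using h1.pow e
    obtain ⟨m, hm⟩ := (Nat.modEq_iff_dvd' (Nat.one_le_pow _ _ D.hr.pos)).1 h2.symm
    exact ⟨m, by have := Nat.one_le_pow e _ D.hr.pos; omega⟩
  have hJb : ∀ b : G, l * b * l⁻¹ = b ^ j → b ^ J = b ^ j := by
    intro b hb
    have h1 := conj_pow_pow hb s
    rw [hls, one_mul, inv_one, mul_one] at h1
    rw [hJ, hm, pow_add, pow_one, pow_mul, pow_mul]
    clear hm
    induction m with
    | zero => simp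
    | succ m ih => rw [pow_succ, pow_mul, ih, ← pow_mul, mul_comm, pow_mul, ← h1]
  have hJj : J ≡ j [MOD D.r] := by
    rw [hJ, hm, pow_add, pow_one, pow_mul]
    simpa using (hjs.pow m).mul_left j
  have hJ1 : ¬ J ≡ 1 [MOD D.r] := fun h => P.j_ne (hJj.symm.trans h)
  have hJs : J ^ s ≡ 1 [MOD D.r ^ e] := by
    rw [hJ, ← pow_mul, mul_comm, pow_mul]
    have h1 : (D.r : ℤ) ∣ ((j ^ s : ℕ) : ℤ) - ((1 : ℕ) : ℤ) := (Nat.modEq_iff_dvd.1 hjs.symm)
    have h2 := dvd_sub_pow_of_dvd_sub h1 e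
    refine (Nat.modEq_iff_dvd.2 ?_).symm
    rw [Nat.cast_pow (j ^ s), Nat.cast_one] at *
    rw [one_pow] at h2
    rw [Nat.cast_pow D.r e]
    exact (pow_dvd_pow _ e.le_succ).trans h2
  have hJJ : ¬ J * J ≡ 1 [MOD D.r] := fun h => by
    obtain ⟨i, hi⟩ := P.s_odd
    have h1 : J ^ s ≡ J [MOD D.r] := by
      rw [hi, pow_succ, pow_mul, pow_two]
      simpa using (h.pow i).mul_right J
    have h2 : J ^ s ≡ 1 [MOD D.r] := by
      rw [hJ, ← pow_mul, mul_comm, pow_mul]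
      simpa using hjs.pow (D.r ^ e)
    exact hJ1 (h1.symm.trans h2)
  -- no `r`-element of `C(t)` in the kernel
  have hinj : ∀ c : ↥(centralizer ({t} : Set G)), (∃ i : ℕ, c ^ D.r ^ i = 1) → lam c = 1 → c = 1 := by
    intro c ⟨i, hi⟩ hc
    have hci : (c : G) ^ D.r ^ i = 1 := by rw [← Subgroup.coe_pow, hi, Subgroup.coe_one]
    obtain ⟨z, hz, u, hu, hzu⟩ := mem_sup_cases D.hd.le (hlam1 c hc)
    have htu : Commute z u := by
      obtain ⟨n, rfl⟩ := mem_zpowers_iff.1 hz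
      exact ((show Commute u t from mem_centralizer_singleton_iff.1 (D.hd.le hu)).zpow_right n).symm
    have hz2 : z ^ 2 = 1 := by
      rcases zpow_cases D.hd.ht hz with rfl | rfl
      · exact one_pow 2
      · rw [← D.hd.ht, pow_orderOf_eq_one]
    have hodd : Odd (orderOf (c : G)) := (D.r_odd.pow).of_dvd_nat (orderOf_dvd_of_pow_eq_one hci)
    have h1 : (c : G) ^ 2 ∈ E₀ := by rw [hzu, htu.mul_pow, hz2, one_mul]; exact pow_mem hu 2
    have h2 : (c : G) ^ 2 = 1 := orderOf_eq_one_iff.1 (Nat.eq_one_of_dvd_coprimes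
      ((D.hr.coprime_iff_not_dvd.2 (D.not_dvd_E P.not_dvd_L)).pow_left i)
      (orderOf_dvd_of_pow_eq_one (by rw [← pow_mul, mul_comm, pow_mul, hci, one_pow]))
      (Subgroup.orderOf_dvd_natCard _ h1))
    exact Subtype.ext (eq_one_of_odd_sq hodd (by rw [← pow_two, h2]))
  letI := D.Sh.commO
  refine hTr G D.hsimple D.hnc D.hab t D.x l D.r s J ((zpowers a').map D.X.subtype) _ D.Sh.commO lam
    { r_prime := D.hr
      s_prime := P.s_prime
      s_odd := P.s_odd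
      s_dvd := P.s_dvd
      ht := D.hd.ht
      fused := D.Sh.fused D.hnc D.hab D.hd
      sylow_sq := D.Sh.sylow_sq D.hab D.hd
      x_ord := D.hox
      x_t := D.Sh.O_commute_t D.hx
      l_ord := hlo
      l_t := hlt
      l_x := hlx
      lam_cyclic := D.Sh.O_cyclic
      lam_inj := hinj
      lam_l := fun c hc => hlam2 c (hc ▸ mem_sup_right hlE.1)
      J_ne := hJ1
      J_pow := hJs
      P_pgroup := ?_
      P_ne := ?_
      P_le := map_subtype_le _
      P_inv := ?_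
      P_norm := ?_
      inverted := ?_
      coprime := ?_ }
  · rw [MonoidHom.map_zpowers]
    exact IsPGroup.of_card (n := 1) (by
      rw [Nat.card_zpowers, pow_one, show D.X.subtype a' = (a' : G) from rfl, orderOf_eq_prime ha'r ha'1])
  · rw [MonoidHom.map_zpowers, Ne, zpowers_eq_bot]
    exact ha'1
  · rw [MonoidHom.map_zpowers]
    intro b hb
    obtain ⟨n, rfl⟩ := mem_zpowers_iff.1 hb
    rw [← conj_zpow, show t * D.X.subtype a' * t⁻¹ = (D.X.subtype a')⁻¹ from ha'i, inv_zpow]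
  · rw [MonoidHom.map_zpowers]
    refine EqualOrderConj.mem_normalizer_of_conj_mem fun b hb => ?_
    obtain ⟨n, rfl⟩ := mem_zpowers_iff.1 hb
    rw [← conj_zpow, show l * D.X.subtype a' * l⁻¹ = (a' : G) ^ j from hla]
    exact zpow_mem (pow_mem (mem_zpowers _) _) n
  · -- the inverted part of an invariant `r`-group of `X`
    intro R hR hRX hxR hPR htR hlR
    set RQ := (R.subgroupOf D.X).map D.π ⊓ T with hRQ
    haveI := P.simp.normal
    have hRQp : IsPGroup D.r ↥RQ := ((hR.comap_subtype (K := D.X)).map D.π).to_le inf_le_left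
    have haR : a ∈ RQ := ⟨⟨a', mem_subgroupOf.2 (hPR ⟨a', mem_zpowers _, rfl⟩), ha'π⟩,
      D.inverted_mem P.simp P.a_inv (P.a_order ▸ D.r_odd)⟩
    have hRQt : ∀ b ∈ RQ, D.tq * b * D.tq⁻¹ ∈ RQ := by
      intro b hb
      obtain ⟨⟨c, hc, rfl⟩, hbT⟩ := mem_inf.1 hb
      refine mem_inf.2 ⟨⟨⟨t, D.t_mem⟩ * c * ⟨t, D.t_mem⟩⁻¹,
        mem_subgroupOf.2 ((mem_normalizer_iff.1 htR _).1 (mem_subgroupOf.1 hc)), ?_⟩,
        P.simp.normal.conj_mem _ hbT _⟩
      rw [map_mul, map_mul, map_inv]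
    have hRQo : Odd (Nat.card ↥RQ) := by
      obtain ⟨n, hn⟩ := hRQp.exists_card_eq
      rw [hn]; exact D.r_odd.pow
    have hRQi : ∀ b ∈ RQ, D.tq * b * D.tq⁻¹ = b⁻¹ := by
      intro b hb
      obtain ⟨p, hp, c, hc, hpi, hct, rfl⟩ := exists_inv_mul (by
        show D.π _ * D.π _ = 1
        rw [← map_mul, D.tt, map_one]) hRQo hRQt hb
      obtain ⟨n, hn⟩ := hRQp ⟨c, hc⟩
      have h1 : c = 1 := orderOf_eq_one_iff.1 (Nat.eq_one_of_dvd_coprimes
        ((D.hr.coprime_iff_not_dvd.2 P.not_dvd_cent).pow_left n)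
        (orderOf_dvd_of_pow_eq_one (congrArg Subtype.val hn :))
        (Subgroup.orderOf_dvd_natCard _ (mem_inf.2 ⟨(mem_inf.1 hc).2,
          mem_centralizer_singleton_iff.2 hct.eq.symm⟩)))
      rw [h1, mul_one]
      exact hpi
    have hkR : k ∈ normalizer (RQ : Set D.Q) := EqualOrderConj.mem_normalizer_of_conj_mem fun b hb => by
      obtain ⟨⟨c, hc, rfl⟩, hbT⟩ := mem_inf.1 hb
      refine mem_inf.2 ⟨⟨lX * c * lX⁻¹,
        mem_subgroupOf.2 ((mem_normalizer_iff.1 hlR _).1 (mem_subgroupOf.1 hc)), ?_⟩,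
        P.simp.normal.conj_mem _ hbT _⟩
      rw [map_mul, map_mul, map_inv, hlk]
    have hodd : ∀ b ∈ R, Odd (orderOf b) := fun b hb => by
      obtain ⟨n, hn⟩ := hR ⟨b, hb⟩
      exact (D.r_odd.pow).of_dvd_nat (orderOf_dvd_of_pow_eq_one (congrArg Subtype.val hn :))
    have himage : ∀ b (hb : b ∈ R), t * b * t⁻¹ = b⁻¹ → D.π ⟨b, hRX hb⟩ ∈ RQ := fun b hb hbi =>
      mem_inf.2 ⟨⟨⟨b, hRX hb⟩, mem_subgroupOf.2 hb, rfl⟩, D.inverted_mem P.simp
        ((show Inv (⟨t, D.t_mem⟩ : ↥D.X) ⟨b, hRX hb⟩ from Subtype.ext hbi).map D.π)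
        ((hodd b hb).of_dvd_nat (by
          rw [show orderOf b = orderOf (⟨b, hRX hb⟩ : ↥D.X) from (Subgroup.orderOf_mk b (hRX hb)).symm]
          exact orderOf_map_dvd _ _))⟩
    have hsc : ∀ b ∈ R, t * b * t⁻¹ = b⁻¹ → l * b * l⁻¹ = b ^ J := fun b hb hbi => by
      have h1 := hlconj ⟨b, hRX hb⟩ hbi (hodd b hb)
        (P.scalar RQ hRQp inf_le_right haR hRQi hkR _ (himage b hb hbi))
      rw [hJb _ h1]
      exact h1
    intro b hb hbi
    refine ⟨hsc b hb hbi, fun b₂ hb₂ hb₂i => ?_⟩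
    set c := b * b₂ * b⁻¹ * b₂⁻¹ with hc
    have hcR : c ∈ R := mul_mem (mul_mem (mul_mem hb hb₂) (inv_mem hb)) (inv_mem hb₂)
    have hcY : c ∈ D.Y := by
      refine D.π_eq_one (g := ⟨b, hRX hb⟩ * ⟨b₂, hRX hb₂⟩ * ⟨b, hRX hb⟩⁻¹ * ⟨b₂, hRX hb₂⟩⁻¹) ?_
      have h1 := hRQi _ (mul_mem (himage b hb hbi) (himage b₂ hb₂ hb₂i))
      rw [← conj_mul, hRQi _ (himage b hb hbi), hRQi _ (himage b₂ hb₂ hb₂i), ← _root_.mul_inv_rev, inv_inj] at h1
      rw [map_mul, map_mul, map_mul, map_inv, map_inv, ← h1, mul_inv_cancel_right, mul_inv_cancel]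
    have hcb := (D.inverted_commute (hRX hb) hbi (hodd b hb) hcY).symm
    have hcb₂ := (D.inverted_commute (hRX hb₂) hb₂i (hodd b₂ hb₂) hcY).symm
    have hct : c ∈ centralizer ({t} : Set G) := mem_centralizer_singleton_iff.2 (D.Y_commute_t hcY).eq
    have hlc : l * c * l⁻¹ = c := by
      have hlcR : l * c * l⁻¹ * c⁻¹ ∈ R := mul_mem ((mem_normalizer_iff.1 hlR _).1 hcR) (inv_mem hcR)
      let lc : ↥(centralizer ({t} : Set G)) := ⟨l, hlC⟩ * ⟨c, hct⟩ * ⟨l, hlC⟩⁻¹ * ⟨c, hct⟩⁻¹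
      have h1 : lam lc = 1 := by
        simp only [lc, map_mul, map_inv]
        rw [mul_inv_cancel_comm, mul_inv_cancel]
      obtain ⟨n, hn⟩ := hR ⟨_, hlcR⟩
      exact mul_inv_eq_one.1 (congrArg Subtype.val (hinj lc ⟨n, Subtype.ext (congrArg Subtype.val hn :)⟩ h1) :)
    have hbc : b * b₂ * b⁻¹ = c * b₂ := by rw [hc, inv_mul_cancel_right]
    have h2 : c ^ (J * J) = c := by
      have h3 := conj_pow_of_central hbc hcb hcb₂ J J
      have h4 : l * (b * b₂ * b⁻¹ * b₂⁻¹) * l⁻¹ =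
          (l * b * l⁻¹) * (l * b₂ * l⁻¹) * (l * b * l⁻¹)⁻¹ * (l * b₂ * l⁻¹)⁻¹ := by group
      rw [← hc, hlc, hsc b hb hbi, hsc b₂ hb₂ hb₂i, h3, mul_inv_cancel_right] at h4
      exact h4.symm
    have hc1 : c = 1 := by
      by_contra hne
      obtain ⟨n, hn⟩ := hR ⟨c, hcR⟩
      obtain ⟨i, -, hi⟩ := (Nat.dvd_prime_pow D.hr).1 (orderOf_dvd_of_pow_eq_one (congrArg Subtype.val hn :))
      have hi0 : i ≠ 0 := fun e0 => hne (orderOf_eq_one_iff.1 (by
        rw [show orderOf c = D.r ^ i from hi, e0, pow_zero]))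
      refine hJJ (((pow_eq_pow_iff_modEq (x := c) (m := 1)).1 (by rw [pow_one]; exact h2)).of_dvd ?_)
      rw [show orderOf c = D.r ^ i from hi]
      exact dvd_pow_self _ hi0
    exact mul_inv_eq_iff_eq_mul.1 (mul_inv_eq_one.1 hc1)
  · -- no element of order `s` centralising `x` and the torus
    intro c hct hcx hcP hcs
    set cc : ↥(centralizer ({t} : Set G)) := ⟨c, mem_centralizer_singleton_iff.2 hct.eq⟩
    have hlc : lam cc = 1 := by
      refine orderOf_eq_one_iff.1 ?_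
      have h1 : lam cc ^ s = 1 := by
        rw [← map_pow, show cc ^ s = 1 from Subtype.ext (by rw [Subgroup.coe_pow]; exact hcs), map_one]
      rcases (Nat.dvd_prime P.s_prime).1 (orderOf_dvd_of_pow_eq_one h1) with h2 | h2
      · exact h2
      · have := hmin s P.s_prime (h2 ▸ orderOf_dvd_natCard _)
        omega
    obtain ⟨z, hz, u, hu, hzu⟩ := mem_sup_cases D.hd.le (hlam1 cc hlc)
    replace hzu : c = z * u := hzu
    have hzs : z ^ s ∈ E₀ := by
      have htu : Commute z u := by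
        obtain ⟨n, rfl⟩ := mem_zpowers_iff.1 hz
        exact ((show Commute u t from mem_centralizer_singleton_iff.1 (D.hd.le hu)).zpow_right n).symm
      rw [hzu, htu.mul_pow] at hcs
      rw [eq_inv_of_mul_eq_one_left hcs]
      exact inv_mem (pow_mem hu s)
    have hz1 : z = 1 := by
      rcases zpow_cases D.hd.ht hz with rfl | rfl
      · rfl
      · exfalso
        obtain ⟨i, hi⟩ := P.s_odd
        rw [hi, pow_succ, pow_mul, ← D.hd.ht, pow_orderOf_eq_one, one_pow, one_mul] at hzs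
        exact D.hd.t_not hzs
    rw [hz1, one_mul] at hzu
    have hcL : c ∈ D.L := mem_inf.2 ⟨hzu ▸ hu, mem_centralizer_singleton_iff.2 hcx.eq⟩
    let cX : ↥D.X := ⟨c, hcL.2⟩
    have hπ : D.π cX = 1 := P.free _ ⟨cX, mem_subgroupOf.2 hcL, rfl⟩
      (by rw [← map_pow, show cX ^ s = 1 from Subtype.ext (by rw [Subgroup.coe_pow]; exact hcs), map_one])
      (ha'π ▸ (show Commute cX a' from Subtype.ext (hcP _ ⟨a', mem_zpowers _, rfl⟩).eq).map D.π)
    exact congrArg Subtype.val (D.π_inj_DX (mem_subgroupOf.2 (mem_sup_right hcL) : cX ∈ D.DX) hπ)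

end Elt

end Cfsg.Agent.Walter.Field.Other
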