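import Cfsg.Agent.Lib.Walter.Field.OtherNorm
import Cfsg.Agent.Lib.Cores.Basic
import Cfsg.Agent.Lib.PLocal.Cores
import Cfsg.Agent.Lib.Forms.DicksonCor

/-!
# The centraliser `X` of an element of the field part

All involutions of `X` are conjugate, `O(X)` lies in `O`, and the number `N` of the involutions
satisfies the transfer congruence `r ∣ N`.
-/

set_option autoImplicit false
set_option linter.unusedSectionVars false
set_option linter.style.haveILetI false

namespace Cfsg.Agent.Walter.Field.Other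

open Subgroup MulAction

universe u v

variable {G : Type u} [Group G] [Finite G] {K : Type v} [Field K] [Fintype K] {t : G} {E₀ : Subgroup G}
  {S : Sylow 2 G}

/-- An element of the field part with everything around it. -/
structure Elt (t : G) (K : Type v) [Field K] [Fintype K] (E₀ : Subgroup G) (S : Sylow 2 G) where
  Sh : Shape t K E₀ S
  hnc : ¬ IsMulCommutative G
  hsimple : IsSimpleGroup G
  hab : SEAbelian.AbTwo G
  hd : TwoPSL t K E₀
  x : G
  r : ℕ
  hr : r.Prime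
  hx : x ∈ Sh.O
  hox : orderOf x = r

namespace Elt

variable (D : Elt t K E₀ S)

/-- The centraliser. -/
abbrev X : Subgroup G := centralizer ({D.x} : Set G)

/-- Its part in `E₀`. -/
abbrev L : Subgroup G := E₀ ⊓ centralizer ({D.x} : Set G)

theorem r_odd : Odd D.r := D.hox ▸ D.Sh.O_odd D.hx

theorem S_le : (S : Subgroup G) ≤ D.X := fun _ hs =>
  mem_centralizer_singleton_iff.2 (D.Sh.O_commute_S D.hx hs).eq.symm

theorem normalizer_le : normalizer ((S : Subgroup G) : Set G) ≤ D.X := by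
  haveI := D.hsimple
  exact D.Sh.normalizer_le D.hnc D.hab D.hd D.hx D.hr D.hox

theorem t_mem : t ∈ D.X := D.S_le D.Sh.memt

theorem O_le : D.Sh.O ≤ D.X := fun _ hc =>
  mem_centralizer_singleton_iff.2 (D.Sh.O_comm hc D.hx).eq

theorem x_central : ∀ g ∈ D.X, Commute g D.x := fun _ hg => mem_centralizer_singleton_iff.1 hg

theorem four_ne : (D.Sh.φ.symm D.Sh.I : G) ≠ 1 ∧ (D.Sh.φ.symm D.Sh.J : G) ≠ 1 :=
  ⟨fun e => D.Sh.frame.neI (D.Sh.φ.symm.injective (Subtype.ext (by rw [map_one, Subgroup.coe_one]; exact e))),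
    fun e => D.Sh.frame.neJ (D.Sh.φ.symm.injective (Subtype.ext (by rw [map_one, Subgroup.coe_one]; exact e)))⟩

theorem i_mem_L : (D.Sh.φ.symm D.Sh.I : G) ∈ D.L := ⟨(D.Sh.φ.symm D.Sh.I).2, D.S_le D.Sh.memI⟩

theorem j_mem_L : (D.Sh.φ.symm D.Sh.J : G) ∈ D.L := ⟨(D.Sh.φ.symm D.Sh.J).2, D.S_le D.Sh.memJ⟩

theorem y_mem_L : D.Sh.y ∈ D.L :=
  ⟨D.Sh.y_mem, mem_centralizer_singleton_iff.2 (D.Sh.y_commute D.hd D.hx).eq⟩

theorem not_central : D.X ≠ ⊤ := fun e => by
  haveI := D.hsimple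
  have h1 : D.x ∈ center G := Subgroup.mem_center_iff.2 fun g => (D.x_central g (e ▸ mem_top g)).eq
  rcases (inferInstance : (center G).Normal).eq_bot_or_eq_top with h | h
  · rw [h, mem_bot] at h1
    exact D.hr.ne_one (by rw [← D.hox, h1, orderOf_one])
  · exact D.hnc ⟨⟨fun a b => Subgroup.mem_center_iff.1 (h ▸ mem_top b) a⟩⟩

/-- All involutions of `X` are conjugate in `X`. -/
theorem conj_invol {u : G} (hu : u ∈ D.X) (ho : orderOf u = 2) : ∃ g ∈ D.X, g * t * g⁻¹ = u := by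
  haveI := D.hsimple
  haveI : Fact (Nat.Prime 2) := ⟨Nat.prime_two⟩
  have hp : IsPGroup 2 ↥(zpowers (⟨u, hu⟩ : ↥D.X)) := IsPGroup.of_card (n := 1) (by
    rw [Nat.card_zpowers, pow_one, Subgroup.orderOf_mk, ho])
  obtain ⟨P, hP⟩ := hp.exists_le_sylow
  obtain ⟨m, hm⟩ := MulAction.exists_smul_eq ↥D.X P (S.subtype D.S_le)
  have h1 : m * ⟨u, hu⟩ * m⁻¹ ∈ ((m • P : Sylow 2 ↥D.X) : Subgroup ↥D.X) := by
    rw [Sylow.coe_subgroup_smul]
    exact ⟨_, hP (mem_zpowers _), rfl⟩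
  rw [hm, Sylow.coe_subtype, mem_subgroupOf] at h1
  obtain ⟨n, hn, hn'⟩ := D.Sh.trans D.hnc D.hab D.hd _ h1 (fun e => by
    have h2 : orderOf ((m : G) * u * (m : G)⁻¹) = 2 := by rw [← MulAut.conj_apply, MulEquiv.orderOf_eq, ho]
    rw [show (m : G) * u * (m : G)⁻¹ = 1 from e, orderOf_one] at h2
    omega)
  refine ⟨(m : G)⁻¹ * n, mul_mem (inv_mem m.2) (D.normalizer_le hn), ?_⟩
  calc (m : G)⁻¹ * n * t * ((m : G)⁻¹ * n)⁻¹ = (m : G)⁻¹ * (n * t * n⁻¹) * m := by group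
    _ = (m : G)⁻¹ * ((m : G) * u * (m : G)⁻¹) * m := by rw [hn']; rfl
    _ = u := by group

theorem L_le_C : D.L ≤ centralizer ({t} : Set G) := inf_le_left.trans D.hd.le

/-- The elements of `C(t) ∩ X`. -/
theorem cent_cases {c : G} (hc : c ∈ centralizer ({t} : Set G)) (hcX : c ∈ D.X) :
    ∃ a ∈ zpowers t, ∃ e ∈ D.L, ∃ o ∈ D.Sh.O, c = a * e * o := by
  obtain ⟨d, hd', o, ho, rfl⟩ := D.Sh.surj c hc
  obtain ⟨a, ha, e, he, rfl⟩ := mem_sup_cases D.hd.le hd'
  refine ⟨a, ha, e, ⟨he, ?_⟩, o, ho, rfl⟩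
  have h1 := mul_mem hcX (inv_mem (D.O_le ho))
  rw [mul_inv_cancel_right] at h1
  have h2 := mul_mem (inv_mem ((zpowers_le.2 D.t_mem) ha)) h1
  rwa [inv_mul_cancel_left] at h2

theorem L_normal {c : G} (hc : c ∈ centralizer ({t} : Set G)) (hcX : c ∈ D.X) {l : G} (hl : l ∈ D.L) :
    c * l * c⁻¹ ∈ D.L :=
  mem_inf.2 ⟨(mem_normalizer_iff.1 (D.hd.normal hc) l).1 hl.1, mul_mem (mul_mem hcX hl.2) (inv_mem hcX)⟩

theorem card_fix : ∃ K₀ : Subfield K, ∃ _ : Fintype ↥K₀,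
    Fintype.card K = Fintype.card ↥K₀ ^ D.r ∧
      Nonempty (↥D.L ≃* Matrix.ProjectiveSpecialLinearGroup (Fin 2) ↥K₀) := by
  classical
  letI : Fintype ↥(fixF (D.Sh.σ ⟨D.x, D.hx⟩)) := Fintype.ofFinite _
  exact ⟨_, inferInstance, by rw [D.Sh.card_eq_pow D.hd D.hx, D.hox], D.Sh.fixed_iso D.hd D.hx⟩

/-- An odd subgroup normalised by `L` inside `L` is trivial. -/
theorem odd_in_L {Z : Subgroup G} (hZL : Z ≤ D.L) (hodd : Odd (Nat.card ↥Z))
    (hn : ∀ l ∈ D.L, ∀ z ∈ Z, l * z * l⁻¹ ∈ Z) : Z = ⊥ := by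
  classical
  obtain ⟨K₀, hfin, hcard, ⟨e⟩⟩ := D.card_fix
  have hK₀o : Odd (Fintype.card ↥K₀) := by
    have := D.hd.odd
    rw [hcard, Nat.odd_pow_iff D.hr.ne_zero] at this
    exact this
  haveI hZn : (Z.subgroupOf D.L).Normal := ⟨fun z hz l => mem_subgroupOf.2 (hn l l.2 z (mem_subgroupOf.1 hz))⟩
  have hi := D.i_mem_L
  by_contra hne
  have hZ' : Z.subgroupOf D.L ≠ ⊥ := fun e' => hne ((eq_bot_iff_forall Z).2 fun z hz => by
    have h1 : (⟨z, hZL hz⟩ : ↥D.L) ∈ Z.subgroupOf D.L := mem_subgroupOf.2 hz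
    rw [e', mem_bot] at h1
    exact congrArg Subtype.val h1)
  have hyZ : D.Sh.y ∈ Z := by
    rcases lt_or_ge 3 (Fintype.card ↥K₀) with h3 | h3
    · haveI : IsSimpleGroup ↥D.L := e.isSimpleGroup_congr.2 (TimesPSLTwo.psl_simple h3)
      have h1 := (hZn.eq_bot_or_eq_top.resolve_left hZ').ge (mem_top ⟨D.Sh.y, D.y_mem_L⟩)
      exact mem_subgroupOf.1 h1
    · have hq : Fintype.card ↥K₀ = 3 := by
        have := Fintype.one_lt_card (α := ↥K₀)
        obtain ⟨k, hk⟩ := hK₀o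
        omega
      have hL : Nat.card ↥D.L = 12 := by
        rw [Nat.card_congr e.toEquiv]
        have h2 := Forms.DicksonCor.gcd_mul_natCard (F := ↥K₀)
        rw [hq, show Nat.gcd 2 (3 - 1) = 2 by decide] at h2
        omega
      have hZc : Nat.card ↥(Z.subgroupOf D.L) = 3 := by
        have h2 : Nat.card ↥(Z.subgroupOf D.L) ∣ 12 := hL ▸ Subgroup.card_subgroup_dvd_card _
        have h3' : Odd (Nat.card ↥(Z.subgroupOf D.L)) := by
          rwa [Nat.card_congr (subgroupOfEquivOfLe hZL).toEquiv]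
        have h4 : Nat.card ↥(Z.subgroupOf D.L) ≠ 1 := fun e' => hZ' (Subgroup.card_eq_one.1 e')
        have h5 := Nat.le_of_dvd (by norm_num) h2
        obtain ⟨k, hk⟩ := h3'
        rw [hk] at h2 h4 h5 ⊢
        have hk5 : k ≤ 5 := by omega
        interval_cases k <;> first | rfl | exact absurd h2 (by decide) | exact absurd rfl h4
      have hidx : (Z.subgroupOf D.L).index = 4 := by
        have := (Z.subgroupOf D.L).card_mul_index
        rw [hZc, hL] at this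
        omega
      let y' : ↥D.L := ⟨D.Sh.y, D.y_mem_L⟩
      refine mem_subgroupOf.1 (show y' ∈ Z.subgroupOf D.L from ?_)
      rw [← QuotientGroup.eq_one_iff, ← orderOf_eq_one_iff]
      refine Nat.eq_one_of_dvd_coprimes (show Nat.Coprime 3 4 by norm_num) ?_ ?_
      · rw [show 3 = orderOf y' by rw [Subgroup.orderOf_mk, D.Sh.y_order]]
        exact orderOf_map_dvd (QuotientGroup.mk' (Z.subgroupOf D.L)) y'
      · rw [← hidx, Subgroup.index_eq_card]
        exact orderOf_dvd_natCard _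
  set i : G := (D.Sh.φ.symm D.Sh.I : G) with hidef
  set j : G := (D.Sh.φ.symm D.Sh.J : G) with hjdef
  have h1 : i * D.Sh.y * i⁻¹ * D.Sh.y⁻¹ ∈ Z := mul_mem (hn i hi _ hyZ) (inv_mem hyZ)
  have hi2 : i * i = 1 := D.Sh.orbit_invol D.hab D.hd D.Sh.memI
  rw [show i * D.Sh.y * i⁻¹ * D.Sh.y⁻¹ = i * (D.Sh.y * i * D.Sh.y⁻¹)⁻¹ by group, D.Sh.y_I,
    ← hjdef, inv_eq_of_mul_eq_one_right (D.Sh.orbit_invol D.hab D.hd D.Sh.memJ)] at h1
  have h2 : i * j = 1 := eq_one_of_odd_sq (odd_orderOf hodd h1) (by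
    rw [D.Sh.i_comm.symm.mul_mul_mul_comm, hi2, D.Sh.orbit_invol D.hab D.hd D.Sh.memJ, one_mul])
  exact D.Sh.frame.ne (D.Sh.φ.symm.injective (Subtype.ext (by
    show i = j
    calc i = i * (j * j) := by rw [D.Sh.orbit_invol D.hab D.hd D.Sh.memJ, mul_one]
      _ = j := by rw [← mul_assoc, h2, one_mul])))

/-- The odd core of `X`, in `G`. -/
abbrev Y : Subgroup G := (Cfsg.oddCore ↥D.X).map D.X.subtype

theorem Y_le_X : D.Y ≤ D.X := map_subtype_le _

theorem Y_odd : Odd (Nat.card ↥D.Y) := by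
  rw [card_subtype]
  exact Agent.Cores.oddCore_odd (G := ↥D.X)

theorem Y_normal {g : G} (hg : g ∈ D.X) {z : G} (hz : z ∈ D.Y) : g * z * g⁻¹ ∈ D.Y := by
  obtain ⟨z', hz', rfl⟩ := hz
  exact ⟨⟨g, hg⟩ * z' * ⟨g, hg⟩⁻¹,
    (inferInstance : (Cfsg.oddCore ↥D.X).Normal).conj_mem z' hz' _, rfl⟩

/-- `O(X)` lies in `O`. -/
theorem Y_le_O : D.Y ≤ D.Sh.O := by
  haveI := D.hsimple
  set i : G := (D.Sh.φ.symm D.Sh.I : G) with hidef
  set j : G := (D.Sh.φ.symm D.Sh.J : G) with hjdef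
  have hZ : D.Y ⊓ D.L = ⊥ := D.odd_in_L inf_le_right
    (D.Y_odd.of_dvd_nat (card_dvd_of_le inf_le_left))
    fun l hl z hz => mem_inf.2 ⟨D.Y_normal hl.2 hz.1, mul_mem (mul_mem hl hz.2) (inv_mem hl)⟩
  have hfix : ∀ z ∈ D.Y, Commute z t → z ∈ D.Sh.O := by
    intro z hz hzt
    have hzC : z ∈ centralizer ({t} : Set G) := mem_centralizer_singleton_iff.2 hzt.eq
    have hcomm : ∀ l ∈ D.L, Commute z l := by
      intro l hl
      have h1 : z * l * z⁻¹ * l⁻¹ ∈ D.Y ⊓ D.L := by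
        refine mem_inf.2 ⟨?_, mul_mem (D.L_normal hzC (D.Y_le_X hz) hl) (inv_mem hl)⟩
        rw [show z * l * z⁻¹ * l⁻¹ = z * (l * z⁻¹ * l⁻¹) by group]
        exact mul_mem hz (D.Y_normal hl.2 (inv_mem hz))
      rw [hZ, mem_bot, mul_inv_eq_one, mul_inv_eq_iff_eq_mul] at h1
      exact h1
    refine (D.Sh.mem_O z).2 ⟨mem_centralizer_iff.2 fun s hs => ?_, odd_orderOf D.Y_odd hz⟩
    obtain ⟨a, ha, v, hv, rfl⟩ := D.Sh.sylow s hs
    obtain ⟨m, rfl⟩ := mem_zpowers_iff.1 ha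
    refine ((hzt.zpow_right m).mul_right ?_).eq.symm
    rcases D.Sh.coe_four hv with e | e | e | e <;> rw [e]
    · exact Commute.one_right z
    · exact hcomm _ D.i_mem_L
    · exact hcomm _ D.j_mem_L
    · exact hcomm _ (mul_mem D.i_mem_L D.j_mem_L)
  have hall : ∀ s ∈ (S : Subgroup G), s ≠ 1 → ∀ z ∈ D.Y, Commute z s → z ∈ D.Sh.O := by
    intro s hs hs1 z hz hzs
    obtain ⟨n, hn, rfl⟩ := D.Sh.trans D.hnc D.hab D.hd s hs hs1
    have h1 : n⁻¹ * z * n ∈ D.Sh.O := by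
      refine hfix _ (by simpa using D.Y_normal (D.normalizer_le (inv_mem hn)) hz) ?_
      calc n⁻¹ * z * n * t = n⁻¹ * (z * (n * t * n⁻¹)) * n := by group
        _ = n⁻¹ * (n * t * n⁻¹ * z) * n := by rw [hzs.eq]
        _ = t * (n⁻¹ * z * n) := by group
    refine (D.Sh.mem_O z).2 ⟨mem_centralizer_iff.2 fun s' hs' => ?_, odd_orderOf D.Y_odd hz⟩
    have h2 : Commute (n⁻¹ * z * n) (n⁻¹ * s' * n) :=
      D.Sh.O_commute_S h1 ((mem_normalizer_iff''.1 hn s').1 hs')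
    calc s' * z = n * (n⁻¹ * s' * n * (n⁻¹ * z * n)) * n⁻¹ := by group
      _ = n * (n⁻¹ * z * n * (n⁻¹ * s' * n)) * n⁻¹ := by rw [h2.eq]
      _ = z * s' := by group
  have hY : ∀ g ∈ D.X, g ∈ normalizer (D.Y : Set G) := fun g hg => mem_normalizer_iff.2 fun z =>
    ⟨D.Y_normal hg, fun hz => by simpa [mul_assoc] using D.Y_normal (inv_mem hg) hz⟩
  have hij1 : i * j ≠ 1 := fun e => D.Sh.frame.ne (D.Sh.φ.symm.injective (Subtype.ext (by
    show i = j
    calc i = i * (j * j) := by rw [D.Sh.orbit_invol D.hab D.hd D.Sh.memJ, mul_one]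
      _ = j := by rw [← mul_assoc, e, one_mul])))
  refine SECore.le_of_four D.Y_odd (a := i) (b := j) (D.Sh.orbit_invol D.hab D.hd D.Sh.memI)
    (D.Sh.orbit_invol D.hab D.hd D.Sh.memJ) D.Sh.i_comm (hY i (D.S_le D.Sh.memI))
    (hY j (D.S_le D.Sh.memJ)) ?_
  rintro z hz (h | h | h)
  · exact hall i D.Sh.memI D.four_ne.1 z hz h
  · exact hall j D.Sh.memJ D.four_ne.2 z hz h
  · exact hall _ (mul_mem D.Sh.memI D.Sh.memJ) hij1 z hz h

theorem Y_commute_t {z : G} (hz : z ∈ D.Y) : Commute z t := D.Sh.O_commute_t (D.Y_le_O hz)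

/-- The centraliser of `t` in `X`. -/
abbrev CX : Subgroup ↥D.X := (centralizer ({t} : Set G)).subgroupOf D.X

/-- The number of involutions of `X`. -/
noncomputable abbrev N : ℕ := D.CX.index

/-- The transfer into the centraliser of `t`: `r` divides the number of involutions of `X`. -/
theorem dvd_N : D.r ∣ D.N := by
  classical
  haveI := D.hsimple
  set C := centralizer ({t} : Set G) with hC
  set M := (zpowers t ⊔ E₀).subgroupOf C with hM
  haveI hMn : M.Normal := by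
    refine normal_subgroupOf_of_le_normalizer fun g hg => ?_
    refine normalizer_inf_normalizer_le_normalizer_sup _ _ ⟨?_, D.hd.normal hg⟩
    exact centralizer_le_normalizer _ (mem_centralizer_iff.2 fun a ha => by
      obtain ⟨m, rfl⟩ := mem_zpowers_iff.1 ha
      exact ((show Commute g t from mem_centralizer_singleton_iff.1 hg).zpow_right m).eq.symm)
  have hcomm : ∀ a b : ↥C ⧸ M, a * b = b * a := by
    have hsurj : ∀ a : ↥C ⧸ M, ∃ o : ↥D.Sh.O, QuotientGroup.mk' M ⟨o, D.Sh.O_le_C o.2⟩ = a := by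
      intro a
      obtain ⟨⟨c, hc⟩, rfl⟩ := QuotientGroup.mk'_surjective M a
      obtain ⟨d, hd', o, ho, rfl⟩ := D.Sh.surj c hc
      refine ⟨⟨o, ho⟩, QuotientGroup.eq.2 (mem_subgroupOf.2 ?_)⟩
      show o⁻¹ * (d * o) ∈ zpowers t ⊔ E₀
      rw [← mul_assoc]
      have h1 : (⟨o, D.Sh.O_le_C ho⟩ : ↥C)⁻¹ * ⟨d, mul_mem_cancel_right (D.Sh.O_le_C ho) |>.1 hc⟩ *
          (⟨o, D.Sh.O_le_C ho⟩ : ↥C)⁻¹⁻¹ ∈ M :=
        hMn.conj_mem _ (mem_subgroupOf.2 hd') _
      rw [inv_inv] at h1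
      exact mem_subgroupOf.1 h1
    intro a b
    obtain ⟨o, rfl⟩ := hsurj a
    obtain ⟨o', rfl⟩ := hsurj b
    rw [← map_mul, ← map_mul]
    exact congrArg _ (Subtype.ext (D.Sh.O_comm o.2 o'.2).eq)
  letI : CommGroup (↥C ⧸ M) := { (inferInstance : Group (↥C ⧸ M)) with mul_comm := hcomm }
  let lam : ↥C →* ↥C ⧸ M := QuotientGroup.mk' M
  let xC : ↥C := ⟨D.x, D.Sh.O_le_C D.hx⟩
  set x := D.x with hxdef
  letI : C.FiniteIndex := inferInstance
  have htriv : MonoidHom.transfer lam = 1 := by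
    rcases (inferInstance : (MonoidHom.transfer lam).ker.Normal).eq_bot_or_eq_top with h | h
    · refine absurd ⟨⟨fun a b => ?_⟩⟩ D.hnc
      exact (MonoidHom.ker_eq_bot_iff _).1 h (by rw [map_mul, map_mul, mul_comm])
    · exact MonoidHom.ext fun g => MonoidHom.mem_ker.1 (h ▸ mem_top g)
  letI := Fintype.ofFinite (Quotient (orbitRel (zpowers x) (G ⧸ C)))
  have hxr : ∀ n, D.r ∣ n → x ^ n = 1 := fun n hn => orderOf_dvd_iff_pow_eq_one.1 (by rw [hxdef, D.hox]; exact hn)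
  have hval : ∀ q : Quotient (orbitRel (zpowers x) (G ⧸ C)),
      lam ⟨q.out.out⁻¹ * x ^ Function.minimalPeriod (x • ·) q.out * q.out.out,
        QuotientGroup.out_conj_pow_minimalPeriod_mem C x q.out⟩ =
      if x • q.out = q.out then lam xC else 1 := by
    intro q
    have hr' : (x ^ D.r) • q.out = q.out := by rw [hxr _ dvd_rfl, one_smul]
    have hdiv : Function.minimalPeriod (x • ·) q.out ∣ D.r :=
      MulAction.pow_smul_eq_iff_minimalPeriod_dvd.1 hr'
    by_cases hf : x • q.out = q.out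
    · have hp1 : Function.minimalPeriod (x • ·) q.out = 1 :=
        Function.minimalPeriod_eq_one_iff_isFixedPt.2 hf
      have hmem := QuotientGroup.out_conj_pow_minimalPeriod_mem C x q.out
      rw [if_pos hf]
      set g := q.out.out with hg
      have hg1 : g⁻¹ * x * g ∈ C := by rwa [hp1, pow_one] at hmem
      have hu : g * t * g⁻¹ ∈ D.X := mem_centralizer_singleton_iff.2 (by
        show g * t * g⁻¹ * x = x * (g * t * g⁻¹)
        calc g * t * g⁻¹ * x = g * (t * (g⁻¹ * x * g)) * g⁻¹ := by group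
          _ = g * (g⁻¹ * x * g * t) * g⁻¹ := by rw [mem_centralizer_singleton_iff.1 hg1]
          _ = x * (g * t * g⁻¹) := by group)
      obtain ⟨h, hh, hht⟩ := D.conj_invol hu (by rw [← MulAut.conj_apply, MulEquiv.orderOf_eq, D.hd.ht])
      have hc : h⁻¹ * g ∈ C := mem_centralizer_singleton_iff.2 (by
        calc h⁻¹ * g * t = h⁻¹ * (g * t * g⁻¹) * g := by group
          _ = h⁻¹ * (h * t * h⁻¹) * g := by rw [hht]
          _ = t * (h⁻¹ * g) := by group)
      have he : g⁻¹ * x ^ Function.minimalPeriod (x • ·) q.out * g = ((⟨_, hc⟩ : ↥C)⁻¹ * xC * ⟨_, hc⟩ : ↥C) := by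
        rw [hp1, pow_one]
        show g⁻¹ * x * g = (h⁻¹ * g)⁻¹ * x * (h⁻¹ * g)
        calc g⁻¹ * x * g = g⁻¹ * (x * h * h⁻¹) * g := by group
          _ = g⁻¹ * (h * x * h⁻¹) * g := by rw [← (D.x_central h hh).eq]
          _ = (h⁻¹ * g)⁻¹ * x * (h⁻¹ * g) := by group
      rw [show (⟨_, hmem⟩ : ↥C) = (⟨_, hc⟩ : ↥C)⁻¹ * xC * ⟨_, hc⟩ from Subtype.ext he, map_mul, map_mul,
        map_inv, mul_comm _ (lam xC), inv_mul_cancel_right]
    · rw [if_neg hf]
      have hpr : Function.minimalPeriod (x • ·) q.out = D.r := (D.hr.eq_one_or_self_of_dvd _ hdiv).resolve_left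
        fun e => hf (Function.minimalPeriod_eq_one_iff_isFixedPt.1 e)
      rw [← map_one lam]
      refine congrArg _ (Subtype.ext ?_)
      show q.out.out⁻¹ * x ^ Function.minimalPeriod (x • ·) q.out * q.out.out = 1
      rw [hpr, hxr _ dvd_rfl, mul_one, inv_mul_cancel]
  have hV := MonoidHom.transfer_eq_prod_quotient_orbitRel_zpowers_quot lam x
  rw [htriv, MonoidHom.one_apply, Finset.prod_congr rfl fun q _ => hval q, Finset.prod_ite,
    Finset.prod_const_one, mul_one, Finset.prod_const] at hV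
  -- the fixed cosets are those of `X`
  have hcount : (Finset.univ.filter fun q : Quotient (orbitRel (zpowers x) (G ⧸ C)) =>
      x • q.out = q.out).card = D.N := by
    rw [← Fintype.card_subtype, ← Nat.card_eq_fintype_card]
    have hfixed : ∀ h : ↥D.X, x • ((h : G) : G ⧸ C) = ((h : G) : G ⧸ C) := fun h => by
      show (((x * (h : G)) : G) : G ⧸ C) = _
      refine (QuotientGroup.eq.2 ?_).symm
      rw [show (h : G)⁻¹ * (x * h) = x by rw [← (D.x_central h h.2).eq, inv_mul_cancel_left]]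
      exact D.Sh.O_le_C D.hx
    have horb : ∀ p : G ⧸ C, x • p = p → (Quotient.mk'' p : Quotient (orbitRel (zpowers x) (G ⧸ C))).out = p := by
      intro p hp
      have h1 : (Quotient.mk'' p : Quotient (orbitRel (zpowers x) (G ⧸ C))).out ∈ orbit (zpowers x) p := by
        rw [← orbitRel_apply]
        exact Quotient.mk_out p
      obtain ⟨⟨g, hg⟩, hgp⟩ := h1
      obtain ⟨m, rfl⟩ := mem_zpowers_iff.1 hg
      rw [← hgp]
      exact MulAction.mem_fixedBy_zpow (show p ∈ MulAction.fixedBy (G ⧸ C) x from hp) m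
    refine (Nat.card_congr (Equiv.ofBijective
      (Quotient.lift (fun h : ↥D.X => (⟨Quotient.mk'' ((h : G) : G ⧸ C), by rw [horb _ (hfixed h)]; exact hfixed h⟩ :
        {q : Quotient (orbitRel (zpowers x) (G ⧸ C)) // x • q.out = q.out})) fun a b hab => ?_) ⟨?_, ?_⟩)).symm
    · refine Subtype.ext (congrArg Quotient.mk'' (QuotientGroup.eq.2 ?_))
      exact mem_subgroupOf.1 (QuotientGroup.leftRel_apply.1 hab)
    · intro p q
      refine Quotient.inductionOn₂ p q fun a b e => Quotient.sound (QuotientGroup.leftRel_apply.2 ?_)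
      have h1 := congrArg (fun z : {q : Quotient (orbitRel (zpowers x) (G ⧸ C)) // x • q.out = q.out} => z.1.out) e
      simp only [Quotient.lift_mk] at h1
      rw [horb _ (hfixed a), horb _ (hfixed b)] at h1
      exact mem_subgroupOf.2 (QuotientGroup.eq.1 h1)
    · rintro ⟨q, hq⟩
      obtain ⟨g, hg⟩ := QuotientGroup.mk_surjective q.out
      have hg1 : g⁻¹ * x * g ∈ C := by
        have h1 : ((x * g : G) : G ⧸ C) = (g : G ⧸ C) := by
          show x • (g : G ⧸ C) = _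
          rw [hg, hq]
        rw [mul_assoc]
        exact QuotientGroup.eq.1 h1.symm
      have hu : g * t * g⁻¹ ∈ D.X := mem_centralizer_singleton_iff.2 (by
        show g * t * g⁻¹ * x = x * (g * t * g⁻¹)
        calc g * t * g⁻¹ * x = g * (t * (g⁻¹ * x * g)) * g⁻¹ := by group
          _ = g * (g⁻¹ * x * g * t) * g⁻¹ := by rw [mem_centralizer_singleton_iff.1 hg1]
          _ = x * (g * t * g⁻¹) := by group)
      obtain ⟨h, hh, hht⟩ := D.conj_invol hu (by rw [← MulAut.conj_apply, MulEquiv.orderOf_eq, D.hd.ht])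
      refine ⟨Quotient.mk'' ⟨h, hh⟩, Subtype.ext ?_⟩
      show Quotient.mk'' ((h : G) : G ⧸ C) = q
      rw [← Quotient.out_eq' q, ← hg]
      refine congrArg Quotient.mk'' (QuotientGroup.eq.2 (mem_centralizer_singleton_iff.2 ?_))
      calc h⁻¹ * g * t = h⁻¹ * (g * t * g⁻¹) * g := by group
        _ = h⁻¹ * (h * t * h⁻¹) * g := by rw [hht]
        _ = t * (h⁻¹ * g) := by group
  rw [hcount] at hV
  have hlam : orderOf (lam xC) = D.r := by
    refine ((Nat.dvd_prime D.hr).1 ?_).resolve_left fun e => ?_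
    · have h1 : orderOf xC = D.r := by rw [Subgroup.orderOf_mk, D.hox]
      exact h1 ▸ orderOf_map_dvd lam xC
    · have h1 := mem_subgroupOf.1 ((QuotientGroup.eq_one_iff _).1 (orderOf_eq_one_iff.1 e))
      exact D.hr.ne_one (by rw [← D.hox, show D.x = 1 from D.Sh.uniq _ h1 D.hx, orderOf_one])
  exact hlam ▸ orderOf_dvd_of_pow_eq_one hV.symm

end Elt

end Cfsg.Agent.Walter.Field.Other
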