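import Cfsg.Agent.Lib.EqConjOdd.PSLLocal
import Cfsg.Agent.Lib.JT.LocalPSL

/-!
# The split `(B, N)`-pair of `PSL₂(q)`, `q = 3 ^ n`, `n` odd

A Sylow 3-subgroup `U`, a complement `H` to it in its normaliser and an involution inverting `H`.
-/

set_option autoImplicit false

namespace Cfsg.Agent.Walter.Field

open Subgroup

/-- The split pair. -/
structure SplitFacts (X : Type*) [Group X] (n : ℕ) (U H : Subgroup X) (w : X) : Prop where
  card_X : 2 * Nat.card X = 3 ^ n * ((3 ^ n - 1) * (3 ^ n + 1))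
  U_card : Nat.card U = 3 ^ n
  U_comm : ∀ x ∈ U, ∀ y ∈ U, x * y = y * x
  U_cent : ∀ x ∈ U, x ≠ 1 → ∀ g, Commute g x → g ∈ U
  U_ti : ∀ x ∈ U, x ≠ 1 → ∀ g, g * x * g⁻¹ ∈ U → g ∈ normalizer (U : Set X)
  three_mem : ∀ x ∈ normalizer (U : Set X), x ^ 3 = 1 → x ∈ U
  H_norm : H ≤ normalizer (U : Set X)
  H_card : 2 * Nat.card H = 3 ^ n - 1
  H_comm : ∀ x ∈ H, ∀ y ∈ H, x * y = y * x
  borel : ∀ g ∈ normalizer (U : Set X), ∃ u ∈ U, ∃ h ∈ H, g = u * h
  cover : ∀ g : X, g ∈ normalizer (U : Set X) ∨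
    ∃ u ∈ U, ∃ b ∈ normalizer (U : Set X), g = u * w * b
  odd_normalizer : Odd (Nat.card (normalizer (U : Set X)))
  w_ord : orderOf w = 2
  w_inv : ∀ h ∈ H, w * h * w⁻¹ = h⁻¹

theorem exists_split {X : Type*} [Group X] [Finite X] {n r : ℕ} (hn : Odd n)
    (hL : EqConjOdd.LFacts X (3 ^ n) 3) (hK : JT.Loc.KFacts X r) (hr : 4 * r = 3 ^ n + 1) :
    ∃ (U H : Subgroup X) (w : X), SplitFacts X n U H w := by
  classical
  haveI : Fact (Nat.Prime 3) := ⟨Nat.prime_three⟩
  obtain ⟨U, hU, hUe, hUc, hUC, hTI, hN⟩ := hL.unipotent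
  set q := 3 ^ n with hq
  set N := normalizer (U : Set X) with hNdef
  obtain ⟨w, hw⟩ := hK.exists_invol
  have hqmod : q % 4 = 3 := by
    obtain ⟨k, rfl⟩ := hn
    rw [hq, pow_succ, pow_mul, Nat.mul_mod, Nat.pow_mod]; norm_num
  obtain ⟨s, hs⟩ : ∃ s, q = 4 * s + 3 := ⟨q / 4, by omega⟩
  have hNcard : Nat.card N = q * (2 * s + 1) := by
    have h1 : 2 * Nat.card N = q * (4 * s + 2) := by rw [hN, show q - 1 = 4 * s + 2 by omega]
    linarith
  have hodd : Odd (Nat.card N) := by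
    rw [hNcard]; exact (Nat.odd_iff.2 (by omega)).mul ⟨s, rfl⟩
  have h3N : ¬ 3 ∣ 2 * s + 1 := by
    intro hd
    have hn0 : n ≠ 0 := by rintro rfl; exact (by decide : ¬ Odd 0) hn
    have : 3 ∣ q := dvd_pow_self 3 hn0
    omega
  have hUN : U ≤ N := le_normalizer
  have three_mem : ∀ x ∈ N, x ^ 3 = 1 → x ∈ U := by
    intro x hx hx3
    have hp : IsPGroup 3 ↥(U ⊔ zpowers x) := by
      have hUp : IsPGroup 3 U := IsPGroup.of_card hU
      have hxp : IsPGroup 3 (zpowers x) := by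
        rcases (Nat.dvd_prime Nat.prime_three).1 (orderOf_dvd_of_pow_eq_one hx3) with h | h
        · exact IsPGroup.of_card (n := 0) (by rw [Nat.card_zpowers, h, pow_zero])
        · exact IsPGroup.of_card (n := 1) (by rw [Nat.card_zpowers, h, pow_one])
      exact hUp.to_sup_of_normal_left' hxp (zpowers_le.2 hx)
    obtain ⟨a, ha⟩ := hp.exists_card_eq
    have hd : Nat.card ↥(U ⊔ zpowers x) ∣ Nat.card N := card_dvd_of_le (sup_le hUN (zpowers_le.2 hx))
    rw [hNcard, ha] at hd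
    have hd' : 3 ^ a ∣ q := Nat.Coprime.dvd_of_dvd_mul_right
      ((Nat.prime_three.coprime_iff_not_dvd.2 h3N).pow_left a) hd
    have he := eq_of_le_of_card_ge (le_sup_left : U ≤ U ⊔ zpowers x)
      (by rw [ha, hU]; exact Nat.le_of_dvd (by positivity) hd')
    exact he.symm ▸ mem_sup_right (mem_zpowers x)
  have hw2 : w * w = 1 := by rw [← pow_two, ← hw, pow_orderOf_eq_one]
  have hwN : w ∉ N := fun h => by
    have hd : orderOf w ∣ Nat.card N := orderOf_dvd_natCard _ h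
    rw [hw] at hd
    exact Nat.not_even_iff_odd.2 hodd (even_iff_two_dvd.2 hd)
  have hwi : w⁻¹ = w := inv_eq_of_mul_eq_one_right hw2
  -- `U ∩ w N w = 1`
  have hTIw : ∀ u ∈ U, w * u * w ∈ N → u = 1 := by
    intro u hu h
    by_contra h1
    refine hwN (hTI u hu h1 w ?_)
    rw [hwi]
    refine three_mem _ h ?_
    calc (w * u * w) ^ 3 = (w * u * w⁻¹) ^ 3 := by rw [hwi]
      _ = 1 := by rw [conj_pow, hUe u hu, mul_one, mul_inv_cancel]
  -- the big cell
  let f : U × N → X := fun p => (p.1 : X) * w * p.2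
  have hinj : Function.Injective f := by
    rintro ⟨u, b⟩ ⟨u', b'⟩ h
    have h' : (u : X) * w * b = u' * w * b' := h
    have e : w * ((u'⁻¹ * u : U) : X) * w = ((b' * b⁻¹ : N) : X) := by
      push_cast
      calc w * ((u' : X)⁻¹ * u) * w = w * (u' : X)⁻¹ * ((u : X) * w * b) * (b : X)⁻¹ := by group
        _ = w * w * ((b' : X) * (b : X)⁻¹) := by rw [h']; group
        _ = (b' : X) * (b : X)⁻¹ := by rw [hw2, one_mul]
    have h1 := hTIw _ (u'⁻¹ * u).2 (e ▸ (b' * b⁻¹).2)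
    have hu : u' = u := inv_mul_eq_one.1 (Subtype.ext h1)
    subst hu
    exact Prod.ext rfl (Subtype.ext (mul_left_cancel h'))
  have hcardX : Nat.card X = (q + 1) * Nat.card N := by
    have h1 := hL.card
    rw [hNcard]
    rw [show q - 1 = 4 * s + 2 by omega] at h1
    linarith [show q * ((4 * s + 2) * (q + 1)) = 2 * ((q + 1) * (q * (2 * s + 1))) by ring]
  have cover : ∀ g : X, g ∈ N ∨ ∃ u ∈ U, ∃ b ∈ N, g = u * w * b := by
    intro g
    by_cases hg : g ∈ N
    · exact Or.inl hg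
    refine Or.inr ?_
    have himg : ∀ p, f p ∉ N := by
      intro p hp
      refine hwN ?_
      have := mul_mem (mul_mem (inv_mem (hUN p.1.2)) hp) (inv_mem p.2.2)
      simpa [f, mul_assoc] using this
    let e : N ⊕ (U × N) → X := Sum.elim (fun b => (b : X)) f
    have he : Function.Injective e := by
      rintro (b | p) (b' | p') h
      · exact congrArg Sum.inl (Subtype.ext h)
      · exact absurd (by rw [← (show (b : X) = f p' from h)]; exact b.2) (himg p')
      · exact absurd (by rw [show f p = (b' : X) from h]; exact b'.2) (himg p)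
      · exact congrArg Sum.inr (hinj h)
    have hb := (Nat.bijective_iff_injective_and_card e).2 ⟨he, by
      rw [Nat.card_sum, Nat.card_prod, hU, hcardX]; ring⟩
    obtain ⟨b | p, h⟩ := hb.2 g
    · exact absurd (h ▸ b.2) hg
    · exact ⟨p.1, p.1.2, p.2, p.2.2, h.symm⟩
  let D : Subgroup X := N ⊓ N.comap (MulAut.conj w).toMonoidHom
  have hmemD : ∀ x, x ∈ D ↔ x ∈ N ∧ w * x * w ∈ N := fun x => by
    simp [D, mem_inf, hwi]
  have borel : ∀ g ∈ N, ∃ u ∈ U, ∃ h ∈ D, g = u * h := by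
    intro g hg
    rcases cover (g * w) with h | ⟨u, hu, b, hb, h⟩
    · exact absurd (by simpa [← mul_assoc] using mul_mem (inv_mem hg) h) hwN
    · refine ⟨u, hu, u⁻¹ * g, (hmemD _).2 ⟨mul_mem (inv_mem (hUN hu)) hg, ?_⟩, by group⟩
      have : w * (u⁻¹ * g) * w = b := by
        calc w * (u⁻¹ * g) * w = w * u⁻¹ * (g * w) := by group
          _ = w * w * b := by rw [h]; group
          _ = b := by rw [hw2, one_mul]
      rw [this]; exact hb
  have hDU : ∀ x ∈ U, x ∈ D → x = 1 := fun x hx hxD => hTIw x hx ((hmemD x).1 hxD).2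
  have hDcard : Nat.card D = 2 * s + 1 := by
    let g : U × D → N := fun p => ⟨(p.1 : X) * p.2, mul_mem (hUN p.1.2) ((hmemD _).1 p.2.2).1⟩
    have hb : Function.Bijective g := by
      refine ⟨?_, fun b => ?_⟩
      · rintro ⟨u, d⟩ ⟨u', d'⟩ h
        have h' : (u : X) * d = u' * d' := congrArg Subtype.val h
        have e : ((u'⁻¹ * u : U) : X) = ((d' * d⁻¹ : D) : X) := by
          push_cast
          rw [eq_mul_inv_iff_mul_eq, mul_assoc, h', inv_mul_cancel_left]
        have h1 : u' = u := inv_mul_eq_one.1 (Subtype.ext (hDU _ (u'⁻¹ * u).2 (e ▸ (d' * d⁻¹).2)))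
        subst h1
        exact Prod.ext rfl (Subtype.ext (mul_left_cancel h'))
      · obtain ⟨u, hu, d, hd, e⟩ := borel b b.2
        exact ⟨(⟨u, hu⟩, ⟨d, hd⟩), Subtype.ext e.symm⟩
    have h := Nat.card_congr (Equiv.ofBijective g hb)
    rw [Nat.card_prod, hU, hNcard] at h
    exact Nat.eq_of_mul_eq_mul_left (by positivity) h
  have hwD : ∀ x ∈ D, w * x * w⁻¹ ∈ D := fun x hx => by
    obtain ⟨h1, h2⟩ := (hmemD x).1 hx
    rw [hwi]
    refine (hmemD _).2 ⟨h2, ?_⟩
    simpa [← mul_assoc, hw2, mul_assoc _ w w] using h1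
  have hfix : ∀ x ∈ D, Commute x w → x = 1 := by
    intro x hx hc
    have h1 : orderOf x ∣ 2 * s + 1 := hDcard ▸ orderOf_dvd_natCard D hx
    have h2 : orderOf x ∣ q + 1 := by
      rw [← hr, ← (hK.torus w hw).1]
      exact orderOf_dvd_natCard _ (mem_centralizer_singleton_iff.2 hc.eq)
    have h3 : orderOf x ∣ 2 * s + 1 ∧ orderOf x ∣ 2 := by
      refine ⟨h1, ?_⟩
      have e : q + 1 = 2 * (2 * s + 1) + 2 := by omega
      exact (Nat.dvd_add_right (dvd_mul_of_dvd_right h1 2)).1 (e ▸ h2)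
    have h4 : orderOf x ∣ 1 := by
      have := Nat.dvd_gcd h3.1 h3.2
      rwa [Nat.coprime_two_right.2 ⟨s, rfl⟩] at this
    exact orderOf_eq_one_iff.1 (Nat.dvd_one.1 h4)
  let φ : D →* D :=
    { toFun := fun x => ⟨w * x * w⁻¹, hwD x x.2⟩
      map_one' := Subtype.ext (by simp)
      map_mul' := fun x y => Subtype.ext (by simp [mul_assoc]) }
  have hφ : MonoidHom.FixedPointFree φ := fun x hx => Subtype.ext (hfix x x.2 (by
    have : w * (x : X) * w⁻¹ = x := congrArg Subtype.val hx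
    exact (mul_inv_eq_iff_eq_mul.1 this).symm))
  have hinv : ∀ h ∈ D, w * h * w⁻¹ = h⁻¹ := fun h hh => by
    have := congrFun (MonoidHom.FixedPointFree.coe_eq_inv_of_involutive hφ (fun x => Subtype.ext (by
      simp [φ, ← mul_assoc, hwi, hw2]; simp [mul_assoc, hw2]))) ⟨h, hh⟩
    exact congrArg Subtype.val this
  refine ⟨U, D, w, ⟨hL.card, hU, fun x hx y hy => hUc x hx y hy, hUC, hTI, three_mem, inf_le_left, ?_, ?_,
    borel, cover, hodd, hw, hinv⟩⟩
  · rw [hDcard]; omega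
  · intro x hx y hy
    have h1 := hinv _ (D.mul_mem hx hy)
    rw [← conj_mul, hinv x hx, hinv y hy, ← mul_inv_rev, inv_inj] at h1
    exact h1.symm

end Cfsg.Agent.Walter.Field
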