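import Mathlib
import Cfsg.Agent.Lib.Walter.Field.Local
import Cfsg.Agent.Lib.CharP.Zsigmondy

/-!
# The case `r = p = 3` of the field part: the data taken from `C(t)`

`TData` collects everything used about `C(t)`: the Borel subgroup `B` of `E₀` extended by the field
part, its unipotent group `U`, the 3-part `O` of the field part and a torus element `τ` of large
primitive prime order.  Also the existence of that prime.
-/

set_option autoImplicit false
set_option linter.style.haveILetI false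

namespace Cfsg.Agent.Walter.Field.ThreeCase

open Subgroup

universe u

variable {G : Type u} [Group G]

/-- What is used about the centraliser of `t`. -/
structure TData (t x : G) (m l j e : ℕ) (E₀ U O B : Subgroup G) (τ : G) : Prop where
  m_pos : 0 < m
  l_prime : l.Prime
  l_big : 4 * (3 * m) + 1 ≤ l
  l_dvd : l ∣ 3 ^ (3 * m) - 1
  l_prim : ∀ i, 0 < i → i < 3 * m → ¬ l ∣ 3 ^ i - 1
  ht : orderOf t = 2
  noReal : NoReal G 3
  invol_sq : ∀ y : G, (∃ k, y ^ 2 ^ k = 1) → y * y = 1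
  B_le : B ≤ centralizer ({t} : Set G)
  B_odd : Odd (Nat.card ↥B)
  U_le : U ≤ B
  U_card : Nat.card ↥U = 3 ^ (3 * m)
  B_norm : B ≤ normalizer (U : Set G)
  cent_U : ∀ c ∈ B, (∀ u ∈ U, Commute c u) → c ∈ U
  O_le : O ≤ B
  O_cyclic : IsCyclic ↥O
  O_card : Nat.card ↥O = 3 ^ e
  O_dvd : 3 ^ e ∣ 3 * m
  x_mem : x ∈ O
  x_ord : orderOf x = 3
  τ_mem : τ ∈ B
  τ_ord : orderOf τ = l
  conj : x * τ * x⁻¹ = τ ^ j
  j_ne : ¬ j ≡ 1 [MOD l]
  cent_τ : ¬ 3 ∣ Nat.card ↥(centralizer ({τ} : Set G))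
  /-- A subgroup over `B` with a second involution of `C(t)` contains `E₀`. -/
  gen : ∀ M : Subgroup G, B ≤ M → t ∈ M → ∀ v ∈ M, Commute v t → orderOf v = 2 → v ≠ t → E₀ ≤ M
  /-- Otherwise it meets `C(t)` in `B × ⟨t⟩`. -/
  meet : ∀ M : Subgroup G, B ≤ M → t ∈ M → ¬ E₀ ≤ M →
    ∀ c ∈ M, Commute c t → Odd (orderOf c) → c ∈ B
  invol : ∃ v ∈ E₀, orderOf v = 2 ∧ Commute v t ∧ v ≠ t
  /-- `C(t)` has no 3-subgroup normalised by `E₀`. -/
  fix_bot : ∀ P : Subgroup G, IsPGroup 3 ↥P → E₀ ≤ normalizer (P : Set G) →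
    ∀ a ∈ P, Commute a t → a = 1

/-- A primitive prime divisor of `3 ^ (3 m) - 1` for odd `m` is at least `12 m + 1`. -/
theorem exists_prime_big {m : ℕ} (hm : Odd m) :
    ∃ l : ℕ, l.Prime ∧ 4 * (3 * m) + 1 ≤ l ∧ l ∣ 3 ^ (3 * m) - 1 ∧
      ∀ i, 0 < i → i < 3 * m → ¬ l ∣ 3 ^ i - 1 := by
  obtain ⟨a, rfl⟩ := hm
  obtain ⟨l, hl, hdvd, hprim⟩ := CharP.Zsigmondy.zsigmondy (a := 3) (n := 3 * (2 * a + 1)) (by norm_num)
    (by omega) (by omega) (by omega)
  refine ⟨l, hl, ?_, hdvd, hprim⟩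
  set n := 3 * (2 * a + 1) with hn
  haveI : Fact l.Prime := ⟨hl⟩
  haveI : Fact (Nat.Prime 3) := ⟨Nat.prime_three⟩
  have hl3 : l ≠ 3 := by
    rintro rfl
    have h : 3 ∣ 3 ^ n := dvd_pow_self 3 (by omega)
    have h1 : 1 ≤ 3 ^ n := Nat.one_le_pow _ _ (by norm_num)
    omega
  have hl2 : l ≠ 2 := fun e => hprim 1 one_pos (by omega) (by rw [e]; norm_num)
  have hmod : ∀ i, l ∣ 3 ^ i - 1 ↔ (3 : ZMod l) ^ i = 1 := fun i => by
    rw [← ZMod.natCast_eq_zero_iff, Nat.cast_sub (Nat.one_le_pow _ _ (by norm_num)), sub_eq_zero]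
    push_cast
    exact Iff.rfl
  have h30 : (3 : ZMod l) ≠ 0 := fun h => by
    have h' := (hmod n).1 hdvd
    rw [h, zero_pow (by omega)] at h'
    exact zero_ne_one h'
  have hord : orderOf (3 : ZMod l) = n := by
    rw [orderOf_eq_iff (by omega)]
    exact ⟨(hmod n).1 hdvd, fun i hi h0 h => hprim i h0 hi ((hmod i).2 h)⟩
  obtain ⟨c, hc⟩ : n ∣ l - 1 := by
    rw [← hord]
    exact orderOf_dvd_of_pow_eq_one (ZMod.pow_card_sub_one_eq_one h30)
  have hlodd := hl.odd_of_ne_two hl2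
  obtain ⟨b, hb⟩ := hlodd
  have hc2 : 2 ∣ c := by
    by_contra h
    have : Odd (n * c) := Odd.mul (⟨3 * a + 1, by omega⟩ : Odd n) (Nat.odd_iff.2 (by omega))
    rw [← hc] at this
    obtain ⟨k, hk⟩ := this
    omega
  obtain ⟨d, rfl⟩ := hc2
  have hd0 : d ≠ 0 := by rintro rfl; have := hl.two_le; simp at hc; omega
  by_contra hlt
  have hd1 : d = 1 := by
    by_contra h
    have : n * (2 * 2) ≤ n * (2 * d) := Nat.mul_le_mul_left _ (by omega)
    omega
  subst hd1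
  have h4 : l % 4 = 3 := by omega
  have hsq := (ZMod.exists_sq_eq_prime_iff_of_mod_four_eq_three (p := l) (q := 3) h4 (by norm_num) hl3).1
    ⟨(3 : ZMod l) ^ (3 * a + 2), by
      rw [← pow_add, show 3 * a + 2 + (3 * a + 2) = n + 1 by omega, pow_succ, (hmod n).1 hdvd, one_mul]
      norm_num⟩
  exact hsq ⟨1, by
    rw [mul_one, ← Nat.cast_one, ZMod.natCast_eq_natCast_iff']
    omega⟩

end Cfsg.Agent.Walter.Field.ThreeCase
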