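import Mathlib
import Cfsg.Agent.Lib.Classical.GL2
import Cfsg.Agent.Lib.AutPSL.Basic
import Cfsg.Agent.Lib.Forms.KleinPSL

/-!
# The case `r = p = 3` of the field part: the Borel subgroup of `PSL₂(q)`

The unipotent group `uni`, the torus `dia` and the Weyl element `rot` of `PSL₂(F)`, the action of
the field automorphisms on them, the centraliser of a torus element, and the fact that no element
of order 3 is inverted when `F` has characteristic 3 and `-1` is not a square.
-/

set_option autoImplicit false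
set_option linter.unusedSectionVars false
set_option linter.unusedSimpArgs false

namespace Cfsg.Agent.Walter.Field.ThreeCase

open Matrix
open scoped MatrixGroups
open Cfsg.Agent.Forms.KleinPSL Cfsg.Agent.Classical

universe v

variable {F : Type v} [Field F] [Fintype F]

local notation "PG" => Matrix.ProjectiveSpecialLinearGroup (Fin 2) F

/-- The diagonal matrices. -/
def diaSL : Fˣ →* SL(2, F) where
  toFun a := ⟨!![(a : F), 0; 0, ((a⁻¹ : Fˣ) : F)], by simp [det_fin_two]⟩
  map_one' := by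
    ext i j; fin_cases i <;> fin_cases j <;> simp
  map_mul' a b := Subtype.ext (by
    show (!![((a * b : Fˣ) : F), 0; 0, (((a * b)⁻¹ : Fˣ) : F)] : Matrix (Fin 2) (Fin 2) F) =
      !![(a : F), 0; 0, ((a⁻¹ : Fˣ) : F)] * !![(b : F), 0; 0, ((b⁻¹ : Fˣ) : F)]
    ext i j; fin_cases i <;> fin_cases j <;> simp [Matrix.mul_apply, Fin.sum_univ_two, Matrix.vecMul, Matrix.vecHead, Matrix.vecTail, dotProduct, mul_comm])

theorem coe_diaSL (a : Fˣ) :
    (diaSL a : Matrix (Fin 2) (Fin 2) F) = !![(a : F), 0; 0, ((a⁻¹ : Fˣ) : F)] := rfl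

/-- The Weyl element. -/
def rotSL : SL(2, F) := ⟨!![0, -1; 1, 0], by simp [det_fin_two]⟩

theorem coe_rotSL : ((rotSL : SL(2, F)) : Matrix (Fin 2) (Fin 2) F) = !![0, -1; 1, 0] := rfl

/-- The unipotent group. -/
def uni : Multiplicative F →* PG := (pi F).comp (GL2.uniHom F)

/-- The torus. -/
def dia : Fˣ →* PG := (pi F).comp diaSL

/-- The Weyl element. -/
def rot : PG := pi F rotSL

/-- The unipotent subgroup. -/
def uniGroup (F : Type v) [Field F] : Subgroup (Matrix.ProjectiveSpecialLinearGroup (Fin 2) F) :=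
  (uni : Multiplicative F →* _).range

theorem uni_apply (b : F) : uni (Multiplicative.ofAdd b) = pi F (GL2.uniSL b) := rfl

theorem dia_apply (a : Fˣ) : dia a = pi F (diaSL a) := rfl

theorem uni_injective : Function.Injective (uni : Multiplicative F →* PG) := fun a b h => by
  rcases pi_eq_iff.1 h with h | h
  · exact GL2.uniHom_injective h
  · have h0 := congrArg (fun g : SL(2, F) => (g : Matrix (Fin 2) (Fin 2) F) 0 0) h
    have h1 := congrArg (fun g : SL(2, F) => (g : Matrix (Fin 2) (Fin 2) F) 0 1) h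
    simp [GL2.coe_uniHom] at h0 h1
    refine Multiplicative.toAdd.injective ?_
    linear_combination h1 - (b.toAdd) * h0

theorem natCard_uniGroup : Nat.card (uniGroup F) = Nat.card F :=
  (Nat.card_congr (MonoidHom.ofInjective uni_injective).toEquiv).symm

theorem dia_conj_uni (a : Fˣ) (b : F) :
    dia a * uni (Multiplicative.ofAdd b) * (dia a)⁻¹ = uni (Multiplicative.ofAdd ((a : F) * a * b)) := by
  rw [dia_apply, uni_apply, uni_apply, mul_inv_eq_iff_eq_mul, ← map_mul, ← map_mul]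
  refine congrArg (pi F) (Subtype.ext ?_)
  rw [Matrix.SpecialLinearGroup.coe_mul, Matrix.SpecialLinearGroup.coe_mul, coe_diaSL, GL2.coe_uniSL,
    GL2.coe_uniSL]
  ext i j
  fin_cases i <;> fin_cases j <;> simp [Matrix.mul_apply, Fin.sum_univ_two, Matrix.vecMul, Matrix.vecHead, Matrix.vecTail, dotProduct]
  field_simp

theorem dia_normalizes (a : Fˣ) : dia a ∈ Subgroup.normalizer (uniGroup F : Set PG) := by
  refine Subgroup.mem_normalizer_iff.2 fun g => ⟨?_, fun hg => ?_⟩
  · rintro ⟨b, rfl⟩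
    exact ⟨_, (dia_conj_uni a b.toAdd).symm⟩
  · obtain ⟨b, hb⟩ := hg
    refine ⟨Multiplicative.ofAdd (((a⁻¹ : Fˣ) : F) * ((a⁻¹ : Fˣ) : F) * b.toAdd), ?_⟩
    rw [← dia_conj_uni, map_inv, ofAdd_toAdd, hb]
    group

theorem rot_sq : (rot : PG) * rot = 1 := by
  rw [rot, ← map_mul, ← map_one (pi F), pi_eq_iff]
  refine Or.inr (Subtype.ext ?_)
  rw [Matrix.SpecialLinearGroup.coe_mul, coe_rotSL, Matrix.SpecialLinearGroup.coe_neg,
    Matrix.SpecialLinearGroup.coe_one]
  ext i j; fin_cases i <;> fin_cases j <;> simp [Matrix.mul_apply, Fin.sum_univ_two, Matrix.vecMul, Matrix.vecHead, Matrix.vecTail, dotProduct]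

theorem rot_ne_one : (rot : PG) ≠ 1 := fun h => by
  rw [rot, ← map_one (pi F), pi_eq_iff] at h
  rcases h with h | h <;>
    have h0 := congrArg (fun g : SL(2, F) => (g : Matrix (Fin 2) (Fin 2) F) 1 0) h <;>
    simp [coe_rotSL] at h0

theorem orderOf_rot : orderOf (rot : PG) = 2 :=
  orderOf_eq_prime (by rw [pow_two, rot_sq]) rot_ne_one

theorem rot_inv_dia (a : Fˣ) : rot * dia a * rot⁻¹ = (dia a)⁻¹ := by
  rw [mul_inv_eq_iff_eq_mul, ← map_inv (dia : Fˣ →* PG), rot, dia_apply, dia_apply, ← map_mul, ← map_mul]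
  refine congrArg (pi F) (Subtype.ext ?_)
  rw [Matrix.SpecialLinearGroup.coe_mul, Matrix.SpecialLinearGroup.coe_mul, coe_rotSL, coe_diaSL,
    coe_diaSL]
  ext i j; fin_cases i <;> fin_cases j <;> simp [Matrix.mul_apply, Fin.sum_univ_two, Matrix.vecMul, Matrix.vecHead, Matrix.vecTail, dotProduct]

section Field

open Cfsg.Agent.AutPSL.Basic

theorem fAut_pi (σ : F ≃+* F) (s : SL(2, F)) : fAut σ (pi F s) = pi F (fieldSL σ s) := rfl

theorem fAut_uni (σ : F ≃+* F) (b : F) :
    fAut σ (uni (Multiplicative.ofAdd b)) = uni (Multiplicative.ofAdd (σ b)) := by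
  rw [uni_apply, uni_apply, fAut_pi]
  refine congrArg (pi F) (Subtype.ext ?_)
  rw [fieldSL_coe, GL2.coe_uniSL, GL2.coe_uniSL]
  ext i j; fin_cases i <;> fin_cases j <;> simp

theorem fAut_dia (σ : F ≃+* F) (a : Fˣ) :
    fAut σ (dia a) = dia (Units.map (σ : F →* F) a) := by
  rw [dia_apply, dia_apply, fAut_pi]
  refine congrArg (pi F) (Subtype.ext ?_)
  rw [fieldSL_coe, coe_diaSL, coe_diaSL]
  ext i j; fin_cases i <;> fin_cases j <;> simp

theorem fAut_rot (σ : F ≃+* F) : fAut σ (rot : PG) = rot := by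
  rw [rot, fAut_pi]
  refine congrArg (pi F) (Subtype.ext ?_)
  rw [fieldSL_coe, coe_rotSL]
  ext i j; fin_cases i <;> fin_cases j <;> simp

end Field

/-- The Bruhat decomposition. -/
theorem cover (g : PG) : (∃ b : F, ∃ a : Fˣ, g = uni (Multiplicative.ofAdd b) * dia a) ∨
    ∃ c b : F, ∃ a : Fˣ,
      g = uni (Multiplicative.ofAdd c) * rot * (uni (Multiplicative.ofAdd b) * dia a) := by
  obtain ⟨s, rfl⟩ := pi_surjective g
  have hdet : (s : Matrix (Fin 2) (Fin 2) F) 0 0 * (s : Matrix (Fin 2) (Fin 2) F) 1 1 -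
      (s : Matrix (Fin 2) (Fin 2) F) 0 1 * (s : Matrix (Fin 2) (Fin 2) F) 1 0 = 1 := by
    rw [← det_fin_two]; exact s.2
  by_cases h10 : (s : Matrix (Fin 2) (Fin 2) F) 1 0 = 0
  · refine Or.inl ?_
    rw [h10, mul_zero, sub_zero] at hdet
    refine ⟨(s : Matrix (Fin 2) (Fin 2) F) 0 0 * (s : Matrix (Fin 2) (Fin 2) F) 0 1,
      Units.mk0 _ (left_ne_zero_of_mul_eq_one hdet), ?_⟩
    rw [uni_apply, dia_apply, ← map_mul]
    refine congrArg (pi F) (Subtype.ext ?_)
    rw [Matrix.SpecialLinearGroup.coe_mul, GL2.coe_uniSL, coe_diaSL]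
    ext i j
    fin_cases i <;> fin_cases j <;> simp [Matrix.mul_apply, Fin.sum_univ_two, Matrix.vecMul, Matrix.vecHead, Matrix.vecTail, dotProduct, h10]
    · field_simp [left_ne_zero_of_mul_eq_one hdet]
    · exact eq_inv_of_mul_eq_one_right hdet
  · refine Or.inr ⟨(s : Matrix (Fin 2) (Fin 2) F) 0 0 / (s : Matrix (Fin 2) (Fin 2) F) 1 0,
      (s : Matrix (Fin 2) (Fin 2) F) 1 0 * (s : Matrix (Fin 2) (Fin 2) F) 1 1, Units.mk0 _ h10, ?_⟩
    rw [uni_apply, uni_apply, dia_apply, rot, ← map_mul, ← map_mul, ← map_mul]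
    refine congrArg (pi F) (Subtype.ext ?_)
    rw [Matrix.SpecialLinearGroup.coe_mul, Matrix.SpecialLinearGroup.coe_mul,
      Matrix.SpecialLinearGroup.coe_mul, GL2.coe_uniSL, GL2.coe_uniSL, coe_diaSL, coe_rotSL]
    ext i j
    fin_cases i <;> fin_cases j <;> simp [Matrix.mul_apply, Fin.sum_univ_two, Matrix.vecMul, Matrix.vecHead, Matrix.vecTail, dotProduct]
    · field_simp
    · field_simp
      linear_combination -hdet
    · field_simp

/-- An element moving a torus element into the torus. -/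
theorem of_dia_conj {a a' : Fˣ} {g : PG} (h : g * dia a = dia a' * g) :
    (a' = a ∨ a' = -a ∨ a' = a⁻¹ ∨ a' = -a⁻¹) ∧
      ((a : F) ^ 4 ≠ 1 → a' = a → ∃ c, g = dia c) := by
  obtain ⟨s, rfl⟩ := pi_surjective g
  obtain ⟨ε, hε, he⟩ : ∃ ε : F, (ε = 1 ∨ ε = -1) ∧
      (s : Matrix (Fin 2) (Fin 2) F) * diaSL a = ε • ((diaSL a' : Matrix (Fin 2) (Fin 2) F) * s) := by
    rw [dia_apply, dia_apply, ← map_mul, ← map_mul, pi_eq_iff] at h
    rcases h with h | h
    · exact ⟨1, Or.inl rfl, by rw [one_smul, ← Matrix.SpecialLinearGroup.coe_mul, h,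
        Matrix.SpecialLinearGroup.coe_mul]⟩
    · exact ⟨-1, Or.inr rfl, by rw [neg_one_smul, ← Matrix.SpecialLinearGroup.coe_mul, h,
        Matrix.SpecialLinearGroup.coe_neg, Matrix.SpecialLinearGroup.coe_mul]⟩
  have hdet : (s : Matrix (Fin 2) (Fin 2) F) 0 0 * (s : Matrix (Fin 2) (Fin 2) F) 1 1 -
      (s : Matrix (Fin 2) (Fin 2) F) 0 1 * (s : Matrix (Fin 2) (Fin 2) F) 1 0 = 1 := by
    rw [← det_fin_two]; exact s.2
  have e00 := congrFun (congrFun he 0) 0
  have e01 := congrFun (congrFun he 0) 1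
  have e10 := congrFun (congrFun he 1) 0
  simp [coe_diaSL, Matrix.mul_apply, Fin.sum_univ_two, Matrix.vecMul, Matrix.vecHead, Matrix.vecTail, dotProduct] at e00 e01 e10
  have hε2 : ε * ε = 1 := by rcases hε with rfl | rfl <;> ring
  have h00 : (s : Matrix (Fin 2) (Fin 2) F) 0 0 ≠ 0 → (a' : F) = ε * a := fun hne =>
    mul_right_cancel₀ hne (by linear_combination (-ε) * e00 - ((a' : F) *
      (s : Matrix (Fin 2) (Fin 2) F) 0 0) * hε2)
  have h01 : (s : Matrix (Fin 2) (Fin 2) F) 0 1 ≠ 0 → (a' : F) = ε * (a : F)⁻¹ := fun hne =>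
    mul_right_cancel₀ hne (by linear_combination (-ε) * e01 - ((a' : F) *
      (s : Matrix (Fin 2) (Fin 2) F) 0 1) * hε2)
  refine ⟨?_, fun ha4 haa => ?_⟩
  · by_cases hz : (s : Matrix (Fin 2) (Fin 2) F) 0 0 = 0
    · have hne : (s : Matrix (Fin 2) (Fin 2) F) 0 1 ≠ 0 := fun h0 => by
        rw [hz, h0, zero_mul, zero_mul, sub_zero] at hdet; exact zero_ne_one hdet
      rcases hε with rfl | rfl
      · exact Or.inr (Or.inr (Or.inl (Units.ext (by rw [h01 hne]; simp))))
      · exact Or.inr (Or.inr (Or.inr (Units.ext (by rw [h01 hne]; simp))))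
    · rcases hε with rfl | rfl
      · exact Or.inl (Units.ext (by rw [h00 hz]; simp))
      · exact Or.inr (Or.inl (Units.ext (by rw [h00 hz]; simp)))
  · subst haa
    have hsq : (a' : F) ^ 2 ≠ ε := fun e => ha4 (by
      rw [show (4 : ℕ) = 2 * 2 from rfl, pow_mul, e, pow_two, hε2])
    have h01z : (s : Matrix (Fin 2) (Fin 2) F) 0 1 = 0 := by
      by_contra hne
      refine hsq ?_
      have := h01 hne
      field_simp at this
      linear_combination this
    have h10z : (s : Matrix (Fin 2) (Fin 2) F) 1 0 = 0 := by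
      by_contra hne
      field_simp at e10
      exact hsq (by linear_combination e10)
    rw [h01z, zero_mul, sub_zero] at hdet
    refine ⟨Units.mk0 _ (left_ne_zero_of_mul_eq_one hdet), congrArg (pi F) (Subtype.ext ?_)⟩
    rw [coe_diaSL]
    ext i j
    fin_cases i <;> fin_cases j <;> simp [h01z, h10z]
    exact eq_inv_of_mul_eq_one_right hdet

/-- No element of order 3 is inverted. -/
theorem noReal_psl [CharP F 3] (hsq : ¬ IsSquare (-1 : F)) {u g : PG} (hu : orderOf u = 2)
    (hg : g ^ 3 = 1) (hug : u * g * u⁻¹ = g⁻¹) : g = 1 := by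
  have h3 : (3 : F) = 0 := by exact_mod_cast CharP.cast_eq_zero F 3
  have h2 : (2 : F) ≠ 0 := fun h => one_ne_zero (α := F) (by linear_combination h3 - h)
  obtain ⟨X, hX, rfl⟩ : ∃ X : SL(2, F), X ^ 3 = 1 ∧ pi F X = g := by
    obtain ⟨X, rfl⟩ := pi_surjective g
    rw [← map_pow, ← map_one (pi F), pi_eq_iff] at hg
    rcases hg with h | h
    · exact ⟨X, h, rfl⟩
    · exact ⟨-X, by rw [Odd.neg_pow (by decide), h, neg_neg], pi_eq_iff.2 (Or.inr rfl)⟩
  obtain ⟨S, rfl⟩ := pi_surjective u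
  have hS : (S : Matrix (Fin 2) (Fin 2) F) * S = -1 := by
    have := (orderOf_pi_eq_two h2).1 hu
    rw [← Matrix.SpecialLinearGroup.coe_mul, this, Matrix.SpecialLinearGroup.coe_neg,
      Matrix.SpecialLinearGroup.coe_one]
  obtain ⟨ε, hε, he⟩ : ∃ ε : F, (ε = 1 ∨ ε = -1) ∧ (S : Matrix (Fin 2) (Fin 2) F) * X =
      ε • (((X⁻¹ : SL(2, F)) : Matrix (Fin 2) (Fin 2) F) * S) := by
    rw [mul_inv_eq_iff_eq_mul, ← map_inv, ← map_mul, ← map_mul, pi_eq_iff] at hug
    rcases hug with h | h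
    · exact ⟨1, Or.inl rfl, by rw [one_smul, ← Matrix.SpecialLinearGroup.coe_mul, h,
        Matrix.SpecialLinearGroup.coe_mul]⟩
    · exact ⟨-1, Or.inr rfl, by rw [neg_one_smul, ← Matrix.SpecialLinearGroup.coe_mul, h,
        Matrix.SpecialLinearGroup.coe_neg, Matrix.SpecialLinearGroup.coe_mul]⟩
  rw [Matrix.SpecialLinearGroup.coe_inv, Matrix.adjugate_fin_two] at he
  have htrace : (X : Matrix (Fin 2) (Fin 2) F) 0 0 + (X : Matrix (Fin 2) (Fin 2) F) 1 1 =
      ε * ((X : Matrix (Fin 2) (Fin 2) F) 0 0 + (X : Matrix (Fin 2) (Fin 2) F) 1 1) := by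
    have h := congrArg (fun M : Matrix (Fin 2) (Fin 2) F => Matrix.trace (M * (S : Matrix (Fin 2) (Fin 2) F))) he
    rw [Matrix.trace_mul_comm, ← mul_assoc, hS, Matrix.smul_mul, Matrix.trace_smul, mul_assoc, hS,
      neg_mul, one_mul, mul_neg, mul_one, Matrix.trace_neg, Matrix.trace_neg, Matrix.trace_fin_two,
      Matrix.trace_fin_two, smul_eq_mul] at h

    change -((X : Matrix (Fin 2) (Fin 2) F) 0 0 + (X : Matrix (Fin 2) (Fin 2) F) 1 1) =
      ε * -((X : Matrix (Fin 2) (Fin 2) F) 1 1 + (X : Matrix (Fin 2) (Fin 2) F) 0 0) at h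
    linear_combination -h

  have hd : (X : Matrix (Fin 2) (Fin 2) F) 0 0 * (X : Matrix (Fin 2) (Fin 2) F) 1 1 -
      (X : Matrix (Fin 2) (Fin 2) F) 0 1 * (X : Matrix (Fin 2) (Fin 2) F) 1 0 = 1 := by
    rw [← det_fin_two]; exact X.2
  have hX' : (X : Matrix (Fin 2) (Fin 2) F) * X * X = 1 := by
    rw [← Matrix.SpecialLinearGroup.coe_mul, ← Matrix.SpecialLinearGroup.coe_mul,
      show X * X * X = 1 by rw [← hX, pow_succ, pow_two], Matrix.SpecialLinearGroup.coe_one]
  have c00 := congrFun (congrFun hX' 0) 0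
  have c01 := congrFun (congrFun hX' 0) 1
  have c10 := congrFun (congrFun hX' 1) 0
  have c11 := congrFun (congrFun hX' 1) 1
  have s00 := congrFun (congrFun hS 0) 0
  have s01 := congrFun (congrFun hS 0) 1
  have s10 := congrFun (congrFun hS 1) 0
  have f00 := congrFun (congrFun he 0) 0
  have f11 := congrFun (congrFun he 1) 1
  simp [Matrix.mul_apply, Fin.sum_univ_two, Matrix.vecMul, Matrix.vecHead, Matrix.vecTail, dotProduct] at c00 c01 c10 c11 s00 s01 s10 f00 f11
  set x := (X : Matrix (Fin 2) (Fin 2) F) 0 0 with hx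
  set y := (X : Matrix (Fin 2) (Fin 2) F) 0 1 with hy
  set z := (X : Matrix (Fin 2) (Fin 2) F) 1 0 with hz
  set w := (X : Matrix (Fin 2) (Fin 2) F) 1 1 with hw
  set a := (S : Matrix (Fin 2) (Fin 2) F) 0 0 with ha
  set b := (S : Matrix (Fin 2) (Fin 2) F) 0 1 with hb
  set c := (S : Matrix (Fin 2) (Fin 2) F) 1 0 with hc
  set d := (S : Matrix (Fin 2) (Fin 2) F) 1 1 with hd'
  have hgoal : x = 1 → y = 0 → z = 0 → pi F X = 1 := fun e1 e2 e3 => by
    rw [← map_one (pi F)]
    refine congrArg (pi F) (Subtype.ext ?_)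
    rw [Matrix.SpecialLinearGroup.coe_one]
    have e4 : w = 1 := by linear_combination hd - w * e1 + z * e2
    ext i j
    fin_cases i <;> fin_cases j <;> simp [← hx, ← hy, ← hz, ← hw, e1, e2, e3, e4]
  -- the involution has trace zero
  have hd0 : d = -a := by
    by_contra hne
    have hne' : a + d ≠ 0 := fun h => hne (by linear_combination h)
    have hb0 : b = 0 := (mul_eq_zero.1 (show b * (a + d) = 0 by linear_combination s01)).resolve_right hne'
    refine hsq ⟨a, ?_⟩
    rw [hb0] at s00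
    linear_combination -s00
  -- the unipotent has trace two
  by_cases hyz : y = 0 ∧ z = 0
  · refine hgoal ?_ hyz.1 hyz.2
    rw [hyz.1, hyz.2] at c00
    have hcube : (x - 1) ^ 3 = 0 := by linear_combination c00 + (x - x ^ 2) * h3
    exact sub_eq_zero.1 (eq_zero_of_pow_eq_zero hcube)
  have htr : x + w = 2 := by
    have hτ : (x + w) ^ 2 = 1 := by
      rcases not_and_or.1 hyz with hne | hne
      · exact mul_right_cancel₀ hne (by linear_combination c01 + y * hd)
      · exact mul_right_cancel₀ hne (by linear_combination c10 + z * hd)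
    have h1 : x + w = -1 := by
      linear_combination (-1 : F) * c00 + x * hτ - (2 * x + w) * hd
    linear_combination h1 - h3
  have hε1 : ε = 1 := by
    rcases hε with h | h
    · exact h
    exfalso
    subst h
    rw [htr] at htrace
    exact one_ne_zero (α := F) (by linear_combination htrace - h3)
  subst hε1
  set x' := x - 1 with hx'
  have hq : x' * x' + y * z = 0 := by
    rw [hx']; linear_combination -hd + x * htr
  have hlin : 2 * a * x' + b * z + c * y = 0 := by
    rw [hx']; linear_combination f00 + a * htr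
  by_cases hy0 : y = 0
  · have hx0 : x' = 0 := by
      rw [hy0, zero_mul, add_zero] at hq; exact mul_self_eq_zero.1 hq
    rw [hy0, hx0, mul_zero, mul_zero, zero_add, add_zero] at hlin
    rcases mul_eq_zero.1 hlin with hb0 | hz0
    · refine absurd ⟨a, ?_⟩ hsq
      rw [hb0] at s00
      linear_combination -s00
    · exact hgoal (by rw [hx'] at hx0; linear_combination hx0) hy0 hz0
  · refine absurd ⟨(a * y - b * x') / y, ?_⟩ hsq
    rw [div_mul_div_comm, eq_div_iff (mul_ne_zero hy0 hy0)]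
    linear_combination b * y * hlin - (b * b) * hq - (y * y) * s00

end Cfsg.Agent.Walter.Field.ThreeCase
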