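import Cfsg.Prelude.Def_Solvable

/-!
# The case `r = p = 3` of the field part: the interface of the quotient by `O_{3'}`

`QuotFact`: in an odd group with trivial `O_{3'}`, the element `x` of the field part is not killed
by some homomorphism into an abelian group, once the 3-part of `C(x)` is bounded.
-/

set_option autoImplicit false

namespace Cfsg.Agent.Walter.Field.ThreeCase

open Subgroup

universe u

/-- The statement about `W / O_{3'}(W)`. -/
def QuotFact : Prop :=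
  ∀ (W : Type u) [Group W] [Finite W], Odd (Nat.card W) → Cfsg.pPrimeCore 3 W = ⊥ →
    ∀ (m l j e : ℕ), 0 < m → l.Prime → 4 * (3 * m) + 1 ≤ l → l ∣ 3 ^ (3 * m) - 1 →
      (∀ i, 0 < i → i < 3 * m → ¬ l ∣ 3 ^ i - 1) →
    ∀ (τ x : W), orderOf τ = l → (∀ a : W, a ^ 3 = 1 → Commute τ a → a = 1) →
      orderOf x = 3 → x * τ * x⁻¹ = τ ^ j → ¬ j ≡ 1 [MOD l] →
    ∀ (O : Subgroup W), IsCyclic ↥O → x ∈ O → Nat.card ↥O = 3 ^ e → 3 ^ e ∣ 3 * m →
      (∀ P : Subgroup W, IsPGroup 3 ↥P → P ≤ centralizer ({x} : Set W) →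
        Nat.card ↥P ∣ 3 ^ (3 * m) * 3 ^ e) →
      ∃ (A : Type u) (_ : CommGroup A) (ψ : W →* A), ψ x ≠ 1

end Cfsg.Agent.Walter.Field.ThreeCase
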