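import Cfsg.Agent.Lib.Walter.Field.ThreeCaseModel
import Cfsg.Agent.Lib.Walter.Field.ThreeCaseData
import Cfsg.Agent.Lib.Walter.Field.OtherNorm
import Cfsg.Agent.Lib.Walter.Field.Defs
import Cfsg.Agent.Lib.TimesPSLTwo.PSLFacts

/-!
# The case `r = p = 3` of the field part: reading the data off `C(t)`

The model `PSL₂(K)` of `E₀` turned into `TData`.
-/

set_option autoImplicit false
set_option linter.unusedSectionVars false
set_option linter.style.haveILetI false

namespace Cfsg.Agent.Walter.Field.ThreeCase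

open Subgroup
open Cfsg.Agent.AutPSL.Basic

universe u v

/-- The order of an automorphism of a field of order `p ^ n` divides `n`. -/
theorem orderOf_dvd_degree {K : Type v} [Field K] [Fintype K] {p n : ℕ} (hp : p.Prime)
    (hK : Fintype.card K = p ^ n) (σ : K ≃+* K) : orderOf σ ∣ n := by
  classical
  letI : Fintype ↥(Other.fixF σ) := Fintype.ofFinite _
  have h := Other.card_fixF σ
  rw [hK] at h
  haveI : Finite (K ≃+* K) := Finite.of_injective (fun e => (e : K → K)) DFunLike.coe_injective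
  obtain ⟨k, -, hk⟩ := (Nat.dvd_prime_pow hp).1 (by
    rw [h]; exact dvd_pow_self _ (orderOf_pos σ).ne' : Fintype.card ↥(Other.fixF σ) ∣ p ^ n)
  rw [hk, ← pow_mul] at h
  exact ⟨k, by rw [mul_comm]; exact Nat.pow_right_injective hp.two_le h⟩

variable {G : Type u} [Group G] [Finite G]

/-- The product of two odd subgroups, one normalising the other, is odd. -/
theorem odd_sup {N H : Subgroup G} (hH : H ≤ normalizer (N : Set G)) (hNo : Odd (Nat.card ↥N))
    (hHo : Odd (Nat.card ↥H)) : Odd (Nat.card ↥(N ⊔ H)) := by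
  by_contra he
  haveI : Fact (Nat.Prime 2) := ⟨Nat.prime_two⟩
  obtain ⟨⟨g, hg⟩, hgo⟩ := exists_prime_orderOf_dvd_card' (G := ↥(N ⊔ H)) 2
    (even_iff_two_dvd.1 (Nat.not_odd_iff_even.1 he))
  rw [orderOf_mk] at hgo
  obtain ⟨a, ha, b, hb, rfl⟩ := (Coprime.mem_sup_of_le_normalizer hH).1 hg
  have hb2 : b * b ∈ N := by
    have h2 : a * b * (a * b) = 1 := mul_self_of_two hgo
    have h3 : b * b = (a * (b * a * b⁻¹))⁻¹ := eq_inv_of_mul_eq_one_right (by rw [← h2]; group)
    rw [h3]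
    exact inv_mem (mul_mem ha ((mem_normalizer_iff.1 (hH hb) a).1 ha))
  have hb1 : b ∈ N := by
    obtain ⟨k, hk⟩ := hHo.of_dvd_nat (orderOf_dvd_natCard H hb)
    have e : b = (b * b) ^ (k + 1) := by
      rw [← pow_two, ← pow_mul, show 2 * (k + 1) = orderOf b + 1 by omega, pow_succ,
        pow_orderOf_eq_one, one_mul]
    rw [e]; exact pow_mem hb2 _
  have := hNo.of_dvd_nat (orderOf_dvd_natCard N (mul_mem ha hb1))
  rw [hgo] at this
  exact absurd this (by decide)

/-- The data. -/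
theorem exists_data [IsSimpleGroup G] (hab : SEAbelian.AbTwo G) {t : G} {K : Type v} [Field K]
    [Fintype K] {E₀ : Subgroup G} {x : G} {q₀ : ℕ} (h5 : 5 ≤ Fintype.card K) (hd : TwoPSL t K E₀)
    (hx : FieldElt t E₀ x 3) (hchar : ringChar K = 3) (hq : Fintype.card K = q₀ ^ 3)
    (hbd : XBound t E₀ x q₀) :
    ¬ IsMulCommutative G ∧ ∃ (m l j e : ℕ) (U O B : Subgroup G) (τ : G),
      TData t x m l j e E₀ U O B τ ∧
      ∀ P : Subgroup G, IsPGroup 3 ↥P → P ≤ centralizer ({x} : Set G) →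
        Nat.card ↥P ∣ 3 ^ (3 * m) * 3 ^ e := by
  classical
  haveI : Fact (Nat.Prime 2) := ⟨Nat.prime_two⟩
  haveI : Fact (Nat.Prime 3) := ⟨Nat.prime_three⟩
  haveI := Fintype.ofFinite G
  haveI hcp : CharP K 3 := ringChar.of_eq hchar
  have hsimple : IsSimpleGroup (Matrix.ProjectiveSpecialLinearGroup (Fin 2) K) :=
    TimesPSLTwo.psl_simple (by omega)
  obtain ⟨S, Sh, hxO, -⟩ := Other.exists_shape_of_elt hd hab h5 hx
  -- the numbers
  obtain ⟨n, -, hn⟩ := FiniteField.card K 3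
  obtain ⟨m, -, hm⟩ := (Nat.dvd_prime_pow Nat.prime_three).1
    (by rw [← hn, hq]; exact dvd_pow_self _ (by norm_num) : q₀ ∣ 3 ^ (n : ℕ))
  subst hm
  have hcard : Fintype.card K = 3 ^ (3 * m) := by rw [hq, ← pow_mul, mul_comm]
  have hm0 : 0 < m := by
    rcases Nat.eq_zero_or_pos m with rfl | h
    · rw [hcard, mul_zero, pow_zero] at h5; omega
    · exact h
  have hmodd : Odd m := by
    by_contra h
    obtain ⟨k, rfl⟩ := Nat.not_odd_iff_even.1 h
    have h8 := Sh.h8
    rw [hcard, show 3 * (k + k) = 2 * (3 * k) by ring, pow_mul] at h8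
    norm_num [Nat.pow_mod] at h8
  have hq4 : Fintype.card K % 4 = 3 := by
    obtain ⟨k, rfl⟩ := hmodd
    rw [hcard, show 3 * (2 * k + 1) = 2 * (3 * k + 1) + 1 by ring, pow_succ, pow_mul, Nat.mul_mod,
      Nat.pow_mod]
    norm_num
  have hsq : ¬ IsSquare (-1 : K) := fun h => FiniteField.isSquare_neg_one_iff.1 h hq4
  obtain ⟨l, hl, hlbig, hldvd, hlprim⟩ := exists_prime_big hmodd
  haveI : Fact l.Prime := ⟨hl⟩
  have hlodd : Odd l := hl.odd_of_ne_two (by omega)
  -- the element of the torus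
  obtain ⟨a, ha⟩ := exists_prime_orderOf_dvd_card' (G := Kˣ) l (by
    rw [Nat.card_units, Nat.card_eq_fintype_card, hcard]; exact hldvd)
  -- the model
  let ψ : Matrix.ProjectiveSpecialLinearGroup (Fin 2) K →* G := E₀.subtype.comp Sh.φ.symm.toMonoidHom
  have hψ : Function.Injective ψ := E₀.subtype_injective.comp Sh.φ.symm.injective
  have hψE : ∀ p, ψ p ∈ E₀ := fun p => (Sh.φ.symm p).2
  have hEψ : ∀ e ∈ E₀, ∃ p, ψ p = e := fun e he =>
    ⟨Sh.φ ⟨e, he⟩, congrArg Subtype.val (Sh.φ.symm_apply_apply _)⟩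
  have hψt : ∀ p, Commute (ψ p) t := fun p => mem_centralizer_singleton_iff.1 (hd.le (hψE p))
  have hoE : ∀ o ∈ Sh.O, o ∈ normalizer (E₀ : Set G) := fun o ho => hd.normal (Sh.O_le_C ho)
  have hact : ∀ (o : G) (ho : o ∈ Sh.O) p, o * ψ p * o⁻¹ = ψ (fAut (Sh.σ ⟨o, ho⟩) p) := by
    intro o ho p
    have h := Sh.act ⟨o, ho⟩ (Sh.φ.symm p) ⟨o * ψ p * o⁻¹, (mem_normalizer_iff.1 (hoE o ho) _).1 (hψE p)⟩ rfl
    rw [Sh.φ.apply_symm_apply] at h
    show o * ψ p * o⁻¹ = _
    rw [← h]
    exact (congrArg Subtype.val (Sh.φ.symm_apply_apply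
      ⟨o * ψ p * o⁻¹, (mem_normalizer_iff.1 (hoE o ho) _).1 (hψE p)⟩)).symm
  -- `X = E₀ O`
  set X : Subgroup G := E₀ ⊔ Sh.O with hXdef
  have hXmem : ∀ y ∈ X, ∃ e ∈ E₀, ∃ o ∈ Sh.O, e * o = y := fun y hy =>
    (Coprime.mem_sup_of_le_normalizer hoE).1 hy
  have hmodE : ∀ {o : G}, o ∈ Sh.O → o ∈ E₀ → o = 1 := fun ho he => Sh.uniq _ (mem_sup_right he) ho
  have hpowE : ∀ {e o : G}, e ∈ E₀ → o ∈ Sh.O → ∀ k : ℕ, ∃ e' ∈ E₀, (e * o) ^ k = e' * o ^ k := by
    intro e o he ho k
    induction k with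
    | zero => exact ⟨1, one_mem _, by simp⟩
    | succ k ih =>
      obtain ⟨e', he', h⟩ := ih
      refine ⟨e' * (o ^ k * e * (o ^ k)⁻¹),
        mul_mem he' ((mem_normalizer_iff.1 (hoE _ (pow_mem ho k)) _).1 he), ?_⟩
      rw [pow_succ (e * o), h, pow_succ o]
      group
  have hpow1 : ∀ {e o : G}, e ∈ E₀ → o ∈ Sh.O → ∀ k : ℕ, (e * o) ^ k = 1 → o ^ k = 1 := by
    intro e o he ho k h
    obtain ⟨e', he', h'⟩ := hpowE he ho k
    refine hmodE (pow_mem ho k) ?_
    rw [h] at h'
    rw [eq_inv_of_mul_eq_one_right h'.symm]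
    exact inv_mem he'
  have hO2 : ∀ {o : G}, o ∈ Sh.O → o * o = 1 → o = 1 := fun ho h =>
    Other.eq_one_of_odd_sq (Sh.O_odd ho) h
  -- all involutions are conjugate to `t`, elementary Sylow 2-subgroups
  have hnc : ¬ IsMulCommutative G := fun h => TimesPSLTwo.two_upper (F := K) (hψ (by
    rw [map_mul ψ, map_mul ψ]; exact h.is_comm.comm _ _))
  have hinsylow : ∀ y : G, (∃ k, y ^ 2 ^ k = 1) → ∃ c : G, c * y * c⁻¹ ∈ (S : Subgroup G) := by
    rintro y ⟨k, hk⟩
    obtain ⟨i, -, hi⟩ := (Nat.dvd_prime_pow Nat.prime_two).1 (orderOf_dvd_of_pow_eq_one hk)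
    obtain ⟨P, hP⟩ := (IsPGroup.of_card (n := i) (G := zpowers y)
      (by rw [Nat.card_zpowers, hi])).exists_le_sylow
    obtain ⟨c, hc⟩ := MulAction.exists_smul_eq G P S
    refine ⟨c, ?_⟩
    rw [← hc, Sylow.coe_subgroup_smul]
    exact ⟨y, hP (mem_zpowers y), rfl⟩
  have hemb : Emb t X.subtype :=
    { two := hab
      ht := hd.ht
      inj := X.subtype_injective
      comm := fun y => by
        obtain ⟨e, he, o, ho, h⟩ := hXmem _ y.2
        show Commute (y : G) t
        rw [← h]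
        exact (show Commute e t from mem_centralizer_singleton_iff.1 (hd.le he)).mul_left (Sh.O_commute_t ho)
      split := fun g hg => by
        obtain ⟨d, hdd, o, ho, rfl⟩ := Sh.surj g (mem_centralizer_singleton_iff.2 hg.eq)
        obtain ⟨c, hc, e, he, rfl⟩ := Other.mem_sup_cases hd.le hdd
        refine ⟨⟨e * o, mul_mem (mem_sup_left he) (mem_sup_right ho)⟩, ?_⟩
        rcases Other.zpow_cases hd.ht hc with rfl | rfl
        · exact Or.inl (by show _ = e * o; rw [one_mul])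
        · refine Or.inr ?_
          show c * e * o = e * o * c
          rw [((show Commute e c from mem_centralizer_singleton_iff.1 (hd.le he)).mul_left
            (Sh.O_commute_t ho)).eq, mul_assoc]
      t_not := fun y hy => by
        obtain ⟨e, he, o, ho, h⟩ := hXmem _ y.2
        change (y : G) = t at hy
        rw [hy] at h
        have ho1 : o = 1 := Sh.uniq o (by
          have e' : e⁻¹ * t = o := by rw [← h]; group
          have := mul_mem (inv_mem (mem_sup_right he : e ∈ zpowers t ⊔ E₀)) (mem_sup_left (mem_zpowers t))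
          rwa [e'] at this) ho
        rw [ho1, mul_one] at h
        exact hd.t_not (h ▸ he)
      fused := fun y hy => by
        obtain ⟨c, hc⟩ := hinsylow y ⟨1, by rw [pow_one, ← hy, pow_orderOf_eq_one]⟩
        obtain ⟨g, -, hg⟩ := Sh.trans hnc hab hd _ hc (fun e => by
          rw [conj_eq_one_iff.1 e, orderOf_one] at hy; exact absurd hy (by norm_num))
        exact (isConj_iff.2 ⟨g, hg⟩).trans (isConj_iff.2 ⟨c⁻¹, by group⟩) }
  have hreal : NoReal G 3 := by
    refine hemb.noReal_of (fun s g hs hsg hg => ?_) ⟨1, rfl⟩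
    obtain ⟨e, he, o, ho, hse⟩ := hXmem _ s.2
    obtain ⟨e', he', o', ho', hge⟩ := hXmem _ g.2
    have hs2 : (s : G) ^ 2 = 1 := by rw [← SubgroupClass.coe_pow, ← hs, pow_orderOf_eq_one, OneMemClass.coe_one]
    have hg3 : (g : G) ^ 3 = 1 := by rw [← SubgroupClass.coe_pow, hg, OneMemClass.coe_one]
    have hsg' : (s : G) * g * (s : G)⁻¹ = (g : G)⁻¹ := congrArg Subtype.val hsg
    have ho1 : o = 1 := hO2 ho (by rw [← pow_two]; exact hpow1 he ho 2 (hse ▸ hs2))
    rw [ho1, mul_one] at hse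
    have hos : o' = 1 := by
      refine hO2 ho' (hmodE (mul_mem ho' ho') ?_)
      have hg2 : (g : G) * (s : G) * g * (s : G)⁻¹ = 1 := by
        rw [mul_assoc (g : G), mul_assoc (g : G), hsg', mul_inv_cancel]
      rw [← hge, ← hse] at hg2
      have e3 : o' * o' = (o' * (e * e') * o'⁻¹)⁻¹ * e'⁻¹ * e := by
        have h4 : e' * (o' * (e * e') * o'⁻¹) * (o' * o') * e⁻¹ = 1 := by rw [← hg2]; group
        calc o' * o' = (o' * (e * e') * o'⁻¹)⁻¹ * e'⁻¹ *
              (e' * (o' * (e * e') * o'⁻¹) * (o' * o') * e⁻¹) * e := by group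
          _ = _ := by rw [h4, mul_one]
      rw [e3]
      exact mul_mem (mul_mem (inv_mem ((mem_normalizer_iff.1 (hoE o' ho') _).1 (mul_mem he he')))
        (inv_mem he')) he
    rw [hos, mul_one] at hge
    obtain ⟨p, rfl⟩ := hEψ e he
    obtain ⟨r, rfl⟩ := hEψ e' he'
    have hp : orderOf p = 2 := by
      rw [← orderOf_injective ψ hψ, hse, Subgroup.orderOf_coe, hs]
    have hr1 : r = 1 := noReal_psl hsq hp (hψ (by rw [map_pow, hge, hg3, map_one]))
      (hψ (by rw [map_mul, map_mul, map_inv, map_inv, hse, hge, hsg']))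
    exact Subtype.ext (by rw [← hge, hr1, map_one]; rfl)
  -- the Borel subgroup
  set Ud : Subgroup G := (uniGroup K).map ψ with hUd
  set Hd : Subgroup G := (dia : Kˣ →* _).range.map ψ with hHd
  have hHN : Hd ≤ normalizer (Ud : Set G) := by
    rintro _ ⟨_, ⟨c, rfl⟩, rfl⟩
    exact le_normalizer_map ψ ⟨_, dia_normalizes c, rfl⟩
  have hON : ∀ o ∈ Sh.O, o ∈ normalizer (Ud : Set G) ∧ o ∈ normalizer (Hd : Set G) := by
    intro o ho
    refine ⟨Subgroup.mem_normalizer_fintype ?_, Subgroup.mem_normalizer_fintype ?_⟩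
    · rintro _ ⟨_, ⟨b, rfl⟩, rfl⟩
      rw [hact o ho, show b = Multiplicative.ofAdd b.toAdd from rfl, fAut_uni]
      exact mem_map_of_mem ψ ⟨_, rfl⟩
    · rintro _ ⟨_, ⟨c, rfl⟩, rfl⟩
      rw [hact o ho, fAut_dia]
      exact mem_map_of_mem ψ ⟨_, rfl⟩
  set Bd : Subgroup G := Ud ⊔ Hd with hBd
  have hBmem : ∀ y ∈ Bd, ∃ b c, y = ψ (uni (Multiplicative.ofAdd b) * dia c) := by
    intro y hy
    obtain ⟨_, ⟨_, ⟨b, rfl⟩, rfl⟩, _, ⟨_, ⟨c, rfl⟩, rfl⟩, rfl⟩ := (Coprime.mem_sup_of_le_normalizer hHN).1 hy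
    exact ⟨b.toAdd, c, (map_mul ψ _ _).symm⟩
  have hBin : ∀ b c, ψ (uni b * dia c) ∈ Bd := fun b c => by
    rw [map_mul]
    exact mul_mem (mem_sup_left (mem_map_of_mem ψ ⟨b, rfl⟩)) (mem_sup_right (mem_map_of_mem ψ ⟨c, rfl⟩))
  have hBE : Bd ≤ E₀ := sup_le (by rintro _ ⟨p, -, rfl⟩; exact hψE p) (by rintro _ ⟨p, -, rfl⟩; exact hψE p)
  have hOBd : Sh.O ≤ normalizer (Bd : Set G) := fun o ho =>
    normalizer_inf_normalizer_le_normalizer_sup _ _ ⟨(hON o ho).1, (hON o ho).2⟩
  have hUcard : Nat.card ↥Ud = 3 ^ (3 * m) := by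
    rw [hUd, card_map_of_injective hψ, natCard_uniGroup, Nat.card_eq_fintype_card, hcard]
  have hHodd : Odd (Nat.card ↥Hd) := by
    by_contra he
    obtain ⟨⟨y, hy⟩, hyo⟩ := exists_prime_orderOf_dvd_card' (G := ↥Hd) 2
      (even_iff_two_dvd.1 (Nat.not_odd_iff_even.1 he))
    rw [orderOf_mk] at hyo
    obtain ⟨_, ⟨c, rfl⟩, rfl⟩ := hy
    rw [orderOf_injective ψ hψ] at hyo
    have h1 : dia (c ^ 2) = 1 := by
      have h0 := pow_orderOf_eq_one (dia c : Matrix.ProjectiveSpecialLinearGroup (Fin 2) K)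
      rw [hyo] at h0; rw [map_pow, h0]
    rw [dia_apply, ← map_one (Forms.KleinPSL.pi K), Forms.KleinPSL.pi_eq_iff] at h1
    have hc2 : ((c ^ 2 : Kˣ) : K) = 1 ∨ ((c ^ 2 : Kˣ) : K) = -1 := by
      rcases h1 with h | h
      · refine Or.inl ?_
        have := congrArg (fun g : Matrix.SpecialLinearGroup (Fin 2) K => (g : Matrix (Fin 2) (Fin 2) K) 0 0) h
        simp only [coe_diaSL] at this
        simpa using this
      · refine Or.inr ?_
        have := congrArg (fun g : Matrix.SpecialLinearGroup (Fin 2) K => (g : Matrix (Fin 2) (Fin 2) K) 0 0) h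
        simp only [coe_diaSL] at this
        simpa using this
    rw [Units.val_pow_eq_pow_val] at hc2
    rcases hc2 with h | h
    · have hone : dia c = 1 := by
        rw [dia_apply, ← map_one (Forms.KleinPSL.pi K), Forms.KleinPSL.pi_eq_iff]
        rcases sq_eq_one_iff.1 h with h' | h'
        · exact Or.inl (by rw [show c = 1 from Units.ext h', map_one])
        · refine Or.inr (Subtype.ext ?_)
          rw [Matrix.SpecialLinearGroup.coe_neg, Matrix.SpecialLinearGroup.coe_one, coe_diaSL]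
          ext i k; fin_cases i <;> fin_cases k <;> simp [h']
      rw [hone, orderOf_one] at hyo
      exact absurd hyo (by norm_num)
    · exact hsq ⟨c, by rw [← h, pow_two]⟩
  set B : Subgroup G := Bd ⊔ Sh.O with hB
  have hBodd : Odd (Nat.card ↥B) := odd_sup hOBd
    (odd_sup hHN (by rw [hUcard]; exact (by decide : Odd 3).pow) hHodd) (Sh.card_O_odd hd)
  have hBC : B ≤ centralizer ({t} : Set G) := sup_le (hBE.trans hd.le) Sh.O_le_C
  -- `τ` and `x`
  set τ : G := ψ (dia a) with hτ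
  have hτB : τ ∈ B := mem_sup_left (mem_sup_right (mem_map_of_mem ψ ⟨a, rfl⟩))
  have haK : orderOf (a : K) = l := by rw [orderOf_units, ha]
  have hneg : ∀ b : K, b ^ l = 1 → (-b) ^ l ≠ 1 := fun b hb h => by
    rw [hlodd.neg_pow, hb] at h
    have h3 : (3 : K) = 0 := by exact_mod_cast CharP.cast_eq_zero K 3
    exact one_ne_zero (α := K) (by linear_combination h3 + h)
  have hal : (a : K) ^ l = 1 := by rw [← haK, pow_orderOf_eq_one]
  have hτord : orderOf τ = l := by
    rw [hτ, orderOf_injective ψ hψ]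
    refine orderOf_eq_prime (by rw [← map_pow, ← ha, pow_orderOf_eq_one, map_one]) fun h => ?_
    rw [dia_apply, ← map_one (Forms.KleinPSL.pi K), Forms.KleinPSL.pi_eq_iff] at h
    rcases h with h | h
    · have := congrArg (fun g : Matrix.SpecialLinearGroup (Fin 2) K => (g : Matrix (Fin 2) (Fin 2) K) 0 0) h
      simp [coe_diaSL] at this
      rw [this, Units.val_one, orderOf_one] at haK
      exact hl.one_lt.ne haK
    · have h0 := congrArg (fun g : Matrix.SpecialLinearGroup (Fin 2) K => (g : Matrix (Fin 2) (Fin 2) K) 0 0) h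
      simp [coe_diaSL] at h0
      exact hneg 1 (one_pow l) (by rw [h0] at hal; simpa using hal)
  letI : Fintype ↥(Other.fixF (Sh.σ ⟨x, hxO⟩)) := Fintype.ofFinite _
  have hσa : (Sh.σ ⟨x, hxO⟩) (a : K) ≠ a := by
    intro h
    have hc := Sh.card_eq_pow hd hxO
    rw [hx.order, hcard, mul_comm 3 m, pow_mul] at hc
    have hc' : Fintype.card ↥(Other.fixF (Sh.σ ⟨x, hxO⟩)) = 3 ^ m :=
      (Nat.pow_left_injective (by norm_num : 3 ≠ 0) hc).symm
    let af : ↥(Other.fixF (Sh.σ ⟨x, hxO⟩)) := ⟨a, (Other.mem_fixF _).2 h⟩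
    have h1 := FiniteField.pow_card_sub_one_eq_one af (fun e => a.ne_zero (congrArg Subtype.val e))
    rw [hc'] at h1
    refine hlprim m hm0 (by omega) ?_
    rw [← haK]
    exact orderOf_dvd_of_pow_eq_one (congrArg Subtype.val h1)
  haveI : NeZero l := ⟨hl.ne_zero⟩
  have hprimroot : IsPrimitiveRoot (a : K) l := haK ▸ IsPrimitiveRoot.orderOf (a : K)
  obtain ⟨j, -, hj⟩ := hprimroot.eq_pow_of_pow_eq_one (ξ := (Sh.σ ⟨x, hxO⟩) (a : K))
    (by rw [← map_pow, hal, map_one])
  have hconj : x * τ * x⁻¹ = τ ^ j := by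
    rw [hτ, hact x hxO, fAut_dia, ← map_pow, ← map_pow]
    congr 2
    exact Units.ext (by rw [Units.coe_map, Units.val_pow_eq_pow_val, hj]; rfl)
  have hjne : ¬ j ≡ 1 [MOD l] := fun h => hσa (by
    rw [← hj]
    conv_rhs => rw [← pow_one (a : K)]
    exact pow_eq_pow_of_modEq h hal)
  -- the 3-part of the field part
  obtain ⟨O3s, hO3⟩ := (IsPGroup.of_card (n := 1) (G := zpowers (⟨x, hxO⟩ : ↥Sh.O)) (p := 3)
    (by rw [Nat.card_zpowers, orderOf_mk, hx.order, pow_one])).exists_le_sylow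
  obtain ⟨e, he⟩ := O3s.2.exists_card_eq
  set O3 : Subgroup G := (O3s : Subgroup ↥Sh.O).map Sh.O.subtype with hO3d
  have hO3le : O3 ≤ Sh.O := map_subtype_le _
  have hO3card : Nat.card ↥O3 = 3 ^ e := by rw [hO3d, card_subtype, he]
  haveI := Sh.O_cyclic
  have hOdvd : Nat.card ↥Sh.O ∣ 3 * m := by
    obtain ⟨g, hg⟩ := IsCyclic.exists_ofOrder_eq_natCard (α := ↥Sh.O)
    rw [← hg, ← orderOf_injective Sh.σ Sh.σ_inj]
    exact orderOf_dvd_degree Nat.prime_three hcard _
  refine ⟨hnc, m, l, j, e, Ud, O3, B, τ, ?_, fun P hP hPx => ?_⟩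
  swap
  · obtain ⟨k, hk⟩ := hP.exists_card_eq
    have h := hbd P hP hPx
    rw [Sh.outIndex_eq hd, hk, ← pow_mul, mul_comm m 3] at h
    rw [hk]
    have hfac : e = (Nat.card ↥Sh.O).factorization 3 := Nat.pow_right_injective (by norm_num : 2 ≤ 3)
      (he.symm.trans O3s.card_eq_multiplicity)
    rw [← pow_add]
    refine pow_dvd_pow 3 ?_
    have h2 := (Nat.Prime.pow_dvd_iff_le_factorization Nat.prime_three
      (mul_ne_zero (by positivity) Nat.card_pos.ne')).1 h
    rw [Nat.factorization_mul (by positivity) Nat.card_pos.ne', Finsupp.add_apply,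
      Nat.Prime.factorization_pow Nat.prime_three, Finsupp.single_eq_same] at h2
    omega
  have hUcent : ∀ c ∈ B, (∀ u ∈ Ud, Commute c u) → c ∈ Ud := by
    intro c hc hcu
    obtain ⟨y, hy, o, ho, rfl⟩ := (Coprime.mem_sup_of_le_normalizer hOBd).1 hc
    obtain ⟨b, d, rfl⟩ := hBmem y hy
    have key : ∀ r : K, (d : K) * d * (Sh.σ ⟨o, ho⟩) r = r := by
      intro r
      have h1 := (hcu _ (mem_map_of_mem ψ ⟨Multiplicative.ofAdd r, rfl⟩)).eq
      set u := uni (Multiplicative.ofAdd r) with hu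
      have h2 : ψ (uni (Multiplicative.ofAdd b) * dia d) * (o * ψ u * o⁻¹) *
          (ψ (uni (Multiplicative.ofAdd b) * dia d))⁻¹ = ψ u := by
        calc _ = ψ (uni (Multiplicative.ofAdd b) * dia d) * o * ψ u *
              (ψ (uni (Multiplicative.ofAdd b) * dia d) * o)⁻¹ := by group
          _ = ψ u := by rw [h1, mul_inv_cancel_right]
      rw [hu, hact o ho, fAut_uni, ← map_inv, ← map_mul, ← map_mul] at h2
      have h3 := hψ h2
      rw [_root_.mul_inv_rev, ← mul_assoc, mul_assoc (uni (Multiplicative.ofAdd b)),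
        mul_assoc (uni (Multiplicative.ofAdd b)), dia_conj_uni, ← map_inv, ← map_mul, ← map_mul] at h3
      have h4 := congrArg Multiplicative.toAdd (uni_injective h3)
      simp at h4
      linear_combination h4
    have hd2 : (d : K) * d = 1 := by simpa using key 1
    have hσ : Sh.σ ⟨o, ho⟩ = 1 := RingEquiv.ext fun r => by
      have := key r
      rwa [hd2, one_mul] at this
    have ho1 : o = 1 := congrArg Subtype.val (Sh.σ_inj (hσ.trans (map_one Sh.σ).symm))
    have hd1 : dia d = 1 := by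
      rw [dia_apply, ← map_one (Forms.KleinPSL.pi K), Forms.KleinPSL.pi_eq_iff]
      rcases mul_self_eq_one_iff.1 hd2 with h | h
      · exact Or.inl (by rw [show d = 1 from Units.ext h, map_one])
      · refine Or.inr (Subtype.ext ?_)
        rw [Matrix.SpecialLinearGroup.coe_neg, Matrix.SpecialLinearGroup.coe_one, coe_diaSL]
        ext i k; fin_cases i <;> fin_cases k <;> simp [h]
    rw [ho1, mul_one, hd1, mul_one]
    exact mem_map_of_mem ψ ⟨_, rfl⟩
  -- a second involution generates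
  have hgen : ∀ M : Subgroup G, Bd ≤ M → ∀ p, ψ p ∈ M → ψ p ∉ Bd → E₀ ≤ M := by
    intro M hM p hp hpB
    obtain ⟨c, b, d, rfl⟩ := (cover p).resolve_left fun ⟨b, d, e⟩ => hpB (e ▸ hBin _ d)
    have hrot : ψ rot ∈ M := by
      have h1 := mul_mem (mul_mem (inv_mem (hM (mem_sup_left (mem_map_of_mem ψ
        ⟨Multiplicative.ofAdd c, rfl⟩)))) hp) (inv_mem (hM (hBin (Multiplicative.ofAdd b) d)))
      rw [map_mul ψ (uni (Multiplicative.ofAdd c) * rot), map_mul ψ (uni (Multiplicative.ofAdd c))] at h1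
      simpa [mul_assoc] using h1
    intro g hg
    obtain ⟨r, rfl⟩ := hEψ g hg
    rcases cover r with ⟨b, d, rfl⟩ | ⟨c, b, d, rfl⟩
    · exact hM (hBin _ _)
    · rw [map_mul, map_mul]
      exact mul_mem (mul_mem (hM (mem_sup_left (mem_map_of_mem ψ ⟨_, rfl⟩))) hrot) (hM (hBin _ _))
  have hBdM : ∀ {M : Subgroup G}, B ≤ M → Bd ≤ M := fun h => le_sup_left.trans h
  refine
    { m_pos := hm0, l_prime := hl, l_big := hlbig, l_dvd := hldvd, l_prim := hlprim, ht := hd.ht
      noReal := hreal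
      invol_sq := fun y hy => ?_
      B_le := hBC, B_odd := hBodd
      U_le := le_sup_left.trans le_sup_left
      U_card := hUcard
      B_norm := sup_le (sup_le le_normalizer hHN) fun o ho => (hON o ho).1
      cent_U := hUcent
      O_le := hO3le.trans le_sup_right
      O_cyclic := isCyclic_of_injective (inclusion hO3le) (inclusion_injective hO3le)
      O_card := hO3card
      O_dvd := (hO3card ▸ card_dvd_of_le hO3le : 3 ^ e ∣ Nat.card ↥Sh.O).trans hOdvd
      x_mem := ⟨⟨x, hxO⟩, hO3 (mem_zpowers _), rfl⟩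
      x_ord := hx.order
      τ_mem := hτB, τ_ord := hτord, conj := hconj, j_ne := hjne
      invol := ⟨ψ rot, hψE _, by rw [orderOf_injective ψ hψ, orderOf_rot], hψt _,
        fun h => hd.t_not (h ▸ hψE rot)⟩
      cent_τ := ?_, gen := ?_, meet := ?_, fix_bot := ?_ }
  · obtain ⟨c, hc⟩ := hinsylow y hy
    have h := Sh.orbit_invol hab hd hc
    have h' : c * (y * y) * c⁻¹ = 1 := by rw [← h]; group
    exact conj_eq_one_iff.1 h'
  · -- the centraliser of `τ`
    have hτX : τ ∈ X := mem_sup_left (hψE _)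
    have hwX : ψ rot ∈ X := mem_sup_left (hψE _)
    refine hemb.not_dvd_centralizer (k := ⟨τ, hτX⟩) (by norm_num) hreal ?_ (w := ⟨ψ rot, hwX⟩)
      (by rw [orderOf_mk, orderOf_injective ψ hψ, orderOf_rot])
      (Subtype.ext (by show ψ rot * τ * (ψ rot)⁻¹ = τ⁻¹; rw [hτ, ← map_inv, ← map_mul, ← map_mul,
        rot_inv_dia, map_inv]))
    rintro ⟨_, hy⟩ hyτ
    obtain ⟨f, hf, o, ho, rfl⟩ := hXmem _ hy
    obtain ⟨g, rfl⟩ := hEψ f hf
    have h1 : ψ g * o * τ = τ * (ψ g * o) := congrArg Subtype.val hyτ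
    set b : Kˣ := Units.map (Sh.σ ⟨o, ho⟩ : K →* K) a with hb
    have h2 : g * dia b = dia a * g := by
      refine hψ ?_
      rw [map_mul, map_mul, hb, ← fAut_dia, ← hact o ho, ← hτ]
      calc ψ g * (o * τ * o⁻¹) = ψ g * o * τ * o⁻¹ := by group
        _ = τ * ψ g := by rw [h1]; group
    obtain ⟨hcases, hcent⟩ := of_dia_conj h2
    have hbl : ((b : Kˣ) : K) ^ l = 1 := by
      show (Sh.σ ⟨o, ho⟩ (a : K)) ^ l = 1
      rw [← map_pow, hal, map_one]
    have hfix : Sh.σ ⟨o, ho⟩ (a : K) = a := by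
      rcases hcases with h | h | h | h
      · exact (congrArg Units.val h).symm
      · exfalso
        refine hneg _ hbl ?_
        rw [← Units.val_neg, ← h, hal]
      · have hv : Sh.σ ⟨o, ho⟩ (a : K) = ((a : K))⁻¹ := by
          rw [show (a : K) = ((b⁻¹ : Kˣ) : K) from congrArg Units.val h, Units.val_inv_eq_inv_val, inv_inv]
          conv_lhs => rw [show ((b : K))⁻¹ = ((b⁻¹ : Kˣ) : K) from (Units.val_inv_eq_inv_val b).symm, ← h]
          rfl
        have h2' : ∀ k : ℕ, ((Sh.σ ⟨o, ho⟩) ^ (2 * k + 1)) (a : K) = ((a : K))⁻¹ := by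
          intro k
          induction k with
          | zero => rw [mul_zero, zero_add, pow_one, hv]
          | succ k ih =>
            rw [show 2 * (k + 1) + 1 = 2 + (2 * k + 1) by ring, pow_add, pow_two]
            show Sh.σ ⟨o, ho⟩ (Sh.σ ⟨o, ho⟩ ((Sh.σ ⟨o, ho⟩ ^ (2 * k + 1)) (a : K))) = _
            rw [ih, map_inv₀, map_inv₀, hv, map_inv₀, hv, inv_inv]
        obtain ⟨k, hk⟩ := Sh.O_odd ho
        have h3 := h2' k
        rw [← map_pow, show (⟨o, ho⟩ : ↥Sh.O) ^ (2 * k + 1) = 1 from Subtype.ext (by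
          rw [SubgroupClass.coe_pow, ← hk]; exact pow_orderOf_eq_one o), map_one] at h3
        rw [hv, ← h3]
        rfl
      · exfalso
        refine hneg _ (show (((b⁻¹ : Kˣ)) : K) ^ l = 1 by
          rw [Units.val_inv_eq_inv_val, inv_pow, hbl, inv_one]) ?_
        rw [← Units.val_neg, ← h, hal]
    have hba : b = a := Units.ext hfix
    obtain ⟨c, rfl⟩ := hcent (by
      rw [hba]
      intro h4
      have h5' : l ∣ 4 := haK ▸ orderOf_dvd_of_pow_eq_one h4
      have := Nat.le_of_dvd (by norm_num) h5'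
      omega) hba.symm
    refine ⟨?_, fun hy3 => ?_⟩
    · rw [Subgroup.orderOf_mk]
      exact hBodd.of_dvd_nat (orderOf_dvd_natCard B
        (mul_mem (mem_sup_left (mem_sup_right (mem_map_of_mem ψ ⟨c, rfl⟩))) (mem_sup_right ho)))
    · have h3 : (ψ (dia c) * o) ^ 3 = 1 := congrArg Subtype.val hy3
      have ho3 : o ^ 3 = 1 := hpow1 (hψE _) ho 3 h3
      have ho1 : o = 1 := by
        by_contra hne
        have hxz : x ∈ zpowers o := by
          have hox : o ∈ zpowers x := Sh.mem_zpowers_of_order hd hxO ho Nat.prime_three hx.order ho3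
          exact Sh.mem_zpowers_of_order hd ho hxO Nat.prime_three
            (orderOf_eq_prime ho3 hne) (by rw [← hx.order, pow_orderOf_eq_one])
        obtain ⟨i, hi⟩ := mem_zpowers_iff.1 hxz
        refine hσa ?_
        rw [show (⟨x, hxO⟩ : ↥Sh.O) = ⟨o, ho⟩ ^ i from Subtype.ext (by rw [SubgroupClass.coe_zpow]; exact hi.symm),
          map_zpow]
        exact MulAction.mem_fixedBy_zpow
          (show (a : K) ∈ MulAction.fixedBy K (Sh.σ ⟨o, ho⟩ : RingAut K) from hfix) i
      refine Subtype.ext ?_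
      show ψ (dia c) * o = 1
      rw [ho1, mul_one] at h3 ⊢
      rw [← map_pow, ← map_one ψ] at h3
      have hc := hψ h3
      rw [← map_pow, dia_apply, ← map_one (Forms.KleinPSL.pi K), Forms.KleinPSL.pi_eq_iff] at hc
      have h3K : (3 : K) = 0 := by exact_mod_cast CharP.cast_eq_zero K 3
      have hc' : (c : K) * c = 1 := by
        have hcube : ((c : K) ^ 2 - 1) ^ 3 = 0 := by
          rcases hc with h | h
          · have h0 := congrArg (fun g : Matrix.SpecialLinearGroup (Fin 2) K => (g : Matrix (Fin 2) (Fin 2) K) 0 0) h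
            simp only [coe_diaSL] at h0
            simp at h0
            linear_combination ((c : K) ^ 3 + 1) * h0 + ((c : K) ^ 2 - (c : K) ^ 4) * h3K
          · have h0 := congrArg (fun g : Matrix.SpecialLinearGroup (Fin 2) K => (g : Matrix (Fin 2) (Fin 2) K) 0 0) h
            simp only [coe_diaSL] at h0
            simp at h0
            linear_combination ((c : K) ^ 3 - 1) * h0 + ((c : K) ^ 2 - (c : K) ^ 4) * h3K
        rw [← pow_two, ← sub_eq_zero]
        exact eq_zero_of_pow_eq_zero hcube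
      rw [← map_one ψ]
      congr 1
      rw [dia_apply, ← map_one (Forms.KleinPSL.pi K), Forms.KleinPSL.pi_eq_iff]
      rcases mul_self_eq_one_iff.1 hc' with h' | h'
      · exact Or.inl (by rw [show c = 1 from Units.ext h', map_one])
      · refine Or.inr (Subtype.ext ?_)
        rw [Matrix.SpecialLinearGroup.coe_neg, Matrix.SpecialLinearGroup.coe_one, coe_diaSL]
        ext i k; fin_cases i <;> fin_cases k <;> simp [h']
  · intro M hM htM v hv hvt hvo hne
    obtain ⟨d, hdd, o, ho, hve⟩ := Sh.surj v (mem_centralizer_singleton_iff.2 hvt.eq)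
    obtain ⟨c, hc, f, hf, rfl⟩ := Other.mem_sup_cases hd.le hdd
    have hoM : o ∈ M := hM (mem_sup_right ho)
    have hcM : c ∈ M := (zpowers_le.2 htM) hc
    have hfM : f ∈ M := by
      have := mul_mem (mul_mem (inv_mem hcM) hv) (inv_mem hoM)
      rwa [hve, mul_assoc c f, inv_mul_cancel_left, mul_inv_cancel_right] at this
    obtain ⟨p, rfl⟩ := hEψ f hf
    refine hgen M (hBdM hM) p hfM fun hpB => ?_
    have hodd : Odd (orderOf (ψ p * o)) :=
      hBodd.of_dvd_nat (orderOf_dvd_natCard B (mul_mem (mem_sup_left hpB) (mem_sup_right ho)))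
    rcases Other.zpow_cases hd.ht hc with rfl | rfl
    · rw [one_mul] at hve
      rw [← hve, hvo] at hodd
      exact absurd hodd (by decide)
    · refine hne ?_
      have h2 : (ψ p * o) * (ψ p * o) = 1 := by
        have hcomm : Commute (ψ p * o) c := (hψt p).mul_left (Sh.O_commute_t ho)
        have h3 := mul_self_of_two hvo
        rwa [hve, mul_assoc c, hcomm.mul_mul_mul_comm, mul_self_of_two hd.ht, one_mul] at h3
      rw [hve, mul_assoc, Other.eq_one_of_odd_sq hodd h2, mul_one]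
  · intro M hM htM hE c hc hct hodd
    obtain ⟨d, hdd, o, ho, hce⟩ := Sh.surj c (mem_centralizer_singleton_iff.2 hct.eq)
    obtain ⟨i, hi, f, hf, rfl⟩ := Other.mem_sup_cases hd.le hdd
    have hoM : o ∈ M := hM (mem_sup_right ho)
    have hiM : i ∈ M := (zpowers_le.2 htM) hi
    have hfM : f ∈ M := by
      have := mul_mem (mul_mem (inv_mem hiM) hc) (inv_mem hoM)
      rwa [hce, mul_assoc i f, inv_mul_cancel_left, mul_inv_cancel_right] at this
    obtain ⟨p, rfl⟩ := hEψ f hf
    have hpB : ψ p ∈ Bd := by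
      by_contra h
      exact hE (hgen M (hBdM hM) p hfM h)
    have hBc : ψ p * o ∈ B := mul_mem (mem_sup_left hpB) (mem_sup_right ho)
    rcases Other.zpow_cases hd.ht hi with rfl | rfl
    · rwa [hce, one_mul]
    · exfalso
      have hcomm : Commute i (ψ p * o) := ((hψt p).mul_left (Sh.O_commute_t ho)).symm
      rw [hce, mul_assoc, hcomm.orderOf_mul_eq_mul_orderOf_of_coprime (by
        rw [hd.ht]; exact Nat.coprime_two_left.2 (hBodd.of_dvd_nat (orderOf_dvd_natCard B hBc))),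
        hd.ht] at hodd
      exact absurd hodd (Nat.not_odd_iff_even.2 (even_two_mul _))
  · intro P hP hPn y hy hyt
    have hyC : y ∈ centralizer ({t} : Set G) := mem_centralizer_singleton_iff.2 hyt.eq
    let P₀ : Subgroup ↥E₀ := P.subgroupOf E₀
    have hn : P₀.Normal := ⟨fun z hz g => (mem_normalizer_iff.1 (hPn g.2) z).1 hz⟩
    have hP0 : P₀ = ⊥ := by
      haveI : IsSimpleGroup ↥E₀ := Sh.φ.isSimpleGroup
      rcases hn.eq_bot_or_eq_top with h | h
      · exact h
      · exfalso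
        have hmem : ψ rot ∈ P := by
          have : (⟨ψ rot, hψE rot⟩ : ↥E₀) ∈ P₀ := h ▸ mem_top _
          exact this
        obtain ⟨k, hk⟩ := hP ⟨ψ rot, hmem⟩
        have hd' : orderOf (ψ rot) ∣ 3 ^ k := orderOf_dvd_of_pow_eq_one (congrArg Subtype.val hk)
        rw [orderOf_injective ψ hψ, orderOf_rot] at hd'
        exact absurd (Nat.prime_two.dvd_of_dvd_pow hd') (by norm_num)
    have hyE : y ∈ centralizer (E₀ : Set G) := mem_centralizer_iff.2 fun g hg => by
      have h1 : g * y * g⁻¹ * y⁻¹ ∈ P :=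
        mul_mem ((mem_normalizer_iff.1 (hPn hg) y).1 hy) (inv_mem hy)
      have h2 : g * y * g⁻¹ * y⁻¹ ∈ E₀ := by
        rw [show g * y * g⁻¹ * y⁻¹ = g * (y * g⁻¹ * y⁻¹) by group]
        exact mul_mem hg ((mem_normalizer_iff.1 (hd.normal hyC) _).1 (inv_mem hg))
      have h3 : (⟨_, h2⟩ : ↥E₀) ∈ P₀ := h1
      rw [hP0, mem_bot] at h3
      exact mul_inv_eq_iff_eq_mul.1 (mul_inv_eq_one.1 (congrArg Subtype.val h3))
    have hyz : y ∈ zpowers t := hd.faithful ▸ (⟨hyC, hyE⟩ : y ∈ centralizer ({t} : Set G) ⊓ centralizer (E₀ : Set G))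
    rcases Other.zpow_cases hd.ht hyz with h | h
    · exact h
    · exfalso
      obtain ⟨k, hk⟩ := hP ⟨y, hy⟩
      have hd' : orderOf y ∣ 3 ^ k := orderOf_dvd_of_pow_eq_one (congrArg Subtype.val hk)
      rw [h, hd.ht] at hd'
      exact absurd (Nat.prime_two.dvd_of_dvd_pow hd') (by norm_num)

end Cfsg.Agent.Walter.Field.ThreeCase
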