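import Cfsg.Agent.Lib.Walter.Field.ThreeFixed
import Cfsg.Agent.Lib.ShultFlavell.Pairs
import Cfsg.Agent.Lib.ShultFlavell.CaseI
import Cfsg.Agent.Lib.ShultFlavell.Prelim
import Cfsg.Agent.Lib.ShultFlavell.Coords
import Cfsg.Agent.Lib.ShultFlavell.Final
import Cfsg.Agent.Lib.ShultFlavell.Main
import Cfsg.Agent.Lib.PLocal.CyclicExtension
import Cfsg.Agent.Lib.Cores.Fitting
import Cfsg.Agent.S0205

/-!
# A fixed-point-free element of primitive prime order lies in the centre of the Fitting subgroup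

For the prime `l` by the axes, for the others by the theorem of Shult.
-/

set_option autoImplicit false
set_option linter.unusedSectionVars false
set_option linter.style.haveILetI false

open Subgroup

namespace Cfsg.Agent.Walter.Field.ThreeCase

universe u

variable {L : Type u} [Group L] [Finite L] {V : Type u} [CommGroup V] [Finite V] (ρ : L →* MulAut V)

/-- The action on an invariant subgroup. -/
def resHom (U : Subgroup V) (hU : ∀ g, ∀ x ∈ U, ρ g x ∈ U) : L →* MulAut ↥U where
  toFun g :=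
    { toFun := fun x => ⟨ρ g x, hU g x x.2⟩
      invFun := fun x => ⟨ρ g⁻¹ x, hU g⁻¹ x x.2⟩
      left_inv := fun x => Subtype.ext (rho_inv_apply ρ g x)
      right_inv := fun x => Subtype.ext (by
        show ρ g (ρ g⁻¹ (x : V)) = x
        simpa using rho_inv_apply ρ g⁻¹ (x : V))
      map_mul' := fun x y => Subtype.ext (map_mul (ρ g) (x : V) y) }
  map_one' := MulEquiv.ext fun x => Subtype.ext (by show ρ 1 (x : V) = x; simp)
  map_mul' g h := MulEquiv.ext fun x => Subtype.ext (by
    show ρ (g * h) (x : V) = ρ g (ρ h x)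
    rw [map_mul, MulAut.mul_apply])

variable {n l : ℕ} (P : Prim n l)
include P

/-- An `l`-group has every fixed-point-free element of order `l` in its centre. -/
theorem commute_of_lgroup (hρ : Function.Injective ρ) (hV : Nat.card V ≤ 3 ^ (2 * n)) (h3 : ∀ v : V, v ^ 3 = 1)
    (hL : IsPGroup l L) {τ : L} (hτ : τ ^ l = 1) (hfpf : ∀ v, ρ τ v = v → v = 1) (g : L) : Commute τ g := by
  induction hN : Nat.card V using Nat.strong_induction_on generalizing L V with
  | _ N ih =>
    subst hN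
    haveI : Fact l.Prime := ⟨P.prime⟩
    haveI : NeZero l := ⟨P.prime.ne_zero⟩
    haveI : Fact (1 < l) := ⟨P.prime.one_lt⟩
    have hl2 : l ≠ 2 := fun e => by have := P.odd; rw [e] at this; exact absurd this (by decide)
    by_contra hng
    have hncyc : ¬ IsCyclic ↥(⊤ : Subgroup L) := fun hc => by
      haveI := hc
      exact hng (congrArg Subtype.val (IsCyclic.commGroup.mul_comm (⟨τ, mem_top τ⟩ : ↥(⊤ : Subgroup L)) ⟨g, mem_top g⟩))
    obtain ⟨E, -, hEn, hEel, hEc⟩ := PLocal.CyclicExtension.exists_normal_elementaryAbelian_sq hl2 hL ⊤ hncyc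
    obtain ⟨hEcomm, hEexp⟩ := PLocal.ThompsonSubgroup.isElementaryAbelian_iff.1 hEel
    -- no common fixed point
    have hEinv : ∀ g, ∀ x ∈ fix ρ E, ρ g x ∈ fix ρ E := fun g x hx =>
      fix_conj ρ (fun b hb => by simpa using hEn.conj_mem b hb g⁻¹) hx
    obtain ⟨a, haE, ha1⟩ : ∃ a ∈ E, a ≠ 1 := by
      by_contra h
      push Not at h
      rw [(eq_bot_iff_forall E).2 h, card_bot] at hEc
      exact absurd hEc.symm (Nat.one_lt_pow two_ne_zero P.prime.one_lt).ne'
    obtain ⟨b, hbE, hba⟩ : ∃ b ∈ E, b ∉ zpowers a := by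
      by_contra h
      push Not at h
      have h1 := card_le_of_le (show E ≤ zpowers a from h)
      rw [hEc, Nat.card_zpowers] at h1
      have h2 := orderOf_le_of_pow_eq_one P.prime.pos (hEexp a haE)
      have h3 : l < l ^ 2 := by nlinarith [P.prime.two_le]
      omega
    have hnofix : fix ρ E = ⊥ := by
      by_contra hne
      obtain ⟨x, hx, hx1⟩ : ∃ x ∈ fix ρ E, x ≠ 1 := by
        by_contra h
        push Not at h
        exact hne ((eq_bot_iff_forall _).2 h)
      have hUn : 3 ^ n ≤ Nat.card ↥(fix ρ E) := pow_le_card ρ P h3 hτ (hEinv τ) fun hle =>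
        hx1 (hfpf x ((mem_fix_zpowers ρ).1 (hle hx)))
      -- a line with more fixed points
      obtain ⟨e, heE, he1, w, hw, hwE⟩ : ∃ e ∈ E, e ≠ 1 ∧ ∃ w ∈ fix ρ (zpowers e), w ∉ fix ρ E := by
        by_contra h
        push Not at h
        refine ha1 (hρ ?_)
        rw [map_one]
        refine MulEquiv.ext fun v => ?_
        have hb' : ∀ i : ZMod l, a ^ i.val * b ≠ 1 := fun i e => hba (by
          rw [eq_inv_of_mul_eq_one_right e]
          exact inv_mem (pow_mem (mem_zpowers a) _))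
        have hv : v ∈ fix ρ E := mem_of_pow_mem P h3 (pow_mem_of_two ρ P.prime (hEexp a haE) (hEexp b hbE)
          (hEcomm a haE b hbE) (hEinv b)
          (h a haE ha1 _ ((mem_fix_zpowers ρ).2 (avg_fixed ρ (hEexp a haE) v)))
          fun i => h _ (mul_mem (pow_mem haE _) hbE) (hb' i) _
            ((mem_fix_zpowers ρ).2 (avg_fixed ρ (hEexp _ (mul_mem (pow_mem haE _) hbE)) v)))
        exact hv a haE
      obtain ⟨f, hfE, hf⟩ : ∃ f ∈ E, ρ f w ≠ w := by
        by_contra h
        push Not at h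
        exact hwE h
      have hinv : ∀ y ∈ fix ρ (zpowers e), ρ f y ∈ fix ρ (zpowers e) := fun y hy =>
        (mem_fix_zpowers ρ).2 (by
          rw [← MulAut.mul_apply, ← map_mul, (hEcomm e heE f hfE : e * f = f * e), map_mul, MulAut.mul_apply,
            (mem_fix_zpowers ρ).1 hy])
      have h1 := card_fixed_le ρ P h3 (hEexp f hfE) hinv fun hle => hf ((mem_fix_zpowers ρ).1 (hle hw))
      have h2 : fix ρ E ≤ fix ρ (zpowers e) ⊓ fix ρ (zpowers f) :=
        le_inf (fix_anti ρ (zpowers_le.2 heE)) (fix_anti ρ (zpowers_le.2 hfE))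
      have h4 : fix ρ (zpowers e) = ⊤ := eq_top_of_le_card _ (hV.trans (le_trans (by
        rw [two_mul, pow_add]
        exact Nat.mul_le_mul le_rfl (hUn.trans (card_le_of_le h2))) h1))
      refine he1 (hρ ?_)
      rw [map_one]
      exact MulEquiv.ext fun v => (mem_fix_zpowers ρ).1 (h4.ge (mem_top v))
    have hE : Free ρ P E := ⟨hEexp, fun x hx y hy => hEcomm x hx y hy, hnofix, hV, h3⟩
    haveI : Nontrivial V := by
      by_contra hnt
      rw [not_nontrivial_iff_subsingleton] at hnt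
      exact ha1 (hρ (MulEquiv.ext fun v => Subsingleton.elim _ _))
    obtain ⟨B, hB⟩ := hE.exists_axis ρ inferInstance
    obtain ⟨B', hB', hne⟩ : ∃ B', Axis ρ E B' ∧ B' ≠ B := by
      by_contra h
      push Not at h
      have htop := hE.eq_top_of_one ρ hB h
      have hbot : ∀ c ∈ B, c = 1 := fun c hc => hρ (by
        rw [map_one]; exact MulEquiv.ext fun v => htop.ge (mem_top v) c hc)
      have haB : a ∉ B := fun h' => ha1 (hbot a h')
      have h1 : b ∈ B ⊔ zpowers a := hB.maxi a haE haB hbE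
      rw [(eq_bot_iff_forall B).2 hbot, bot_sup_eq] at h1
      exact hba h1
    -- both axes are invariant
    have hinv : ∀ {C : Subgroup L}, Axis ρ E C → ∀ g, ∀ x ∈ fix ρ C, ρ g x ∈ fix ρ C := by
      intro C hC g x hx
      refine fix_conj ρ (fun c hc => ?_) hx
      have hodd : Odd (orderOf g⁻¹) := by
        obtain ⟨k, hk⟩ := IsPGroup.iff_orderOf.1 hL g⁻¹
        rw [hk]; exact P.odd.pow
      have := hE.axis_conj ρ hC hodd (fun e he => ⟨hEn.conj_mem e he _, by simpa using hEn.conj_mem e he g⟩) c hc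
      simpa using this
    have hstep : ∀ {C C' : Subgroup L}, Axis ρ E C → Axis ρ E C' → C ≠ C' → ∀ x ∈ fix ρ C,
        ρ τ (ρ g x) = ρ g (ρ τ x) := by
      intro C C' hC hC' hCC x hx
      have hcard := (hE.decomp ρ hC hC' hCC).1
      have hlt : Nat.card ↥(fix ρ C) < Nat.card V := by
        refine lt_of_le_of_ne (card_le_card_group _) fun e => ?_
        have htop := eq_top_of_card_eq _ e
        have hmeet := hE.fix_meet ρ hC hC' hCC
        rw [htop, top_inf_eq] at hmeet
        exact hC'.fixed hmeet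
      set r := resHom ρ (fix ρ C) (hinv hC)
      haveI : Finite r.range := Finite.of_surjective r.rangeRestrict r.rangeRestrict_surjective
      have hcomm := ih _ hlt (L := ↥r.range) (V := ↥(fix ρ C)) r.range.subtype r.range.subtype_injective
        (by rw [hcard]; exact Nat.pow_le_pow_right (by norm_num) (by omega))
        (fun v => Subtype.ext (by simpa using h3 v)) (hL.of_surjective _ r.rangeRestrict_surjective)
        (τ := r.rangeRestrict τ) (by rw [← map_pow, hτ, map_one])
        (fun v hv => Subtype.ext (hfpf _ (congrArg Subtype.val hv))) (r.rangeRestrict g) rfl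
      have := congrArg (fun z : ↥r.range => ((z : MulAut ↥(fix ρ C)) ⟨x, hx⟩ : ↥(fix ρ C))) hcomm.eq
      exact congrArg Subtype.val this
    refine hng (hρ (MulEquiv.ext fun v => ?_))
    obtain ⟨x, hx, y, hy, rfl⟩ := (hE.decomp ρ hB hB' hne.symm).2 v
    rw [map_mul ρ τ g, map_mul ρ g τ, MulAut.mul_apply, MulAut.mul_apply, map_mul, map_mul, map_mul, map_mul,
      hstep hB hB' hne.symm x hx, hstep hB' hB hne y hy]

omit P in
theorem shult_noCtx : Cfsg.Agent.Lib.ShultFlavell.NoCtx.{u, 0, u} := by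
  intro K _ _ W _ _ _ _ Y _ _ σ a r p H _ h
  obtain ⟨E, hE⟩ := h.exists_IsE
  have hT := h.ti hE (h.ctr_not_central hE)
  have hS := h.swaps hE hT
  obtain ⟨-, m, -, hm⟩ := h.fermat
  obtain ⟨hN⟩ := h.norm_data hE hT hS (h.prelim hE hT hS) hm
  exact h.final hE hT hS hN hm

open Module (End) in
open scoped TensorProduct in
/-- For the other primes: the theorem of Shult. -/
theorem commute_of_other (hρ : Function.Injective ρ) (h3 : ∀ v : V, v ^ 3 = 1) {τ : L} (hτ : τ ^ l = 1)
    (hfpf : ∀ v, ρ τ v = v → v = 1) {s : ℕ} [Fact s.Prime] (hs2 : s ≠ 2) (hs3 : s ≠ 3) (hsl : s ≠ l)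
    {Q : Subgroup L} (hQ : IsPGroup s ↥Q) (hnorm : τ ∈ normalizer (Q : Set L)) {g : L} (hg : g ∈ Q) :
    Commute τ g := by
  classical
  haveI : Fact (Nat.Prime 3) := ⟨Nat.prime_three⟩
  letI : Module (ZMod 3) (Additive V) := AddCommGroup.zmodModule fun x => by
    show Additive.ofMul (Additive.toMul x ^ 3) = 0
    rw [h3]; rfl
  haveI : Finite (Additive V) := Finite.of_equiv V Additive.ofMul
  let ρ0 : L →* End (ZMod 3) (Additive V) :=
    { toFun := fun g => (MulEquiv.toAdditive (ρ g)).toAddMonoidHom.toZModLinearMap 3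
      map_one' := LinearMap.ext fun x => by simp
      map_mul' := fun g h => LinearMap.ext fun x => by simp }
  set Kb := AlgebraicClosure (ZMod 3)
  haveI : CharP Kb 3 := charP_of_injective_algebraMap (algebraMap (ZMod 3) Kb).injective 3
  let Bc : End (ZMod 3) (Additive V) →ₐ[ZMod 3] End Kb (Kb ⊗[ZMod 3] Additive V) :=
    Module.End.baseChangeHom (ZMod 3) Kb (Additive V)
  have hB : Function.Injective Bc := LinearMap.baseChangeHom_injective (ZMod 3) (Additive V) Kb
  let σ : L →* End Kb (Kb ⊗[ZMod 3] Additive V) := Bc.toMonoidHom.comp ρ0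
  have hf : Lib.ShultFlavell.Fpf σ τ l := by
    refine ⟨P.prime, hτ, fun w hw => ?_⟩
    have hinj0 : Function.Injective ⇑((ρ0 τ : End (ZMod 3) (Additive V)) - 1) := LinearMap.ker_eq_bot.mp
      ((LinearMap.ker_eq_bot').mpr fun v hv => congrArg Additive.ofMul
        (hfpf (Additive.toMul v) (congrArg Additive.toMul (sub_eq_zero.mp hv : ρ0 τ v = v))))
    have hinj1 : Function.Injective ⇑(Bc ((ρ0 τ : End (ZMod 3) (Additive V)) - 1)) := by
      show Function.Injective ⇑(((ρ0 τ : End (ZMod 3) (Additive V)) - 1).baseChange Kb)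
      rw [LinearMap.baseChange_eq_ltensor]
      exact Module.Flat.lTensor_preserves_injective_linearMap _ hinj0
    refine hinj1 ?_
    rw [map_zero, map_sub, map_one, LinearMap.sub_apply, Module.End.one_apply, sub_eq_zero]
    exact hw
  have hcop : ¬ l ∣ Nat.card ↥Q := fun h => by
    obtain ⟨k, hk⟩ := IsPGroup.iff_card.1 hQ
    rw [hk] at h
    exact hsl ((Nat.prime_dvd_prime_iff_eq P.prime Fact.out).1 (P.prime.dvd_of_dvd_pow h)).symm
  have hfaith : ∀ x ∈ Q, σ x = 1 → x = 1 := fun x _ hx => hρ (by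
    rw [map_one]
    refine MulEquiv.ext fun v => ?_
    have h0 : ρ0 x = 1 := hB (by rw [map_one]; exact hx)
    exact congrArg Additive.toMul (LinearMap.congr_fun h0 (Additive.ofMul v)))
  obtain ⟨N, hNT, -, hN3, hq⟩ := Lib.ShultFlavell.nice_upTo shult_noCtx l _ (Kb ⊗[ZMod 3] Additive V) L σ τ Q
    le_rfl hf hcop hfaith hnorm
  have hle : ⁅Q, zpowers τ⁆ ≤ Q :=
    Coprime.commutator_le_of_le_normalizer (Lib.ShultFlavell.zpowers_le_normalizer hnorm)
  have hord : ∀ y ∈ Q, ∀ r i : ℕ, r.Prime → r ≠ s → y ^ r ^ i = 1 → y = 1 := fun y hy r i hr hne e => by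
    obtain ⟨k, hk⟩ := IsPGroup.iff_orderOf.1 hQ ⟨y, hy⟩
    rw [orderOf_mk] at hk
    exact orderOf_eq_one_iff.1 (Nat.eq_one_of_dvd_coprimes
      (((Nat.coprime_primes hr Fact.out).2 hne).pow i k) (orderOf_dvd_of_pow_eq_one e) hk.dvd)
  have hbot : ⁅Q, zpowers τ⁆ = ⊥ := (eq_bot_iff_forall _).2 fun x hx => by
    obtain ⟨k, hk⟩ := hq x hx
    obtain ⟨i, hi⟩ := hN3 ⟨_, hk⟩
    exact hord x (hle hx) 2 k Nat.prime_two (Ne.symm hs2)
      (hord _ (pow_mem (hle hx) _) 3 i Nat.prime_three (Ne.symm hs3) (congrArg Subtype.val hi))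
  exact Lib.ShultFlavell.comm_of_zpowers_eq_bot hbot g hg

/-- The Fitting subgroup commutes with `τ`. -/
theorem fitting_commute (hodd : Odd (Nat.card L)) (hρ : Function.Injective ρ) (hV : Nat.card V ≤ 3 ^ (2 * n))
    (h3 : ∀ v : V, v ^ 3 = 1) (hO : Cfsg.pCore 3 L = ⊥) {τ : L} (hτ : τ ^ l = 1)
    (hfpf : ∀ v, ρ τ v = v → v = 1) : Cfsg.fittingSubgroup L ≤ centralizer ({τ} : Set L) := by
  rw [Agent.Cores.fittingSubgroup_eq_iSup]
  refine iSup_le fun p g hg => mem_centralizer_singleton_iff.2 ?_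
  have hp : (p : ℕ).Prime := Nat.prime_of_mem_primeFactors p.2
  haveI : Fact (p : ℕ).Prime := ⟨hp⟩
  by_cases hp3 : (p : ℕ) = 3
  · rw [hp3, hO, mem_bot] at hg
    rw [hg, one_mul, mul_one]
  have hp2 : (p : ℕ) ≠ 2 := fun e => by
    have h2 := Nat.dvd_of_mem_primeFactors p.2
    rw [e] at h2
    exact Nat.not_even_iff_odd.2 hodd (even_iff_two_dvd.2 h2)
  by_cases hpl : (p : ℕ) = l
  · -- inside the `l`-group `O_l(L)⟨τ⟩`
    haveI : Fact l.Prime := ⟨P.prime⟩
    set H := Cfsg.pCore l L ⊔ zpowers τ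
    have hH : IsPGroup l ↥H := by
      refine IsPGroup.to_sup_of_normal_left (Agent.Cores.pCore_isPGroup l) ?_
      rcases (Nat.dvd_prime P.prime).1 (orderOf_dvd_of_pow_eq_one hτ) with e | e
      · exact IsPGroup.of_card (n := 0) (by rw [Nat.card_zpowers, e, pow_zero])
      · exact IsPGroup.of_card (n := 1) (by rw [Nat.card_zpowers, e, pow_one])
    rw [hpl] at hg
    have := commute_of_lgroup (ρ.comp H.subtype) P (hρ.comp H.subtype_injective) hV h3 hH
      (τ := ⟨τ, mem_sup_right (mem_zpowers τ)⟩) (Subtype.ext (by simpa using hτ)) hfpf ⟨g, mem_sup_left hg⟩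
    exact (congrArg Subtype.val this.eq).symm
  · exact (commute_of_other ρ P hρ h3 hτ hfpf hp2 hp3 hpl (Agent.Cores.pCore_isPGroup _)
      (le_normalizer_of_normal (mem_top τ)) hg).eq.symm

end Cfsg.Agent.Walter.Field.ThreeCase
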