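import Mathlib

/-!
# Fixed subgroups of elements of primitive prime order on a module of order at most `3 ^ (2 n)`

For `E` elementary abelian of exponent `l` without common fixed point, at most two maximal subgroups
have fixed points, and an `l`-group containing a fixed-point-free element has it in its centre.
-/

set_option autoImplicit false
set_option linter.unusedSectionVars false
set_option linter.style.haveILetI false

open Subgroup

namespace Cfsg.Agent.Walter.Field.ThreeCase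

universe u v

/-- `l` is an odd prime other than three and `n` divides every `k` with `l ∣ 3 ^ k - 1`. -/
structure Prim (n l : ℕ) : Prop where
  prime : l.Prime
  ne_three : l ≠ 3
  odd : Odd l
  order : ∀ k, l ∣ 3 ^ k - 1 → n ∣ k

variable {L : Type u} [Group L] [Finite L] {V : Type v} [CommGroup V] [Finite V] (ρ : L →* MulAut V)

/-- The fixed points of a subgroup. -/
def fix (B : Subgroup L) : Subgroup V where
  carrier := {v | ∀ b ∈ B, ρ b v = v}
  one_mem' := fun b _ => map_one (ρ b)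
  mul_mem' := fun {x y} hx hy b hb => by rw [map_mul, hx b hb, hy b hb]
  inv_mem' := fun {x} hx b hb => by rw [map_inv, hx b hb]

theorem fix_anti {B C : Subgroup L} (h : B ≤ C) : fix ρ C ≤ fix ρ B := fun _ hv b hb => hv b (h hb)

theorem rho_inv_apply (g : L) (v : V) : ρ g⁻¹ (ρ g v) = v := by
  rw [← MulAut.mul_apply, ← map_mul, inv_mul_cancel, map_one, MulAut.one_apply]

theorem fix_conj {B B' : Subgroup L} {g : L} (hg : ∀ b ∈ B', g⁻¹ * b * g ∈ B) {v : V} (hv : v ∈ fix ρ B) :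
    ρ g v ∈ fix ρ B' := fun b hb => by
  have h1 : b * g = g * (g⁻¹ * b * g) := by group
  rw [← MulAut.mul_apply, ← map_mul, h1, map_mul, MulAut.mul_apply, hv _ (hg b hb)]

theorem mem_fix_zpowers {a : L} {v : V} : v ∈ fix ρ (zpowers a) ↔ ρ a v = v := by
  refine ⟨fun h => h a (mem_zpowers a), fun h b hb => ?_⟩
  rw [← mem_powers_iff_mem_zpowers] at hb
  obtain ⟨i, rfl⟩ := hb
  show ρ (a ^ i) v = v
  induction i with
  | zero => rw [pow_zero, map_one, MulAut.one_apply]
  | succ i ih => rw [pow_succ, map_mul, MulAut.mul_apply, h, ih]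

/-- The stabilizer of a vector. -/
def stab (v : V) : Subgroup L where
  carrier := {g | ρ g v = v}
  one_mem' := by simp
  mul_mem' := fun {g h} hg hh => by
    show ρ (g * h) v = v
    rw [map_mul, MulAut.mul_apply, show ρ h v = v from hh]
    exact hg
  inv_mem' := fun {g} hg => by
    show ρ g⁻¹ v = v
    conv_lhs => rw [← show ρ g v = v from hg]
    exact rho_inv_apply ρ g v

/-- The product over the powers. -/
noncomputable def avg (l : ℕ) [NeZero l] (a : L) (v : V) : V := ∏ m : ZMod l, ρ (a ^ m.val) v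

variable {n l : ℕ}

theorem pow_val_add [NeZero l] {a : L} (ha : a ^ l = 1) (i j : ZMod l) :
    a ^ (i + j).val = a ^ i.val * a ^ j.val := by
  rw [ZMod.val_add, ← pow_eq_pow_mod _ ha, pow_add]

theorem avg_fixed [NeZero l] [Fact (1 < l)] {a : L} (ha : a ^ l = 1) (v : V) : ρ a (avg ρ l a v) = avg ρ l a v := by
  rw [avg, map_prod]
  refine Fintype.prod_equiv (Equiv.addLeft (1 : ZMod l)) _ _ fun m => ?_
  rw [Equiv.coe_addLeft, pow_val_add ha, ZMod.val_one, pow_one, map_mul, MulAut.mul_apply]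

theorem avg_mem [NeZero l] {a : L} {v : V} {U : Subgroup V} (hU : ∀ x ∈ U, ρ a x ∈ U) (hv : v ∈ U) :
    avg ρ l a v ∈ U := by
  refine prod_mem fun m _ => ?_
  induction m.val with
  | zero => rwa [pow_zero, map_one, MulAut.one_apply]
  | succ i ih => rw [pow_succ', map_mul, MulAut.mul_apply]; exact hU _ ih

/-- Two commuting elements of order `l`: `v ^ l` is a product of values of the averages. -/
theorem pow_mem_of_two [NeZero l] (hl : l.Prime) {a b : L} (ha : a ^ l = 1) (hb : b ^ l = 1) (hab : Commute a b)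
    {D : Subgroup V} (hD : ∀ x ∈ D, ρ b x ∈ D) {v : V} (h0 : avg ρ l a v ∈ D)
    (h : ∀ i : ZMod l, avg ρ l (a ^ i.val * b) v ∈ D) : v ^ l ∈ D := by
  classical
  haveI : Fact l.Prime := ⟨hl⟩
  have hDpow : ∀ (k : ℕ), ∀ x ∈ D, ρ (b ^ k) x ∈ D := by
    intro k
    induction k with
    | zero => intro x hx; rwa [pow_zero, map_one, MulAut.one_apply]
    | succ k ih => intro x hx; rw [pow_succ', map_mul, MulAut.mul_apply]; exact hD _ (ih x hx)
  have e : ∀ i m : ZMod l, (a ^ i.val * b) ^ m.val = b ^ m.val * a ^ (i * m).val := by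
    intro i m
    rw [((hab.pow_left _).mul_pow _), ← pow_mul, ((hab.pow_left _).pow_right _).eq, ZMod.val_mul,
      ← pow_eq_pow_mod _ ha]
  have hsum : ∏ i : ZMod l, avg ρ l (a ^ i.val * b) v = v ^ l *
      ∏ m ∈ Finset.univ.erase (0 : ZMod l), ρ (b ^ m.val) (avg ρ l a v) := by
    simp only [avg, e]
    rw [Finset.prod_comm, ← Finset.mul_prod_erase Finset.univ _ (Finset.mem_univ (0 : ZMod l))]
    congr 1
    · simp
    · refine Finset.prod_congr rfl fun m hm => ?_
      rw [map_prod]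
      refine Fintype.prod_equiv (Equiv.mulRight₀ m (Finset.ne_of_mem_erase hm)) _ _ fun i => ?_
      rw [map_mul, MulAut.mul_apply]
      rfl
  have h1 : ∏ i : ZMod l, avg ρ l (a ^ i.val * b) v ∈ D := prod_mem fun i _ => h i
  rw [hsum] at h1
  exact (D.mul_mem_cancel_right (prod_mem fun m _ => hDpow _ _ h0)).1 h1

theorem mem_of_pow_mem (P : Prim n l) (hV : ∀ v : V, v ^ 3 = 1) {D : Subgroup V} {v : V} (h : v ^ l ∈ D) :
    v ∈ D := by
  obtain ⟨m, hm⟩ := exists_pow_eq_self_of_coprime (x := v) (n := l)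
    (Nat.Coprime.coprime_dvd_right (orderOf_dvd_of_pow_eq_one (hV v))
      ((Nat.coprime_primes P.prime Nat.prime_three).2 P.ne_three))
  rw [← hm]
  exact pow_mem h m

theorem card_eq_three_pow (hV : ∀ v : V, v ^ 3 = 1) (U : Subgroup V) : ∃ k, Nat.card ↥U = 3 ^ k := by
  haveI : Fact (Nat.Prime 3) := ⟨Nat.prime_three⟩
  have h : IsPGroup 3 ↥U := fun v => ⟨1, Subtype.ext (by simpa using hV v)⟩
  exact IsPGroup.iff_card.1 h

/-- An element of order `l` moving `U` makes it at least `3 ^ n` times its fixed part. -/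
theorem card_fixed_le (P : Prim n l) (hV : ∀ v : V, v ^ 3 = 1) {a : L} (ha : a ^ l = 1) {U : Subgroup V}
    (hU : ∀ x ∈ U, ρ a x ∈ U) (hne : ¬ U ≤ fix ρ (zpowers a)) :
    3 ^ n * Nat.card ↥(U ⊓ fix ρ (zpowers a)) ≤ Nat.card ↥U := by
  classical
  haveI : Fact l.Prime := ⟨P.prime⟩
  have hpow : ∀ g : ↥(zpowers a), ∀ x ∈ U, ρ (g : L) x ∈ U := by
    rintro ⟨g, hg⟩ x hx
    rw [← mem_powers_iff_mem_zpowers] at hg
    obtain ⟨i, rfl⟩ := hg
    show ρ (a ^ i) x ∈ U
    clear * - hU hx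
    induction i with
    | zero => rwa [pow_zero, map_one, MulAut.one_apply]
    | succ i ih => rw [pow_succ', map_mul, MulAut.mul_apply]; exact hU _ ih
  letI : MulAction ↥(zpowers a) ↥U :=
    { smul := fun g x => ⟨ρ (g : L) x, hpow g x x.2⟩
      one_smul := fun x => Subtype.ext (show ρ ((1 : ↥(zpowers a)) : L) (x : V) = x by
        rw [coe_one, map_one, MulAut.one_apply])
      mul_smul := fun g h x => Subtype.ext (show ρ ((g * h : ↥(zpowers a)) : L) (x : V) = ρ g (ρ h x) by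
        rw [coe_mul, map_mul, MulAut.mul_apply]) }
  have hA : IsPGroup l ↥(zpowers a) := fun g => ⟨1, Subtype.ext (by
    obtain ⟨i, hi⟩ := g.2
    have hi' : a ^ i = (g : L) := hi
    rw [pow_one, SubgroupClass.coe_pow, ← hi', ← zpow_natCast (a ^ i) l, ← zpow_mul, mul_comm, zpow_mul,
      zpow_natCast, ha, one_zpow, coe_one])⟩
  have hmod := hA.card_modEq_card_fixedPoints ↥U
  have hF : Nat.card (MulAction.fixedPoints ↥(zpowers a) ↥U) = Nat.card ↥(U ⊓ fix ρ (zpowers a)) := by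
    refine Nat.card_congr
      { toFun := fun x => ⟨((x : ↥U) : V), (x : ↥U).2, fun b hb =>
          congrArg Subtype.val (x.2 ⟨b, hb⟩)⟩
        invFun := fun x => ⟨⟨x, x.2.1⟩, fun g => Subtype.ext (x.2.2 g g.2)⟩
        left_inv := fun x => rfl
        right_inv := fun x => rfl }
  rw [hF] at hmod
  obtain ⟨k, hk⟩ := card_eq_three_pow hV U
  obtain ⟨d, hd⟩ := card_eq_three_pow hV (U ⊓ fix ρ (zpowers a))
  have hdk : d < k := by
    have hlt : Nat.card ↥(U ⊓ fix ρ (zpowers a)) < Nat.card ↥U := by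
      refine lt_of_le_of_ne (card_le_of_le inf_le_left) fun e => hne ?_
      exact (eq_of_le_of_card_ge inf_le_left e.ge).ge.trans inf_le_right
    rw [hk, hd] at hlt
    exact (Nat.pow_lt_pow_iff_right (by norm_num)).1 hlt
  have hdvd : l ∣ 3 ^ (k - d) - 1 := by
    rw [hk, hd] at hmod
    have h1 : l ∣ 3 ^ k - 3 ^ d := (Nat.modEq_iff_dvd' (Nat.pow_le_pow_right (by norm_num) hdk.le)).1 hmod.symm
    rw [show 3 ^ k - 3 ^ d = 3 ^ d * (3 ^ (k - d) - 1) by
      rw [Nat.mul_sub, mul_one, ← pow_add, Nat.add_sub_cancel' hdk.le]] at h1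
    exact (Nat.Coprime.dvd_of_dvd_mul_left
      (((Nat.coprime_primes P.prime Nat.prime_three).2 P.ne_three).pow_right d) h1)
  have hn : n ≤ k - d := Nat.le_of_dvd (by omega) (P.order _ hdvd)
  rw [hk, hd, ← pow_add]
  exact Nat.pow_le_pow_right (by norm_num) (by omega)

theorem pow_le_card (P : Prim n l) (hV : ∀ v : V, v ^ 3 = 1) {a : L} (ha : a ^ l = 1) {U : Subgroup V}
    (hU : ∀ x ∈ U, ρ a x ∈ U) (hne : ¬ U ≤ fix ρ (zpowers a)) : 3 ^ n ≤ Nat.card ↥U :=
  le_trans (Nat.le_mul_of_pos_right _ Nat.card_pos) (card_fixed_le ρ P hV ha hU hne)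

/-- An elementary abelian `l`-subgroup without common fixed point. -/
structure Free (P : Prim n l) (E : Subgroup L) : Prop where
  exp : ∀ e ∈ E, e ^ l = 1
  comm : ∀ a ∈ E, ∀ b ∈ E, Commute a b
  nofix : fix ρ E = ⊥
  size : Nat.card V ≤ 3 ^ (2 * n)
  cube : ∀ v : V, v ^ 3 = 1

/-- A maximal subgroup of `E` with fixed points. -/
structure Axis (E B : Subgroup L) : Prop where
  le : B ≤ E
  maxi : ∀ a ∈ E, a ∉ B → E ≤ B ⊔ zpowers a
  fixed : fix ρ B ≠ ⊥

variable {P : Prim n l} {E : Subgroup L} (hE : Free ρ P E)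
include hE

theorem Free.axis_ne {B : Subgroup L} (hB : Axis ρ E B) : ∃ a ∈ E, a ∉ B := by
  by_contra h
  push Not at h
  exact hB.fixed (le_bot_iff.1 (hE.nofix ▸ fix_anti ρ h))

theorem Free.invariant {B : Subgroup L} (hB : B ≤ E) {a : L} (ha : a ∈ E) {x : V} (hx : x ∈ fix ρ B) :
    ρ a x ∈ fix ρ B :=
  fix_conj ρ (fun b hb => by rwa [mul_assoc, (hE.comm b (hB hb) a ha).eq, inv_mul_cancel_left]) hx

theorem Free.fix_meet {B B' : Subgroup L} (hB : Axis ρ E B) (hB' : Axis ρ E B') (hne : B ≠ B') :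
    fix ρ B ⊓ fix ρ B' = ⊥ := by
  have key : ∀ {C C' : Subgroup L}, Axis ρ E C → Axis ρ E C' → ∀ a ∈ C', a ∉ C → fix ρ C ⊓ fix ρ C' = ⊥ := by
    intro C C' hC hC' a haC' haC
    refine le_bot_iff.1 (le_trans (fun v hv => ?_) hE.nofix.le)
    have hle : E ≤ C ⊔ C' := (hC.maxi a (hC'.le haC') haC).trans (sup_le_sup_left (zpowers_le.2 haC') _)
    intro b hb
    have hS : C ⊔ C' ≤ stab ρ v :=
      sup_le (fun g hg => hv.1 g hg) fun g hg => hv.2 g hg
    exact hS (hle hb)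
  by_cases h : B' ≤ B
  · obtain ⟨a, haB, haB'⟩ := SetLike.exists_of_lt (lt_of_le_of_ne h hne.symm)
    rw [inf_comm]
    exact key hB' hB a haB haB'
  · obtain ⟨a, haB', haB⟩ := SetLike.not_le_iff_exists.1 h
    exact key hB hB' a haB' haB

theorem Free.pow_le_fix {B : Subgroup L} (hB : Axis ρ E B) : 3 ^ n ≤ Nat.card ↥(fix ρ B) := by
  obtain ⟨a, haE, haB⟩ := hE.axis_ne ρ hB
  refine pow_le_card ρ P hE.cube (hE.exp a haE) (fun x hx => hE.invariant ρ hB.le haE hx) fun hle => hB.fixed ?_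
  refine le_bot_iff.1 (le_trans ?_ hE.nofix.le)
  intro v hv b hb
  have hS : E ≤ stab ρ v :=
    (hB.maxi a haE haB).trans (sup_le (fun g hg => hv g hg) (fun g hg => hle hv g hg))
  exact hS hb

/-- Two axes give a decomposition into subgroups of order `3 ^ n`. -/
theorem Free.decomp {B B' : Subgroup L} (hB : Axis ρ E B) (hB' : Axis ρ E B') (hne : B ≠ B') :
    Nat.card ↥(fix ρ B) = 3 ^ n ∧ ∀ v : V, ∃ x ∈ fix ρ B, ∃ y ∈ fix ρ B', x * y = v := by
  have h1 := hE.pow_le_fix ρ hB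
  have h2 := hE.pow_le_fix ρ hB'
  have hinj : Function.Injective (fun p : ↥(fix ρ B) × ↥(fix ρ B') => (p.1 : V) * p.2) := by
    intro p q e
    have e' : (q.1 : V)⁻¹ * p.1 = q.2 * (p.2 : V)⁻¹ := by
      rw [inv_mul_eq_iff_eq_mul, ← mul_assoc, ← show (p.1 : V) * p.2 = q.1 * q.2 from e, mul_inv_cancel_right]
    have h0 : (q.1 : V)⁻¹ * p.1 ∈ fix ρ B ⊓ fix ρ B' :=
      ⟨Subgroup.mul_mem _ (Subgroup.inv_mem _ q.1.2) p.1.2,
        e' ▸ Subgroup.mul_mem _ q.2.2 (Subgroup.inv_mem _ p.2.2)⟩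
    rw [hE.fix_meet ρ hB hB' hne, mem_bot, inv_mul_eq_one] at h0
    refine Prod.ext (Subtype.ext h0.symm) (Subtype.ext ?_)
    have := show (p.1 : V) * p.2 = q.1 * q.2 from e
    rw [← h0] at this
    exact (mul_left_cancel this)
  have hle := Nat.card_le_card_of_injective _ hinj
  rw [Nat.card_prod] at hle
  have hc := le_trans hle hE.size
  rw [two_mul, pow_add] at hc
  have hmul : 3 ^ n * 3 ^ n ≤ Nat.card ↥(fix ρ B) * Nat.card ↥(fix ρ B') := Nat.mul_le_mul h1 h2
  refine ⟨le_antisymm ?_ h1, fun v => ?_⟩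
  · exact Nat.le_of_mul_le_mul_right ((Nat.mul_le_mul_left _ h2).trans hc) (by positivity)
  · have hsurj := hinj.bijective_of_nat_card_le (by
      rw [Nat.card_prod]; exact hE.size.trans (by rw [two_mul, pow_add]; exact hmul))
    obtain ⟨p, hp⟩ := hsurj.2 v
    exact ⟨_, p.1.2, _, p.2.2, hp⟩

/-- At most two axes. -/
theorem Free.third {B₁ B₂ B₃ : Subgroup L} (h₁ : Axis ρ E B₁) (h₂ : Axis ρ E B₂) (h₃ : Axis ρ E B₃)
    (hne : B₁ ≠ B₂) : B₃ = B₁ ∨ B₃ = B₂ := by
  by_contra hc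
  push Not at hc
  obtain ⟨v, hv, hv1⟩ : ∃ v ∈ fix ρ B₃, v ≠ 1 := by
    by_contra hh
    push Not at hh
    exact h₃.fixed ((eq_bot_iff_forall _).2 hh)
  obtain ⟨x, hx, y, hy, rfl⟩ := (hE.decomp ρ h₁ h₂ hne).2 v
  have hkey : ∀ b ∈ B₃, ρ b x = x ∧ ρ b y = y := by
    intro b hb
    have e : ρ b x * ρ b y = x * y := by rw [← map_mul]; exact hv b hb
    have hbx : ρ b x ∈ fix ρ B₁ := hE.invariant ρ h₁.le (h₃.le hb) hx
    have hby : ρ b y ∈ fix ρ B₂ := hE.invariant ρ h₂.le (h₃.le hb) hy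
    have h0 : x⁻¹ * ρ b x ∈ fix ρ B₁ ⊓ fix ρ B₂ := by
      refine ⟨Subgroup.mul_mem _ (Subgroup.inv_mem _ hx) hbx, ?_⟩
      rw [show x⁻¹ * ρ b x = y * (ρ b y)⁻¹ by
        rw [inv_mul_eq_iff_eq_mul, ← mul_assoc, ← e, mul_inv_cancel_right]]
      exact Subgroup.mul_mem _ hy (Subgroup.inv_mem _ hby)
    rw [hE.fix_meet ρ h₁ h₂ hne, mem_bot, inv_mul_eq_one] at h0
    refine ⟨h0.symm, ?_⟩
    rw [← h0] at e
    exact mul_left_cancel e
  have hx1 : x = 1 := mem_bot.1 ((hE.fix_meet ρ h₁ h₃ (Ne.symm hc.1)).le ⟨hx, fun b hb => (hkey b hb).1⟩)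
  have hy1 : y = 1 := mem_bot.1 ((hE.fix_meet ρ h₂ h₃ (Ne.symm hc.2)).le ⟨hy, fun b hb => (hkey b hb).2⟩)
  exact hv1 (by rw [hx1, hy1, one_mul])

/-- A group permuting `E` fixes each axis if it has odd order. -/
theorem Free.axis_conj {B : Subgroup L} (hB : Axis ρ E B) {g : L} (hg : Odd (orderOf g))
    (hgE : ∀ e ∈ E, g * e * g⁻¹ ∈ E ∧ g⁻¹ * e * g ∈ E) : ∀ b ∈ B, g * b * g⁻¹ ∈ B := by
  let c : L →* L := (MulAut.conj g).toMonoidHom
  have hax : ∀ {C : Subgroup L}, Axis ρ E C → Axis ρ E (C.map c) := by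
    intro C hC
    refine ⟨?_, fun a ha haC => ?_, fun e => hC.fixed ?_⟩
    · rintro _ ⟨b, hb, rfl⟩
      exact (hgE b (hC.le hb)).1
    · have ha' : g⁻¹ * a * g ∈ E := (hgE a ha).2
      have hnot : g⁻¹ * a * g ∉ C := fun h => haC ⟨_, h, by show g * (g⁻¹ * a * g) * g⁻¹ = a; group⟩
      intro e he
      have hle := hC.maxi _ ha' hnot (hgE e he).2
      have h2 : c (g⁻¹ * e * g) ∈ (C ⊔ zpowers (g⁻¹ * a * g)).map c := mem_map_of_mem c hle
      rw [Subgroup.map_sup, MonoidHom.map_zpowers, show c (g⁻¹ * a * g) = a by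
        show g * (g⁻¹ * a * g) * g⁻¹ = a; group, show c (g⁻¹ * e * g) = e by
        show g * (g⁻¹ * e * g) * g⁻¹ = e; group] at h2
      exact h2
    · refine (eq_bot_iff_forall _).2 fun v hv => ?_
      have h2 : ρ g v ∈ fix ρ (C.map c) := fix_conj ρ (B := C) (fun b hb => by
        obtain ⟨b', hb', rfl⟩ := hb
        show g⁻¹ * (g * b' * g⁻¹) * g ∈ C
        rwa [show g⁻¹ * (g * b' * g⁻¹) * g = b' by group]) hv
      rw [e, mem_bot] at h2
      exact (MulEquiv.map_eq_one_iff (ρ g)).1 h2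
  suffices hfix : B.map c = B from fun b hb => hfix.le ⟨b, hb, rfl⟩
  by_contra hne
  have h2 : (B.map c).map c = B :=
    (hE.third ρ hB (hax hB) (hax (hax hB)) (Ne.symm hne)).resolve_right fun e => hne
      (map_injective (f := c) (MulAut.conj g).injective e)
  -- `g` is a power of `g ^ 2`
  obtain ⟨k, hk⟩ := hg
  have hsq : ∀ i : ℕ, B.map (MulAut.conj (g ^ (2 * i))).toMonoidHom = B := by
    intro i
    induction i with
    | zero =>
      rw [mul_zero, pow_zero, show (MulAut.conj (1 : L)).toMonoidHom = MonoidHom.id L from MonoidHom.ext fun x =>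
        show (1 : L) * x * 1⁻¹ = x by group]
      exact map_id B
    | succ i ih =>
      conv_rhs => rw [← h2, ← ih]
      rw [map_map, map_map]
      congr 1
      refine MonoidHom.ext fun x => ?_
      show g ^ (2 * (i + 1)) * x * (g ^ (2 * (i + 1)))⁻¹ = g * (g * (g ^ (2 * i) * x * (g ^ (2 * i))⁻¹) * g⁻¹) * g⁻¹
      rw [show 2 * (i + 1) = 2 * i + 1 + 1 by ring, pow_succ', pow_succ']
      group
  apply hne
  have := hsq (k + 1)
  rwa [show 2 * (k + 1) = orderOf g + 1 by omega, pow_succ, pow_orderOf_eq_one, one_mul] at this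

/-- There is an axis avoiding a fixed-point-free element, of index `l`. -/
theorem Free.exists_axis (hV : Nontrivial V) : ∃ B, Axis ρ E B := by
  classical
  haveI : Fact l.Prime := ⟨P.prime⟩
  haveI : NeZero l := ⟨P.prime.ne_zero⟩
  haveI : Fact (1 < l) := ⟨P.prime.one_lt⟩
  obtain ⟨B, ⟨hBE, hB⟩, hmax⟩ := Set.Finite.exists_maximal
    (Set.toFinite {B : Subgroup L | B ≤ E ∧ fix ρ B ≠ ⊥}) ⟨⊥, bot_le, fun e => by
      obtain ⟨v, hv⟩ := exists_ne (1 : V)
      exact hv (mem_bot.1 (e.le (show v ∈ fix ρ ⊥ from fun b hb => by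
        rw [mem_bot.1 hb, map_one, MulAut.one_apply])))⟩
  refine ⟨B, hBE, fun a haE haB b hbE => ?_, hB⟩
  by_contra hb
  obtain ⟨v, hv, hv1⟩ : ∃ v ∈ fix ρ B, v ≠ 1 := by
    by_contra hh
    push Not at hh
    exact hB ((eq_bot_iff_forall _).2 hh)
  -- otherwise a proper overgroup of `B` in `E` has fixed points
  have hout : ∀ e ∈ E, e ∉ B → avg ρ l e v = 1 := fun e he heB => by
    by_contra hne
    have hW : avg ρ l e v ∈ fix ρ (B ⊔ zpowers e) := by
      have hmem : avg ρ l e v ∈ fix ρ B := avg_mem ρ (fun x hx => hE.invariant ρ hBE he hx) hv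
      intro g hg
      have hS : B ⊔ zpowers e ≤ stab ρ (avg ρ l e v) :=
        sup_le (fun g hg => hmem g hg) (zpowers_le.2 (avg_fixed ρ (hE.exp e he) v))
      exact hS hg
    have hBne : B < B ⊔ zpowers e :=
      lt_of_le_of_ne le_sup_left fun h => heB (h ▸ mem_sup_right (mem_zpowers e))
    exact hBne.not_ge (hmax ⟨sup_le hBE (zpowers_le.2 he), fun h => hne (mem_bot.1 (h.le hW))⟩ hBne.le)
  refine hv1 (mem_bot.1 (mem_of_pow_mem P hE.cube (pow_mem_of_two ρ P.prime (hE.exp a haE) (hE.exp b hbE)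
    (hE.comm a haE b hbE) (D := ⊥) (fun x hx => by rw [mem_bot.1 hx, map_one]; exact one_mem _)
    (by rw [hout a haE haB]; exact one_mem _) fun i => ?_)))
  rw [hout _ (mul_mem (pow_mem haE _) hbE) fun h => hb ?_]
  · exact one_mem _
  · have h2 : (a ^ i.val)⁻¹ * (a ^ i.val * b) ∈ B ⊔ zpowers a :=
      mul_mem (inv_mem (mem_sup_right (pow_mem (mem_zpowers a) _))) (mem_sup_left h)
    rwa [inv_mul_cancel_left] at h2

/-- If there is only one axis it fixes everything. -/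
theorem Free.eq_top_of_one {B : Subgroup L} (hB : Axis ρ E B)
    (huniq : ∀ B', Axis ρ E B' → B' = B) : fix ρ B = ⊤ := by
  classical
  haveI : Fact l.Prime := ⟨P.prime⟩
  haveI : NeZero l := ⟨P.prime.ne_zero⟩
  haveI : Fact (1 < l) := ⟨P.prime.one_lt⟩
  refine eq_top_iff.2 fun v _ => ?_
  by_contra hv
  -- enlarge `⊥` one generator at a time
  obtain ⟨C, ⟨hCE, w, hw, hwB⟩, hmax⟩ := Set.Finite.exists_maximal
    (Set.toFinite {C : Subgroup L | C ≤ E ∧ ∃ w ∈ fix ρ C, w ∉ fix ρ B})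
    ⟨⊥, bot_le, v, fun b hb => by rw [mem_bot.1 hb, map_one, MulAut.one_apply], hv⟩
  have hCax : Axis ρ E C := by
    refine ⟨hCE, fun a haE haC b hbE => ?_, fun e => hwB ?_⟩
    · by_contra hb
      have hout : ∀ e ∈ E, e ∉ C → avg ρ l e w ∈ fix ρ B := fun e he heC => by
        by_contra hne
        have hW : avg ρ l e w ∈ fix ρ (C ⊔ zpowers e) := by
          have hmem : avg ρ l e w ∈ fix ρ C := avg_mem ρ (fun x hx => hE.invariant ρ hCE he hx) hw
          intro g hg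
          have hS : C ⊔ zpowers e ≤ stab ρ (avg ρ l e w) :=
            sup_le (fun g hg => hmem g hg) (zpowers_le.2 (avg_fixed ρ (hE.exp e he) w))
          exact hS hg
        have hCne : C < C ⊔ zpowers e :=
          lt_of_le_of_ne le_sup_left fun h => heC (h ▸ mem_sup_right (mem_zpowers e))
        exact hCne.not_ge (hmax ⟨sup_le hCE (zpowers_le.2 he), _, hW, hne⟩ hCne.le)
      refine hwB (mem_of_pow_mem P hE.cube (pow_mem_of_two ρ P.prime (hE.exp a haE) (hE.exp b hbE)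
        (hE.comm a haE b hbE) (D := fix ρ B) (fun x hx => hE.invariant ρ hB.le hbE hx) (hout a haE haC)
        fun i => hout _ (mul_mem (pow_mem haE _) hbE) fun h => hb ?_))
      have h2 : (a ^ i.val)⁻¹ * (a ^ i.val * b) ∈ C ⊔ zpowers a :=
        mul_mem (inv_mem (mem_sup_right (pow_mem (mem_zpowers a) _))) (mem_sup_left h)
      rwa [inv_mul_cancel_left] at h2
    · rw [mem_bot.1 (e.le hw)]; exact one_mem _
  exact hwB (huniq C hCax ▸ hw)

end Cfsg.Agent.Walter.Field.ThreeCase
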