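import Cfsg.Agent.Lib.Walter.Field.Ree
import Cfsg.Agent.Lib.Walter.Field.TorusScalar
import Cfsg.Agent.Lib.JT.LocalSmall

/-!
# The scalar on the tori of order dividing `q² - q + 1`

In a simple group of Ree order every prime outside `C(t)` has the scalar `q²`
(`notes/walter-fieldpart-h17.md`, section 4).
-/

set_option autoImplicit false
set_option linter.unusedSectionVars false
set_option linter.style.haveILetI false

namespace Cfsg.Agent.Walter.Field

open Subgroup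

universe u v

variable {G : Type u} [Group G] [Finite G] {X : Type v} [Group X] [Finite X]
variable {t : G} {φ : X →* G} {n : ℕ} {U H : Subgroup X} {w : X}

namespace ReeData

variable (D : ReeData t φ n U H w)
include D

/-- Elements of order three in an odd subgroup acting freely on an abelian `r`-group commute. -/
theorem commute_three {r : ℕ} [Fact r.Prime] (hrX : ¬ r ∣ Nat.card X) {A : Subgroup G}
    (hA : ∀ a ∈ A, ∀ b ∈ A, a * b = b * a) (hAr : IsPGroup r ↥A) {v : G} (hv : v ∈ A) (hv1 : v ≠ 1)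
    {L : Subgroup X} (hLA : L.map φ ≤ normalizer (A : Set G)) (hLodd : Odd (Nat.card L))
    (hfree : ∀ x ∈ L, x ≠ 1 → ∀ a ∈ A, φ x * a * (φ x)⁻¹ = a → a = 1)
    {x y : X} (hx : x ∈ L) (hy : y ∈ L) (hx3 : x ^ 3 = 1) (hy3 : y ^ 3 = 1) : Commute x y := by
  classical
  by_cases hx1 : x = 1
  · rw [hx1]; exact Commute.one_left y
  -- a nontrivial abelian normal subgroup of `L`
  haveI := S0205.result hLodd
  obtain ⟨d, hd⟩ := (Group.isSolvable_def (G := L)).1 inferInstance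
  have hL1 : derivedSeries L 0 ≠ ⊥ := by
    rw [derivedSeries_zero]
    intro e
    have h : (⟨x, hx⟩ : L) ∈ (⊤ : Subgroup L) := mem_top _
    rw [e, mem_bot] at h
    exact hx1 (congrArg Subtype.val h)
  obtain ⟨i, hi, hi1⟩ : ∃ i, derivedSeries L i ≠ ⊥ ∧ derivedSeries L (i + 1) = ⊥ := by
    have h0 := Nat.find_spec (p := fun i => derivedSeries L i = ⊥) ⟨d, hd⟩
    obtain ⟨i, hi⟩ := Nat.exists_eq_succ_of_ne_zero
      (fun e => hL1 (e ▸ h0) : Nat.find (p := fun i => derivedSeries L i = ⊥) ⟨d, hd⟩ ≠ 0)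
    exact ⟨i, Nat.find_min (p := fun i => derivedSeries L i = ⊥) ⟨d, hd⟩ (by omega), by rw [hi] at h0; exact h0⟩
  set Q := (derivedSeries L i).map L.subtype with hQdef
  have hQL : Q ≤ L := map_subtype_le _
  have hQab : ∀ a ∈ Q, ∀ b ∈ Q, a * b = b * a := by
    rintro _ ⟨a, ha, rfl⟩ _ ⟨b, hb, rfl⟩
    rw [derivedSeries_succ, eq_bot_iff] at hi1
    have h := commutatorElement_eq_one_iff_commute.1 (mem_bot.1 (hi1 (commutator_mem_commutator ha hb)))
    exact congrArg Subtype.val h.eq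
  have hQ1 : Q ≠ ⊥ := fun e => hi ((map_eq_bot_iff_of_injective _ L.subtype_injective).1 e)
  have hQn : ∀ g ∈ L, ∀ q ∈ Q, g * q * g⁻¹ ∈ Q := by
    rintro g hg _ ⟨q, hq, rfl⟩
    exact ⟨⟨g, hg⟩ * q * ⟨g, hg⟩⁻¹, (inferInstance : (derivedSeries L i).Normal).conj_mem q hq _, rfl⟩
  -- `x` centralises a nontrivial element of it
  obtain ⟨z, hz, hzx, hz1⟩ : ∃ z ∈ Q, Commute z x ∧ z ≠ 1 := by
    by_contra hno
    push Not at hno
    refine no_frobenius (r := r) hA hv hv1 (Q := Q.map φ) ?_ ((map_mono hQL).trans hLA)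
      (fun e => hQ1 ((map_eq_bot_iff_of_injective _ D.emb.inj).1 e)) ?_ (k := φ x)
      (by rw [← map_pow, hx3, map_one]) (fun e => hx1 (D.emb.inj (by rw [e, map_one])))
      (hLA (mem_map_of_mem φ hx)) ?_ ?_ ?_
    · rintro _ ⟨a, ha, rfl⟩ _ ⟨b, hb, rfl⟩
      rw [← map_mul, ← map_mul, hQab a ha b hb]
    · rw [card_map_of_injective D.emb.inj]
      obtain ⟨k, hk⟩ := hAr.exists_card_eq
      rw [hk]
      exact (((Fact.out : r.Prime).coprime_iff_not_dvd.2 fun h => hrX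
        (h.trans (card_subgroup_dvd_card Q))).symm).pow_right k
    · refine EqualOrderConj.mem_normalizer_of_conj_mem ?_
      rintro _ ⟨q, hq, rfl⟩
      exact ⟨x * q * x⁻¹, hQn x hx q hq, by simp⟩
    · rintro _ ⟨q, hq, rfl⟩ hc
      rw [hno q hq (D.emb.inj (by rw [map_mul, map_mul]; exact hc.eq)), map_one]
    · intro g hg hg1
      rw [← MonoidHom.map_zpowers, ← Subgroup.map_sup] at hg
      obtain ⟨g', hg', rfl⟩ := hg
      exact hfree g' (sup_le hQL (zpowers_le.2 hx) hg') (fun e => hg1 (by rw [e, map_one]))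
  -- so a conjugate of `L` normalises `U`
  obtain ⟨c, hc⟩ := D.three_conj hx3
  let f : X →* X := (MulAut.conj c).toMonoidHom
  have hf : Function.Injective f := (MulAut.conj c).injective
  have hne : ∀ {g : X}, g ≠ 1 → f g ≠ 1 := fun h e => h (hf (by rw [e, map_one]))
  have hzU : f z ∈ U := D.split.U_cent _ hc (hne hx1) _ (hzx.map f)
  have hQU : ∀ q ∈ Q, f q ∈ U := fun q hq =>
    D.split.U_cent _ hzU (hne hz1) _ ((show Commute q z from hQab q hq z hz).map f)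
  have hLN : ∀ g ∈ L, f g ∈ normalizer (U : Set X) := fun g hg =>
    D.split.U_ti _ hzU (hne hz1) _ (by
      rw [← map_inv, ← map_mul, ← map_mul]; exact hQU _ (hQn g hg z hz))
  have h1 := D.split.three_mem _ (hLN y hy) (by rw [← map_pow, hy3, map_one])
  exact hf (by
    rw [map_mul, map_mul]
    exact D.split.U_comm _ hc _ h1)

/-- The scalar. -/
theorem scalar {r : ℕ} [Fact r.Prime] (hr2 : r ≠ 2) (hrX : ¬ r ∣ Nat.card X)
    (hrC : ¬ r ∣ Nat.card (centralizer ({t} : Set G))) (hfree : Free G t r) {j : ℕ}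
    (hj1 : ¬ j ≡ 1 [MOD r]) (hpoly : ∀ a : G, IsPGroup r ↥(zpowers a) → a ^ (j ^ 2 + j + 1) = 1)
    (hconj : ∀ a : G, IsPGroup r ↥(zpowers a) → IsConj a (a ^ j))
    {P : Subgroup G} (hP : IsPGroup r ↥P) (hinv : ∀ b ∈ P, t * b * t⁻¹ = b⁻¹) {k : G}
    (hkt : Commute k t) (hko : Odd (orderOf k)) (hkP : k ∈ normalizer (P : Set G))
    {a : G} (ha : a ∈ P) (ha1 : a ≠ 1) (hka : k * a * k⁻¹ = a ^ j) :
    ∀ b ∈ P, k * b * k⁻¹ = b ^ j := by
  classical
  have hrp : r.Prime := Fact.out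
  have hel : ∀ b ∈ P, IsPGroup r ↥(zpowers b) := fun b hb => hP.to_le (zpowers_le.2 hb)
  have hPab : ∀ a ∈ P, ∀ b ∈ P, a * b = b * a := by
    intro a ha b hb
    have h1 := hinv _ (mul_mem ha hb)
    rw [← conj_mul, hinv a ha, hinv b hb, ← mul_inv_rev, inv_inj] at h1
    exact h1.symm
  have hj3 : ∀ b : G, IsPGroup r ↥(zpowers b) → b ^ (j ^ 3) = b := fun b hb => by
    have h := hpoly b hb
    calc b ^ (j ^ 3) = b ^ (j ^ 3) * b ^ (j ^ 2 + j + 1) := by rw [h, mul_one]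
      _ = b ^ ((j ^ 2 + j + 1) * j) * b := by
          rw [← pow_add, ← pow_succ]; congr 1; ring
      _ = b := by rw [pow_mul, h, one_pow, one_mul]
  have hiter : ∀ {g b : G}, g * b * g⁻¹ = b ^ j → g ^ 3 * b * (g ^ 3)⁻¹ = b ^ (j ^ 3) := by
    intro g b h
    calc g ^ 3 * b * (g ^ 3)⁻¹ = g * (g * (g * b * g⁻¹) * g⁻¹) * g⁻¹ := by
          simp only [pow_succ, pow_zero, one_mul]; group
      _ = b ^ (j ^ 3) := by
          rw [h, ← conj_pow, h, ← conj_pow, ← conj_pow, h, ← pow_mul, ← pow_mul]; ring_nf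
  have hk3 : k ^ 3 = 1 := hfree _ (hkt.pow_left 3) (hko.of_dvd_nat (orderOf_pow_dvd _)) a (hel a ha) ha1
    (mul_inv_eq_iff_eq_mul.1 ((hiter hka).trans (hj3 a (hel a ha))))
  have hk1 : k ≠ 1 := fun e => pow_ne_self hrp hj1 (hel a ha) ha1
    (by rw [← hka, e, one_mul, inv_one, mul_one])
  have hkmem : ∀ b ∈ P, k * b * k⁻¹ ∈ P := fun b hb => (mem_normalizer_iff.1 hkP b).1 hb
  have hsum : ∀ b ∈ P, b * (k * b * k⁻¹) * (k * (k * b * k⁻¹) * k⁻¹) = 1 := by
    intro b hb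
    by_contra hne
    have hmem := mul_mem (mul_mem hb (hkmem b hb)) (hkmem _ (hkmem b hb))
    refine hk1 (hfree k hkt hko _ (hel _ hmem) hne (mul_inv_eq_iff_eq_mul.1 ?_))
    have h3 : k * (k * (k * b * k⁻¹) * k⁻¹) * k⁻¹ = b := by
      calc k * (k * (k * b * k⁻¹) * k⁻¹) * k⁻¹ = k ^ 3 * b * (k ^ 3)⁻¹ := by
            simp only [pow_succ, pow_zero, one_mul]; group
        _ = b := by rw [hk3, one_mul, inv_one, mul_one]
    rw [← conj_mul, ← conj_mul, h3, hPab _ (mul_mem (hkmem b hb) (hkmem _ (hkmem b hb))) _ hb, ← mul_assoc b]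
  intro b hb
  by_contra hb'
  -- an eigenvector for the other root
  set c := k * b * k⁻¹ * (b ^ j)⁻¹ with hc
  have hcP : c ∈ P := mul_mem (hkmem b hb) (inv_mem (pow_mem hb j))
  have hc1 : c ≠ 1 := fun e => hb' (mul_inv_eq_one.1 e)
  have hkc : k * c * k⁻¹ = c ^ (j ^ 2) := by
    set e := k * b * k⁻¹ with he
    have heP : e ∈ P := hkmem b hb
    have h2 : k * e * k⁻¹ = (b * e)⁻¹ := eq_inv_of_mul_eq_one_right (hsum b hb)
    clear_value e
    have hce : Commute e (b ^ j)⁻¹ := (Commute.pow_right (hPab e heP b hb) j).inv_right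
    have hbe : Commute b e := hPab b hb e heP
    have h4 : e ^ (j ^ 2) = (e ^ (j + 1))⁻¹ := eq_inv_of_mul_eq_one_left (by
      rw [← pow_add, ← add_assoc]; exact hpoly e (hel e heP))
    calc k * c * k⁻¹ = (k * e * k⁻¹) * ((k * b * k⁻¹) ^ j)⁻¹ := by
          rw [conj_pow, hc]; group
      _ = (e ^ (j + 1))⁻¹ * b⁻¹ := by
          rw [h2, ← he, ← mul_inv_rev, ← mul_inv_rev, pow_succ, ← mul_assoc, ← mul_assoc,
            (hbe.pow_right j).eq]
      _ = c ^ (j ^ 2) := by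
          rw [hc, hce.mul_pow, inv_pow, ← pow_mul, show j * j ^ 2 = j ^ 3 by ring, hj3 b (hel b hb), h4]
  have hac : Commute a c := hPab a ha c hcP
  have hd1 : a * c ≠ 1 := by
    intro e
    have hc' : k * c * k⁻¹ = c ^ j := by
      rw [eq_inv_of_mul_eq_one_right e, ← conj_inv, hka, inv_pow]
    have h2 : c ^ (j ^ 2) = c ^ j := hkc.symm.trans hc'
    have h3 : c ^ (j ^ 3) = c ^ (j * j) := by
      rw [show j ^ 3 = j ^ 2 * j by ring, pow_mul, h2, ← pow_mul]
    rw [hj3 c (hel c hcP), ← pow_two, h2] at h3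
    exact pow_ne_self hrp hj1 (hel c hcP) hc1 h3.symm
  set d := a * c with hd
  have hdP : d ∈ P := mul_mem ha hcP
  obtain ⟨g, hg⟩ := isConj_iff.1 (hconj d (hel d hdP))
  obtain ⟨k', hk't, hk'o, hk'd⟩ := exists_conj_in_cent D.emb hrC hfree (hel d hdP) hd1 (hinv d hdP) hg
    (hj3 d (hel d hdP))
  have hk'3 : k' ^ 3 = 1 := hfree _ (hk't.pow_left 3) (hk'o.of_dvd_nat (orderOf_pow_dvd _)) d
    (hel d hdP) hd1 (mul_inv_eq_iff_eq_mul.1 ((hiter hk'd).trans (hj3 d (hel d hdP))))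
  -- the `r`-part of the common centraliser
  obtain ⟨hCodd, hCinv, hCab⟩ := centralizer_inverted D.emb hrC hfree (hel d hdP) hd1 (hinv d hdP)
  set C := centralizer ({d} : Set G) with hC
  let A : Subgroup G :=
    { carrier := {g | g ∈ C ∧ ∃ i, g ^ r ^ i = 1}
      one_mem' := ⟨one_mem _, 0, one_pow _⟩
      mul_mem' := by
        rintro g g' ⟨hg, i, hi⟩ ⟨hg', i', hi'⟩
        refine ⟨mul_mem hg hg', i + i', ?_⟩
        rw [Commute.mul_pow (hCab g hg g' hg'), pow_add, pow_mul, hi, one_pow, one_mul,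
          mul_comm (r ^ i), pow_mul, hi', one_pow]
      inv_mem' := by
        rintro g ⟨hg, i, hi⟩
        exact ⟨inv_mem hg, i, by rw [inv_pow, hi, inv_one]⟩ }
  have hPC : ∀ x ∈ P, x ∈ A := fun x hx =>
    ⟨mem_centralizer_singleton_iff.2 (hPab x hx d hdP), pElt_pow (hel x hx)⟩
  have hAel : ∀ x ∈ A, IsPGroup r ↥(zpowers x) := fun x hx => by
    obtain ⟨-, i, hi⟩ := hx; exact pElt_of_pow hrp hi
  have hAp : IsPGroup r ↥A := fun x => by
    obtain ⟨-, i, hi⟩ := x.2; exact ⟨i, Subtype.ext hi⟩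
  have hAab : ∀ x ∈ A, ∀ y ∈ A, x * y = y * x := fun x hx y hy => hCab x hx.1 y hy.1
  have hAinv : ∀ x ∈ A, t * x * t⁻¹ = x⁻¹ := fun x hx => hCinv x hx.1
  have hcent : ∀ x ∈ A, x ≠ 1 → centralizer ({x} : Set G) = C := by
    intro x hx hx1
    obtain ⟨-, -, hab⟩ := centralizer_inverted D.emb hrC hfree (hAel x hx) hx1 (hAinv x hx)
    refine le_antisymm (fun g hg => mem_centralizer_singleton_iff.2 ?_)
      fun g hg => mem_centralizer_singleton_iff.2 (hCab g hg x hx.1)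
    exact hab g hg d (mem_centralizer_singleton_iff.2 (hCab x hx.1 d (mem_centralizer_singleton_iff.2 rfl)).symm)
  have hNA : ∀ g ∈ normalizer (C : Set G), g ∈ normalizer (A : Set G) := fun g hg =>
    EqualOrderConj.mem_normalizer_of_conj_mem fun x hx => ⟨(mem_normalizer_iff.1 hg x).1 hx.1, by
      obtain ⟨i, hi⟩ := hx.2
      exact ⟨i, by rw [conj_pow, hi, mul_one, mul_inv_cancel]⟩⟩
  have hback : ∀ x : G, IsPGroup r ↥(zpowers x) → (x ^ j) ^ (j ^ 2) = x := fun x hx => by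
    rw [← pow_mul, ← pow_succ']; exact hj3 x hx
  have hkA : k ∈ normalizer (A : Set G) := hNA k (by
    rw [← hcent a (hPC a ha) ha1]; exact mem_normalizer_centralizer hka (hback a (hel a ha)))
  have hk'A : k' ∈ normalizer (A : Set G) :=
    hNA k' (mem_normalizer_centralizer hk'd (hback d (hel d hdP)))
  -- both lie in the odd group `L`
  let L : Subgroup X := (normalizer (A : Set G)).comap φ
  obtain ⟨x, rfl⟩ := D.emb.mem_range hkt hko
  obtain ⟨y, rfl⟩ := D.emb.mem_range hk't hk'o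
  have hdA : d ∈ A := hPC d hdP
  have htA : t ∈ normalizer (A : Set G) := EqualOrderConj.mem_normalizer_of_conj_mem fun x hx => by
    rw [hAinv x hx]; exact inv_mem hx
  have hfix : ∀ g ∈ A, Commute g t → g = 1 := fun g hg hgt => by
    by_contra h1
    exact hrC ((dvd_orderOf_pElt hrp (hAel g hg) h1).trans
      (orderOf_dvd_natCard _ (mem_centralizer_singleton_iff.2 hgt.eq)))
  have hreal : NoReal G r := D.emb.noReal_of (fun s z _ _ hz => by
    by_contra h1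
    exact hrX ((orderOf_eq_prime hz h1) ▸ orderOf_dvd_natCard z)) (hrp.odd_of_ne_two hr2)
  have hLodd : Odd (Nat.card L) := by
    by_contra h
    haveI : Fact (Nat.Prime 2) := ⟨Nat.prime_two⟩
    obtain ⟨⟨s, hs⟩, hso⟩ := exists_prime_orderOf_dvd_card' (G := L) 2
      (even_iff_two_dvd.1 (Nat.not_odd_iff_even.1 h))
    rw [orderOf_mk] at hso
    have := pgroup_eq_bot hr2 hreal hAp D.emb.ht (v := φ s)
      (by rw [orderOf_injective φ D.emb.inj, hso]) (D.emb.comm s).symm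
      (fun e => D.emb.t_not s e.symm) htA hs hfix
    exact hd1 (mem_bot.1 (this ▸ hdA))
  have hLfree : ∀ g ∈ L, g ≠ 1 → ∀ w ∈ A, φ g * w * (φ g)⁻¹ = w → w = 1 := by
    intro g hg hg1 w hw hgw
    by_contra hw1
    refine hg1 (D.emb.inj (a₂ := 1) ?_)
    rw [map_one]
    refine hfree (φ g) (D.emb.comm g) ?_ w (hAel w hw) hw1 (mul_inv_eq_iff_eq_mul.1 hgw)
    rw [orderOf_injective φ D.emb.inj]
    exact hLodd.of_dvd_nat (orderOf_dvd_natCard L hg)
  have hxy : Commute x y := commute_three D hrX hAab hAp hdA hd1 (L := L)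
    (map_comap_le φ _) hLodd hLfree hkA hk'A
    (D.emb.inj (by rw [map_pow, hk3, map_one])) (D.emb.inj (by rw [map_pow, hk'3, map_one]))
  -- so `φ y` fixes the two eigenspaces
  have hkk' : ∀ z, φ x * (φ y * z * (φ y)⁻¹) * (φ x)⁻¹ = φ y * (φ x * z * (φ x)⁻¹) * (φ y)⁻¹ := by
    intro z
    calc φ x * (φ y * z * (φ y)⁻¹) * (φ x)⁻¹ = (φ x * φ y) * z * (φ x * φ y)⁻¹ := by group
      _ = φ y * (φ x * z * (φ x)⁻¹) * (φ y)⁻¹ := by rw [(hxy.map φ).eq]; group
  set a' := φ y * a * (φ y)⁻¹ with ha'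
  set c' := φ y * c * (φ y)⁻¹ with hc'
  have haA : a ∈ A := hPC a ha
  have hcA : c ∈ A := hPC c hcP
  have ha'A : a' ∈ A := (mem_normalizer_iff.1 hk'A a).1 haA
  have hc'A : c' ∈ A := (mem_normalizer_iff.1 hk'A c).1 hcA
  have hka' : φ x * a' * (φ x)⁻¹ = a' ^ j := by rw [ha', hkk', hka, conj_pow]
  have hkc' : φ x * c' * (φ x)⁻¹ = c' ^ (j ^ 2) := by rw [hc', hkk', hkc, conj_pow]
  have hprod : a' * c' = a ^ j * c ^ j := by rw [ha', hc', conj_mul, hk'd, hd, hac.mul_pow]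
  set u := a' * (a ^ j)⁻¹ with hu
  have huA : u ∈ A := mul_mem ha'A (inv_mem (pow_mem haA j))
  have hu' : u = c ^ j * c'⁻¹ := by
    have h1 : a' = a ^ j * c ^ j * c'⁻¹ := eq_mul_inv_of_mul_eq hprod
    rw [hu, h1, mul_assoc (a ^ j), hAab _ (pow_mem haA j) _ (mul_mem (pow_mem hcA j) (inv_mem hc'A)),
      mul_inv_cancel_right]
  have hu1 : φ x * u * (φ x)⁻¹ = u ^ j := by
    rw [hu, ← conj_mul, ← conj_inv, hka', ← conj_pow, hka,
      Commute.mul_pow (hAab _ ha'A _ (inv_mem (pow_mem haA j))), inv_pow]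
  have hu2 : φ x * u * (φ x)⁻¹ = u ^ (j ^ 2) := by
    rw [hu', ← conj_mul, ← conj_inv (a := c'), hkc', ← conj_pow, hkc, ← pow_mul, mul_comm (j ^ 2) j, pow_mul,
      Commute.mul_pow (hAab _ (pow_mem hcA j) _ (inv_mem hc'A)), inv_pow]
  have huone : u = 1 := by
    by_contra hne
    have h2 := hu1.symm.trans hu2
    have h3 : u ^ (j * j) = u ^ (j ^ 3) := by
      rw [show j ^ 3 = j ^ 2 * j by ring, pow_mul, pow_mul, h2]
    rw [hj3 u (hAel u huA), ← pow_two, ← h2] at h3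
    exact pow_ne_self hrp hj1 (hAel u huA) hne h3
  have hya : a' = a ^ j := mul_inv_eq_one.1 huone
  have hyc : c' = c ^ j := by
    rw [hu'] at huone
    exact (mul_inv_eq_one.1 huone).symm
  -- so `x = y`, and `c` has both eigenvalues
  have hxy1 : (φ x)⁻¹ * φ y = 1 := by
    refine hfree _ ((D.emb.comm x).inv_left.mul_left (D.emb.comm y)) ?_ a (hel a ha) ha1
      (mul_inv_eq_iff_eq_mul.1 ?_)
    · rw [← map_inv, ← map_mul, orderOf_injective φ D.emb.inj]
      exact hLodd.of_dvd_nat (orderOf_dvd_natCard L (L.mul_mem (L.inv_mem hkA) hk'A))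
    · calc (φ x)⁻¹ * φ y * a * ((φ x)⁻¹ * φ y)⁻¹ = (φ x)⁻¹ * a' * φ x := by rw [ha']; group
        _ = (φ x)⁻¹ * (φ x * a * (φ x)⁻¹) * φ x := by rw [hya, hka]
        _ = a := by group
  rw [inv_mul_eq_one] at hxy1
  have h2 : c ^ (j ^ 2) = c ^ j := by rw [← hkc, hxy1, ← hc', hyc]
  have h3 : c ^ (j * j) = c ^ (j ^ 3) := by
    rw [show j ^ 3 = j ^ 2 * j by ring, pow_mul, pow_mul, h2]
  rw [hj3 c (hel c hcP), ← pow_two, h2] at h3
  exact pow_ne_self hrp hj1 (hel c hcP) hc1 h3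

end ReeData

end Cfsg.Agent.Walter.Field
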